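import Cfsg.Agent.Lib.Spor.JFourType.SectConj

/-!
The elementary abelian group of order 2¹¹ with coordinates: bit 0 the central involution, bits 1..6 the canonical
preimages of the singular space fixed by the four-dimensional group, bits 7..10 the section.
-/

set_option autoImplicit false
set_option maxRecDepth 100000
set_option linter.style.haveILetI false

open Cfsg Cfsg.Agent.Spor.Golay
open Cfsg.Agent.Spor.Cos.J4Sub (app mm app_mm app_xor app_zero)

namespace Cfsg.Agent.Spor.JFour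

variable {G : Type*} [Group G] {z : G} {P : Subgroup G}

/-- Coordinates with a section and the bit deciding the cover. -/
structure Frame (S : Setting z P) where
  /-- coordinates -/
  F : Full S
  /-- the section -/
  X : Sect F.toCoord
  /-- the bit -/
  χ : ℕ
  χ_cases : χ = 0 ∨ χ = 9
  w_conj : ∀ v < 32, F.w * X.β v * F.w⁻¹ = X.β (app (m5 7 χ) v)

theorem exists_frameA [Finite G] (S : Setting z P) : Nonempty (Frame S) := by
  obtain ⟨F⟩ := exists_full S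
  obtain ⟨X⟩ := exists_sect F.toCoord
  obtain ⟨χ, h1, h2⟩ := F.exists_chi X
  exact ⟨⟨F, X, χ, h1, h2⟩⟩

/-- A number of one bit. -/
def bn (e : Bool) : ℕ := if e then 1 else 0

/-- A generator of the normaliser on the elementary abelian group. -/
def m11 (γ : ℕ) (M : List ℕ) (χ : ℕ) : List ℕ :=
  1 :: ((List.range 6).map fun j => app M (2 ^ j) * 2) ++
    (List.range 4).map fun j => bn (χ.testBit j) + 128 * sA γ (2 ^ j)

/-- The sign in the conjugation by a translation. -/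
def trE (M : List ℕ) (i j : ℕ) : Bool :=
  xor (xor (bv (app (mA j) (2 ^ (6 + i))) (app M (2 ^ (6 + i))))
    (bv (app M (app (mA j) (2 ^ (6 + i)))) (app M (app M (2 ^ (6 + i))))))
    (bv (app (mA j) (2 ^ (6 + i))) (app M (app M (2 ^ (6 + i)))))

/-- A translation on the elementary abelian group. -/
def m11T (i : ℕ) : List ℕ :=
  1 :: ((List.range 6).map fun j => 2 ^ (j + 1) + bn (bv (2 ^ (6 + i)) (2 ^ j))) ++
    (List.range 4).map fun j => bn (trE mT i j) + 2 * (2 ^ (6 + i) ^^^ app (mA j) (2 ^ (6 + i))) + 2 ^ (7 + j)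

theorem tr_check : ((List.range 6).all fun i => (List.range 4).all fun j =>
    (trE mT i j == trE mT2 i j) && decide (2 ^ (6 + i) ^^^ app (mA j) (2 ^ (6 + i)) < 64) &&
      !(qv (2 ^ (6 + i)))) = true ∧
    ((List.range 16).all fun k => (List.range 64).all fun n => app (akM.getD k []) n == n) = true ∧
    ((List.range 4).all fun j => akM.getD (2 ^ j) [] == mA j) = true ∧
    ((List.range 64).all fun n => [mX, mY, mS, mW, mO, mT].all fun M => decide (app M n < 64)) = true ∧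
    mm mT mT = mT2 := by decide +kernel

/-- The eleven bits. -/
theorem split11 {a b : ℕ} :
    (a ^^^ b) / 2 % 64 = a / 2 % 64 ^^^ b / 2 % 64 ∧ (a ^^^ b) / 128 = a / 128 ^^^ b / 128 := by
  have h : ∀ (n : ℕ) (x y : ℕ), (x ^^^ y) / 2 ^ n = x / 2 ^ n ^^^ y / 2 ^ n := fun n x y => by
    apply Nat.eq_of_testBit_eq
    intro i
    simp [Nat.testBit_div_two_pow, Nat.testBit_xor]
  refine ⟨?_, h 7 a b⟩
  rw [show (a ^^^ b) / 2 = a / 2 ^^^ b / 2 from by simpa using h 1 a b]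
  exact Nat.xor_mod_two_pow (n := 6)

namespace Coord

variable {S : Setting z P} (C : Coord S) [Finite G]

omit C in
theorem pw_zb (e : Bool) : ExtraOut.pw z (Geo.zb e) = zp z e := by
  cases e
  · exact ExtraOut.pw_zero z
  · exact ExtraOut.pw_one z

theorem polar_eq {u v : ℕ} (hu : u < 4096) (hv : v < 4096) :
    QuadraticMap.polar S.q (C.Φ u) (C.Φ v) = Geo.zb (bv u v) := by
  rw [QuadraticMap.polar, ← C.add, C.form _ (Nat.xor_lt_two_pow (n := 12) hu hv), C.form u hu, C.form v hv, bv]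
  cases qv (u ^^^ v) <;> cases qv u <;> cases qv v <;> rfl

/-- The commutation of two elements of the core. -/
theorem core_comm {a b : G} (ha : a ∈ twoCoreOfCentralizer z) (hb : b ∈ twoCoreOfCentralizer z) {u v : ℕ}
    (hu : u < 4096) (hv : v < 4096) (ea : S.rep a = C.Φ u) (eb : S.rep b = C.Φ v) :
    a * b = b * a * zp z (bv u v) := by
  have h := S.q_conj a ha b hb
  rw [ea, eb, C.polar_eq hu hv, pw_zb, mul_inv_eq_iff_eq_mul] at h
  rw [h, mul_assoc, mul_assoc b a, ← S.zp_comm (S.ext.central a ha)]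

/-- The orbit product of a product. -/
theorem orb_mul_gen {a b : G} (ha : a ∈ twoCoreOfCentralizer z) (hb : b ∈ twoCoreOfCentralizer z) {u v : ℕ}
    (hu : u < 4096) (hv : v < 4096) (ea : S.rep a = C.Φ u) (eb : S.rep b = C.Φ v) {M : List ℕ}
    (hM : C.Rep S.p M) :
    S.orb (a * b) = S.orb a * S.orb b *
      zp z (xor (xor (bv v (app M u)) (bv (app M v) (app M (app M u)))) (bv v (app M (app M u)))) := by
  have ha1 := S.ext.norm _ S.pz a ha
  have hb1 := S.ext.norm _ S.pz b hb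
  have ha2 := S.ext.norm _ S.pp_z a ha
  have hl := fun n => app_lt_of_ok hM.ok n
  have ra1 : S.rep (S.p * a * S.p⁻¹) = C.Φ (app M u) := by rw [← S.act_rep _ S.pz a ha, ea, hM.eq u hu]
  have rb1 : S.rep (S.p * b * S.p⁻¹) = C.Φ (app M v) := by rw [← S.act_rep _ S.pz b hb, eb, hM.eq v hv]
  have ra2 : S.rep (S.p * S.p * a * (S.p * S.p)⁻¹) = C.Φ (app M (app M u)) := by
    rw [← S.act_rep _ S.pp_z a ha, ea, S.act_mul _ _ S.pz S.pz, Module.End.mul_apply, hM.eq u hu, hM.eq _ (hl u)]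
  have c1 := C.core_comm hb ha1 hv (hl u) eb ra1
  have c3 := C.core_comm hb1 ha2 (hl v) (hl _) rb1 ra2
  have c2 := C.core_comm hb ha2 hv (hl _) eb ra2
  generalize bv v (app M u) = e1 at c1 ⊢
  generalize bv (app M v) (app M (app M u)) = e3 at c3 ⊢
  generalize bv v (app M (app M u)) = e2 at c2 ⊢
  have hc : ∀ x ∈ twoCoreOfCentralizer z, ∀ e, zp z e * x = x * zp z e := fun x hx e =>
    (S.zp_comm (S.ext.central x hx) e).symm
  have hb2 := S.ext.norm _ S.pp_z b hb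
  rw [Setting.orb, Setting.orb, Setting.orb,
    show S.p * (a * b) * S.p⁻¹ = (S.p * a * S.p⁻¹) * (S.p * b * S.p⁻¹) by group,
    show S.p * S.p * (a * b) * (S.p * S.p)⁻¹ =
      (S.p * S.p * a * (S.p * S.p)⁻¹) * (S.p * S.p * b * (S.p * S.p)⁻¹) by group]
  generalize S.p * a * S.p⁻¹ = a1 at ha1 c1 ⊢
  generalize S.p * b * S.p⁻¹ = b1 at hb1 c3 ⊢
  generalize S.p * S.p * a * (S.p * S.p)⁻¹ = a2 at ha2 c2 c3 ⊢
  generalize S.p * S.p * b * (S.p * S.p)⁻¹ = b2 at hb2 ⊢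
  calc a * b * (a1 * b1) * (a2 * b2) = a * (b * a1) * (b1 * a2) * b2 := by group
    _ = a * a1 * b * (zp z e1 * a2) * b1 * (zp z e3 * b2) := by rw [c1, c3]; group
    _ = a * a1 * (b * a2) * (zp z e1 * b1) * b2 * zp z e3 := by rw [hc _ ha2, hc _ hb2]; group
    _ = a * a1 * a2 * b * (zp z e2 * b1) * (zp z e1 * b2) * zp z e3 := by rw [c2, hc _ hb1]; group
    _ = a * a1 * a2 * b * b1 * (zp z e2 * b2) * (zp z e1 * zp z e3) := by rw [hc _ hb1, hc _ hb2]; group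
    _ = a * a1 * a2 * (b * b1 * b2) * (zp z e2 * (zp z e1 * zp z e3)) := by rw [hc _ hb2]; group
    _ = _ := by
      rw [S.zp_mul, S.zp_mul]
      congr 2
      cases e1 <;> cases e2 <;> cases e3 <;> rfl

/-- Equivariance of the canonical preimages in the singular space for all of the normaliser. -/
theorem lh_conj_low {g : G} {M : List ℕ} (hM : C.Rep g M) (hp : g * S.p * g⁻¹ = S.p * S.p) {n : ℕ} (hn : n < 64) :
    g * C.lh n * g⁻¹ = C.lh (app M n) := by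
  obtain ⟨h1, h2, h3⟩ := C.lh_spec n
  refine C.lh_unique (S.ext.norm g hM.hz _ h1)
    (by rw [← S.act_rep g hM.hz _ h1, h2, hM.eq n (hn.trans (by norm_num))]) ?_
  obtain ⟨n1, hn1, e1⟩ := C.p_low hn
  obtain ⟨n2, hn2, e2⟩ := C.p_low hn1
  have hm1 := S.ext.norm _ S.pz _ h1
  have hm2 := S.ext.norm _ S.pp_z _ h1
  have r1 : S.rep (S.p * C.lh n * S.p⁻¹) = C.Φ n1 := by rw [← S.act_rep _ S.pz _ h1, h2, e1]
  have r2 : S.rep (S.p * S.p * C.lh n * (S.p * S.p)⁻¹) = C.Φ n2 := by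
    rw [← S.act_rep _ S.pp_z _ h1, h2, S.act_mul _ _ S.pz S.pz, Module.End.mul_apply, e1, e2]
  have hc := C.low_comm hn1 hn2 hm1 hm2 r1 r2
  have hp4 : S.p * S.p * (S.p * S.p) = S.p := by
    rw [show S.p * S.p * (S.p * S.p) = S.p * S.p * S.p * S.p by group, S.p_pow, one_mul]
  have hpp : g * (S.p * S.p) * g⁻¹ = S.p := by
    rw [show g * (S.p * S.p) * g⁻¹ = (g * S.p * g⁻¹) * (g * S.p * g⁻¹) by group, hp, hp4]
  have k1 : S.p * (g * C.lh n * g⁻¹) * S.p⁻¹ = g * (S.p * S.p * C.lh n * (S.p * S.p)⁻¹) * g⁻¹ := by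
    calc S.p * (g * C.lh n * g⁻¹) * S.p⁻¹ =
          (g * (S.p * S.p) * g⁻¹) * (g * C.lh n * g⁻¹) * (g * (S.p * S.p) * g⁻¹)⁻¹ := by rw [hpp]
      _ = _ := by group
  have k2 : S.p * S.p * (g * C.lh n * g⁻¹) * (S.p * S.p)⁻¹ = g * (S.p * C.lh n * S.p⁻¹) * g⁻¹ := by
    calc S.p * S.p * (g * C.lh n * g⁻¹) * (S.p * S.p)⁻¹ =
          (g * S.p * g⁻¹) * (g * C.lh n * g⁻¹) * (g * S.p * g⁻¹)⁻¹ := by rw [hp]
      _ = _ := by group
  rw [Setting.orb] at h3 ⊢
  rw [k1, k2]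
  calc g * C.lh n * g⁻¹ * (g * (S.p * S.p * C.lh n * (S.p * S.p)⁻¹) * g⁻¹) * (g * (S.p * C.lh n * S.p⁻¹) * g⁻¹)
      = g * (C.lh n * ((S.p * S.p * C.lh n * (S.p * S.p)⁻¹) * (S.p * C.lh n * S.p⁻¹))) * g⁻¹ := by group
    _ = g * (C.lh n * (S.p * C.lh n * S.p⁻¹) * (S.p * S.p * C.lh n * (S.p * S.p)⁻¹)) * g⁻¹ := by rw [← hc]; group
    _ = 1 := by rw [h3, mul_one, mul_inv_cancel]

end Coord

namespace Frame

variable {S : Setting z P} (Fr : Frame S)

/-- The element with given coordinates. -/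
noncomputable def Av (v : ℕ) : G := zp z (v.testBit 0) * Fr.F.lh (v / 2 % 64) * Fr.X.b (v / 128)

variable [Finite G]

theorem rep_b : ∀ k < 16, Fr.F.Rep (Fr.X.b k) (akM.getD k []) := by
  suffices h : ∀ k < 2 ^ 4, k < 16 → Fr.F.Rep (Fr.X.b k) (akM.getD k []) from fun k hk => h k hk hk
  refine xor_induction (p := fun k => k < 16 → Fr.F.Rep (Fr.X.b k) (akM.getD k [])) ?_ 4 fun i hi m hm ih _ => ?_
  · intro _
    rw [Fr.X.b_zero, show akM.getD 0 [] = mI by decide +kernel]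
    exact Fr.F.toCoord.rep_one
  have hp : (2 : ℕ) ^ i < 16 := Nat.pow_lt_pow_right (by norm_num) (show i < 4 from hi)
  have hm' : m < 16 := hm.trans hp
  have ht := List.all_eq_true.1 (List.all_eq_true.1 table_check _ (List.mem_range.2 hp)) m (List.mem_range.2 hm')
  simp only [Bool.and_eq_true, beq_iff_eq] at ht
  rw [← Fr.X.mul _ hp m hm', ← ht.1.1]
  refine Fr.F.toCoord.rep_mul ?_ (ih hm')
  rw [beq_iff_eq.1 (List.all_eq_true.1 tr_check.2.2.1 i (List.mem_range.2 hi))]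
  have hb := Fr.X.mem _ hp
  have hz := S.commz hb
  have e := S.inv_lift_unique hb (Fr.F.a_mem i hi)
    (by rw [Fr.X.ψ_b _ hp, wordπ_kw_two_pow hi, Fr.F.a_ψ i hi])
    (by rw [← S.act_mul _ _ hz hz, Fr.X.sq hp, S.act_one]) (Fr.F.a_sq i hi)
  exact ⟨hz, (Fr.F.toCoord.rep_a hi).ok, fun n hn => by rw [e]; exact Fr.F.rA i hi n hn⟩

theorem lh_comm_b {n k : ℕ} (hn : n < 64) (hk : k < 16) :
    Fr.X.b k * Fr.F.lh n = Fr.F.lh n * Fr.X.b k := by
  have h := Fr.F.toCoord.lh_conj (Fr.X.mem k hk) (Fr.rep_b k hk) (n := n) (hn.trans (by norm_num))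
  rw [beq_iff_eq.1 (List.all_eq_true.1 (List.all_eq_true.1 tr_check.2.1 k (List.mem_range.2 hk)) n
    (List.mem_range.2 hn)), mul_inv_eq_iff_eq_mul] at h
  exact h

theorem zp_lh (e : Bool) (n : ℕ) : Fr.F.lh n * zp z e = zp z e * Fr.F.lh n :=
  S.zp_comm (S.ext.central _ (Fr.F.toCoord.lh_spec n).1) e

theorem Av_mul {u v : ℕ} (hu : u < 2048) (hv : v < 2048) : Fr.Av u * Fr.Av v = Fr.Av (u ^^^ v) := by
  have hl : ∀ x, x / 2 % 64 < 64 := fun x => Nat.mod_lt _ (by norm_num)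
  rw [Av, Av, Av, split11.1, split11.2, ← Fr.F.toCoord.lh_mul (hl u) (hl v),
    ← Fr.X.mul _ (by omega) _ (by omega), Nat.testBit_xor, ← S.zp_mul]
  generalize zp z (u.testBit 0) = a, hu' : u / 2 % 64 = i, hv' : v / 2 % 64 = j
  have hb := Fr.X.mem (u / 128) (by omega)
  calc a * Fr.F.lh i * Fr.X.b (u / 128) * (zp z (v.testBit 0) * Fr.F.lh j * Fr.X.b (v / 128))
      = a * Fr.F.lh i * (Fr.X.b (u / 128) * zp z (v.testBit 0)) * Fr.F.lh j * Fr.X.b (v / 128) := by group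
    _ = a * (Fr.F.lh i * zp z (v.testBit 0)) * (Fr.X.b (u / 128) * Fr.F.lh j) * Fr.X.b (v / 128) := by
        rw [S.zp_comm (S.commz hb)]; group
    _ = _ := by rw [Fr.zp_lh, Fr.lh_comm_b (hv' ▸ hl v) (show u / 128 < 16 by omega)]; group

theorem Av_zero : Fr.Av 0 = 1 := by
  simp [Av, zp, Fr.F.toCoord.lh_zero, Fr.X.b_zero]

theorem Av_low {n : ℕ} (hn : n < 64) : Fr.Av (2 * n) = Fr.F.lh n := by
  rw [Av, show 2 * n / 128 = 0 by omega, show 2 * n / 2 % 64 = n by omega, Fr.X.b_zero]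
  simp [zp, Nat.testBit_zero]

theorem Av_high {k : ℕ} (hk : k < 16) : Fr.Av (128 * k) = Fr.X.b k := by
  rw [Av, show 128 * k / 128 = k by omega, show 128 * k / 2 % 64 = 0 by omega, Fr.F.toCoord.lh_zero]
  simp [zp, Nat.testBit_zero, show 128 * k % 2 = 0 by omega]

theorem Av_bn (e : Bool) : Fr.Av (bn e) = zp z e := by
  cases e <;> simp [Av, bn, zp, Fr.F.toCoord.lh_zero, Fr.X.b_zero]

theorem Av_one : Fr.Av 1 = z := Fr.Av_bn true

theorem Av_inj {u v : ℕ} (hu : u < 2048) (hv : v < 2048) (h : Fr.Av u = Fr.Av v) : u = v := by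
  suffices h0 : ∀ w < 2048, Fr.Av w = 1 → w = 0 by
    have e := h0 _ (Nat.xor_lt_two_pow (n := 11) hu hv) (by
      rw [← Fr.Av_mul hu hv, h, Fr.Av_mul hv hv, Nat.xor_self, Fr.Av_zero])
    have e' := congrArg (u ^^^ ·) e
    simpa [← Nat.xor_assoc] using e'.symm
  intro w hw e
  have hk : w / 128 < 16 := by omega
  obtain ⟨hlE, hlr, -⟩ := Fr.F.toCoord.lh_spec (w / 2 % 64)
  have hzl : zp z (w.testBit 0) * Fr.F.lh (w / 2 % 64) ∈ twoCoreOfCentralizer z := mul_mem (S.zp_mem_E _) hlE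
  rw [Av] at e
  have hbE : Fr.X.b (w / 128) ∈ twoCoreOfCentralizer z := by
    rw [eq_inv_of_mul_eq_one_right e]; exact inv_mem hzl
  have hk0 : w / 128 = 0 := by
    refine Fr.X.b_inj hk (by norm_num) ?_
    rw [Fr.X.b_zero, one_mul]
    exact S.fix _ hbE (S.mem_iff.1 (Fr.X.mem _ hk)).2.symm
  rw [hk0, Fr.X.b_zero, mul_one] at e
  have hrep := S.rep_mul _ (S.zp_mem_E (w.testBit 0)) _ hlE
  rw [e, S.rep_one, (S.rep_zero _ (S.zp_mem_E _)).2 (by cases w.testBit 0 <;> simp [zp]), zero_add, hlr,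
    ← Fr.F.toCoord.zero'] at hrep
  have hn0 : w / 2 % 64 = 0 :=
    (Fr.F.toCoord.inj 0 (by norm_num) _ (lt_trans (Nat.mod_lt _ (by norm_num)) (by norm_num)) hrep).symm
  rw [hn0, Fr.F.toCoord.lh_zero, mul_one] at e
  have h0 : w.testBit 0 = false := by
    cases hb : w.testBit 0
    · rfl
    · rw [hb] at e; exact absurd e S.ext.ne
  simp only [Nat.testBit_zero, decide_eq_false_iff_not] at h0
  omega

/-- The elementary abelian group. -/
def A : Subgroup G where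
  carrier := {g | ∃ v < 2048, Fr.Av v = g}
  one_mem' := ⟨0, by norm_num, Fr.Av_zero⟩
  mul_mem' := by
    rintro _ _ ⟨u, hu, rfl⟩ ⟨v, hv, rfl⟩
    exact ⟨u ^^^ v, Nat.xor_lt_two_pow (n := 11) hu hv, (Fr.Av_mul hu hv).symm⟩
  inv_mem' := by
    rintro _ ⟨u, hu, rfl⟩
    exact ⟨u, hu, eq_inv_of_mul_eq_one_left (by rw [Fr.Av_mul hu hu, Nat.xor_self, Fr.Av_zero])⟩

theorem mem_A {g : G} : g ∈ Fr.A ↔ ∃ v < 2048, Fr.Av v = g := Iff.rfl

theorem Av_mem {v : ℕ} (hv : v < 2048) : Fr.Av v ∈ Fr.A := ⟨v, hv, rfl⟩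

theorem card_A : Nat.card ↥Fr.A = 2 ^ 11 := by
  rw [← Nat.card_fin (2 ^ 11)]
  refine (Nat.card_eq_of_bijective (fun v : Fin (2 ^ 11) => (⟨Fr.Av v, Fr.Av_mem v.2⟩ : ↥Fr.A)) ⟨?_, ?_⟩).symm
  · exact fun u v e => Fin.ext (Fr.Av_inj u.2 v.2 (congrArg Subtype.val e))
  · rintro ⟨_, v, hv, rfl⟩
    exact ⟨⟨v, hv⟩, rfl⟩

theorem A_comm : ∀ a ∈ Fr.A, ∀ b ∈ Fr.A, a * b = b * a := by
  rintro _ ⟨u, hu, rfl⟩ _ ⟨v, hv, rfl⟩
  rw [Fr.Av_mul hu hv, Fr.Av_mul hv hu, Nat.xor_comm]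

theorem A_sq : ∀ a ∈ Fr.A, a * a = 1 := by
  rintro _ ⟨u, hu, rfl⟩
  rw [Fr.Av_mul hu hu, Nat.xor_self, Fr.Av_zero]

theorem z_mem_A : z ∈ Fr.A := ⟨1, by norm_num, Fr.Av_one⟩

/-- An element acts on the coordinates by a matrix. -/
structure Act (g : G) (M : List ℕ) : Prop where
  lt : ∀ v, app M v < 2048
  eq : ∀ v < 2048, g * Fr.Av v * g⁻¹ = Fr.Av (app M v)

theorem act_of_cols {g : G} {M : List ℕ} (hlen : M.length = 11) (hlt : ∀ c ∈ M, c < 2048)
    (h : ∀ i < 11, g * Fr.Av (2 ^ i) * g⁻¹ = Fr.Av (M.getD i 0)) : Fr.Act g M := by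
  have hl := Cos.J4Sub.app_lt (n := 11) hlt
  refine ⟨hl, xor_induction (p := fun v => g * Fr.Av v * g⁻¹ = Fr.Av (app M v)) ?_ 11 fun i hi m hm ih => ?_⟩
  · rw [app_zero, Fr.Av_zero, mul_one, mul_inv_cancel]
  · have hp : (2 : ℕ) ^ i < 2048 := Nat.pow_lt_pow_right (by norm_num) (show i < 11 from hi)
    rw [app_xor, ← Fr.Av_mul (hl _) (hl _), ← Fr.Av_mul hp (hm.trans hp),
      show g * (Fr.Av (2 ^ i) * Fr.Av m) * g⁻¹ = g * Fr.Av (2 ^ i) * g⁻¹ * (g * Fr.Av m * g⁻¹) by group, ih,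
      h i hi, app_two_pow (by omega)]

theorem act_m11 {g : G} {γ χ : ℕ} {M : List ℕ} (hz : g * z = z * g) (hM : ∀ n < 64, app M n < 64)
    (hσ : ∀ j < 4, sA γ (2 ^ j) < 16) (hl : ∀ n < 64, g * Fr.F.lh n * g⁻¹ = Fr.F.lh (app M n))
    (hb : ∀ j < 4, g * Fr.X.b (2 ^ j) * g⁻¹ = Fr.X.b (sA γ (2 ^ j)) * zp z (χ.testBit j)) :
    Fr.Act g (m11 γ M χ) := by
  refine Fr.act_of_cols (by simp [m11]) (fun c hc => ?_) fun i hi => ?_
  · simp only [m11, List.cons_append, List.mem_cons, List.mem_append, List.mem_map, List.mem_range] at hc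
    rcases hc with rfl | ⟨j, hj, rfl⟩ | ⟨j, hj, rfl⟩
    · norm_num
    · have := hM _ (Nat.pow_lt_pow_right (by norm_num) (show j < 6 from hj) : 2 ^ j < 64); omega
    · have := hσ j hj
      unfold bn; split_ifs <;> omega
  rcases Nat.lt_or_ge i 7 with h7 | h7
  · rcases i with _ | j
    · rw [show (m11 γ M χ).getD 0 0 = 1 from rfl, pow_zero, Fr.Av_one, hz, mul_inv_cancel_right]
    · have hj : j < 6 := by omega
      have hp : (2 : ℕ) ^ j < 64 := Nat.pow_lt_pow_right (by norm_num) hj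
      have e : (m11 γ M χ).getD (j + 1) 0 = 2 * app M (2 ^ j) := by interval_cases j <;> exact mul_comm _ 2
      rw [e, pow_succ', Fr.Av_low hp, Fr.Av_low (hM _ hp), hl _ hp]
  · obtain ⟨j, rfl⟩ : ∃ j, i = 7 + j := ⟨i - 7, by omega⟩
    have hj : j < 4 := by omega
    have hs := hσ j hj
    have e : (m11 γ M χ).getD (7 + j) 0 = bn (χ.testBit j) + 128 * sA γ (2 ^ j) := by interval_cases j <;> rfl
    have e2 : bn (χ.testBit j) + 128 * sA γ (2 ^ j) = 128 * sA γ (2 ^ j) ^^^ bn (χ.testBit j) := by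
      cases χ.testBit j
      · simp [bn]
      · revert hs
        generalize sA γ (2 ^ j) = k
        revert k
        decide +kernel
    rw [e, e2, ← Fr.Av_mul (by omega) (by unfold bn; split_ifs <;> norm_num), Fr.Av_high hs, Fr.Av_bn,
      show 2 ^ (7 + j) = 128 * 2 ^ j by rw [pow_add]; norm_num,
      Fr.Av_high (Nat.pow_lt_pow_right (by norm_num) hj), hb j hj]

theorem low_lt {M : List ℕ} (hM : M ∈ [mX, mY, mS, mW, mO, mT]) : ∀ n < 64, app M n < 64 := fun n hn =>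
  of_decide_eq_true (List.all_eq_true.1 (List.all_eq_true.1 tr_check.2.2.2.1 n (List.mem_range.2 hn)) M hM)

theorem act_x : Fr.Act Fr.F.R.x (m11 4 mX 0) :=
  Fr.act_m11 (S.commz Fr.F.R.x_mem) (low_lt (by simp))
    (fun j hj => sA_lt (by simp) (Nat.pow_lt_pow_right (by norm_num) hj))
    (fun n hn => Fr.F.toCoord.lh_conj Fr.F.R.x_mem (Fr.F.toCoord.lift_spec (k := 4) (by norm_num)).2.2
      (hn.trans (by norm_num)))
    fun j hj => by
      rw [Fr.X.x_conj _ (Nat.pow_lt_pow_right (by norm_num) hj)]; simp [zp]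

theorem act_y : Fr.Act Fr.F.R.y (m11 5 mY 0) :=
  Fr.act_m11 (S.commz Fr.F.R.y_mem) (low_lt (by simp))
    (fun j hj => sA_lt (by simp) (Nat.pow_lt_pow_right (by norm_num) hj))
    (fun n hn => Fr.F.toCoord.lh_conj Fr.F.R.y_mem (Fr.F.toCoord.lift_spec (k := 5) (by norm_num)).2.2
      (hn.trans (by norm_num)))
    fun j hj => by
      rw [Fr.X.y_conj _ (Nat.pow_lt_pow_right (by norm_num) hj)]; simp [zp]

theorem act_s : Fr.Act Fr.F.s (m11 6 mS 0) :=
  Fr.act_m11 (S.commz Fr.F.s_mem) (low_lt (by simp))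
    (fun j hj => sA_lt (by simp) (Nat.pow_lt_pow_right (by norm_num) hj))
    (fun n hn => Fr.F.toCoord.lh_conj Fr.F.s_mem Fr.F.rs (hn.trans (by norm_num)))
    fun j hj => by
      rw [Fr.F.s_conj Fr.X _ (Nat.pow_lt_pow_right (by norm_num) hj)]; simp [zp]

theorem act_w : Fr.Act Fr.F.w (m11 7 mW Fr.χ) :=
  Fr.act_m11 (S.commz Fr.F.w_mem) (low_lt (by simp))
    (fun j hj => sA_lt (by simp) (Nat.pow_lt_pow_right (by norm_num) hj))
    (fun n hn => Fr.F.toCoord.lh_conj Fr.F.w_mem Fr.F.rw' (hn.trans (by norm_num)))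
    fun j hj => by
      have hs := sA_lt (g := 7) (k := 2 ^ j) (by simp) (Nat.pow_lt_pow_right (by norm_num) hj)
      have e : app (m5 7 Fr.χ) (2 ^ (j + 1)) = bn (Fr.χ.testBit j) + 2 * sA 7 (2 ^ j) := by
        rw [app_two_pow (by simp [m5]; omega)]
        interval_cases j <;> rfl
      rw [← Fr.X.β_two_pow hj, Fr.w_conj _ (Nat.pow_lt_pow_right (by norm_num) (show j + 1 < 5 by omega)), e,
        Sect.β, show (bn (Fr.χ.testBit j) + 2 * sA 7 (2 ^ j)) / 2 = sA 7 (2 ^ j) by unfold bn; split_ifs <;> omega,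
        S.zp_comm (S.commz (Fr.X.mem _ hs))]
      cases Fr.χ.testBit j <;> simp [bn, Nat.testBit_zero]

theorem act_o : Fr.Act Fr.F.o (m11 9 mO 0) :=
  Fr.act_m11 Fr.F.o_norm.hz (low_lt (by simp))
    (fun j hj => sA_lt (by simp) (Nat.pow_lt_pow_right (by norm_num) hj))
    (fun n hn => Fr.F.toCoord.lh_conj_low Fr.F.ro Fr.F.o_p hn)
    fun j hj => by
      rw [Fr.F.o_conj Fr.X _ (Nat.pow_lt_pow_right (by norm_num) hj)]; simp [zp]

theorem act_t : Fr.Act Fr.F.R.t (m11 0 mT 0) :=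
  Fr.act_m11 (S.commz Fr.F.toCoord.t_mem) (low_lt (by simp)) (fun j hj => by interval_cases j <;> decide)
    (fun n hn => Fr.F.toCoord.lh_conj Fr.F.toCoord.t_mem Fr.F.toCoord.rep_t (hn.trans (by norm_num)))
    fun j hj => by
      rw [S.ker_central Fr.F.toCoord.t_mem Fr.F.toCoord.t_ψ
        (Fr.X.mem _ (Nat.pow_lt_pow_right (by norm_num) hj)), mul_inv_cancel_right,
        show sA 0 (2 ^ j) = 2 ^ j by interval_cases j <;> rfl]
      simp [zp]

theorem p_rep_cases : Fr.F.Rep S.p mT ∨ Fr.F.Rep S.p mT2 := by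
  rcases Fr.F.R.t_p with e | e
  · exact Or.inl (e ▸ Fr.F.toCoord.rep_t)
  · refine Or.inr ?_
    have h : S.p = Fr.F.R.t * Fr.F.R.t := by
      rw [e, show S.p * S.p * (S.p * S.p) = S.p * S.p * S.p * S.p by group, S.p_pow, one_mul]
    rw [h, ← tr_check.2.2.2.2]
    exact Fr.F.toCoord.rep_mul Fr.F.toCoord.rep_t Fr.F.toCoord.rep_t

theorem act_tr {i : ℕ} (hi : i < 6) : Fr.Act (Fr.F.lh (2 ^ (6 + i))) (m11T i) := by
  have hm : (2 : ℕ) ^ (6 + i) < 4096 := Nat.pow_lt_pow_right (by norm_num) (show 6 + i < 12 by omega)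
  obtain ⟨hmE, hmr, hmo⟩ := Fr.F.toCoord.lh_spec (2 ^ (6 + i))
  have hcheck := fun j (hj : j < 4) => List.all_eq_true.1
    (List.all_eq_true.1 tr_check.1 i (List.mem_range.2 hi)) j (List.mem_range.2 hj)
  simp only [Bool.and_eq_true, beq_iff_eq, decide_eq_true_eq, Bool.not_eq_true'] at hcheck
  refine Fr.act_of_cols (by simp [m11T]) (fun c hc => ?_) fun k hk => ?_
  · simp only [m11T, List.cons_append, List.mem_cons, List.mem_append, List.mem_map, List.mem_range] at hc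
    rcases hc with rfl | ⟨j, hj, rfl⟩ | ⟨j, hj, rfl⟩
    · norm_num
    · have : (2 : ℕ) ^ (j + 1) ≤ 64 := Nat.pow_le_pow_right (by norm_num) (show j + 1 ≤ 6 by omega)
      unfold bn; split_ifs <;> omega
    · have := (hcheck j hj).1.2
      have : (2 : ℕ) ^ (7 + j) ≤ 1024 := Nat.pow_le_pow_right (by norm_num) (show 7 + j ≤ 10 by omega)
      unfold bn; split_ifs <;> omega
  rcases Nat.lt_or_ge k 7 with h7 | h7
  · rcases k with _ | j
    · rw [show (m11T i).getD 0 0 = 1 from rfl, pow_zero, Fr.Av_one, S.ext.central _ hmE, mul_inv_cancel_right]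
    · have hj : j < 6 := by omega
      have hp : (2 : ℕ) ^ j < 64 := Nat.pow_lt_pow_right (by norm_num) hj
      have e : (m11T i).getD (j + 1) 0 = 2 ^ (j + 1) + bn (bv (2 ^ (6 + i)) (2 ^ j)) := by
        interval_cases j <;> rfl
      have e2 : 2 ^ (j + 1) + bn (bv (2 ^ (6 + i)) (2 ^ j)) = 2 * 2 ^ j ^^^ bn (bv (2 ^ (6 + i)) (2 ^ j)) := by
        cases bv (2 ^ (6 + i)) (2 ^ j) <;> interval_cases j <;> rfl
      obtain ⟨hlE, hlr, -⟩ := Fr.F.toCoord.lh_spec (2 ^ j)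
      rw [e, e2, ← Fr.Av_mul (by omega) (by unfold bn; split_ifs <;> norm_num), pow_succ', Fr.Av_low hp, Fr.Av_bn,
        mul_inv_eq_iff_eq_mul, Fr.F.toCoord.core_comm hmE hlE hm (hp.trans (by norm_num)) hmr hlr, mul_assoc,
        mul_assoc (Fr.F.lh (2 ^ j)), S.zp_comm (S.ext.central _ hmE)]
  · obtain ⟨j, rfl⟩ : ∃ j, k = 7 + j := ⟨k - 7, by omega⟩
    have hj : j < 4 := by omega
    obtain ⟨⟨htE, hlt⟩, hq⟩ := hcheck j hj
    have hp : (2 : ℕ) ^ j < 16 := Nat.pow_lt_pow_right (by norm_num) hj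
    have e : (m11T i).getD (7 + j) 0 =
        bn (trE mT i j) + 2 * (2 ^ (6 + i) ^^^ app (mA j) (2 ^ (6 + i))) + 2 ^ (7 + j) := by interval_cases j <;> rfl
    set h := 2 ^ (6 + i) ^^^ app (mA j) (2 ^ (6 + i)) with hh
    have e2 : bn (trE mT i j) + 2 * h + 2 ^ (7 + j) = (2 * h ^^^ bn (trE mT i j)) ^^^ 128 * 2 ^ j := by
      cases trE mT i j <;> revert hlt <;> generalize h = n <;> revert n <;> interval_cases j <;> decide +kernel
    have hb := Fr.X.mem _ hp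
    have hrb := Fr.rep_b _ hp
    rw [beq_iff_eq.1 (List.all_eq_true.1 tr_check.2.2.1 j (List.mem_range.2 hj))] at hrb
    set m := Fr.F.lh (2 ^ (6 + i)) with hmdef
    set b := Fr.X.b (2 ^ j) with hbdef
    have hmi : m⁻¹ = m := by
      refine inv_eq_of_mul_eq_one_right ?_
      rw [S.q_sq _ hmE, hmr, Fr.F.form _ hm, hq]
      exact ExtraOut.pw_zero z
    have hy : b * m * b⁻¹ ∈ twoCoreOfCentralizer z := S.ext.norm b hrb.hz m hmE
    have hyr : S.rep (b * m * b⁻¹) = Fr.F.Φ (app (mA j) (2 ^ (6 + i))) := by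
      rw [← S.act_rep b hrb.hz m hmE, hmr, hrb.eq _ hm]
    have hyo : S.orb (b * m * b⁻¹) = 1 := by rw [S.orb_conj hb, hmo, mul_one, mul_inv_cancel]
    have hx : m * (b * m * b⁻¹) = Fr.F.lh h * zp z (trE mT i j) := by
      obtain ⟨M, hM, hE⟩ : ∃ M, Fr.F.Rep S.p M ∧ trE M i j = trE mT i j := by
        rcases Fr.p_rep_cases with hh' | hh'
        · exact ⟨mT, hh', rfl⟩
        · exact ⟨mT2, hh', htE.symm⟩
      have ho := Fr.F.toCoord.orb_mul_gen hmE hy hm (app_lt_of_ok hrb.ok _) hmr hyr hM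
      rw [hmo, hyo, one_mul, one_mul] at ho
      have hxE := mul_mem hmE hy
      have hxr : S.rep (m * (b * m * b⁻¹)) = Fr.F.Φ h := by
        rw [S.rep_mul _ hmE _ hy, hmr, hyr, hh, Fr.F.add]
      rcases Fr.F.toCoord.lh_cases hxE hxr with ex | ex
      · rw [ex, (Fr.F.toCoord.lh_spec h).2.2] at ho
        rw [ex, ← hE, trE]
        cases hs : (xor (xor (bv (app (mA j) (2 ^ (6 + i))) (app M (2 ^ (6 + i))))
            (bv (app M (app (mA j) (2 ^ (6 + i)))) (app M (app M (2 ^ (6 + i))))))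
            (bv (app (mA j) (2 ^ (6 + i))) (app M (app M (2 ^ (6 + i)))))) <;> rw [hs] at ho
        · simp [zp]
        · exact absurd ho.symm S.ext.ne
      · rw [ex, S.orb_mul_z (Fr.F.toCoord.lh_spec h).1, (Fr.F.toCoord.lh_spec h).2.2, one_mul] at ho
        rw [ex, ← hE, trE]
        cases hs : (xor (xor (bv (app (mA j) (2 ^ (6 + i))) (app M (2 ^ (6 + i))))
            (bv (app M (app (mA j) (2 ^ (6 + i)))) (app M (app M (2 ^ (6 + i))))))
            (bv (app (mA j) (2 ^ (6 + i))) (app M (app M (2 ^ (6 + i)))))) <;> rw [hs] at ho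
        · exact absurd ho S.ext.ne
        · simp [zp]
    rw [e, e2, ← Fr.Av_mul (Nat.xor_lt_two_pow (n := 11) (by omega) (by unfold bn; split_ifs <;> norm_num))
        (by omega), ← Fr.Av_mul (by omega) (by unfold bn; split_ifs <;> norm_num), Fr.Av_low hlt, Fr.Av_bn,
      Fr.Av_high hp, show 2 ^ (7 + j) = 128 * 2 ^ j by rw [pow_add]; norm_num, Fr.Av_high hp, hmi, ← hbdef, ← hx]
    group

end Frame

end Cfsg.Agent.Spor.JFour
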