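import Cfsg.Agent.Lib.Spor.JFourType.AGroup

/-!
The elementary abelian group of order 2¹¹ is the only one in the Sylow two-subgroup of the centraliser.
-/

set_option autoImplicit false
set_option maxRecDepth 100000
set_option linter.style.haveILetI false

open Cfsg Cfsg.Agent.Spor.Golay
open Cfsg.Agent.Spor.Cos.J4Sub (app mm app_mm app_xor app_zero)

namespace Cfsg.Agent.Spor.JFour

variable {G : Type*} [Group G] {z : G} {P : Subgroup G}

theorem atwo_check : ((List.range 16).all fun k => tbEl k == akM.getD k []) = true ∧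
    ((List.range 4096).all fun v => decide (v < 64) || (List.range 6).any fun j => bv v (2 ^ j)) = true ∧
    ((fixedBy [1, 2, 4, 8]).all fun v => decide (v < 64)) = true := by decide +kernel

namespace Setting

variable (S : Setting z P)
include S

/-- The image of an element is determined up to two preimages. -/
theorem card_le_two_mul [Finite G] (W : Subgroup G) (hW : W ≤ twoCoreOfCentralizer z) :
    Nat.card ↥W ≤ 2 * Nat.card ↥(Set.range fun w : ↥W => S.rep w) := by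
  classical
  haveI := Fintype.ofFinite ↥W
  rw [Nat.card_eq_fintype_card, Nat.card_eq_fintype_card, ← Set.toFinset_card]
  refine le_trans (le_of_eq Finset.card_univ.symm)
    (Finset.card_le_mul_card_image_of_maps_to (f := fun w : ↥W => S.rep w)
      (t := (Set.range fun w : ↥W => S.rep w).toFinset) (fun w _ => Set.mem_toFinset.2 ⟨w, rfl⟩) 2 fun v _ => ?_)
  rcases Finset.eq_empty_or_nonempty (Finset.univ.filter fun w : ↥W => S.rep w = v) with e | ⟨w, hw⟩
  · rw [e]; simp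
  refine le_trans (Finset.card_le_card_of_injOn (fun u : ↥W => (u : G)) (t := {(w : G), (w : G) * z}) ?_ ?_)
    Finset.card_le_two
  · intro u hu
    simp only [Finset.coe_filter, Set.mem_ofPred_eq, Finset.mem_univ, true_and] at hu
    rw [Finset.mem_filter] at hw
    rcases S.eq_or_mul_z (hW w.2) (hW u.2) (hw.2.trans hu.symm) with e | e <;> simp [e]
  · exact fun a _ b _ e => Subtype.ext e

/-- Commutative subgroups of the core have order at most 2⁷. -/
theorem card_comm_le [Finite G] {W : Subgroup G} (hW : W ≤ twoCoreOfCentralizer z)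
    (hc : ∀ a ∈ W, ∀ b ∈ W, a * b = b * a) : Nat.card ↥W ≤ 2 ^ 7 := by
  classical
  let U0 : AddSubgroup V12 :=
    { carrier := Set.range fun w : ↥W => S.rep w
      zero_mem' := ⟨1, S.rep_one⟩
      add_mem' := by
        rintro _ _ ⟨a, rfl⟩ ⟨b, rfl⟩
        exact ⟨a * b, S.rep_mul _ (hW a.2) _ (hW b.2)⟩
      neg_mem' := by
        rintro _ ⟨a, rfl⟩
        exact ⟨a⁻¹, (S.rep_inv (hW a.2)).trans (funext fun i => (ZMod.neg_eq_self_mod_two _).symm)⟩ }
  let U : Submodule (ZMod 2) V12 := AddSubgroup.toZModSubmodule 2 U0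
  have hUO : U ≤ LinearMap.BilinForm.orthogonal (QuadraticMap.polarBilin S.q) U := fun u hu v hv => by
    obtain ⟨a, rfl⟩ := hu
    obtain ⟨b, rfl⟩ := hv
    show QuadraticMap.polarBilin S.q (S.rep b) (S.rep a) = 0
    rw [QuadraticMap.polarBilin_apply_apply]
    have h := S.q_conj b (hW b.2) a (hW a.2)
    rw [hc b b.2 a a.2, mul_inv_cancel_right] at h
    have h' := left_eq_mul.1 h
    rw [← ExtraOut.pw_zero z] at h'
    exact ExtraOut.pw_inj S.ext.ne h'
  have h1 := Submodule.finrank_mono hUO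
  rw [LinearMap.BilinForm.finrank_orthogonal S.q_nd, Module.finrank_pi, Fintype.card_fin] at h1
  have h2 : Nat.card ↥U = 2 ^ Module.finrank (ZMod 2) ↥U := by
    rw [Module.natCard_eq_pow_finrank (K := ZMod 2), Nat.card_zmod]
  calc Nat.card ↥W ≤ 2 * Nat.card ↥(Set.range fun w : ↥W => S.rep w) := S.card_le_two_mul W hW
    _ = 2 * Nat.card ↥U := rfl
    _ ≤ 2 * 2 ^ 6 := by rw [h2]; gcongr <;> omega
    _ = 2 ^ 7 := by norm_num

end Setting

namespace Full

variable {S : Setting z P} (F : Full S) [Finite G]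

open Classical in
/-- The vectors of a subgroup of the core fixed by a list of indices. -/
theorem card_fixed_le {X : Subgroup G} (hc : ∀ a ∈ X, ∀ b ∈ X, a * b = b * a) {g : List ℕ}
    (hg : ∀ a ∈ g, a ∈ F.img X) :
    Nat.card ↥(X ⊓ twoCoreOfCentralizer z) ≤ 2 * (fixedBy g).length ∧
      ∀ w ∈ X ⊓ twoCoreOfCentralizer z, ∃ v ∈ fixedBy g, S.rep w = F.Φ v := by
  have hfix : ∀ w ∈ X ⊓ twoCoreOfCentralizer z, ∃ v ∈ fixedBy g, S.rep w = F.Φ v := by
    intro w hw
    obtain ⟨v, hv, e⟩ := F.surj (S.rep w)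
    refine ⟨v, mem_fixedBy hv fun a ha => ?_, e.symm⟩
    obtain ⟨ha', c, hc', hr⟩ := F.mem_img.1 (hg a ha)
    refine (F.inj _ hv _ (app_lt_of_ok hr.ok _) ?_).symm
    rw [← hr.eq v hv, e, S.act_rep c hr.hz w hw.2, hc c hc' w hw.1, mul_inv_cancel_right]
  refine ⟨le_trans (S.card_le_two_mul _ inf_le_right) (Nat.mul_le_mul_left 2 ?_), hfix⟩
  refine le_trans (Nat.card_mono ((List.finite_toSet (fixedBy g)).image F.Φ) ?_)
    (le_trans (Nat.card_image_le (List.finite_toSet _)) ?_)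
  · rintro _ ⟨w, rfl⟩
    obtain ⟨v, hv, e⟩ := hfix w w.2
    exact ⟨v, hv, e.symm⟩
  · rw [Nat.card_coe_set_eq]
    refine le_trans (le_of_eq ?_) (List.toFinset_card_le _)
    rw [← Set.ncard_coe_finset]
    congr 1
    ext v
    simp

end Full

namespace Frame

variable {S : Setting z P} (Fr : Frame S) [Finite G]

theorem rep_bk {k : ℕ} (hk : k < 16) : Fr.F.Rep (Fr.X.b k) (tbEl k) := by
  rw [beq_iff_eq.1 (List.all_eq_true.1 atwo_check.1 k (List.mem_range.2 hk))]
  exact Fr.rep_b k hk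

theorem A_le_T : Fr.A ≤ Fr.F.T := by
  rintro _ ⟨v, hv, rfl⟩
  refine mul_mem (mul_mem (Fr.F.E_le_T (S.zp_mem_E _)) (Fr.F.E_le_T (Fr.F.toCoord.lh_spec _).1)) ?_
  exact ⟨v / 128, by omega, Fr.rep_bk (by omega)⟩

theorem A_le_H : Fr.A ≤ Subgroup.centralizer ({z} : Set G) := le_trans Fr.A_le_T Fr.F.T_le

theorem low_mem_A {m : G} (hm : m ∈ twoCoreOfCentralizer z) {n : ℕ} (hn : n < 64) (e : S.rep m = Fr.F.Φ n) :
    m ∈ Fr.A := by
  rcases Fr.F.toCoord.lh_cases hm e with rfl | rfl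
  · exact ⟨2 * n, by omega, Fr.Av_low hn⟩
  · exact mul_mem ⟨2 * n, by omega, Fr.Av_low hn⟩ Fr.z_mem_A

/-- The only elementary abelian subgroup of order 2¹¹ of the Sylow subgroup. -/
theorem unique_in_T {U : Subgroup G} (hU : U ≤ Fr.F.T) (hc : ∀ a ∈ U, ∀ b ∈ U, a * b = b * a)
    (h2 : ∀ a ∈ U, a * a = 1) (hcard : Nat.card ↥U = 2 ^ 11) : U = Fr.A := by
  classical
  set E0 := U ⊓ twoCoreOfCentralizer z with hE0
  have hel : ElemSet (Fr.F.img U) := Fr.F.img_elem (fun g hg => by rw [h2 g hg]; exact one_mem _)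
    fun g hg k hk => by rw [hc g hg k hk, inv_mul_cancel]; exact one_mem _
  have hprod := Fr.F.card_img hU
  rw [hcard] at hprod
  have h7 : Nat.card ↥E0 ≤ 2 ^ 7 := S.card_comm_le inf_le_right fun a ha b hb => hc a ha.1 b hb.1
  have hle256 : (Fr.F.img U).card ≤ 256 := by
    rw [← Finset.card_range 256]
    exact Finset.card_le_card fun e he => Finset.mem_range.2 (Fr.F.img_lt he)
  -- no elementary subgroup of rank five
  have h32 : (Fr.F.img U).card < 32 := by
    by_contra hcon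
    obtain ⟨V, hV, hsub⟩ := exists_level hel 5 le_rfl (by rw [show (2 : ℕ) ^ 5 = 32 by norm_num]; omega)
    have hm := List.all_eq_true.1 (List.all_eq_true.1 lvl_masks 5 (List.mem_range.2 (by norm_num))) V hV
    simp only [Bool.and_eq_true, List.all_eq_true, decide_eq_true_eq] at hm
    obtain ⟨hb, hv⟩ := Fr.F.card_fixed_le hc (g := V.1) fun a ha => hsub a (mem_elemsT V.1 a hm.2 ha)
    have hf := List.all_eq_true.1 lvl_fix.2.1 V hV
    simp only [List.all_eq_true, Bool.or_eq_true, beq_iff_eq] at hf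
    have h4 : Nat.card ↥E0 ≤ 4 := by
      refine le_trans (S.card_le_two_mul _ inf_le_right) (le_trans (Nat.mul_le_mul_left 2 (m := 2) ?_) (le_of_eq rfl))
      refine le_trans (Nat.card_mono (Set.toFinite ({Fr.F.Φ 0, Fr.F.Φ 51} : Set V12)) ?_) ?_
      · rintro _ ⟨w, rfl⟩
        obtain ⟨v, hv', e⟩ := hv w w.2
        show S.rep w ∈ _
        rw [e]
        rcases hf v hv' with rfl | rfl <;> simp
      · rw [Nat.card_coe_set_eq]
        exact le_trans (Set.ncard_insert_le _ _) (by rw [Set.ncard_singleton])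
    nlinarith
  have h16 : (Fr.F.img U).card = 16 ∧ Nat.card ↥E0 = 2 ^ 7 := by
    have hd : (Fr.F.img U).card ∣ 2 ^ 11 := ⟨_, hprod⟩
    obtain ⟨a, ha, e⟩ := (Nat.dvd_prime_pow Nat.prime_two).1 hd
    have hlo : 16 ≤ (Fr.F.img U).card := by nlinarith
    have ha4 : a = 4 := by
      have h1 : 2 ^ a < 2 ^ 5 := by rw [← e]; exact h32
      have h2 : 2 ^ 4 ≤ 2 ^ a := by rw [← e]; exact hlo
      have := (Nat.pow_lt_pow_iff_right (by norm_num)).1 h1
      have := (Nat.pow_le_pow_iff_right (by norm_num)).1 h2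
      omega
    have he16 : (Fr.F.img U).card = 16 := by rw [e, ha4]; norm_num
    refine ⟨he16, ?_⟩
    rw [he16] at hprod
    change 2 ^ 11 = 16 * Nat.card ↥E0 at hprod
    omega
  obtain ⟨h16, h27⟩ := h16
  obtain ⟨V, hV, hsub⟩ := exists_level hel 4 (by norm_num) (by rw [h16]; norm_num)
  have hm := List.all_eq_true.1 (List.all_eq_true.1 lvl_masks 4 (List.mem_range.2 (by norm_num))) V hV
  simp only [Bool.and_eq_true, List.all_eq_true, decide_eq_true_eq, beq_iff_eq] at hm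
  have hmask : V.2 = 65535 := by
    have h := List.all_eq_true.1 lvl_fix.1 V hV
    simp only [Bool.or_eq_true, beq_iff_eq, decide_eq_true_eq] at h
    refine h.resolve_right fun hlt => ?_
    have := (Fr.F.card_fixed_le hc (g := V.1) fun a ha => hsub a (mem_elemsT V.1 a hm.2 ha)).1
    change Nat.card ↥E0 ≤ _ at this
    rw [h27] at this
    omega
  have hin : ∀ k < 16, k ∈ Fr.F.img U := fun k hk => hsub k (by
    rw [← testBit_maskOf, hm.1.1, hmask, ← lvl_fix.2.2, testBit_maskOf]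
    exact List.mem_range.2 hk)
  have himg : ∀ e ∈ Fr.F.img U, e < 16 := fun e he => by
    have heq : Finset.range 16 = Fr.F.img U := Finset.eq_of_subset_of_card_le
      (fun k hk => hin k (Finset.mem_range.1 hk)) (by rw [h16, Finset.card_range])
    rw [← heq] at he
    exact Finset.mem_range.1 he
  have hlow : E0 ≤ Fr.A := fun w hw => by
    obtain ⟨v, hv, e⟩ := (Fr.F.card_fixed_le hc (g := [1, 2, 4, 8]) fun a ha => hin a (by
      simp only [List.mem_cons, List.not_mem_nil, or_false] at ha; omega)).2 w hw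
    exact Fr.low_mem_A hw.2 (of_decide_eq_true (List.all_eq_true.1 atwo_check.2.2 v hv)) e
  have hAE : Fr.A ⊓ twoCoreOfCentralizer z = E0 := by
    refine (Subgroup.eq_of_le_of_card_ge (le_inf hlow inf_le_right) ?_).symm
    rw [h27]
    exact S.card_comm_le inf_le_right fun a ha b hb => Fr.A_comm a ha.1 b hb.1
  refine Subgroup.eq_of_le_of_card_ge (fun g hg => ?_) (by rw [hcard, Fr.card_A])
  obtain ⟨e, he, hr⟩ := hU hg
  have hk : e < 16 := himg e (Fr.F.mem_img.2 ⟨he, g, hg, hr⟩)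
  have hb := Fr.rep_bk hk
  set m := (Fr.X.b e)⁻¹ * g with hm'
  have hmE : m ∈ twoCoreOfCentralizer z := Fr.F.toCoord.eq_of_rep hb hr
  obtain ⟨v, hv, erep⟩ := Fr.F.surj (S.rep m)
  have hbA : Fr.X.b e ∈ Fr.A := ⟨128 * e, by omega, Fr.Av_high hk⟩
  suffices hmA : m ∈ Fr.A by
    rw [show g = Fr.X.b e * m by rw [hm', mul_inv_cancel_left]]
    exact mul_mem hbA hmA
  refine Fr.low_mem_A hmE ?_ erep.symm
  have h := List.all_eq_true.1 atwo_check.2.1 v (List.mem_range.2 hv)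
  simp only [Bool.or_eq_true, decide_eq_true_eq, List.any_eq_true, List.mem_range] at h
  refine h.resolve_right ?_
  rintro ⟨j, hj, hbv⟩
  have hp : (2 : ℕ) ^ j < 64 := Nat.pow_lt_pow_right (by norm_num) hj
  obtain ⟨l1, l2, -⟩ := Fr.F.toCoord.lh_spec (2 ^ j)
  have hlA : Fr.F.lh (2 ^ j) ∈ Fr.A ⊓ twoCoreOfCentralizer z :=
    ⟨Fr.low_mem_A l1 hp l2, l1⟩
  have hlU : Fr.F.lh (2 ^ j) ∈ U := by rw [hAE] at hlA; exact hlA.1
  have hcomm : m * Fr.F.lh (2 ^ j) = Fr.F.lh (2 ^ j) * m := by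
    have h1 := hc g hg _ hlU
    have h2' := Fr.A_comm _ (inv_mem hbA) _ hlA.1
    rw [hm', mul_assoc, h1, ← mul_assoc, h2', mul_assoc]
  have := Fr.F.toCoord.core_comm hmE l1 hv (hp.trans (by norm_num)) erep.symm l2
  rw [hcomm, hbv] at this
  exact S.ext.ne (left_eq_mul.1 this)

/-- Elementary abelian subgroups of order 2¹¹ of the centraliser are conjugate to the given one. -/
theorem conj_to_A {U : Subgroup G} (hU : U ≤ Subgroup.centralizer ({z} : Set G))
    (hc : ∀ a ∈ U, ∀ b ∈ U, a * b = b * a) (h2 : ∀ a ∈ U, a * a = 1) (hcard : Nat.card ↥U = 2 ^ 11) :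
    ∃ h, h * z = z * h ∧ U.map (MulAut.conj h).toMonoidHom = Fr.A := by
  obtain ⟨h, hh, hle⟩ := Fr.F.exists_conj_le_T hU hcard
  refine ⟨h, hh, Fr.unique_in_T hle ?_ ?_ ?_⟩
  · rintro _ ⟨a, ha, rfl⟩ _ ⟨b, hb, rfl⟩
    rw [← map_mul, ← map_mul, hc a ha b hb]
  · rintro _ ⟨a, ha, rfl⟩
    rw [← map_mul, h2 a ha, map_one]
  · rw [Subgroup.card_map_of_injective (MulAut.conj h).injective, hcard]

/-- A conjugate of the involution in the group comes from its normaliser. -/
theorem conj_in_normalizer {g : G} (hg : g * z * g⁻¹ ∈ Fr.A) :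
    ∃ n ∈ Subgroup.normalizer (Fr.A : Set G), n * z * n⁻¹ = g * z * g⁻¹ := by
  set U := Fr.A.map (MulAut.conj g⁻¹).toMonoidHom with hU
  obtain ⟨h, hh, hmap⟩ := Fr.conj_to_A (U := U) (by
      rintro _ ⟨a, ha, rfl⟩
      rw [Subgroup.mem_centralizer_singleton_iff]
      show g⁻¹ * a * g⁻¹⁻¹ * z = z * (g⁻¹ * a * g⁻¹⁻¹)
      have := Fr.A_comm a ha _ hg
      calc g⁻¹ * a * g⁻¹⁻¹ * z = g⁻¹ * (a * (g * z * g⁻¹)) * g := by group
        _ = g⁻¹ * ((g * z * g⁻¹) * a) * g := by rw [this]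
        _ = _ := by group)
    (by rintro _ ⟨a, ha, rfl⟩ _ ⟨b, hb, rfl⟩; rw [← map_mul, ← map_mul, Fr.A_comm a ha b hb])
    (by rintro _ ⟨a, ha, rfl⟩; rw [← map_mul, Fr.A_sq a ha, map_one])
    (by rw [Subgroup.card_map_of_injective (MulAut.conj g⁻¹).injective, Fr.card_A])
  refine ⟨g * h⁻¹, Subgroup.mem_normalizer_iff.2 fun x => ?_, ?_⟩
  · have key : ∀ a ∈ Fr.A, (g * h⁻¹)⁻¹ * a * (g * h⁻¹) ∈ Fr.A := fun a ha => by
      have : (MulAut.conj h).toMonoidHom ((MulAut.conj g⁻¹).toMonoidHom a) ∈ U.map (MulAut.conj h).toMonoidHom :=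
        ⟨_, ⟨a, ha, rfl⟩, rfl⟩
      rw [hmap] at this
      convert this using 1
      show _ = h * (g⁻¹ * a * g⁻¹⁻¹) * h⁻¹
      group
    constructor
    · intro hx
      rw [← hmap] at hx
      obtain ⟨_, ⟨a, ha, rfl⟩, e⟩ := hx
      rw [← e]
      have e2 : g * h⁻¹ * (h * (g⁻¹ * a * g⁻¹⁻¹) * h⁻¹) * (g * h⁻¹)⁻¹ = a := by group
      show g * h⁻¹ * (h * (g⁻¹ * a * g⁻¹⁻¹) * h⁻¹) * (g * h⁻¹)⁻¹ ∈ Fr.A
      rw [e2]; exact ha
    · intro hx
      have := key _ hx
      convert this using 1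
      group
  · have e : h⁻¹ * z * h = z := by
      rw [mul_assoc, ← hh, inv_mul_cancel_left]
    rw [show g * h⁻¹ * z * (g * h⁻¹)⁻¹ = g * (h⁻¹ * z * h) * g⁻¹ by group, e]

end Frame

end Cfsg.Agent.Spor.JFour
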