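import Cfsg.Agent.Lib.Spor.JFourType.Setting

/-!
Consequences of the data: scalars, lifts of involutions and lifts of the Sylow three-subgroup, which is
non-abelian of exponent three.
-/

set_option autoImplicit false
set_option linter.style.haveILetI false

open Cfsg Cfsg.Agent.Spor.Golay
open scoped commutatorElement

namespace Cfsg.Agent.Spor.JFour

variable {G : Type*} [Group G] {z : G} {P : Subgroup G}

/-- Elements commuting with `z` and with a given element. -/
theorem conj_inv_comm {g a : G} (h : g * a = a * g) : g⁻¹ * a = a * g⁻¹ :=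
  ((show Commute g a from h).inv_left).eq

namespace Setting

variable (S : Setting z P)
include S

theorem zz : z * z = 1 := S.ext.zz

theorem mem_iff {c : G} : c ∈ CP z P ↔ c * z = z * c ∧ c * S.p = S.p * c := by
  rw [show CP z P = CP z (Subgroup.zpowers S.p) by rw [← S.hP]]
  exact mem_CP_iff

theorem commz {c : G} (h : c ∈ CP z P) : c * z = z * c := (S.mem_iff.1 h).1

theorem z_mem : z ∈ CP z P := S.mem_iff.2 ⟨rfl, S.pz.symm⟩

theorem p_mem : S.p ∈ CP z P := S.mem_iff.2 ⟨S.pz, rfl⟩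

theorem ψ_one : S.ψ 1 = 1 := by
  have h := S.ψ_mul 1 (one_mem _) 1 (one_mem _)
  rw [mul_one] at h
  exact mul_eq_left.1 h.symm

theorem ψ_pow {c : G} (hc : c ∈ CP z P) : ∀ n : ℕ, S.ψ (c ^ n) = S.ψ c ^ n
  | 0 => by rw [pow_zero, pow_zero, S.ψ_one]
  | n + 1 => by rw [pow_succ, S.ψ_mul _ (pow_mem hc n) _ hc, ψ_pow hc n, pow_succ]

theorem ψ_inv {c : G} (hc : c ∈ CP z P) : S.ψ c⁻¹ = (S.ψ c)⁻¹ := by
  have h := S.ψ_mul c hc c⁻¹ (inv_mem hc)
  rw [mul_inv_cancel, S.ψ_one] at h
  exact (inv_eq_of_mul_eq_one_right h.symm).symm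

theorem ψ_conj {c d : G} (hc : c ∈ CP z P) (hd : d ∈ CP z P) :
    S.ψ (c * d * c⁻¹) = S.ψ c * S.ψ d * (S.ψ c)⁻¹ := by
  rw [S.ψ_mul _ (mul_mem hc hd) _ (inv_mem hc), S.ψ_mul c hc d hd, S.ψ_inv hc]

/-- An element of the kernel. -/
theorem ker_cases {c : G} (hc : c ∈ CP z P) (h : S.ψ c = 1) :
    (c = 1 ∨ c = S.p ∨ c = S.p * S.p) ∨ (c = z ∨ c = z * S.p ∨ c = z * (S.p * S.p)) := by
  obtain ⟨i, j, rfl⟩ := S.ψ_ker c hc h
  have hi : z ^ i = 1 ∨ z ^ i = z := by
    rcases Nat.even_or_odd' i with ⟨k, rfl | rfl⟩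
    · left; rw [pow_mul, pow_two, S.zz, one_pow]
    · right; rw [pow_succ, pow_mul, pow_two, S.zz, one_pow, one_mul]
  rcases hi with e | e <;> rcases pow_three_cases S.p_pow j with f | f | f <;> rw [e, f] <;> simp

theorem ker_central {c d : G} (hc : c ∈ CP z P) (h : S.ψ c = 1) (hd : d ∈ CP z P) : c * d = d * c := by
  obtain ⟨h1, h2⟩ := S.mem_iff.1 hd
  obtain ⟨i, j, rfl⟩ := S.ψ_ker c hc h
  exact (((show Commute d z from h1).pow_right i).mul_right ((show Commute d S.p from h2).pow_right j)).eq.symm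

theorem z_ne_p : z ≠ S.p := fun e => by
  have h := S.p_pow
  rw [← e, S.zz, one_mul] at h
  exact S.ext.ne h

omit S in
theorem M22_center {a : Equiv.Perm GolayPt} (ha : a ∈ Cfsg.Spor.M22)
    (h : ∀ g ∈ Cfsg.Spor.M22, g * a = a * g) : a = 1 := by
  haveI := simple_M22
  rcases (inferInstance : (Subgroup.center ↥Cfsg.Spor.M22).Normal).eq_bot_or_eq_top with e | e
  · have hm : (⟨a, ha⟩ : ↥Cfsg.Spor.M22) ∈ Subgroup.center ↥Cfsg.Spor.M22 :=
      Subgroup.mem_center_iff.2 fun b => Subtype.ext (h b b.2)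
    rw [e, Subgroup.mem_bot] at hm
    exact congrArg Subtype.val hm
  · have hc : ∀ a b : ↥Cfsg.Spor.M22, a * b = b * a := fun a b =>
      Subgroup.mem_center_iff.1 (e ▸ Subgroup.mem_top b : b ∈ Subgroup.center _) a
    letI : CommGroup ↥Cfsg.Spor.M22 := { (inferInstance : Group ↥Cfsg.Spor.M22) with mul_comm := hc }
    have hp : (Nat.card ↥Cfsg.Spor.M22).Prime := IsSimpleGroup.prime_card
    rw [Fus.Mathieu.card22] at hp
    norm_num at hp

theorem ψ_z : S.ψ z = 1 := M22_center (S.ψ_mem _ S.z_mem) fun g hg => by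
  obtain ⟨c, hc, rfl⟩ := S.ψ_surj g hg
  rw [← S.ψ_mul _ hc _ S.z_mem, ← S.ψ_mul _ S.z_mem _ hc, S.commz hc]

theorem ψ_p : S.ψ S.p = 1 := M22_center (S.ψ_mem _ S.p_mem) fun g hg => by
  obtain ⟨c, hc, rfl⟩ := S.ψ_surj g hg
  rw [← S.ψ_mul _ hc _ S.p_mem, ← S.ψ_mul _ S.p_mem _ hc, (S.mem_iff.1 hc).2]

theorem act_eq_one {c : G} (hc : c * z = z * c) (h : c ∈ twoCoreOfCentralizer z) : S.act c = 1 :=
  (S.act_ker c hc).2 h

theorem act_z : S.act z = 1 := S.act_eq_one rfl S.ext.mem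

theorem act_pow {c : G} (hc : c * z = z * c) : ∀ n : ℕ, S.act (c ^ n) = S.act c ^ n
  | 0 => by rw [pow_zero, pow_zero, S.act_one]
  | n + 1 => by
    rw [pow_succ, S.act_mul _ _ (((show Commute c z from hc).pow_left n).eq) hc, act_pow hc n, pow_succ]

theorem act_inv_mul {c : G} (hc : c * z = z * c) : S.act c⁻¹ * S.act c = 1 := by
  rw [← S.act_mul _ _ (conj_inv_comm hc) hc, inv_mul_cancel, S.act_one]

theorem act_mul_inv {c : G} (hc : c * z = z * c) : S.act c * S.act c⁻¹ = 1 := by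
  rw [← S.act_mul _ _ hc (conj_inv_comm hc), mul_inv_cancel, S.act_one]

/-- The only elements of the kernel of the action in the centraliser of the three-group. -/
theorem act_ker_CP {c : G} (hc : c ∈ CP z P) (h : S.act c = 1) : c = 1 ∨ c = z :=
  S.fix c ((S.act_ker c (S.commz hc)).1 h) (S.mem_iff.1 hc).2.symm

theorem act_polar {c : G} (hc : c * z = z * c) (v w : V12) :
    QuadraticMap.polar S.q (S.act c v) (S.act c w) = QuadraticMap.polar S.q v w := by
  simp only [QuadraticMap.polar, ← map_add, S.act_quad c hc]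

variable [Finite G]

/-- An involution lift. -/
theorem exists_inv_lift {g : Equiv.Perm GolayPt} (hg : g ∈ Cfsg.Spor.M22) (hgg : g * g = 1) :
    ∃ c ∈ CP z P, S.ψ c = g ∧ S.act c * S.act c = 1 ∧ (c * c = 1 ∨ c * c = z) := by
  obtain ⟨c, hc, rfl⟩ := S.ψ_surj g hg
  refine ⟨c ^ 3, pow_mem hc 3, by rw [S.ψ_pow hc, pow_succ, pow_two, hgg, one_mul], ?_⟩
  have h2 : S.ψ (c * c) = 1 := by rw [S.ψ_mul c hc c hc, hgg]
  obtain ⟨i, j, hij⟩ := S.ψ_ker _ (mul_mem hc hc) h2
  have h6 : c ^ 3 * c ^ 3 = z ^ (3 * i) := by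
    rw [← pow_add, show (3 : ℕ) + 3 = 2 * 3 from rfl, pow_mul, pow_two, hij,
      ((show Commute S.p z from S.pz).symm.pow_pow i j).mul_pow, ← pow_mul, mul_comm i 3,
      ← pow_mul, mul_comm j 3, pow_mul S.p, show S.p ^ 3 = 1 by rw [pow_three']; exact S.p_pow, one_pow, mul_one]
  refine ⟨?_, ?_⟩
  · rw [← S.act_mul _ _ (S.commz (pow_mem hc 3)) (S.commz (pow_mem hc 3)), h6, S.act_pow rfl, S.act_z, one_pow]
  · rcases Nat.even_or_odd' (3 * i) with ⟨k, e | e⟩ <;> rw [h6, e]
    · left; rw [pow_mul, pow_two, S.zz, one_pow]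
    · right; rw [pow_succ, pow_mul, pow_two, S.zz, one_pow, one_mul]

theorem act_p_pow : S.act S.p * S.act S.p * S.act S.p = 1 := by
  rw [← S.act_mul _ _ S.pz S.pz, ← S.act_mul _ _ (by rw [mul_assoc, S.pz, ← mul_assoc, S.pz, mul_assoc]) S.pz,
    S.p_pow, S.act_one]

theorem p_fpf {v : V12} (h : S.act S.p v = v) : v = 0 := by
  obtain ⟨e, he, rfl⟩ := S.rep_surj v
  rw [S.act_rep _ S.pz e he] at h
  have hconj := S.ext.norm S.p S.pz e he
  have hdiff : S.p * e * S.p⁻¹ * e⁻¹ = 1 ∨ S.p * e * S.p⁻¹ * e⁻¹ = z := by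
    have hm : S.p * e * S.p⁻¹ * e⁻¹ ∈ twoCoreOfCentralizer z := mul_mem hconj (inv_mem he)
    refine (S.rep_zero _ hm).1 ?_
    have := S.rep_mul _ hm _ he
    rw [inv_mul_cancel_right, h] at this
    exact left_eq_add.1 (this.trans (add_comm _ _))
  have hze : z * e = e * z := (S.ext.central e he).symm
  rw [S.rep_zero e he]
  rcases hdiff with d | d
  · exact S.fix e he (by rwa [mul_inv_eq_one, mul_inv_eq_iff_eq_mul] at d)
  · exfalso
    rw [mul_inv_eq_iff_eq_mul] at d
    have hpze : S.p * (z * e) * S.p⁻¹ = e := by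
      rw [← mul_assoc, S.pz, mul_assoc z, mul_assoc z (S.p * e), d, ← mul_assoc, S.zz, one_mul]
    have h3 : S.p * S.p * S.p * e * (S.p * S.p * S.p)⁻¹ = z * e := by
      calc S.p * S.p * S.p * e * (S.p * S.p * S.p)⁻¹ =
            S.p * (S.p * (S.p * e * S.p⁻¹) * S.p⁻¹) * S.p⁻¹ := by group
        _ = S.p * e * S.p⁻¹ := by conv_lhs => rw [d, hpze]
        _ = z * e := d
    rw [S.p_pow, one_mul, inv_one, mul_one] at h3
    exact S.ext.ne (mul_eq_right.1 h3.symm)

end Setting

/-- Lifts of the Sylow three-subgroup with `t = y x y⁻¹ x⁻¹`. -/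
structure Three (S : Setting z P) where
  /-- the lift of the first -/
  x : G
  /-- the lift of the second -/
  y : G
  /-- their commutator -/
  t : G
  x_mem : x ∈ CP z P
  y_mem : y ∈ CP z P
  x_ψ : S.ψ x = permOf (pk 4)
  y_ψ : S.ψ y = permOf (pk 5)
  x3 : x * x * x = 1
  y3 : y * y * y = 1
  t_eq : y * x = t * (x * y)
  t_p : t = S.p ∨ t = S.p * S.p

variable [Finite G]

theorem perm_three_facts :
    permOf (pk 4) * permOf (pk 4) * permOf (pk 4) = 1 ∧ permOf (pk 5) * permOf (pk 5) * permOf (pk 5) = 1 ∧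
    permOf (pk 4) * permOf (pk 5) = permOf (pk 5) * permOf (pk 4) ∧
    permOf (pk 6) * permOf (pk 4) = permOf (pk 5) * permOf (pk 6) ∧
    permOf (pk 8) * (permOf (pk 4) * (permOf (pk 5) * permOf (pk 5))) =
      permOf (pk 4) * permOf (pk 4) * permOf (pk 8) ∧
    permOf (pk 4) ≠ 1 ∧ permOf (pk 5) ≠ 1 ∧ permOf (pk 5) ≠ permOf (pk 4) ∧
    permOf (pk 5) ≠ permOf (pk 4) * permOf (pk 4) := by
  have e : ∀ u v : List ℕ, wordP u = wordP v → wordπ u = wordπ v := fun u v h => wordπ_congr h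
  have n : ∀ u v : List ℕ, (∃ i < 24, Golay.get (wordP u) i ≠ Golay.get (wordP v) i) → wordπ u ≠ wordπ v := by
    rintro u v ⟨i, hi, hne⟩ h
    rw [wordπ_eq, wordπ_eq] at h
    have h' := congrArg (fun σ : Equiv.Perm GolayPt => idx (σ (pt i))) h
    simp only [idx_permOf (wordP_valid _), idx_pt hi] at h'
    exact hne h'
  have e1 := e [4, 4, 4] [] (by decide +kernel)
  have e2 := e [5, 5, 5] [] (by decide +kernel)
  have e3 := e [4, 5] [5, 4] (by decide +kernel)
  have e4 := e [6, 4] [5, 6] (by decide +kernel)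
  have e5 := e [8, 4, 5, 5] [4, 4, 8] (by decide +kernel)
  have n1 := n [4] [] (by decide +kernel)
  have n2 := n [5] [] (by decide +kernel)
  have n3 := n [5] [4] (by decide +kernel)
  have n4 := n [5] [4, 4] (by decide +kernel)
  simp only [wordπ, List.map_cons, List.map_nil, List.prod_cons, List.prod_nil, mul_one, ← mul_assoc] at e1 e2 e3 e4 e5 n1 n2 n3 n4 ⊢
  exact ⟨e1, e2, e3, e4, e5, n1, n2, n3, n4⟩

namespace Setting

variable (S : Setting z P)
include S

/-- A lift of an element of order dividing three, of order dividing nine. -/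
theorem exists_lift_nine {g : Equiv.Perm GolayPt} (hg : g ∈ Cfsg.Spor.M22) (h3 : g * g * g = 1) :
    ∃ c ∈ CP z P, S.ψ c = g ∧ c ^ 9 = 1 := by
  obtain ⟨c, hc, rfl⟩ := S.ψ_surj g hg
  refine ⟨c ^ 4, pow_mem hc 4, by rw [S.ψ_pow hc, pow_succ, pow_three', h3, one_mul], ?_⟩
  obtain ⟨i, j, hij⟩ := S.ψ_ker _ (pow_mem hc 3) (by rw [S.ψ_pow hc, pow_three', h3])
  rw [← pow_mul, show 4 * 9 = 3 * 12 from rfl, pow_mul, hij, ((show Commute S.p z from S.pz).symm.pow_pow i j).mul_pow,
    ← pow_mul, ← pow_mul, show i * 12 = 2 * (i * 6) by ring, show j * 12 = 3 * (j * 4) by ring, pow_mul, pow_mul S.p,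
    pow_two, S.zz, one_pow, show S.p ^ 3 = 1 by rw [pow_three']; exact S.p_pow, one_pow, one_mul]

/-- A kernel element with trivial ninth power lies in the three-group. -/
theorem ker_nine {u : G} (hu : u ∈ CP z P) (h : S.ψ u = 1) (h9 : u ^ 9 = 1) :
    u = 1 ∨ u = S.p ∨ u = S.p * S.p := by
  obtain ⟨i, j, rfl⟩ := S.ψ_ker u hu h
  rw [((show Commute S.p z from S.pz).symm.pow_pow i j).mul_pow, ← pow_mul, ← pow_mul,
    show j * 9 = 3 * (j * 3) by ring, pow_mul S.p, show S.p ^ 3 = 1 by rw [pow_three']; exact S.p_pow, one_pow,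
    mul_one] at h9
  rcases Nat.even_or_odd' i with ⟨k, rfl | rfl⟩
  · rw [pow_mul, pow_two, S.zz, one_pow, one_mul]
    exact pow_three_cases S.p_pow j
  · exfalso
    rw [show (2 * k + 1) * 9 = 2 * (9 * k + 4) + 1 by ring, pow_succ, pow_mul, pow_two, S.zz, one_pow, one_mul] at h9
    exact S.ext.ne h9

/-- The lifts of the Sylow three-subgroup do not commute. -/
theorem three_not_comm {x y : G} (hx : x ∈ CP z P) (hy : y ∈ CP z P) (hxψ : S.ψ x = permOf (pk 4))
    (hyψ : S.ψ y = permOf (pk 5)) : x * y ≠ y * x := by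
  intro hxy
  obtain ⟨f1, f2, f3, -, -, g1, g2, g3, g4⟩ := perm_three_facts
  let A : Subgroup ↥(CP z P) := Subgroup.closure {⟨x, hx⟩, ⟨y, hy⟩, ⟨S.p, S.p_mem⟩}
  haveI : IsMulCommutative A := Subgroup.isMulCommutative_closure (fun a ha b hb => by
    have hxp := (S.mem_iff.1 hx).2
    have hyp := (S.mem_iff.1 hy).2
    rcases ha with rfl | rfl | rfl <;> rcases hb with rfl | rfl | rfl <;> apply Subtype.ext <;>
      first | rfl | exact hxy | exact hxy.symm | exact hxp | exact hxp.symm | exact hyp | exact hyp.symm)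
  have hpA : (⟨S.p, S.p_mem⟩ : ↥(CP z P)) ∈ A := Subgroup.subset_closure (by simp)
  let f : A →* Equiv.Perm GolayPt :=
    { toFun := fun a => S.ψ (a : ↥(CP z P))
      map_one' := S.ψ_one
      map_mul' := fun a b => S.ψ_mul _ (a : ↥(CP z P)).2 _ (b : ↥(CP z P)).2 }
  have h3dvd : 3 ∣ Nat.card f.ker := by
    have hm : (⟨⟨S.p, S.p_mem⟩, hpA⟩ : A) ∈ f.ker := S.ψ_p
    have h : orderOf (⟨_, hm⟩ : f.ker) = 3 := by
      haveI : Fact (Nat.Prime 3) := ⟨Nat.prime_three⟩
      refine orderOf_eq_prime (Subtype.ext (Subtype.ext (Subtype.ext ?_))) fun e => S.p_ne ?_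
      · simp only [SubmonoidClass.coe_pow, OneMemClass.coe_one]
        rw [pow_three']; exact S.p_pow
      · exact congrArg (fun a : f.ker => (((a : A) : ↥(CP z P)) : G)) e
    rw [← h]
    exact orderOf_dvd_natCard _
  have h9dvd : 9 ∣ Nat.card f.range := by
    haveI : Fact (Nat.Prime 3) := ⟨Nat.prime_three⟩
    have hx' : permOf (pk 4) ∈ f.range := ⟨⟨⟨x, hx⟩, Subgroup.subset_closure (by simp)⟩, hxψ⟩
    have hy' : permOf (pk 5) ∈ f.range := ⟨⟨⟨y, hy⟩, Subgroup.subset_closure (by simp)⟩, hyψ⟩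
    have hp : IsPGroup 3 f.range := by
      intro a
      refine ⟨1, Subtype.ext ?_⟩
      obtain ⟨a, ⟨⟨b, hb⟩, hbA⟩, rfl⟩ := a
      show (S.ψ b) ^ (3 ^ 1) = 1
      rw [pow_one]
      revert hbA
      refine fun hbA => Subgroup.closure_induction (p := fun u _ => S.ψ (u : ↥(CP z P)) ^ 3 = 1) ?_ ?_ ?_ ?_ hbA
      · rintro u (rfl | rfl | rfl)
        · rw [hxψ, pow_three']; exact f1
        · rw [hyψ, pow_three']; exact f2
        · rw [S.ψ_p, one_pow]
      · show S.ψ 1 ^ 3 = 1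
        rw [S.ψ_one, one_pow]
      · intro u v hu hv eu ev
        have hc : u * v = v * u := congrArg Subtype.val (mul_comm' (⟨u, hu⟩ : A) ⟨v, hv⟩)
        have hcc : Commute (S.ψ (u : ↥(CP z P))) (S.ψ (v : ↥(CP z P))) := by
          show _ * _ = _ * _
          rw [← S.ψ_mul _ u.2 _ v.2, ← S.ψ_mul _ v.2 _ u.2]
          exact congrArg (fun w : ↥(CP z P) => S.ψ w) hc
        show S.ψ ((u : G) * v) ^ 3 = 1
        rw [S.ψ_mul _ u.2 _ v.2, hcc.mul_pow, eu, ev, one_mul]
      · intro u _ eu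
        show S.ψ ((u : G)⁻¹) ^ 3 = 1
        rw [S.ψ_inv u.2, inv_pow, eu, inv_one]
    obtain ⟨k, hk⟩ := hp.exists_card_eq
    rcases Nat.lt_or_ge k 2 with hk2 | hk2
    · exfalso
      have hsub : Nat.card (Fin 4) ≤ Nat.card f.range :=
        Nat.card_le_card_of_injective
          ![(1 : f.range), ⟨_, hx'⟩, ⟨_, hx'⟩ * ⟨_, hx'⟩, ⟨_, hy'⟩] (by
          have hxx : permOf (pk 4) * permOf (pk 4) ≠ 1 := fun e => g1 (by rwa [e, one_mul] at f1)
          have hne : permOf (pk 4) ≠ permOf (pk 4) * permOf (pk 4) := fun e => g1 (left_eq_mul.1 e)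
          intro a b hab
          have hv := congrArg Subtype.val hab
          fin_cases a <;> fin_cases b <;> simp only [Matrix.cons_val_zero, Matrix.cons_val_one,
            Matrix.cons_val, Subgroup.coe_one, Subgroup.coe_mul, Fin.isValue] at hv ⊢ <;>
            first | rfl | exact absurd hv g1 | exact absurd hv.symm g1 | exact absurd hv g2 | exact absurd hv.symm g2 |
              exact absurd hv g3 | exact absurd hv.symm g3 | exact absurd hv g4 | exact absurd hv.symm g4 |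
              exact absurd hv hxx | exact absurd hv.symm hxx | exact absurd hv hne | exact absurd hv.symm hne)
      rw [Nat.card_fin, hk] at hsub
      interval_cases k <;> norm_num at hsub
    · rw [hk]; exact pow_dvd_pow 3 hk2
  have hindex : ¬ 3 ∣ A.index := by
    have h27 : 27 ∣ Nat.card A := by
      have h := Subgroup.card_eq_card_quotient_mul_card_subgroup f.ker
      rw [Nat.card_congr (QuotientGroup.quotientKerEquivRange f).toEquiv] at h
      rw [h]; exact Nat.mul_dvd_mul h9dvd h3dvd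
    intro h3
    have h := Subgroup.index_mul_card A
    rw [S.cardC] at h
    have : 81 ∣ 6 * 443520 := h ▸ (Nat.mul_dvd_mul h3 h27)
    norm_num at this
  have hder : (⟨S.p, S.p_mem⟩ : ↥(CP z P)) ∈ commutator ↥(CP z P) := by
    have h := S.der
    have e : ⁅CP z P, CP z P⁆ = (commutator ↥(CP z P)).map (CP z P).subtype := by
      rw [commutator_def, Subgroup.map_commutator, ← MonoidHom.range_eq_map, Subgroup.range_subtype]
    rw [e] at h
    obtain ⟨c, hc, hcp⟩ := h
    rwa [show (⟨S.p, S.p_mem⟩ : ↥(CP z P)) = c from Subtype.ext hcp.symm]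
  open scoped IsMulCommutative in
  let τ : ↥(CP z P) →* A := MonoidHom.transfer (MonoidHom.id A)
  have h1 : τ ⟨S.p, S.p_mem⟩ = 1 := MonoidHom.mem_ker.1 (Abelianization.commutator_subset_ker τ hder)
  have key : ∀ (k : ℕ) (g₀ : ↥(CP z P)), g₀⁻¹ * (⟨S.p, S.p_mem⟩ : ↥(CP z P)) ^ k * g₀ ∈ A →
      g₀⁻¹ * (⟨S.p, S.p_mem⟩ : ↥(CP z P)) ^ k * g₀ = (⟨S.p, S.p_mem⟩ : ↥(CP z P)) ^ k := fun k g₀ _ => by
    have hc : Commute g₀ (⟨S.p, S.p_mem⟩ : ↥(CP z P)) := Subtype.ext (S.mem_iff.1 g₀.2).2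
    rw [mul_assoc, ← (hc.pow_right k).eq, inv_mul_cancel_left]
  have h2 := MonoidHom.transfer_eq_pow (MonoidHom.id A) (⟨S.p, S.p_mem⟩ : ↥(CP z P)) key
  rw [show MonoidHom.transfer (MonoidHom.id A) (⟨S.p, S.p_mem⟩ : ↥(CP z P)) = τ ⟨S.p, S.p_mem⟩ from rfl, h1] at h2
  have h3 : S.p ^ A.index = 1 := by
    have := congrArg (fun a : A => ((a : ↥(CP z P)) : G)) h2
    simpa using this.symm
  exact hindex (by
    have hp3 : orderOf S.p = 3 := by
      haveI : Fact (Nat.Prime 3) := ⟨Nat.prime_three⟩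
      exact orderOf_eq_prime (by rw [pow_three']; exact S.p_pow) S.p_ne
    rw [← hp3]; exact orderOf_dvd_of_pow_eq_one h3)

theorem exists_three : Nonempty (Three S) := by
  obtain ⟨f1, f2, f3, f4, f5, g1, g2, g3, g4⟩ := perm_three_facts
  have hm : ∀ k, k < 9 → permOf (pk k) ∈ Cfsg.Spor.M22 := fun k hk => pk_mem hk
  obtain ⟨x, hx, hxψ, hx9⟩ := S.exists_lift_nine (hm 4 (by norm_num)) f1
  obtain ⟨y, hy, hyψ, hy9⟩ := S.exists_lift_nine (hm 5 (by norm_num)) f2
  obtain ⟨s, hs, hsψ⟩ := S.ψ_surj _ (hm 6 (by norm_num))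
  obtain ⟨q, hq, hqψ⟩ := S.ψ_surj _ (hm 8 (by norm_num))
  -- the commutator
  set t := y * x * y⁻¹ * x⁻¹ with ht
  have htm : t ∈ CP z P := mul_mem (mul_mem (mul_mem hy hx) (inv_mem hy)) (inv_mem hx)
  have htψ : S.ψ t = 1 := by
    rw [ht, S.ψ_mul _ (mul_mem (mul_mem hy hx) (inv_mem hy)) _ (inv_mem hx), S.ψ_conj hy hx, S.ψ_inv hx, hxψ, hyψ,
      ← f3, mul_inv_cancel_right, mul_inv_cancel]
  have ht9 : t ^ 9 = 1 := by
    have hc : Commute t x := S.ker_central htm htψ hx
    have h : (y * x * y⁻¹) ^ 9 = 1 := by rw [conj_pow, hx9, mul_one, mul_inv_cancel]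
    rw [show y * x * y⁻¹ = t * x by rw [ht, inv_mul_cancel_right], hc.mul_pow, hx9, mul_one] at h
    exact h
  have htp : t = S.p ∨ t = S.p * S.p := (S.ker_nine htm htψ ht9).resolve_left fun e => S.three_not_comm hx hy hxψ hyψ (by
    rw [ht, mul_inv_eq_one, mul_inv_eq_iff_eq_mul] at e; exact e.symm)
  have ht3 : t * t * t = 1 := by
    rcases htp with e | e <;> rw [e]
    · exact S.p_pow
    · rw [show S.p * S.p * (S.p * S.p) * (S.p * S.p) = (S.p * S.p * S.p) * (S.p * S.p * S.p) by group, S.p_pow,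
        one_mul]
  -- cubes agree
  have hcube : x * x * x = y * y * y := by
    set u := y⁻¹ * (s * x * s⁻¹) with hu
    have hum : u ∈ CP z P := mul_mem (inv_mem hy) (mul_mem (mul_mem hs hx) (inv_mem hs))
    have huψ : S.ψ u = 1 := by
      rw [hu, S.ψ_mul _ (inv_mem hy) _ (mul_mem (mul_mem hs hx) (inv_mem hs)), S.ψ_conj hs hx, S.ψ_inv hy, hsψ, hxψ,
        hyψ, f4, mul_inv_cancel_right, inv_mul_cancel]
    have hyu : Commute y u := (S.ker_central hum huψ hy).symm
    have e : s * x * s⁻¹ = y * u := by rw [hu, mul_inv_cancel_left]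
    have hu9 : u ^ 9 = 1 := by
      have h : (s * x * s⁻¹) ^ 9 = 1 := by rw [conj_pow, hx9, mul_one, mul_inv_cancel]
      rwa [e, hyu.mul_pow, hy9, one_mul] at h
    have hu3 : u ^ 3 = 1 := by
      rcases S.ker_nine hum huψ hu9 with e | e | e <;> rw [e]
      · exact one_pow 3
      · rw [pow_three']; exact S.p_pow
      · rw [pow_three', show S.p * S.p * (S.p * S.p) * (S.p * S.p) = (S.p * S.p * S.p) * (S.p * S.p * S.p) by group,
          S.p_pow, one_mul]
    have hxk : S.ψ (x ^ 3) = 1 := by rw [S.ψ_pow hx, hxψ, pow_three']; exact f1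
    have h : (s * x * s⁻¹) ^ 3 = x ^ 3 := by
      rw [conj_pow, ← S.ker_central (pow_mem hx 3) hxk hs, mul_inv_cancel_right]
    rw [e, hyu.mul_pow, hu3, mul_one, pow_three', pow_three'] at h
    exact h.symm
  have hx3k : S.ψ (x * x * x) = 1 := by rw [S.ψ_mul _ (mul_mem hx hx) _ hx, S.ψ_mul _ hx _ hx, hxψ]; exact f1
  -- the product
  set v := x * (y * y) with hv
  have hvm : v ∈ CP z P := mul_mem hx (mul_mem hy hy)
  have ctx : t * x = x * t := S.ker_central htm htψ hx
  have cty : t * y = y * t := S.ker_central htm htψ hy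
  have hyx : y * x = t * (x * y) := by rw [ht]; group
  have hyyx : y * y * x = (t * t) * (x * (y * y)) := by
    calc y * y * x = y * (t * (x * y)) := by rw [mul_assoc, hyx]
      _ = t * (y * x) * y := by rw [← mul_assoc y t, ← cty]; group
      _ = _ := by rw [hyx]; group
  have hv3 : v * v * v = 1 := by
    have hv2 : v * v = (t * t) * ((x * x) * (y * y * (y * y))) := by
      calc v * v = x * (y * y * x) * (y * y) := by rw [hv]; group
        _ = x * (t * t) * (x * (y * y)) * (y * y) := by rw [hyyx]; group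
        _ = _ := by rw [← mul_assoc x t t, ← ctx, mul_assoc t x t, ← ctx]; group
    have hy4 : y * y * (y * y) * x = (t * t) * (t * t) * (x * (y * y * (y * y))) := by
      calc y * y * (y * y) * x = y * y * ((t * t) * (x * (y * y))) := by rw [← hyyx]; group
        _ = (t * t) * (y * y * x) * (y * y) := by
          rw [show y * y * (t * t * (x * (y * y))) = (y * y * (t * t)) * x * (y * y) by group,
            show y * y * (t * t) = (t * t) * (y * y) from
              ((((show Commute t y from cty).mul_left cty).symm.mul_left ((show Commute t y from cty).mul_left cty).symm)).eq]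
          group
        _ = _ := by rw [hyyx]; group
    calc v * v * v = (t * t) * ((x * x) * (y * y * (y * y) * x) * (y * y)) := by rw [hv2, hv]; group
      _ = (t * t) * (x * x) * ((t * t) * (t * t)) * x * (y * y * (y * y) * (y * y)) := by rw [hy4]; group
      _ = (t * t) * ((t * t) * (t * t)) * (x * x * x) * ((y * y * y) * (y * y * y)) := by
        rw [show t * t * (x * x) * (t * t * (t * t)) = t * t * ((x * x) * (t * t * (t * t))) by group,
          show (x * x) * (t * t * (t * t)) = (t * t * (t * t)) * (x * x) from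
            ((((show Commute x t from ctx.symm).mul_left ctx.symm).mul_right
              ((show Commute x t from ctx.symm).mul_left ctx.symm)).mul_right
              (((show Commute x t from ctx.symm).mul_left ctx.symm).mul_right
              ((show Commute x t from ctx.symm).mul_left ctx.symm))).eq]
        group
      _ = (t * t * t) * (t * t * t) * ((x * x * x) * (x * x * x) * (x * x * x)) := by rw [hcube]; group
      _ = 1 := by
        rw [ht3, one_mul, one_mul]
        have : x ^ 9 = x * x * x * (x * x * x) * (x * x * x) := by simp only [pow_succ, pow_zero, one_mul, mul_assoc]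
        rw [← this, hx9]
  have hx3 : x * x * x = 1 := by
    set u := (x * x)⁻¹ * (q * v * q⁻¹) with hu
    have hum : u ∈ CP z P := mul_mem (inv_mem (mul_mem hx hx)) (mul_mem (mul_mem hq hvm) (inv_mem hq))
    have huψ : S.ψ u = 1 := by
      rw [hu, S.ψ_mul _ (inv_mem (mul_mem hx hx)) _ (mul_mem (mul_mem hq hvm) (inv_mem hq)), S.ψ_conj hq hvm,
        S.ψ_inv (mul_mem hx hx), S.ψ_mul _ hx _ hx, hv, S.ψ_mul _ hx _ (mul_mem hy hy), S.ψ_mul _ hy _ hy, hqψ, hxψ,
        hyψ, f5, mul_inv_cancel_right, inv_mul_cancel]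
    have e : q * v * q⁻¹ = (x * x) * u := by rw [hu, mul_inv_cancel_left]
    have hxu : Commute (x * x) u := (S.ker_central hum huψ (mul_mem hx hx)).symm
    have h3 : (q * v * q⁻¹) ^ 3 = 1 := by rw [conj_pow, pow_three', hv3, mul_one, mul_inv_cancel]
    rw [e, hxu.mul_pow] at h3
    have hu9 : u ^ 9 = 1 := by
      have h := congrArg (· ^ 3) h3
      simp only [one_pow] at h
      rw [(hxu.pow_pow 3 3).mul_pow, ← pow_mul, ← pow_mul, show (x * x) ^ (3 * 3) = x ^ 9 * x ^ 9 from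
        (Commute.refl x).mul_pow 9, hx9, one_mul, one_mul] at h
      exact h
    rcases S.ker_nine hum huψ hu9 with e' | e' | e' <;> rw [e'] at h3 <;>
      simp only [one_pow, pow_three', S.p_pow, mul_one, show S.p * S.p * (S.p * S.p) * (S.p * S.p) = 1 by
        rw [show S.p * S.p * (S.p * S.p) * (S.p * S.p) = (S.p * S.p * S.p) * (S.p * S.p * S.p) by group, S.p_pow,
          one_mul]] at h3 <;>
    · have h6 : x * x * x * (x * x * x) = 1 := by
        rw [← h3]; group
      have h9 : x * x * x * (x * x * x) * (x * x * x) = 1 := by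
        rw [← hx9]; simp only [pow_succ, pow_zero, one_mul, mul_assoc]
      rw [h6, one_mul] at h9
      exact h9
  exact ⟨⟨x, y, t, hx, hy, hxψ, hyψ, hx3, hcube ▸ hx3, hyx, htp⟩⟩

end Setting

end Cfsg.Agent.Spor.JFour
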