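import Cfsg.Agent.Lib.Spor.JFourType.Orbit
import Cfsg.Agent.Lib.Spor.JFourType.Mathieu.Hom

/-!
The conjugates of the involution in the elementary abelian group of order 2¹¹ are the 1771 elements outside the
classes of the duads, and the bit deciding the cover is determined.
-/

set_option autoImplicit false
set_option maxRecDepth 100000
set_option linter.style.haveILetI false

open Cfsg Cfsg.Agent.Spor.Golay
open Cfsg.Agent.Spor.Cos.J4Sub (app mm app_mm app_xor app_zero)

namespace Cfsg.Agent.Spor.JFour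

section Sylow

variable {V : Type*} [Group V] [Finite V]

/-- The fixed points of an automorphism. -/
def fixedOf (r : MulAut V) : Subgroup V := MonoidHom.eqLocus r.toMonoidHom (MonoidHom.id V)

omit [Finite V] in
theorem mem_fixedOf {r : MulAut V} {a : V} : a ∈ fixedOf r ↔ r a = a := Iff.rfl

/-- An automorphism of prime order on an invariant subgroup of a group of order 2¹¹. -/
theorem pow_mod {q : ℕ} (hq : q.Prime) {r : MulAut V} (hr : r ^ q = 1) (hV : Nat.card V = 2 ^ 11) (F : Subgroup V)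
    (hF : ∀ x ∈ F, r x ∈ F) : ∃ i l, i ≤ 11 ∧ l ≤ 11 ∧ Nat.card ↥F = 2 ^ i ∧
      Nat.card ↥(F ⊓ fixedOf r) = 2 ^ l ∧ 2 ^ i % q = 2 ^ l % q := by
  classical
  haveI := Fact.mk hq
  haveI := Fintype.ofFinite ↥F
  obtain ⟨i, hi, ei⟩ := (Nat.dvd_prime_pow Nat.prime_two).1 (hV ▸ Subgroup.card_subgroup_dvd_card F)
  obtain ⟨l, hl, el⟩ := (Nat.dvd_prime_pow Nat.prime_two).1 (hV ▸ Subgroup.card_subgroup_dvd_card (F ⊓ fixedOf r))
  refine ⟨i, l, hi, hl, ei, el, ?_⟩
  let σ : Equiv.Perm ↥F := Equiv.ofBijective (fun x => ⟨r x, hF _ x.2⟩)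
    ((Finite.injective_iff_bijective).1 fun a b e => Subtype.ext (r.injective (congrArg Subtype.val e)))
  have hpow : ∀ (n : ℕ) (x : ↥F), ((σ ^ n) x : V) = (r ^ n) x := by
    intro n
    induction n with
    | zero => intro x; rfl
    | succ m ih =>
      intro x
      rw [pow_succ, pow_succ, Equiv.Perm.mul_apply, MulAut.mul_apply, ih]
      rfl
  have hσ : σ ^ q ^ 1 = 1 := Equiv.ext fun x => Subtype.ext (by rw [pow_one, hpow, hr]; rfl)
  have h := Equiv.Perm.card_compl_support_modEq hσ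
  have e : σ.supportᶜ.card = Nat.card ↥(F ⊓ fixedOf r) := by
    rw [← Nat.card_eq_finsetCard]
    refine Nat.card_congr ⟨fun x => ⟨x.1.1, x.1.2, ?_⟩, fun x => ⟨⟨x.1, x.2.1⟩, ?_⟩, fun x => rfl, fun x => rfl⟩
    · have hx := x.2
      rw [Finset.mem_compl, Equiv.Perm.mem_support, not_not] at hx
      exact congrArg Subtype.val hx
    · rw [Finset.mem_compl, Equiv.Perm.mem_support, not_not]
      exact Subtype.ext (mem_fixedOf.1 x.2.2)
  rw [e, el, ← Nat.card_eq_fintype_card, ei] at h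
  exact h.symm

/-- No element of order 241. -/
theorem not_order_241 (hV : Nat.card V = 2 ^ 11) (r : MulAut V) : orderOf r ≠ 241 := by
  intro hr
  obtain ⟨i, l, -, hl, ei, el, hm⟩ := pow_mod (q := 241) (by norm_num) (hr ▸ pow_orderOf_eq_one r) hV ⊤
    fun x _ => Subgroup.mem_top _
  rw [Subgroup.card_top, hV] at ei
  rw [← ei] at hm
  have hl' : l = 11 := by
    revert hm
    interval_cases l <;> norm_num
  have h := Subgroup.eq_top_of_card_eq (fixedOf r) (le_antisymm (Subgroup.card_le_card_group _) (by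
    rw [hV, ← hl', ← el]
    exact Nat.card_le_card_of_injective _ (Subgroup.inclusion_injective inf_le_right)))
  have h1 : r = 1 := MulEquiv.ext fun a => mem_fixedOf.1 (h ▸ Subgroup.mem_top a)
  rw [h1, orderOf_one] at hr
  exact absurd hr (by norm_num)

/-- No group of this order acts. -/
theorem not_card_2047 (hV : Nat.card V = 2 ^ 11) (R : Subgroup (MulAut V)) :
    Nat.card ↥R ≠ 2047 * 138240 := by
  classical
  intro hR
  haveI : Fact (Nat.Prime 89) := ⟨by norm_num⟩
  obtain ⟨r, hr⟩ := exists_prime_orderOf_dvd_card' (G := ↥R) 89 (by rw [hR]; norm_num)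
  have hr0 : orderOf (r : MulAut V) = 89 := by rw [Subgroup.orderOf_coe, hr]
  have hq := hr0 ▸ pow_orderOf_eq_one (r : MulAut V)
  have hnum : ∀ i ≤ 11, 2 ^ i % 89 = 1 → i = 0 ∨ i = 11 := by decide +kernel
  have hfix : ∀ a, (r : MulAut V) a = a → a = 1 := by
    obtain ⟨i, l, -, hl, ei, el, hm⟩ := pow_mod (q := 89) (by norm_num) hq hV ⊤ fun x _ => Subgroup.mem_top _
    rw [Subgroup.card_top, hV] at ei
    rw [← ei] at hm
    rcases hnum l hl (hm.symm.trans (by norm_num)) with rfl | rfl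
    · intro a ha
      have h1 : (⊤ : Subgroup V) ⊓ fixedOf (r : MulAut V) = ⊥ := Subgroup.card_eq_one.1 el
      exact Subgroup.mem_bot.1 (h1 ▸ ⟨Subgroup.mem_top a, ha⟩)
    · have h := Subgroup.eq_top_of_card_eq _ (el.trans hV.symm)
      have h1 : (r : MulAut V) = 1 := MulEquiv.ext fun a => by
        have ha : a ∈ (⊤ : Subgroup V) ⊓ fixedOf (r : MulAut V) := by rw [h]; exact Subgroup.mem_top a
        exact mem_fixedOf.1 ha.2
      rw [h1, orderOf_one] at hr0
      exact absurd hr0 (by norm_num)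
  have hfree : ∀ x : ↥R, x * r = r * x → ∀ a : V, a ≠ 1 → (x : MulAut V) a = a → x = 1 := by
    intro x hx a ha hxa
    have hx' : ∀ b, (x : MulAut V) ((r : MulAut V) b) = (r : MulAut V) ((x : MulAut V) b) := fun b =>
      DFunLike.congr_fun (congrArg Subtype.val hx) b
    obtain ⟨i, l, hi, hl, ei, el, hm⟩ := pow_mod (q := 89) (by norm_num) hq hV (fixedOf (x : MulAut V))
      fun b hb => mem_fixedOf.2 (by rw [hx', mem_fixedOf.1 hb])
    have h1 : fixedOf (x : MulAut V) ⊓ fixedOf (r : MulAut V) = ⊥ := by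
      rw [Subgroup.eq_bot_iff_forall]
      exact fun b hb => hfix b hb.2
    rw [h1, Subgroup.card_bot] at el
    rcases hnum i hi (hm.trans (by rw [← el])) with rfl | rfl
    · exact absurd (Subgroup.mem_bot.1 ((Subgroup.card_eq_one.1 ei) ▸ mem_fixedOf.2 hxa)) ha
    · have h := Subgroup.eq_top_of_card_eq _ (ei.trans hV.symm)
      exact Subtype.ext (MulEquiv.ext fun b => mem_fixedOf.1 (h ▸ Subgroup.mem_top b))
  obtain ⟨a0, ha0⟩ : ∃ a : V, a ≠ 1 := by
    haveI : Nontrivial V := Finite.one_lt_card_iff_nontrivial.1 (by rw [hV]; norm_num)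
    exact exists_ne 1
  set C := Subgroup.centralizer ({r} : Set ↥R) with hC
  set N := Subgroup.normalizer ((Subgroup.zpowers r : Subgroup ↥R) : Set ↥R) with hN
  have hcomm : ∀ x : ↥C, (x : ↥R) * r = r * (x : ↥R) := fun x => Subgroup.mem_centralizer_singleton_iff.1 x.2
  have hle : Nat.card ↥C ≤ 2047 := by
    haveI := Fintype.ofFinite V
    have e : Nat.card {a : V // a ≠ 1} = 2047 := by
      rw [Nat.card_eq_fintype_card, Fintype.card_subtype_compl, Fintype.card_subtype_eq, ← Nat.card_eq_fintype_card,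
        hV]
      norm_num
    rw [← e]
    refine Nat.card_le_card_of_injective
      (fun x : ↥C => (⟨((x : ↥R) : MulAut V) a0, fun e => ha0 ((map_eq_one_iff _ (MulEquiv.injective _)).1 e)⟩ :
        {a : V // a ≠ 1})) fun x y e => ?_
    have e' : ((x : ↥R) : MulAut V) a0 = ((y : ↥R) : MulAut V) a0 := congrArg Subtype.val e
    have h := hfree ((y⁻¹ * x : ↥C) : ↥R) (hcomm _) a0 ha0 (by
      show (((y : ↥R)⁻¹ * (x : ↥R) : ↥R) : MulAut V) a0 = a0
      rw [Subgroup.coe_mul, Subgroup.coe_inv, MulAut.mul_apply, e', MulAut.inv_apply_self])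
    have h' : y⁻¹ * x = 1 := Subtype.ext h
    exact (inv_mul_eq_one.1 h').symm
  have hrC : r ∈ C := Subgroup.mem_centralizer_singleton_iff.2 rfl
  have hdC : 89 ∣ Nat.card ↥C := hr ▸ Subgroup.orderOf_dvd_natCard C hrC
  have hcz : C = Subgroup.centralizer ((Subgroup.zpowers r : Subgroup ↥R) : Set ↥R) := by
    rw [hC, Subgroup.zpowers_eq_closure, Subgroup.centralizer_closure]
  have hCN : C ≤ N := hcz ▸ Subgroup.centralizer_le_normalizer _
  have hidx : (C.subgroupOf N).index ∣ 88 := by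
    rw [hcz, hN, ← Subgroup.normalizerMonoidHom_ker, Subgroup.index_ker]
    refine (Subgroup.card_subgroup_dvd_card _).trans (dvd_of_eq ?_)
    rw [IsCyclic.card_mulAut, Nat.card_zpowers, hr, Nat.totient_prime (by norm_num)]
  have hNc : Nat.card ↥C * (C.subgroupOf N).index = Nat.card ↥N := by
    rw [← Nat.card_congr (Subgroup.subgroupOfEquivOfLe hCN).toEquiv, Subgroup.card_mul_index]
  have hn : N.index % 89 = 1 := by
    let Q : Sylow 89 ↥R := Sylow.ofCard (Subgroup.zpowers r) (by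
      rw [Nat.card_zpowers, hr, hR]
      have h : (2047 * 138240 : ℕ).factorization 89 = 1 := by
        have h1 : 89 ∣ 2047 * 138240 := by norm_num
        have h2 : ¬ 89 ^ 2 ∣ 2047 * 138240 := by norm_num
        have h3 := (Nat.Prime.dvd_iff_one_le_factorization (p := 89) (by norm_num) (by norm_num)).1 h1
        rw [Nat.Prime.pow_dvd_iff_le_factorization (by norm_num) (by norm_num)] at h2
        omega
      rw [h, pow_one])
    have h2 : Nat.card (Sylow 89 ↥R) % 89 = 1 % 89 := card_sylow_modEq_one 89 ↥R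
    rw [Sylow.card_eq_index_normalizer Q] at h2
    exact h2
  obtain ⟨k, hk⟩ := hdC
  have htot := Subgroup.card_mul_index N
  rw [← hNc, hR, hk] at htot
  generalize (C.subgroupOf N).index = e at hidx htot
  generalize N.index = n at hn htot
  have hke : k * e * n = 3179520 := by
    have : 89 * (k * e * n) = 89 * 3179520 := by rw [← mul_assoc, ← mul_assoc, htot]
    omega
  have hk23 : k ≤ 23 := by omega
  have he88 : e ≤ 88 := Nat.le_of_dvd (by norm_num) hidx
  have hkey : ((List.range 24).all fun k => (List.range 89).all fun e =>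
      !(88 % e == 0) || !(3179520 % (k * e) == 0) || !(3179520 / (k * e) % 89 == 1)) = true := by decide +kernel
  have h := List.all_eq_true.1 (List.all_eq_true.1 hkey k (List.mem_range.2 (by omega))) e
    (List.mem_range.2 (by omega))
  have h0 : 0 < k * e := by
    rcases Nat.eq_zero_or_pos (k * e) with h0 | h0
    · rw [h0, zero_mul] at hke; exact absurd hke (by norm_num)
    · exact h0
  have hdiv : 3179520 / (k * e) = n := by rw [← hke, Nat.mul_div_cancel_left _ h0]
  have hmod : 3179520 % (k * e) = 0 := by rw [← hke, Nat.mul_mod_right]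
  simp [Nat.mod_eq_zero_of_dvd, hidx, hmod, hdiv, hn] at h

end Sylow

/-- The sizes of the unions. -/
theorem size_check : orbSize (orbUnion 0 8) = 241 ∧ orbSize (orbUnion 0 31) = 2047 ∧
    orbSize (orbUnion 9 31) = 2047 ∧ orbSize (orbUnion 9 26) = 1771 ∧
    orbUnion 0 3 = 2 ^ 128 - 2 ∧ orbUnion 9 3 = 2 ^ 128 - 2 ∧
    orbUnion 9 26 = (2 ^ 2048 - 2) ^^^ Mathieu.tMask ∧
    ((List.range 64).all fun a => (List.range 64).all fun b => (a == 0) || (b == 0) || (a == b) ||
      (List.range 64).any fun i => !(bv (64 * i) a) && bv (64 * i) b) = true ∧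
    ((List.range 128).all fun c => (List.range 128).all fun d => !(c / 2 == d / 2) || (d == c) || (d == c ^^^ 1)) =
      true := by
  decide +kernel

theorem testBit_block (k v : ℕ) : (2 ^ k - 2).testBit v = true → 1 ≤ v ∧ v < k := by
  intro h
  have h2 : 2 ^ k - 2 < 2 ^ k := by have := Nat.two_pow_pos k; omega
  refine ⟨Nat.one_le_iff_ne_zero.2 fun e => ?_, Nat.lt_of_not_le fun hle => ?_⟩
  · subst e
    rw [Nat.testBit_zero, decide_eq_true_eq] at h
    rcases k with _ | k
    · simp at h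
    · have := pow_succ 2 k; have := Nat.two_pow_pos k; omega
  · rw [Nat.testBit_lt_two_pow (h2.trans_le (Nat.pow_le_pow_right (by norm_num) hle))] at h
    exact Bool.noConfusion h

theorem block_testBit {k v : ℕ} (h1 : 1 ≤ v) (h2 : v < k) : (2 ^ k - 2).testBit v = true := by
  obtain ⟨m, rfl⟩ : ∃ m, k = m + 1 := ⟨k - 1, by omega⟩
  obtain ⟨w, rfl⟩ : ∃ w, v = w + 1 := ⟨v - 1, by omega⟩
  rw [show (2 : ℕ) ^ (m + 1) - 2 = 2 * (2 ^ m - 1) by rw [pow_succ]; omega, Nat.testBit_succ,
    Nat.mul_div_cancel_left _ (by norm_num), Nat.testBit_two_pow_sub_one]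
  exact decide_eq_true (by omega)

namespace Frame

variable {G : Type*} [Group G] {z : G} {P : Subgroup G} {S : Setting z P} (Fr : Frame S) [Finite G]

/-- An element of the core acts by a transvection. -/
theorem trans_conj {i c : ℕ} (hi : i < 64) (hc : c < 128) :
    Fr.F.lh (64 * i) * Fr.Av c * (Fr.F.lh (64 * i))⁻¹ = Fr.Av c * zp z (bv (64 * i) (c / 2)) := by
  obtain ⟨hmE, hmr, -⟩ := Fr.F.toCoord.lh_spec (64 * i)
  obtain ⟨hlE, hlr, -⟩ := Fr.F.toCoord.lh_spec (c / 2)
  have hcz : ∀ e, Fr.F.lh (64 * i) * zp z e = zp z e * Fr.F.lh (64 * i) := fun e => Fr.zp_lh e _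
  have e : Fr.Av c = zp z (c.testBit 0) * Fr.F.lh (c / 2) := by
    rw [Av, show c / 128 = 0 by omega, show c / 2 % 64 = c / 2 by omega, Fr.X.b_zero, mul_one]
  have h := Fr.F.toCoord.core_comm hmE hlE (show 64 * i < 4096 by omega) (show c / 2 < 4096 by omega) hmr hlr
  rw [e, mul_inv_eq_iff_eq_mul]
  calc Fr.F.lh (64 * i) * (zp z (c.testBit 0) * Fr.F.lh (c / 2))
      = zp z (c.testBit 0) * (Fr.F.lh (64 * i) * Fr.F.lh (c / 2)) := by rw [← mul_assoc, hcz, mul_assoc]
    _ = zp z (c.testBit 0) * Fr.F.lh (c / 2) * (Fr.F.lh (64 * i) * zp z (bv (64 * i) (c / 2))) := by rw [h]; group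
    _ = _ := by rw [hcz]; group

/-- The conjugates do not form the smallest union. -/
theorem not_low (hm : ∀ v < 2048, (Fr.InO v ↔ (2 ^ 128 - 2 : ℕ).testBit v = true))
    (hN : ∀ g : G, g * z * g⁻¹ ∈ Fr.A → ∃ n ∈ Subgroup.normalizer (Fr.A : Set G), n * z * n⁻¹ = g * z * g⁻¹) :
    False := by
  classical
  set N := Subgroup.normalizer (Fr.A : Set G) with hNdef
  have hO : ∀ {g : G} {a : ℕ}, a < 2048 → g * z * g⁻¹ = Fr.Av a → 1 ≤ a ∧ a < 128 := fun ha e =>
    testBit_block _ _ ((hm _ ha).1 ⟨_, e⟩)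
  have himg : ∀ {g : G}, g ∈ N → ∀ {v : ℕ}, 1 ≤ v → v < 128 →
      ∃ w, 1 ≤ w ∧ w < 128 ∧ g * Fr.Av v * g⁻¹ = Fr.Av w := by
    intro g hg v hv1 hv2
    obtain ⟨k, hk⟩ := (hm v (by omega)).2 (block_testBit hv1 hv2)
    obtain ⟨w, hw, ew⟩ := Fr.mem_A.1 ((Subgroup.mem_normalizer_iff.1 hg _).1 (Fr.Av_mem (show v < 2048 by omega)))
    have h := hO hw (g := g * k) (by rw [ew, ← hk]; group)
    exact ⟨w, h.1, h.2, ew.symm⟩
  have hstep : ∀ v1 v2, 2 ≤ v1 → v1 < 128 → 2 ≤ v2 → v2 < 128 → v1 ^^^ v2 ≠ 0 → v1 ^^^ v2 ≠ 1 →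
      ∃ g ∈ N, g * z = z * g ∧ g * Fr.Av v1 * g⁻¹ = Fr.Av v2 := by
    intro v1 v2 h1 h1' h2 h2' hx0 hx1
    set u := v1 ^^^ v2 with hu
    have hu128 : u < 128 := Nat.xor_lt_two_pow (n := 7) h1' h2'
    obtain ⟨k, hk⟩ := (hm u (by omega)).2 (block_testBit (by omega) hu128)
    obtain ⟨n, hn, en⟩ := hN k (hk ▸ Fr.Av_mem (by omega))
    rw [hk] at en
    obtain ⟨c, hc1, hc2, ec⟩ := himg (inv_mem hn) (v := 1) le_rfl (by norm_num)
    obtain ⟨d, hd1, hd2, ed⟩ := himg (inv_mem hn) (v := v1) (by omega) h1'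
    rw [inv_inv] at ec ed
    rw [Fr.Av_one] at ec
    have eu : n⁻¹ * Fr.Av u * n = z := by rw [← en]; group
    have hv12 : u ^^^ v1 = v2 := by rw [hu, Nat.xor_comm v1, Nat.xor_assoc, Nat.xor_self, Nat.xor_zero]
    have hc : c ≠ 1 := fun e => by
      rw [e, Fr.Av_one] at ec
      refine hx1 (Fr.Av_inj (by omega) (by norm_num) ?_)
      rw [Fr.Av_one, ← en]
      calc n * z * n⁻¹ = n * (n⁻¹ * z * n) * n⁻¹ := by rw [ec]
        _ = z := by group
    have hd : d ≠ 1 := fun e => by
      rw [e, Fr.Av_one] at ed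
      have h := Fr.Av_inj (show v1 < 2048 by omega) (show u < 2048 by omega) (by
        rw [← en]
        calc Fr.Av v1 = n * (n⁻¹ * Fr.Av v1 * n) * n⁻¹ := by group
          _ = n * z * n⁻¹ := by rw [ed])
      rw [← h, Nat.xor_self] at hv12
      omega
    have hdc : d ≠ c := fun e => by
      have h := Fr.Av_inj (show v1 < 2048 by omega) (show 1 < 2048 by norm_num) (by
        rw [Fr.Av_one]
        calc Fr.Av v1 = n * (n⁻¹ * Fr.Av v1 * n) * n⁻¹ := by group
          _ = n * (n⁻¹ * z * n) * n⁻¹ := by rw [ed, e, ec]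
          _ = z := by group)
      omega
    have hdc1 : d ≠ c ^^^ 1 := fun e => by
      have h := Fr.Av_inj (show v1 < 2048 by omega) (Nat.xor_lt_two_pow (n := 11) (show 1 < 2048 by norm_num)
        (show u < 2048 by omega)) (by
        rw [← Fr.Av_mul (by norm_num) (by omega), Fr.Av_one, ← en]
        calc Fr.Av v1 = n * (n⁻¹ * Fr.Av v1 * n) * n⁻¹ := by group
          _ = n * ((n⁻¹ * z * n) * z) * n⁻¹ := by
              rw [ed, e, ec, ← Fr.Av_mul (show c < 2048 by omega) (show 1 < 2048 by norm_num), Fr.Av_one]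
          _ = _ := by group)
      rw [Nat.xor_comm, hu, Nat.xor_assoc] at h
      have h' := congrArg (v1 ^^^ ·) h
      simp only [Nat.xor_self, ← Nat.xor_assoc, Nat.zero_xor] at h'
      have : v2 ^^^ 1 = 0 := h'.symm
      have : v2 = 1 := by
        have h'' := congrArg (· ^^^ 1) this
        simpa [Nat.xor_assoc] using h''
      omega
    have hab : c / 2 ≠ d / 2 := fun e => by
      have h := List.all_eq_true.1 (List.all_eq_true.1 size_check.2.2.2.2.2.2.2.2 c (List.mem_range.2 hc2)) d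
        (List.mem_range.2 hd2)
      simp [e, hdc, hdc1] at h
    have h := List.all_eq_true.1 (List.all_eq_true.1 size_check.2.2.2.2.2.2.2.1 (c / 2)
      (List.mem_range.2 (by omega))) (d / 2) (List.mem_range.2 (by omega))
    simp only [Bool.or_eq_true, beq_iff_eq, List.any_eq_true, List.mem_range, Bool.and_eq_true,
      Bool.not_eq_true'] at h
    obtain ⟨i, hi, hia, hib⟩ := h.resolve_left (by rintro ((h0 | h0) | h0) <;> omega)
    have ea := Fr.trans_conj hi hc2
    have eb := Fr.trans_conj hi hd2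
    set m := Fr.F.lh (64 * i) with hmdef
    have hmE : m ∈ twoCoreOfCentralizer z := (Fr.F.toCoord.lh_spec _).1
    rw [hia, ← ec] at ea
    rw [hib, ← ed] at eb
    simp only [zp, Bool.false_eq_true, if_false, if_true, mul_one] at ea eb
    refine ⟨n * m * n⁻¹, mul_mem (mul_mem hn (Fr.core_mem_normalizer hmE)) (inv_mem hn), ?_, ?_⟩
    · calc n * m * n⁻¹ * z = n * (m * (n⁻¹ * z * n) * m⁻¹) * m * n⁻¹ := by group
        _ = n * (n⁻¹ * z * n) * m * n⁻¹ := by rw [ea]
        _ = _ := by group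
    · calc n * m * n⁻¹ * Fr.Av v1 * (n * m * n⁻¹)⁻¹ = n * (m * (n⁻¹ * Fr.Av v1 * n) * m⁻¹) * n⁻¹ := by group
        _ = n * (n⁻¹ * Fr.Av v1 * n * z) * n⁻¹ := by rw [eb]
        _ = Fr.Av v1 * (n * z * n⁻¹) := by group
        _ = Fr.Av v2 := by
            rw [en, Fr.Av_mul (by omega) (by omega), Nat.xor_comm, hv12]
  -- the orbit of a second element
  set M := N ⊓ Subgroup.centralizer ({z} : Set G) with hM
  have hmemM : ∀ {g : G}, g ∈ M ↔ g ∈ N ∧ g * z = z * g := fun {g} => by
    rw [hM, Subgroup.mem_inf, Subgroup.mem_centralizer_singleton_iff]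
  have horb : Nat.card {x : G // ∃ n ∈ M, n * Fr.Av 2 * n⁻¹ = x} = 126 := by
    rw [← Nat.card_fin 126]
    refine (Nat.card_eq_of_bijective (fun i : Fin 126 =>
      (⟨Fr.Av (i.1 + 2), ?_⟩ : {x : G // ∃ n ∈ M, n * Fr.Av 2 * n⁻¹ = x})) ⟨?_, ?_⟩).symm
    · have hi := i.2
      by_cases h0 : i.1 = 0
      · exact ⟨1, one_mem _, by rw [h0]; group⟩
      by_cases h1 : i.1 = 1
      · obtain ⟨g1, g1N, g1z, e1⟩ := hstep 2 4 (by norm_num) (by norm_num) (by norm_num) (by norm_num)
          (by decide) (by decide)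
        obtain ⟨g2, g2N, g2z, e2⟩ := hstep 4 3 (by norm_num) (by norm_num) (by norm_num) (by norm_num)
          (by decide) (by decide)
        refine ⟨g2 * g1, mul_mem (hmemM.2 ⟨g2N, g2z⟩) (hmemM.2 ⟨g1N, g1z⟩), ?_⟩
        rw [h1, ← e2, ← e1]
        group
      obtain ⟨g, gN, gz, e⟩ := hstep 2 (i.1 + 2) (by norm_num) (by norm_num) (by omega) (by omega)
        (fun e => by
          have := congrArg (2 ^^^ ·) e
          simp [← Nat.xor_assoc] at this
          omega)
        (fun e => by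
          have := congrArg (2 ^^^ ·) e
          simp [← Nat.xor_assoc] at this
          omega)
      exact ⟨g, hmemM.2 ⟨gN, gz⟩, e⟩
    · intro i j e
      have := Fr.Av_inj (show i.1 + 2 < 2048 by omega) (show j.1 + 2 < 2048 by omega) (congrArg Subtype.val e)
      exact Fin.ext (by omega)
    · rintro ⟨x, n, hn, e⟩
      obtain ⟨hnN, hnz⟩ := hmemM.1 hn
      obtain ⟨w, hw1, hw2, ew⟩ := himg hnN (v := 2) (by norm_num) (by norm_num)
      have hw : w ≠ 1 := fun h => by
        rw [h, Fr.Av_one] at ew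
        have h2 : Fr.Av 2 = Fr.Av 1 := by
          rw [Fr.Av_one]
          calc Fr.Av 2 = n⁻¹ * (n * Fr.Av 2 * n⁻¹) * n := by group
            _ = z := by rw [ew, mul_assoc, ← hnz, inv_mul_cancel_left]
        exact absurd (Fr.Av_inj (by norm_num) (by norm_num) h2) (by norm_num)
      refine ⟨⟨w - 2, by omega⟩, Subtype.ext ?_⟩
      show Fr.Av (w - 2 + 2) = x
      rw [show w - 2 + 2 = w by omega, ← ew, e]
  have h := card_conj_orbit M (Fr.Av 2)
  rw [horb, hM, Fr.card_normalizer_H] at h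
  have : 7 ∣ 2 ^ 11 * 138240 := h ▸ (by norm_num : 7 ∣ 126).mul_right _
  norm_num at this

/-- The image of the normaliser in the automorphisms of the group. -/
theorem card_range_normalizer :
    Nat.card ↥(Fr.A.normalizerMonoidHom).range * 2 ^ 11 = Nat.card ↥(Subgroup.normalizer (Fr.A : Set G)) := by
  set φ := Fr.A.normalizerMonoidHom with hφ
  have hker : Nat.card ↥φ.ker = 2 ^ 11 := by
    rw [hφ, Subgroup.normalizerMonoidHom_ker, ← Fr.card_A]
    have hC : Subgroup.centralizer (Fr.A : Set G) = Fr.A := le_antisymm Fr.centralizer_A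
      fun a ha => Subgroup.mem_centralizer_iff.2 fun b hb => Fr.A_comm b hb a ha
    rw [hC]
    exact Nat.card_congr (Subgroup.subgroupOfEquivOfLe Subgroup.le_normalizer).toEquiv
  rw [← hker, ← Subgroup.index_ker, mul_comm, Subgroup.card_mul_index]

variable [IsSimpleGroup G]

/-- The bit and the conjugates of the involution. -/
theorem fusion_main (hG : ¬ IsMulCommutative G) : Fr.χ = 9 ∧
    (∀ v < 2048, (Fr.InO v ↔ (v ≠ 0 ∧ Mathieu.tMask.testBit v = false))) ∧
    Nat.card ↥(Subgroup.normalizer (Fr.A : Set G)) = 2 ^ 11 * 244823040 := by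
  obtain ⟨s, hs, hs0, hm⟩ := Fr.exists_candidate hG
  have hcard := Fr.card_normalizer_of_union hm
  have h2047 : orbSize (orbUnion Fr.χ s) ≠ 2047 := fun e => by
    refine not_card_2047 (V := ↥Fr.A) Fr.card_A (Fr.A.normalizerMonoidHom).range ?_
    have h := Fr.card_range_normalizer
    rw [hcard, e] at h
    omega
  have h241 : orbSize (orbUnion Fr.χ s) ≠ 241 := fun e => by
    haveI : Fact (Nat.Prime 241) := ⟨by norm_num⟩
    have h := Fr.card_range_normalizer
    rw [hcard, e] at h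
    obtain ⟨r, hr⟩ := exists_prime_orderOf_dvd_card' (G := ↥(Fr.A.normalizerMonoidHom).range) 241
      ⟨138240, by omega⟩
    exact not_order_241 (V := ↥Fr.A) Fr.card_A r (by rw [Subgroup.orderOf_coe, hr])
  have hnot3 : orbUnion Fr.χ s ≠ 2 ^ 128 - 2 := fun e => Fr.not_low (fun v hv => e ▸ hm v hv)
    (fun g hg => Fr.conj_in_normalizer hg)
  rcases Fr.χ_cases with hχ | hχ <;> rw [hχ] at hs hm hcard h2047 h241 hnot3 <;>
    simp only [orbCands, List.mem_cons, List.not_mem_nil, or_false] at hs <;> rcases hs with rfl | rfl | rfl | rfl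
  · exact absurd rfl hs0
  · exact absurd size_check.2.2.2.2.1 hnot3
  · exact absurd size_check.1 h241
  · exact absurd size_check.2.1 h2047
  · exact absurd rfl hs0
  · exact absurd size_check.2.2.2.2.2.1 hnot3
  · refine ⟨hχ, fun v hv => ?_, by rw [hcard, size_check.2.2.2.1]; norm_num⟩
    rw [hm v hv, size_check.2.2.2.2.2.2.1, Nat.testBit_xor]
    rcases Nat.eq_zero_or_pos v with rfl | hv0
    · simp only [Mathieu.mask_check.2.2.2, ne_eq, not_true_eq_false, false_and, iff_false]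
      intro h
      exact absurd (testBit_block _ 0 (by simpa using h)).1 (by norm_num)
    · rw [block_testBit hv0 hv]
      simp [hv0.ne']
  · exact absurd size_check.2.2.1 h2047

/-- The bit deciding the cover. -/
theorem χ_nine (hG : ¬ IsMulCommutative G) : Fr.χ = 9 := (Fr.fusion_main hG).1

/-- The conjugates of the involution in the elementary abelian group. -/
theorem inO_iff (hG : ¬ IsMulCommutative G) {v : ℕ} (hv : v < 2048) :
    Fr.InO v ↔ v ≠ 0 ∧ Mathieu.tMask.testBit v = false := (Fr.fusion_main hG).2.1 v hv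

/-- The order of the normaliser of the elementary abelian group. -/
theorem card_normalizer (hG : ¬ IsMulCommutative G) :
    Nat.card ↥(Subgroup.normalizer (Fr.A : Set G)) = 2 ^ 11 * 244823040 := (Fr.fusion_main hG).2.2

/-- The classes of the duads are preserved. -/
theorem duad_of_fusion (hG : ¬ IsMulCommutative G) : ∀ n ∈ Subgroup.normalizer (Fr.A : Set G), ∀ v < 2048,
    Mathieu.tMask.testBit v = true → ∃ w < 2048, Mathieu.tMask.testBit w = true ∧ n * Fr.Av v * n⁻¹ = Fr.Av w := by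
  intro n hn v hv ht
  obtain ⟨w, hw, ew⟩ := Fr.mem_A.1 ((Subgroup.mem_normalizer_iff.1 hn _).1 (Fr.Av_mem hv))
  refine ⟨w, hw, ?_, ew.symm⟩
  by_contra hwt
  rw [Bool.not_eq_true] at hwt
  have hw0 : w ≠ 0 := fun e => by
    rw [e, Fr.Av_zero, eq_comm, mul_inv_eq_one, mul_eq_left, ← Fr.Av_zero] at ew
    rw [Fr.Av_inj hv (by norm_num) ew, Mathieu.mask_check.2.2.2] at ht
    exact Bool.noConfusion ht
  obtain ⟨k, ek⟩ := (Fr.inO_iff hG hw).2 ⟨hw0, hwt⟩
  have h := ((Fr.inO_iff hG hv).1 ⟨n⁻¹ * k, by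
    rw [show n⁻¹ * k * z * (n⁻¹ * k)⁻¹ = n⁻¹ * (k * z * k⁻¹) * n by group, ek, ew]
    group⟩).2
  rw [ht] at h
  exact Bool.noConfusion h

/-- The hypotheses on the elementary abelian group hold. -/
theorem duadic (hG : ¬ IsMulCommutative G) : Fr.Duadic :=
  ⟨Fr.centralizer_A, Fr.duad_of_fusion hG, Fr.card_normalizer hG⟩

end Frame

end Cfsg.Agent.Spor.JFour
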