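import Cfsg.Agent.Lib.Spor.JFourType.Fusion

/-!
Conjugates of the involution inducing outer automorphisms do not suffice: the involution is conjugate to another
element of the elementary abelian group of order 2¹¹.
-/

set_option autoImplicit false
set_option maxRecDepth 100000
set_option linter.style.haveILetI false

open Cfsg Cfsg.Agent.Spor.Golay
open Cfsg.Agent.Spor.Cos.J4Sub (app mm app_mm app_xor app_zero)

namespace Cfsg.Agent.Spor.JFour

variable {G : Type*} [Group G] {z : G} {P : Subgroup G} {S : Setting z P}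

theorem T_fpf_check : ((List.range 4096).all fun a => (a == 0) ||
    (app mT a != app mT2 a && app mT2 a != app mT a)) = true := by decide +kernel

theorem inner_index (S : Setting z P) {x y : G} (hx : x * z = z * x) (hy : y * z = z * y) (hxi : x ∉ innerH z P)
    (hyi : y ∉ innerH z P) : x * y⁻¹ ∈ innerH z P := by
  have h1 := (S.inner_cases hx).resolve_left hxi
  have h2 := (S.inner_cases hy).resolve_left hyi
  have := mul_mem h1 (inv_mem h2)
  rwa [show x * S.o⁻¹ * (y * S.o⁻¹)⁻¹ = x * y⁻¹ by group] at this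

theorem inner_mul_iff (S : Setting z P) {x y : G} (hx : x * z = z * x) (hy : y * z = z * y) (hxi : x ∉ innerH z P)
    (hyi : y ∉ innerH z P) : x * y ∈ innerH z P := by
  have hyi' : y⁻¹ ∉ innerH z P := fun h => hyi (by simpa using inv_mem h)
  have := inner_index S hx (conj_inv_comm hy) hxi hyi'
  rwa [inv_inv] at this

theorem inner_conj (S : Setting z P) {h x : G} (hh : h * z = z * h) (hx : x ∈ innerH z P) :
    h * x * h⁻¹ ∈ innerH z P := by
  have hxz := Subgroup.mem_centralizer_singleton_iff.1 (S.inner_le hx)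
  by_cases hi : h ∈ innerH z P
  · exact mul_mem (mul_mem hi hx) (inv_mem hi)
  by_contra hcon
  have hc : (h * x * h⁻¹) * z = z * (h * x * h⁻¹) :=
    (((show Commute h z from hh).mul_left hxz).mul_left (show Commute h z from hh).inv_left).eq
  have h1 := inner_mul_iff S hc hh hcon hi
  rw [inv_mul_cancel_right] at h1
  exact hi (by simpa using mul_mem h1 (inv_mem hx))

namespace Frame

variable (Fr : Frame S) [Finite G]

/-- An outer involution of the centraliser moves many vectors with singular commutator. -/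
theorem exists_three_vectors {v : G} {M : List ℕ} (hr : Fr.F.Rep v M) (hv2 : v * v = 1) (hout : v ∉ innerH z P) :
    ∃ u1 u2 u3, u1 < 4096 ∧ u2 < 4096 ∧ u3 < 4096 ∧ app M u1 ≠ u1 ∧ app M u2 ≠ u2 ∧ app M u3 ≠ u3 ∧
      app M (u1 ^^^ u2) ≠ u1 ^^^ u2 ∧ app M (u1 ^^^ u3) ≠ u1 ^^^ u3 ∧ app M (u2 ^^^ u3) ≠ u2 ^^^ u3 ∧
      app M (u1 ^^^ (u2 ^^^ u3)) ≠ u1 ^^^ (u2 ^^^ u3) ∧
      qv (u1 ^^^ app M u1) = false ∧ qv (u2 ^^^ app M u2) = false ∧ qv (u3 ^^^ app M u3) = false ∧
      qv (u1 ^^^ u2 ^^^ app M (u1 ^^^ u2)) = false ∧ qv (u1 ^^^ u3 ^^^ app M (u1 ^^^ u3)) = false ∧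
      qv (u2 ^^^ u3 ^^^ app M (u2 ^^^ u3)) = false ∧
      qv (u1 ^^^ (u2 ^^^ u3) ^^^ app M (u1 ^^^ (u2 ^^^ u3))) = false := by
  classical
  have hC := Fr.F.toCoord
  have hMM := Fr.F.toCoord.rep_sq_one hr hv2
  have hinv : ∀ a < 4096, app M (app M a) = a := fun a ha => by rw [← app_mm, hMM, app_mI ha]
  -- the commutation with the scalar
  have hMT : mm M mT = mm mT2 M := by
    obtain ⟨N, hN⟩ := Fr.F.toCoord.exists_rep (show v * S.o⁻¹ * z = z * (v * S.o⁻¹) from
      ((show Commute v z from hr.hz).mul_left (show Commute S.o z from S.oz).inv_left).eq)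
    obtain ⟨O, hO⟩ := Fr.F.toCoord.exists_rep S.oz
    obtain ⟨c, hc, m, hm, e⟩ := S.mem_inner.1 ((S.inner_cases hr.hz).resolve_left hout)
    obtain ⟨Mc, hMc⟩ := Fr.F.toCoord.exists_rep (S.commz hc)
    have hN' : N = Mc := by
      refine Fr.F.toCoord.rep_unique hN ?_
      have := Fr.F.toCoord.rep_mul hMc (Fr.F.toCoord.rep_E hm)
      rw [← e] at this
      convert this using 1
      exact (List.ext_getElem (by rw [okMat_length (okMat_mm hMc.ok okMat_mI), okMat_length hMc.ok]) fun i h1 h2 => by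
        have hi : i < 12 := by rwa [okMat_length hMc.ok] at h2
        rw [← List.getD_eq_getElem _ 0 h1, ← List.getD_eq_getElem _ 0 h2, getD_app (okMat_mm hMc.ok okMat_mI) hi,
          getD_app hMc.ok hi, app_mm, app_mI (Nat.pow_lt_pow_right (by norm_num) hi)]).symm
    have hcomm : mm N mT = mm mT N := hN' ▸ Fr.F.toCoord.comm_T hc hMc
    have hMN : M = mm N O := Fr.F.toCoord.rep_unique hr (by
      have := Fr.F.toCoord.rep_mul hN hO
      rwa [inv_mul_cancel_right] at this)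
    rw [hMN, mm_assoc, Fr.F.toCoord.o_T hO, ← mm_assoc, ← tr_check.2.2.2.2, ← mm_assoc N mT mT, hcomm, mm_assoc mT N,
      hcomm, ← mm_assoc mT mT, mm_assoc (mm mT mT)]
  let C0 := (Finset.range 4096).filter fun a => app M a = a
  have hCx : ∀ a ∈ C0, ∀ b ∈ C0, a ^^^ b ∈ C0 := fun a ha b hb => by
    simp only [C0, Finset.mem_filter, Finset.mem_range] at ha hb ⊢
    exact ⟨Nat.xor_lt_two_pow (n := 12) ha.1 hb.1, by rw [app_xor, ha.2, hb.2]⟩
  have hTlt : ∀ a, app mT a < 4096 := app_lt_of_ok (by decide +kernel)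
  have hC64 : C0.card ≤ 64 := by
    have hinj : (C0 ×ˢ C0).card ≤ (Finset.range 4096).card := by
      refine Finset.card_le_card_of_injOn (fun p => p.1 ^^^ app mT p.2) (fun p hp => ?_) ?_
      · simp only [Finset.coe_product, Set.mem_prod, SetLike.mem_coe, C0, Finset.mem_filter, Finset.mem_range] at hp ⊢
        exact Nat.xor_lt_two_pow (n := 12) hp.1.1 (hTlt _)
      · intro p hp q hq e
        simp only [Finset.coe_product, Set.mem_prod, SetLike.mem_coe] at hp hq
        have hd := hCx _ hp.1 _ hq.1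
        have hd2 := hCx _ hp.2 _ hq.2
        have e2 : p.1 ^^^ q.1 = app mT (p.2 ^^^ q.2) := by
          rw [app_xor]
          apply Nat.eq_of_testBit_eq
          intro k
          have := congrArg (fun x => Nat.testBit x k) e
          simp only [Nat.testBit_xor] at this ⊢
          revert this
          cases p.1.testBit k <;> cases q.1.testBit k <;> cases (app mT p.2).testBit k <;>
            cases (app mT q.2).testBit k <;> simp
        simp only [C0, Finset.mem_filter, Finset.mem_range] at hd hd2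
        have h1 : app mT (p.2 ^^^ q.2) = app mT2 (p.2 ^^^ q.2) := by
          conv_lhs => rw [← e2, ← hd.2, e2, ← app_mm, hMT, app_mm, hd2.2]
        have h0 : p.2 ^^^ q.2 = 0 := by
          have h := List.all_eq_true.1 T_fpf_check _ (List.mem_range.2 hd2.1)
          simp only [Bool.or_eq_true, beq_iff_eq, Bool.and_eq_true, bne_iff_ne] at h
          exact h.resolve_right fun hh => hh.1 h1
        rw [h0, app_zero] at e2
        have x0 : ∀ a b : ℕ, a ^^^ b = 0 → a = b := fun a b h => by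
          have := congrArg (a ^^^ ·) h
          simpa [← Nat.xor_assoc] using this.symm
        exact Prod.ext (x0 _ _ e2) (x0 _ _ h0)
    rw [Finset.card_product, Finset.card_range] at hinj
    nlinarith
  let K := (Finset.range 4096).filter fun a => qv (a ^^^ app M a) = false
  -- the defect is additive
  have hadd : ∀ a < 4096, ∀ b < 4096, qv (a ^^^ b ^^^ app M (a ^^^ b)) =
      xor (qv (a ^^^ app M a)) (qv (b ^^^ app M b)) := by
    intro a ha b hb
    have hla := app_lt_of_ok hr.ok a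
    have hlb := app_lt_of_ok hr.ok b
    have e : a ^^^ b ^^^ app M (a ^^^ b) = (a ^^^ app M a) ^^^ (b ^^^ app M b) := by
      rw [app_xor]
      apply Nat.eq_of_testBit_eq
      intro k
      simp only [Nat.testBit_xor]
      cases a.testBit k <;> cases b.testBit k <;> cases (app M a).testBit k <;> cases (app M b).testBit k <;> rfl
    have hbv : bv (a ^^^ app M a) (b ^^^ app M b) = false := by
      rw [Fr.F.toCoord.bv_xor ha hla (Nat.xor_lt_two_pow (n := 12) hb hlb), Fr.F.toCoord.bv_xor_right hb hlb ha,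
        Fr.F.toCoord.bv_xor_right hb hlb hla, Fr.F.toCoord.bv_iso hr ha hb,
        show bv (app M a) b = bv a (app M b) by
          conv_lhs => rw [← hinv b hb]
          exact Fr.F.toCoord.bv_iso hr ha hlb]
      cases bv a b <;> cases bv a (app M b) <;> rfl
    rw [e]
    unfold bv at hbv
    revert hbv
    cases qv ((a ^^^ app M a) ^^^ (b ^^^ app M b)) <;> cases qv (a ^^^ app M a) <;> cases qv (b ^^^ app M b) <;> simp
  have hK : 2048 ≤ K.card := by
    by_cases hall : ∀ a < 4096, qv (a ^^^ app M a) = false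
    · rw [show K = Finset.range 4096 from Finset.filter_true_of_mem fun a ha => hall a (Finset.mem_range.1 ha),
        Finset.card_range]
      norm_num
    push Not at hall
    obtain ⟨a0, ha0, hq0⟩ := hall
    have hcov : Finset.range 4096 ⊆ K ∪ K.image (fun a => a ^^^ a0) := by
      intro a ha
      have ha' := Finset.mem_range.1 ha
      by_cases hqa : qv (a ^^^ app M a) = false
      · exact Finset.mem_union_left _ (Finset.mem_filter.2 ⟨ha, hqa⟩)
      · refine Finset.mem_union_right _ (Finset.mem_image.2 ⟨a ^^^ a0, Finset.mem_filter.2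
          ⟨Finset.mem_range.2 (Nat.xor_lt_two_pow (n := 12) ha' ha0), ?_⟩, by rw [Nat.xor_assoc, Nat.xor_self, Nat.xor_zero]⟩)
        rw [hadd a ha' a0 ha0]
        simp only [Bool.not_eq_false] at hqa hq0
        rw [hqa, hq0]; rfl
    have h1 := Finset.card_le_card hcov
    have h2 := Finset.card_union_le K (K.image fun a => a ^^^ a0)
    have h3 := Finset.card_image_le (s := K) (f := fun a => a ^^^ a0)
    rw [Finset.card_range] at h1
    omega
  have hpick : ∀ A : Finset ℕ, A.card ≤ 256 → ∃ u ∈ K, u ∉ A := by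
    intro A hA
    by_contra hcon
    push Not at hcon
    have := Finset.card_le_card (show K ⊆ A from hcon)
    omega
  have himg : ∀ a : ℕ, (C0.image fun x => x ^^^ a).card ≤ 64 := fun a => le_trans Finset.card_image_le hC64
  obtain ⟨u1, h1K, h1⟩ := hpick C0 (by omega)
  obtain ⟨u2, h2K, h2⟩ := hpick (C0 ∪ C0.image fun x => x ^^^ u1) (by
    have := Finset.card_union_le C0 (C0.image fun x => x ^^^ u1); have := himg u1; omega)
  obtain ⟨u3, h3K, h3⟩ := hpick ((C0 ∪ C0.image fun x => x ^^^ u1) ∪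
      ((C0.image fun x => x ^^^ u2) ∪ C0.image fun x => x ^^^ (u1 ^^^ u2))) (by
    have a1 := Finset.card_union_le C0 (C0.image fun x => x ^^^ u1)
    have a2 := Finset.card_union_le (C0.image fun x => x ^^^ u2) (C0.image fun x => x ^^^ (u1 ^^^ u2))
    have a3 := Finset.card_union_le (C0 ∪ C0.image fun x => x ^^^ u1)
      ((C0.image fun x => x ^^^ u2) ∪ C0.image fun x => x ^^^ (u1 ^^^ u2))
    have := himg u1; have := himg u2; have := himg (u1 ^^^ u2)
    omega)
  simp only [K, Finset.mem_filter, Finset.mem_range] at h1K h2K h3K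
  simp only [Finset.mem_union, Finset.mem_image, not_or, not_exists, not_and] at h2 h3
  obtain ⟨⟨h30, h31⟩, h32, h33⟩ := h3
  have memC : ∀ a < 4096, app M a = a → a ∈ C0 := fun a ha e => Finset.mem_filter.2 ⟨Finset.mem_range.2 ha, e⟩
  have x2 : ∀ a b : ℕ, a ^^^ b ^^^ a = b := fun a b => by
    rw [Nat.xor_comm a b, Nat.xor_assoc, Nat.xor_self, Nat.xor_zero]
  have l12 := Nat.xor_lt_two_pow (n := 12) h1K.1 h2K.1
  have l13 := Nat.xor_lt_two_pow (n := 12) h1K.1 h3K.1
  have l23 := Nat.xor_lt_two_pow (n := 12) h2K.1 h3K.1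
  refine ⟨u1, u2, u3, h1K.1, h2K.1, h3K.1, fun e => h1 (memC _ h1K.1 e), fun e => h2.1 (memC _ h2K.1 e),
    fun e => h30 (memC _ h3K.1 e), fun e => h2.2 _ (memC _ l12 e) (x2 _ _),
    fun e => h31 _ (memC _ l13 e) (x2 _ _), fun e => h32 _ (memC _ l23 e) (x2 _ _),
    fun e => h33 _ (memC _ (Nat.xor_lt_two_pow (n := 12) h1K.1 l23) e) ?_,
    h1K.2, h2K.2, h3K.2, ?_, ?_, ?_, ?_⟩
  · apply Nat.eq_of_testBit_eq
    intro k
    simp only [Nat.testBit_xor]
    cases u1.testBit k <;> cases u2.testBit k <;> cases u3.testBit k <;> rfl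
  · rw [hadd _ h1K.1 _ h2K.1, h1K.2, h2K.2]; rfl
  · rw [hadd _ h1K.1 _ h3K.1, h1K.2, h3K.2]; rfl
  · rw [hadd _ h2K.1 _ h3K.1, h2K.2, h3K.2]; rfl
  · rw [hadd _ h1K.1 _ l23, h1K.2, hadd _ h2K.1 _ h3K.1, h2K.2, h3K.2]; rfl

/-- Conjugates inducing inner automorphisms lead to the first lift. -/
theorem no_inner_conj (hE : ∀ g : G, g * z * g⁻¹ ∈ twoCoreOfCentralizer z → g * z * g⁻¹ = z)
    (hA : ∀ g : G, g * z * g⁻¹ ∈ Fr.A → g * z * g⁻¹ = z) {g : G} (hgi : g * z * g⁻¹ ∈ innerH z P)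
    (hne : g * z * g⁻¹ ≠ z) : False := by
  have hgz := Subgroup.mem_centralizer_singleton_iff.1 (S.inner_le hgi)
  have hv2 : g * z * g⁻¹ * (g * z * g⁻¹) = 1 := by
    rw [show g * z * g⁻¹ * (g * z * g⁻¹) = g * (z * z) * g⁻¹ by group, S.zz]; group
  obtain ⟨h, hh, hT⟩ := Fr.F.exists_conj_mem_T hgz hv2
  set v := h * (g * z * g⁻¹) * h⁻¹ with hv
  have hve : v = (h * g) * z * (h * g)⁻¹ := by rw [hv]; group
  have hvi : v ∈ innerH z P := inner_conj S hh hgi
  have hvE : v ∉ twoCoreOfCentralizer z := fun hm => hne (by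
    have h1 := hE (h * g) (hve ▸ hm)
    rw [← hve, hv] at h1
    calc g * z * g⁻¹ = h⁻¹ * (h * (g * z * g⁻¹) * h⁻¹) * h := by group
      _ = z := by rw [h1, mul_assoc, ← hh, inv_mul_cancel_left])
  obtain ⟨e, he, hr⟩ := hT
  have he0 : e ≠ 0 := fun e0 => hvE ((Fr.F.toCoord.rep_mI_iff).1 (tbEl_check.2 ▸ e0 ▸ hr))
  have hee : bm e e = 0 := tbEl_inj (bm_lt he he) (by norm_num) (by
    rw [← tbEl_mul he he, tbEl_check.2]
    exact Fr.F.toCoord.rep_sq_one hr (by rw [hve, show h * g * z * (h * g)⁻¹ * (h * g * z * (h * g)⁻¹) =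
      h * g * (z * z) * (h * g)⁻¹ by group, S.zz]; group))
  have hcT : mm (tbEl e) mT = mm mT (tbEl e) := by
    obtain ⟨c, hc, m, hm, ev⟩ := S.mem_inner.1 hvi
    refine Fr.F.toCoord.rep_unique (Fr.F.toCoord.rep_mul hr Fr.F.toCoord.rep_t) ?_
    have hct : c * Fr.F.R.t = Fr.F.R.t * c := (S.ker_central Fr.F.toCoord.t_mem Fr.F.toCoord.t_ψ hc).symm
    obtain ⟨M, hM⟩ := Fr.F.toCoord.exists_rep (show (v * Fr.F.R.t) * z = z * (v * Fr.F.R.t) from
      ((show Commute v z from hr.hz).mul_left (S.commz Fr.F.toCoord.t_mem)).eq)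
    refine ⟨hM.hz, okMat_mm (by decide +kernel) hr.ok, fun n hn => ?_⟩
    rw [app_mm, ← Fr.F.toCoord.rep_t.eq _ (app_lt_of_ok hr.ok _), ← hr.eq n hn, ← Module.End.mul_apply,
      ← S.act_mul _ _ (S.commz Fr.F.toCoord.t_mem) hr.hz, ev]
    have hmz := S.ext.central m hm
    have htz := S.commz Fr.F.toCoord.t_mem
    rw [S.act_mul _ _ (((show Commute c z from S.commz hc).mul_left hmz).eq) htz,
      S.act_mul _ _ (S.commz hc) hmz, S.act_eq_one hmz hm, mul_one, ← S.act_mul _ _ (S.commz hc) htz, hct,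
      show Fr.F.R.t * (c * m) = (Fr.F.R.t * c) * m by group, S.act_mul _ _
      (((show Commute Fr.F.R.t z from htz).mul_left (S.commz hc)).eq) hmz, S.act_eq_one hmz hm, mul_one]
  have hch := List.all_eq_true.1 conj_check e (List.mem_range.2 he)
  simp only [hee, hcT, beq_self_eq_true, Bool.not_true, Bool.false_or, Bool.or_eq_true, beq_iff_eq, he0, Bool.false_eq_true, false_or,
    List.any_eq_true, Bool.and_eq_true, List.all_eq_true, decide_eq_true_eq] at hch
  obtain ⟨p, -, ⟨-, hp⟩, hmat⟩ := hch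
  let gl : ℕ → G := fun k => if k = 6 then Fr.F.s else if k = 7 then Fr.F.w else if k = 8 then Fr.F.q else Fr.F.toCoord.lift k
  obtain ⟨cC, -, hcr⟩ := Fr.F.toCoord.rep_word gl (asg mS mW mQ) 9 (fun k hk => by
    interval_cases k
    exacts [Fr.F.toCoord.lift_spec (k := 0) (by norm_num), Fr.F.toCoord.lift_spec (k := 1) (by norm_num),
      Fr.F.toCoord.lift_spec (k := 2) (by norm_num), Fr.F.toCoord.lift_spec (k := 3) (by norm_num),
      Fr.F.toCoord.lift_spec (k := 4) (by norm_num), Fr.F.toCoord.lift_spec (k := 5) (by norm_num),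
      ⟨Fr.F.s_mem, Fr.F.s_ψ, Fr.F.rs⟩, ⟨Fr.F.w_mem, Fr.F.w_ψ, Fr.F.rw'⟩, ⟨Fr.F.q_mem, Fr.F.q_ψ, Fr.F.rq⟩]) p.2 hp
  set c := (p.2.map gl).prod
  obtain ⟨N, hN⟩ := Fr.F.toCoord.exists_rep (S.commz (inv_mem cC))
  have hNM : mm N (evM (asg mS mW mQ) p.2) = mI :=
    Fr.F.toCoord.rep_unique (Fr.F.toCoord.rep_mul hN hcr) (by rw [inv_mul_cancel]; exact Fr.F.toCoord.rep_one)
  refine Fr.no_inner hE hA (g := c⁻¹ * (h * g)) ?_
  rw [show c⁻¹ * (h * g) * z * (c⁻¹ * (h * g))⁻¹ = c⁻¹ * v * c by rw [hve]; group]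
  have h3 := Fr.F.toCoord.rep_mul (Fr.F.toCoord.rep_mul hN hr) hcr
  rw [mm_assoc, ← hmat, ← mm_assoc, hNM] at h3
  rwa [show mm mI (mA 0) = mA 0 by decide +kernel] at h3

variable [IsSimpleGroup G]

/-- The involution is conjugate to another element of the group. -/
theorem exists_fusion (hG : ¬ IsMulCommutative G) : ∃ g : G, g * z * g⁻¹ ∈ Fr.A ∧ g * z * g⁻¹ ≠ z := by
  classical
  by_contra hcon
  push Not at hcon
  have hE : ∀ g : G, g * z * g⁻¹ ∈ twoCoreOfCentralizer z → g * z * g⁻¹ = z := fun g hg => by_contra fun hne => by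
    obtain ⟨k, h1, h2⟩ := Fr.conj_in_A_of_core hg hne
    exact h2 (hcon k h1)
  obtain ⟨g, hgne, hgz⟩ := exists_comm_conj hG S
  have houter : ∀ k : G, k * z * k⁻¹ * z = z * (k * z * k⁻¹) → k * z * k⁻¹ ≠ z → k * z * k⁻¹ ∉ innerH z P :=
    fun k _ hne hi => Fr.no_inner_conj hE hcon hi hne
  set v := g * z * g⁻¹ with hv
  have hv2 : v * v = 1 := by rw [hv, show g * z * g⁻¹ * (g * z * g⁻¹) = g * (z * z) * g⁻¹ by group, S.zz]; group
  obtain ⟨M, hM⟩ := Fr.F.toCoord.exists_rep hgz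
  have hvout := houter g hgz hgne
  obtain ⟨u1, u2, u3, l1, l2, l3, n1, n2, n3, n12, n13, n23, n123, q1, q2, q3, q12, q13, q23, q123⟩ :=
    Fr.exists_three_vectors hM hv2 hvout
  choose lw hlwE hlwr using fun u : ℕ => S.rep_surj (Fr.F.Φ u)
  let cw : G → G := fun w => v * w * v⁻¹ * w⁻¹
  -- commutators with moved vectors are outer at the conjugate
  have hcout : ∀ w ∈ twoCoreOfCentralizer z, ∀ u < 4096, S.rep w = Fr.F.Φ u → app M u ≠ u →
      qv (u ^^^ app M u) = false → (g⁻¹ * cw w * g) * z = z * (g⁻¹ * cw w * g) ∧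
        g⁻¹ * cw w * g ∉ innerH z P := by
    intro w hw u hu hru hne hq
    have hcE : cw w ∈ twoCoreOfCentralizer z := mul_mem (S.ext.norm v hgz w hw) (inv_mem hw)
    have hcr : S.rep (cw w) = Fr.F.Φ (app M u ^^^ u) := by
      rw [S.rep_mul _ (S.ext.norm v hgz w hw) _ (inv_mem hw), S.rep_inv hw, ← S.act_rep v hgz w hw, hru,
        hM.eq u hu, Fr.F.add]
    have hlt := Nat.xor_lt_two_pow (n := 12) (app_lt_of_ok hM.ok u) hu
    have hc2 : cw w * cw w = 1 := by
      rw [S.q_sq _ hcE, hcr, Fr.F.form _ hlt, Nat.xor_comm, hq]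
      exact ExtraOut.pw_zero z
    have hvc : v * cw w = cw w * v := by
      have hvi : v⁻¹ = v := inv_eq_of_mul_eq_one_right hv2
      have h1 : v * cw w * v = (cw w)⁻¹ := by
        show v * (v * w * v⁻¹ * w⁻¹) * v = (v * w * v⁻¹ * w⁻¹)⁻¹
        rw [show v * (v * w * v⁻¹ * w⁻¹) * v = (v * v) * w * v⁻¹ * w⁻¹ * v by group, hv2, hvi]
        simp [mul_inv_rev, hvi, mul_assoc]
      rw [inv_eq_of_mul_eq_one_right hc2] at h1
      calc v * cw w = v * cw w * (v * v) := by rw [hv2, mul_one]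
        _ = (v * cw w * v) * v := by group
        _ = _ := by rw [h1]
    have hcne : cw w ≠ 1 := fun e => hne (by
      rw [e, S.rep_one, ← Fr.F.toCoord.zero'] at hcr
      have h0 := Fr.F.inj 0 (by norm_num) _ hlt hcr
      have := congrArg (app M u ^^^ ·) h0
      simpa [← Nat.xor_assoc] using this)
    have hwv : v * cw w = w * v * w⁻¹ := by
      show v * (v * w * v⁻¹ * w⁻¹) = _
      rw [show v * (v * w * v⁻¹ * w⁻¹) = (v * v) * w * v⁻¹ * w⁻¹ by group, hv2, inv_eq_of_mul_eq_one_right hv2, one_mul]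
    have hgc : (g⁻¹ * cw w * g) * z = z * (g⁻¹ * cw w * g) := by
      calc g⁻¹ * cw w * g * z = g⁻¹ * (cw w * v) * g := by rw [hv]; group
        _ = g⁻¹ * (v * cw w) * g := by rw [hvc]
        _ = _ := by rw [hv]; group
    refine ⟨hgc, fun hi => ?_⟩
    have hx : (g⁻¹ * w * g) * z * (g⁻¹ * w * g)⁻¹ = z * (g⁻¹ * cw w * g) := by
      rw [show g⁻¹ * w * g * z * (g⁻¹ * w * g)⁻¹ = g⁻¹ * (w * v * w⁻¹) * g by rw [hv]; group, ← hwv, hv]
      group
    have hzi : z ∈ innerH z P := Subgroup.mem_sup_right S.ext.mem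
    refine houter (g⁻¹ * w * g) ?_ ?_ (hx ▸ mul_mem hzi hi)
    · rw [hx, mul_assoc z, hgc]
    · rw [hx]
      intro e
      have := mul_eq_left.1 e
      refine hcne ?_
      calc cw w = g * (g⁻¹ * cw w * g) * g⁻¹ := by group
        _ = 1 := by rw [this]; group
  have hzout : g⁻¹ * z * g ∉ innerH z P := fun hi => by
    refine houter g⁻¹ ?_ ?_ (by rwa [inv_inv])
    · rw [inv_inv]
      calc g⁻¹ * z * g * z = g⁻¹ * (z * v) * g := by rw [hv]; group
        _ = g⁻¹ * (v * z) * g := by rw [hgz]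
        _ = _ := by rw [hv]; group
    · rw [inv_inv]
      intro e
      exact hgne (by conv_lhs => rw [hv, ← e]
                     group)
  -- every pair is non-orthogonal
  have hbeta : ∀ a < 4096, ∀ b < 4096, app M a ≠ a → app M b ≠ b → app M (a ^^^ b) ≠ a ^^^ b →
      qv (a ^^^ app M a) = false → qv (b ^^^ app M b) = false → qv (a ^^^ b ^^^ app M (a ^^^ b)) = false →
      bv a (app M b ^^^ b) = true := by
    intro a ha b hb na nb nab qa qb qab
    obtain ⟨-, oa⟩ := hcout _ (hlwE a) a ha (hlwr a) na qa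
    obtain ⟨-, ob⟩ := hcout _ (hlwE b) b hb (hlwr b) nb qb
    obtain ⟨-, oab⟩ := hcout _ (mul_mem (hlwE a) (hlwE b)) _ (Nat.xor_lt_two_pow (n := 12) ha hb)
      (by rw [S.rep_mul _ (hlwE a) _ (hlwE b), hlwr, hlwr, Fr.F.add]) nab qab
    cases hbv : bv a (app M b ^^^ b)
    swap; · rfl
    exfalso
    have hcb : cw (lw b) ∈ twoCoreOfCentralizer z := mul_mem (S.ext.norm v hgz _ (hlwE b)) (inv_mem (hlwE b))
    have hcbr : S.rep (cw (lw b)) = Fr.F.Φ (app M b ^^^ b) := by
      rw [S.rep_mul _ (S.ext.norm v hgz _ (hlwE b)) _ (inv_mem (hlwE b)), S.rep_inv (hlwE b),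
        ← S.act_rep v hgz _ (hlwE b), hlwr, hM.eq b hb, Fr.F.add]
    have hcom := Fr.F.toCoord.core_comm (hlwE a) hcb ha (Nat.xor_lt_two_pow (n := 12) (app_lt_of_ok hM.ok b) hb)
      (hlwr a) hcbr
    rw [hbv, zp, if_neg (by simp), mul_one] at hcom
    have hprod : cw (lw a * lw b) = cw (lw a) * cw (lw b) := by
      show v * (lw a * lw b) * v⁻¹ * (lw a * lw b)⁻¹ = _
      calc v * (lw a * lw b) * v⁻¹ * (lw a * lw b)⁻¹ = (v * lw a * v⁻¹) * cw (lw b) * (lw a)⁻¹ := by
            show _ = (v * lw a * v⁻¹) * (v * lw b * v⁻¹ * (lw b)⁻¹) * (lw a)⁻¹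
            group
        _ = (v * lw a * v⁻¹ * (lw a)⁻¹) * (lw a * cw (lw b)) * (lw a)⁻¹ := by group
        _ = (v * lw a * v⁻¹ * (lw a)⁻¹) * (cw (lw b) * lw a) * (lw a)⁻¹ := by rw [hcom]
        _ = (v * lw a * v⁻¹ * (lw a)⁻¹) * cw (lw b) := by group
        _ = _ := rfl
    have hga := (hcout _ (hlwE a) a ha (hlwr a) na qa).1
    have hgb := (hcout _ (hlwE b) b hb (hlwr b) nb qb).1
    refine oab ?_
    rw [hprod, show g⁻¹ * (cw (lw a) * cw (lw b)) * g = (g⁻¹ * cw (lw a) * g) * (g⁻¹ * cw (lw b) * g) by group]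
    exact inner_mul_iff S hga hgb oa ob
  have e1 := hbeta u1 l1 u2 l2 n1 n2 n12 q1 q2 q12
  have e2 := hbeta u1 l1 u3 l3 n1 n3 n13 q1 q3 q13
  have l23 := Nat.xor_lt_two_pow (n := 12) l2 l3
  have e3 := hbeta u1 l1 _ l23 n1 n23 n123 q1 q23 q123
  have ex : app M (u2 ^^^ u3) ^^^ (u2 ^^^ u3) = (app M u2 ^^^ u2) ^^^ (app M u3 ^^^ u3) := by
    rw [app_xor]
    apply Nat.eq_of_testBit_eq
    intro k
    simp only [Nat.testBit_xor]
    cases u2.testBit k <;> cases u3.testBit k <;> cases (app M u2).testBit k <;> cases (app M u3).testBit k <;> rfl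
  rw [ex, Fr.F.toCoord.bv_xor_right (Nat.xor_lt_two_pow (n := 12) (app_lt_of_ok hM.ok u2) l2)
    (Nat.xor_lt_two_pow (n := 12) (app_lt_of_ok hM.ok u3) l3) l1, e1, e2] at e3
  simp at e3

end Frame

end Cfsg.Agent.Spor.JFour
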