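import Cfsg.Agent.Lib.Spor.JFourType.Sect
import Cfsg.Agent.Lib.Spor.Golay.Chain

/-!
The four-dimensional group of permutations: it is its own centraliser, its normaliser stabilises an octad with an
orbit of length 77, and eight of the generators generate at least 5760 elements.
-/

set_option autoImplicit false
set_option maxRecDepth 100000
set_option Elab.async false

open scoped Pointwise

namespace Cfsg.Agent.Spor.JFour

open Cfsg Cfsg.Agent.Spor.Golay

/-- The points outside the octad. -/
def offHex : List ℕ := (List.range 24).filter fun i => !hexMask.testBit i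

/-- The four transversals in the group on the hexad. -/
def hexTrans : List (List (List ℕ)) :=
  [[[], [4], [6], [4, 4], [6, 4], [4, 6]], [[], [6, 7, 6, 6], [6, 6, 4], [7], [7, 6, 6, 4]],
    [[], [4, 4, 7, 6, 5], [5, 5, 4], [5, 4, 4]], [[], [4, 4, 7, 6, 4], [7, 5, 7, 4, 6]]]

/-- The words of the elements of the group on the hexad. -/
def hexWords : List (List ℕ) :=
  hexTrans.foldr (fun L acc => L.flatMap fun a => acc.map fun b => a ++ b) [[]]

theorem hexWords_check : (hexWords.map fun w => (List.range 24).map (Golay.get (wordP w))).Nodup ∧ hexWords.length = 360 ∧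
    (hexWords.all fun w => w.all fun k => [4, 5, 6, 7].contains k) = true ∧
    ((List.range 8).all fun k => imgMask (Golay.get (pk k)) hexMask == hexMask) = true ∧
    ([4, 5, 6, 7].all fun k => Golay.get (pk k) 1 == 1) = true ∧
    ((List.range 16).all fun k => (List.range 24).all fun i =>
      !hexMask.testBit i || Golay.get (wordP (kw k)) i == i) = true ∧
    ((List.range 24).all fun i => hexMask.testBit i || (List.range 4).any fun j => Golay.get (pk j) i != i) = true ∧
    ((List.range 16).map fun k => Golay.get (wordP (kw k)) 1).Nodup ∧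
    (offHex.all fun i => (List.range 16).any fun k => Golay.get (wordP (kw k)) 1 == i) = true ∧
    trivOk [] offHex = true ∧ hexMask.testBit 1 = false ∧ hexMask < 2 ^ 24 := by
  decide +kernel

/-- Whether every step of a program starts below the length so far. -/
def progFit : List (ℕ × ℕ) → ℕ → Bool
  | [], _ => true
  | e :: L, n => decide (e.1 < n) && progFit L (n + 1)

theorem progFit_check : progFit hexProg 1 = true := by decide +kernel

theorem wordπ_pt (w : List ℕ) {i : ℕ} (hi : i < 24) : wordπ w (pt i) = pt (Golay.get (wordP w) i) := by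
  rw [wordπ_eq, permOf_apply (wordP_valid w), Golay.app, idx_pt hi]

theorem pk_pt (k : ℕ) {i : ℕ} (hi : i < 24) : permOf (pk k) (pt i) = pt (Golay.get (pk k) i) := by
  rw [permOf_apply (pk_valid k), Golay.app, idx_pt hi]

theorem pk_fix_off {i : ℕ} (hi : i < 24) (hhex : hexMask.testBit i = false) :
    ∃ j < 4, permOf (pk j) (pt i) ≠ pt i := by
  have h := List.all_eq_true.1 hexWords_check.2.2.2.2.2.2.1 i (List.mem_range.2 hi)
  simp only [hhex, Bool.false_or, List.any_eq_true, List.mem_range, bne_iff_ne, ne_eq] at h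
  obtain ⟨j, hj, hne⟩ := h
  refine ⟨j, hj, fun e => hne ?_⟩
  rw [pk_pt j hi] at e
  have := congrArg idx e
  rwa [idx_pt ((valid_iff.1 (pk_valid j)).2 i hi), idx_pt hi] at this

theorem kw_fix {k i : ℕ} (hk : k < 16) (hi : i < 24) (h : hexMask.testBit i = true) :
    wordπ (kw k) (pt i) = pt i := by
  have e := List.all_eq_true.1 (List.all_eq_true.1 hexWords_check.2.2.2.2.2.1 k (List.mem_range.2 hk)) i
    (List.mem_range.2 hi)
  rw [h] at e
  simp only [Bool.not_true, Bool.false_or, beq_iff_eq] at e
  rw [wordπ_pt _ hi, e]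

/-- The four-dimensional group is its own centraliser. -/
theorem kw_centralizer {d : Equiv.Perm GolayPt} (hd : d ∈ Cfsg.M24)
    (hc : ∀ k < 16, d * wordπ (kw k) = wordπ (kw k) * d) : ∃ k < 16, d = wordπ (kw k) := by
  obtain ⟨-, -, -, -, -, -, -, -, hcov, htriv, h1, -⟩ := hexWords_check
  have hq := idx_lt (d (pt 1))
  have hoff : hexMask.testBit (idx (d (pt 1))) = false := by
    by_contra hb
    rw [Bool.not_eq_false] at hb
    obtain ⟨j, hj, hne⟩ := pk_fix_off (by norm_num) h1
    refine hne (d.injective ?_)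
    rw [← wordπ_kw_two_pow hj, ← Equiv.Perm.mul_apply, hc _ (Nat.pow_lt_pow_right (by norm_num) hj),
      Equiv.Perm.mul_apply]
    conv_lhs => rw [← pt_idx (d (pt 1))]
    rw [kw_fix (Nat.pow_lt_pow_right (by norm_num) hj) hq hb, pt_idx]
  have hmem : idx (d (pt 1)) ∈ offHex := List.mem_filter.2 ⟨List.mem_range.2 hq, by rw [hoff]; rfl⟩
  have h := List.all_eq_true.1 hcov _ hmem
  simp only [List.any_eq_true, List.mem_range, beq_iff_eq] at h
  obtain ⟨k, hk, hk1⟩ := h
  have hK : wordπ (kw k) ∈ Cfsg.M24 := by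
    refine list_prod_mem fun a ha => ?_
    obtain ⟨j, hj, rfl⟩ := List.mem_map.1 ha
    have hj4 : j < 4 := by
      simp only [kw, List.mem_append] at hj
      rcases hj with ((hj | hj) | hj) | hj <;> split_ifs at hj <;> simp_all
    exact (mem_Fix.1 (M22_eq ▸ pk_mem (k := j) (by omega))).1
  have he : (wordπ (kw k))⁻¹ * d ∈ Golay.Fix [] offHex := by
    refine mem_Fix.2 ⟨mul_mem (inv_mem hK) hd, by simp, fun i hi => ?_⟩
    rw [Equiv.Perm.mul_apply, Equiv.Perm.inv_eq_iff_eq]
    have h' := List.all_eq_true.1 hcov i hi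
    simp only [List.any_eq_true, List.mem_range, beq_iff_eq] at h'
    obtain ⟨j, hj, rfl⟩ := h'
    have e1 : d (pt 1) = wordπ (kw k) (pt 1) := by
      rw [wordπ_pt _ (by norm_num), hk1, pt_idx]
    rw [← wordπ_pt _ (by norm_num : (1 : ℕ) < 24), ← Equiv.Perm.mul_apply, hc j hj, Equiv.Perm.mul_apply, e1,
      ← Equiv.Perm.mul_apply, wordπ_kw_mul hj hk, Nat.xor_comm, ← wordπ_kw_mul hk hj, Equiv.Perm.mul_apply]
  rw [Fix_eq_bot htriv, Subgroup.mem_bot] at he
  exact ⟨k, hk, (inv_mul_eq_one.1 he).symm⟩

/-- A permutation normalising the four-dimensional group stabilises the octad. -/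
theorem smul_hex_of_normal {g : Equiv.Perm GolayPt}
    (h : ∀ k < 16, ∃ j < 16, g * wordπ (kw j) = wordπ (kw k) * g) : g • pts hexMask = pts hexMask := by
  refine Finset.eq_of_subset_of_card_le (fun q hq => ?_) (by rw [Finset.card_smul_finset])
  obtain ⟨p, hp, rfl⟩ := Finset.mem_smul_finset.1 hq
  rw [mem_pts] at hp ⊢
  by_contra hb
  rw [Bool.not_eq_true] at hb
  obtain ⟨i, hi, hne⟩ := pk_fix_off (idx_lt _) hb
  obtain ⟨j, hj, e⟩ := h _ (Nat.pow_lt_pow_right (by norm_num) hi : 2 ^ i < 16)
  refine hne ?_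
  rw [pt_idx, ← wordπ_kw_two_pow hi, Equiv.Perm.smul_def, ← Equiv.Perm.mul_apply, ← e, Equiv.Perm.mul_apply]
  conv_lhs => rw [← pt_idx p]
  rw [kw_fix hj (idx_lt p) hp, pt_idx]

/-- The stabiliser of the octad is small. -/
theorem card_hexStab_le :
    Nat.card ↥(MulAction.stabilizer ↥Cfsg.Spor.M22 (pts hexMask)) ≤ 5760 := by
  classical
  have horb : ∀ m ∈ hexOrbit, pts m ∈ MulAction.orbit ↥Cfsg.Spor.M22 (pts hexMask) := by
    unfold hexOrbit
    suffices H : ∀ (L : List (ℕ × ℕ)) (acc : List ℕ), (∀ e ∈ L, e.2 < 9) → progFit L acc.length = true →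
        (∀ m ∈ acc, pts m ∈ MulAction.orbit ↥Cfsg.Spor.M22 (pts hexMask)) →
        ∀ m ∈ L.foldl (fun acc e => acc ++ [imgMask (Golay.get (pk e.2)) (acc.getD e.1 0)]) acc,
          pts m ∈ MulAction.orbit ↥Cfsg.Spor.M22 (pts hexMask) from
      H hexProg [hexMask] (fun e he => of_decide_eq_true (List.all_eq_true.1 hexOrbit_check.2.2.1 e he))
        progFit_check (fun m hm => by rw [List.mem_singleton.1 hm]; exact MulAction.mem_orbit_self _)
    intro L
    induction L with
    | nil => exact fun acc _ _ h => h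
    | cons e L ih =>
      intro acc hg hfit h
      rw [progFit, Bool.and_eq_true, decide_eq_true_eq] at hfit
      rw [List.foldl_cons]
      refine ih _ (fun x hx => hg x (List.mem_cons_of_mem _ hx)) (by simpa using hfit.2) fun m hm => ?_
      rcases List.mem_append.1 hm with hm | hm
      · exact h m hm
      · rw [List.mem_singleton.1 hm, ← smul_pts (permOf (pk e.2)) (Golay.get (pk e.2))
          (fun p => idx_permOf (pk_valid _) p)]
        obtain ⟨g, hg'⟩ := h (acc.getD e.1 0) (by rw [List.getD_eq_getElem _ _ hfit.1]; exact List.getElem_mem _)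
        refine ⟨⟨_, pk_mem (hg e (List.mem_cons_self ..))⟩ * g, ?_⟩
        show (permOf (pk e.2) * (g : Equiv.Perm GolayPt)) • pts hexMask = _
        rw [mul_smul, show (g : Equiv.Perm GolayPt) • pts hexMask = pts (acc.getD e.1 0) from hg']
  have h77 : 77 ≤ Nat.card ↥(MulAction.orbit ↥Cfsg.Spor.M22 (pts hexMask)) := by
    rw [Nat.card_coe_set_eq, ← hexOrbit_check.2.1, ← List.toFinset_card_of_nodup hexOrbit_check.1]
    rw [← Finset.card_image_of_injOn (f := pts) (fun a ha b hb e => pts_injOn
      (of_decide_eq_true (List.all_eq_true.1 hexOrbit_check.2.2.2 a (List.mem_toFinset.1 ha)))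
      (of_decide_eq_true (List.all_eq_true.1 hexOrbit_check.2.2.2 b (List.mem_toFinset.1 hb))) e),
      ← Set.ncard_coe_finset]
    refine Set.ncard_le_ncard (fun x hx => ?_) (Set.toFinite _)
    obtain ⟨m, hm, rfl⟩ := Finset.mem_image.1 (Finset.mem_coe.1 hx)
    exact horb m (List.mem_toFinset.1 hm)
  have hprod : Nat.card ↥(MulAction.orbit ↥Cfsg.Spor.M22 (pts hexMask)) *
      Nat.card ↥(MulAction.stabilizer ↥Cfsg.Spor.M22 (pts hexMask)) = 443520 := by
    rw [← Fus.Mathieu.card22, ← Nat.card_prod,
      Nat.card_congr (MulAction.orbitProdStabilizerEquivGroup ↥Cfsg.Spor.M22 (pts hexMask))]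
  nlinarith

/-- Eight of the generators generate at least 5760 elements. -/
theorem card_hexGen_le {L : Subgroup (Equiv.Perm GolayPt)} (h : ∀ k < 8, permOf (pk k) ∈ L) :
    5760 ≤ Nat.card ↥L := by
  classical
  obtain ⟨hnd, hlen, hlet, -, hfix, -, -, hreg, -, -, -, -⟩ := hexWords_check
  have hw : ∀ w : List ℕ, (∀ k ∈ w, k < 8) → wordπ w ∈ L := fun w hk => by
    refine list_prod_mem fun a ha => ?_
    obtain ⟨k, hk', rfl⟩ := List.mem_map.1 ha
    exact h k (hk k hk')
  have hlet' : ∀ w ∈ hexWords, ∀ k ∈ w, k = 4 ∨ k = 5 ∨ k = 6 ∨ k = 7 := fun w hm k hk => by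
    have := List.all_eq_true.1 (List.all_eq_true.1 hlet w hm) k hk
    simpa using this
  have hkw : ∀ k, ∀ j ∈ kw k, j < 8 := fun k j hj => by
    simp only [kw, List.mem_append] at hj
    rcases hj with ((hj | hj) | hj) | hj <;> split_ifs at hj <;> simp_all
  have h1 : ∀ w : List ℕ, (∀ k ∈ w, k = 4 ∨ k = 5 ∨ k = 6 ∨ k = 7) → wordπ w (pt 1) = pt 1 := by
    intro w
    induction w with
    | nil => intro _; simp [wordπ]
    | cons k w ih =>
      intro hk
      have hk' := List.all_eq_true.1 hfix k (by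
        rcases hk k (List.mem_cons_self ..) with rfl | rfl | rfl | rfl <;> simp)
      rw [show wordπ (k :: w) = permOf (pk k) * wordπ w by simp [wordπ], Equiv.Perm.mul_apply,
        ih fun j hj => hk j (List.mem_cons_of_mem _ hj), pk_pt k (by norm_num), beq_iff_eq.1 hk']
  let f : Fin 16 × Fin hexWords.length → ↥L := fun u => ⟨wordπ (kw u.1) * wordπ (hexWords.get u.2),
    mul_mem (hw _ (hkw _)) (hw _ fun k hk => by
      rcases hlet' _ (List.get_mem _ _) k hk with rfl | rfl | rfl | rfl <;> norm_num)⟩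
  have hf : Function.Injective f := by
    rintro ⟨a, u⟩ ⟨b, v⟩ e
    have e' : wordπ (kw a) * wordπ (hexWords.get u) = wordπ (kw b) * wordπ (hexWords.get v) :=
      congrArg Subtype.val e
    have e1 := congrArg (fun σ : Equiv.Perm GolayPt => idx (σ (pt 1))) e'
    simp only [Equiv.Perm.mul_apply, h1 _ (hlet' _ (List.get_mem _ _))] at e1
    rw [wordπ_eq, wordπ_eq, idx_permOf (wordP_valid _), idx_permOf (wordP_valid _), idx_pt (by norm_num)] at e1
    have hab : a = b := Fin.ext (List.inj_on_of_nodup_map hreg (List.mem_range.2 a.2) (List.mem_range.2 b.2) e1)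
    subst hab
    have e2 := mul_left_cancel e'
    have e3 : (List.range 24).map (Golay.get (wordP (hexWords.get u))) =
        (List.range 24).map (Golay.get (wordP (hexWords.get v))) := by
      refine List.map_congr_left fun i hi => ?_
      have h24 := List.mem_range.1 hi
      have := congrArg (fun σ : Equiv.Perm GolayPt => idx (σ (pt i))) e2
      simpa [wordπ_eq, idx_permOf (wordP_valid _), idx_pt h24] using this
    have e4 : (u : ℕ) = v :=
      (List.Nodup.getElem_inj_iff hnd (hi := by simp) (hj := by simp)).1 (by simpa using e3)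
    exact Prod.ext rfl (Fin.ext e4)
  have := Nat.card_le_card_of_injective f hf
  simpa [hlen] using this

end Cfsg.Agent.Spor.JFour
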