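import Cfsg.Agent.Lib.Spor.JFourType.ATwo
import Cfsg.Agent.Lib.Spor.JFourType.NormAPerm
import Cfsg.Agent.Lib.Spor.JFourType.Mathieu.Hom

/-!
The elementary abelian group of order 2¹¹ is its own centraliser; the order of its normaliser in the centraliser of
the involution.
-/

set_option autoImplicit false
set_option maxRecDepth 100000
set_option linter.style.haveILetI false

open Cfsg Cfsg.Agent.Spor.Golay
open scoped Pointwise
open Cfsg.Agent.Spor.Cos.J4Sub (app mm app_xor app_zero)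

namespace Cfsg.Agent.Spor.JFour.Frame

variable {G : Type*} [Group G] {z : G} {P : Subgroup G} {S : Setting z P} (Fr : Frame S) [Finite G]

/-- An element commuting with the low lifts fixes the low vectors. -/
theorem act_low_eq {g : G} (hgz : g * z = z * g) (hg : ∀ n < 64, g * Fr.F.lh n = Fr.F.lh n * g) {n : ℕ} (hn : n < 64) :
    S.act g (Fr.F.Φ n) = Fr.F.Φ n := by
  obtain ⟨h1, h2, -⟩ := Fr.F.toCoord.lh_spec n
  rw [← h2, S.act_rep g hgz _ h1, hg n hn, mul_inv_cancel_right]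

/-- A low vector moved by the scalar. -/
theorem p_act_one_ne : S.act S.p (Fr.F.Φ 1) ≠ Fr.F.Φ 1 := fun h => by
  have h0 := S.p_fpf h
  rw [← Fr.F.toCoord.zero'] at h0
  exact absurd (Fr.F.toCoord.inj 1 (by norm_num) 0 (by norm_num) h0) (by norm_num)

/-- No outer element fixes the low vectors. -/
theorem inner_of_fix_low {g : G} (hgz : g * z = z * g) (hg : ∀ n < 64, S.act g (Fr.F.Φ n) = Fr.F.Φ n) :
    g ∈ innerH z P := by
  refine (S.inner_cases hgz).resolve_right fun hout => ?_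
  have hoz := S.oz
  have hiz : g * S.o⁻¹ * z = z * (g * S.o⁻¹) :=
    ((show Commute g z from hgz).mul_left (show Commute S.o z from hoz).inv_left).eq
  have hpp : S.p * S.p * z = z * (S.p * S.p) := S.pp_z
  have e1 : S.act g * S.act S.p = S.act S.p * S.act S.p * S.act g := by
    have h1 := S.act_inner hout
    have e : S.o * S.p = S.p * S.p * S.o := by rw [← S.op, inv_mul_cancel_right]
    have hopp : S.act S.o * S.act S.p = S.act S.p * S.act S.p * S.act S.o := by
      rw [← S.act_mul _ _ hoz S.pz, e, S.act_mul _ _ hpp hoz, S.act_mul _ _ S.pz S.pz]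
    rw [show S.act g = S.act (g * S.o⁻¹) * S.act S.o by rw [← S.act_mul _ _ hiz hoz, inv_mul_cancel_right],
      mul_assoc, hopp]
    simp only [← mul_assoc]
    rw [h1, mul_assoc (S.act S.p), h1, ← mul_assoc]
  obtain ⟨k, hk, ek⟩ := Fr.F.toCoord.p_low (n := 1) (by norm_num)
  have h := LinearMap.congr_fun e1 (Fr.F.Φ 1)
  simp only [Module.End.mul_apply] at h
  rw [hg 1 (by norm_num), ek, hg k hk] at h
  have h0 := S.p_fpf h.symm
  rw [← ek] at h0
  have h1 := LinearMap.congr_fun S.act_p_pow (Fr.F.Φ 1)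
  simp only [Module.End.mul_apply, Module.End.one_apply, h0, map_zero] at h1
  exact Fr.p_act_one_ne (h0.trans h1)

/-- It is its own centraliser. -/
theorem centralizer_A : Subgroup.centralizer (Fr.A : Set G) ≤ Fr.A := by
  intro g hgC
  have hcomm : ∀ a ∈ Fr.A, g * a = a * g := fun a ha => (Subgroup.mem_centralizer_iff.1 hgC a ha).symm
  have hgz := hcomm z Fr.z_mem_A
  have hlh : ∀ n < 64, Fr.F.lh n ∈ Fr.A := fun n hn => ⟨2 * n, by omega, Fr.Av_low hn⟩
  have hbA : ∀ k < 16, Fr.X.b k ∈ Fr.A := fun k hk => ⟨128 * k, by omega, Fr.Av_high hk⟩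
  have hfix : ∀ n < 64, S.act g (Fr.F.Φ n) = Fr.F.Φ n := fun n hn =>
    Fr.act_low_eq hgz (fun m hm => hcomm _ (hlh m hm)) hn
  obtain ⟨c, hc, m, hm, rfl⟩ := S.mem_inner.1 (Fr.inner_of_fix_low hgz hfix)
  have hcz := S.commz hc
  have hmz := S.ext.central m hm
  have hact : S.act (c * m) = S.act c := by rw [S.act_mul _ _ hcz hmz, S.act_eq_one hmz hm, mul_one]
  rw [hact] at hfix
  -- the permutation centralises the four-dimensional group
  have hψ : ∀ k < 16, S.ψ c * wordπ (kw k) = wordπ (kw k) * S.ψ c := by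
    intro k hk
    have hb := Fr.X.mem k hk
    have hbz := S.commz hb
    have e : S.act c * S.act (Fr.X.b k) = S.act (Fr.X.b k) * S.act c := by
      have h1 := congrArg S.act (hcomm _ (hbA k hk))
      rwa [S.act_mul _ _ hgz hbz, S.act_mul _ _ hbz hgz, hact] at h1
    have h2 := S.ψ_eq_of_act (mul_mem hc hb) (mul_mem hb hc) (by
      rw [S.act_mul _ _ hcz hbz, S.act_mul _ _ hbz hcz, e])
    rwa [S.ψ_mul _ hc _ hb, S.ψ_mul _ hb _ hc, Fr.X.ψ_b k hk] at h2
  have hM := mem_Fix.1 (M22_eq ▸ S.ψ_mem c hc)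
  obtain ⟨k, hk, ek⟩ := kw_centralizer hM.1 hψ
  have hb := Fr.X.mem k hk
  have hd : c * (Fr.X.b k)⁻¹ ∈ CP z P := mul_mem hc (inv_mem hb)
  have hdψ : S.ψ (c * (Fr.X.b k)⁻¹) = 1 := by
    rw [S.ψ_mul _ hc _ (inv_mem hb), S.ψ_inv hb, ek, Fr.X.ψ_b k hk, mul_inv_cancel]
  have hdfix : ∀ n < 64, S.act (c * (Fr.X.b k)⁻¹) (Fr.F.Φ n) = Fr.F.Φ n := by
    intro n hn
    have hbi : S.act (Fr.X.b k)⁻¹ (Fr.F.Φ n) = Fr.F.Φ n := Fr.act_low_eq (S.commz (inv_mem hb)) (fun m hm =>
      Fr.A_comm _ (inv_mem (hbA k hk)) _ (hlh m hm)) hn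
    rw [S.act_mul _ _ hcz (S.commz (inv_mem hb)), Module.End.mul_apply, hbi, hfix n hn]
  have hone : S.act (c * (Fr.X.b k)⁻¹) = 1 := by
    rcases S.act_scalar hd hdψ with e | e | e
    · exact e
    all_goals exfalso; refine Fr.p_act_one_ne ?_; have h := hdfix 1 (by norm_num); rw [e] at h
    · exact h
    · have h' := congrArg (S.act S.p) h
      have h3 := LinearMap.congr_fun S.act_p_pow (Fr.F.Φ 1)
      simp only [Module.End.mul_apply, Module.End.one_apply] at h' h3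
      exact h'.symm.trans h3
  have hcA : c ∈ Fr.A := by
    rcases S.act_ker_CP hd hone with e | e
    · rw [mul_inv_eq_one.1 e]; exact hbA k hk
    · rw [mul_inv_eq_iff_eq_mul.1 e]; exact mul_mem Fr.z_mem_A (hbA k hk)
  refine mul_mem hcA ?_
  have hmc : ∀ a ∈ Fr.A, m * a = a * m := fun a ha => by
    have h1 : Commute (c * m) a := hcomm a ha
    have h2 : Commute c a := Fr.A_comm c hcA a ha
    have := h2.inv_left.mul_left h1
    rwa [inv_mul_cancel_left] at this
  obtain ⟨v, hv, erep⟩ := Fr.F.toCoord.surj (S.rep m)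
  refine Fr.low_mem_A hm ?_ erep.symm
  have h := List.all_eq_true.1 atwo_check.2.1 v (List.mem_range.2 hv)
  simp only [Bool.or_eq_true, decide_eq_true_eq, List.any_eq_true, List.mem_range] at h
  refine h.resolve_right ?_
  rintro ⟨j, hj, hbv⟩
  have hp : (2 : ℕ) ^ j < 64 := Nat.pow_lt_pow_right (by norm_num) hj
  obtain ⟨l1, l2, -⟩ := Fr.F.toCoord.lh_spec (2 ^ j)
  have := Fr.F.toCoord.core_comm hm l1 hv (hp.trans (by norm_num)) erep.symm l2
  rw [hmc _ (hlh _ hp), hbv] at this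
  exact S.ext.ne (left_eq_mul.1 this)

/-- The elements of the centraliser of the three-group normalising it stabilise the octad. -/
theorem ψ_smul_hex {c : G} (hc : c ∈ CP z P) (hn : c ∈ Subgroup.normalizer (Fr.A : Set G)) :
    S.ψ c • pts hexMask = pts hexMask := by
  refine smul_hex_of_normal fun k hk => ?_
  have hb := Fr.X.mem k hk
  have hbA : Fr.X.b k ∈ Fr.A := ⟨128 * k, by omega, Fr.Av_high hk⟩
  have hmem : c⁻¹ * Fr.X.b k * c ∈ Fr.A := (Subgroup.mem_normalizer_iff''.1 hn _).1 hbA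
  have hCP : c⁻¹ * Fr.X.b k * c ∈ CP z P := mul_mem (mul_mem (inv_mem hc) hb) hc
  obtain ⟨v, hv, e⟩ := hmem
  have hj : v / 128 < 16 := by omega
  have hbj := Fr.X.mem _ hj
  refine ⟨v / 128, hj, ?_⟩
  have hl : zp z (v.testBit 0) * Fr.F.lh (v / 2 % 64) ∈ CP z P ⊓ twoCoreOfCentralizer z := by
    refine Subgroup.mem_inf.2 ⟨?_, mul_mem (S.zp_mem_E _) (Fr.F.toCoord.lh_spec _).1⟩
    have : zp z (v.testBit 0) * Fr.F.lh (v / 2 % 64) = c⁻¹ * Fr.X.b k * c * (Fr.X.b (v / 128))⁻¹ := by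
      rw [← e, Frame.Av, mul_inv_cancel_right]
    rw [this]
    exact (CP z P).mul_mem hCP ((CP z P).inv_mem hbj)
  have hl1 : S.ψ (zp z (v.testBit 0) * Fr.F.lh (v / 2 % 64)) = 1 := by
    rcases S.fix _ (Subgroup.mem_inf.1 hl).2 (S.mem_iff.1 (Subgroup.mem_inf.1 hl).1).2.symm with e1 | e1 <;> rw [e1]
    · exact S.ψ_one
    · exact S.ψ_z
  have e2 : S.ψ (c⁻¹ * Fr.X.b k * c) = wordπ (kw (v / 128)) := by
    rw [← e, Frame.Av, S.ψ_mul _ (Subgroup.mem_inf.1 hl).1 _ hbj, hl1, one_mul, Fr.X.ψ_b _ hj]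
  rw [S.ψ_mul _ (mul_mem (inv_mem hc) hb) _ hc, S.ψ_mul _ (inv_mem hc) _ hb, S.ψ_inv hc, Fr.X.ψ_b k hk] at e2
  rw [← e2, mul_assoc (S.ψ c)⁻¹, mul_inv_cancel_left]

/-- The map onto the simple group. -/
noncomputable def ψH : ↥(CP z P) →* ↥Cfsg.Spor.M22 where
  toFun c := ⟨S.ψ c, S.ψ_mem c c.2⟩
  map_one' := Subtype.ext S.ψ_one
  map_mul' a b := Subtype.ext (S.ψ_mul _ a.2 _ b.2)

omit [Finite G] in
theorem ψH_surjective : Function.Surjective (Frame.ψH (S := S)) := fun g => by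
  obtain ⟨c, hc, e⟩ := S.ψ_surj g g.2
  exact ⟨⟨c, hc⟩, Subtype.ext e⟩

theorem o_mem_normalizer : Fr.F.o ∈ Subgroup.normalizer (Fr.A : Set G) := Fr.mem_normalizer_of_act Fr.act_o

theorem ker_mem_normalizer {c : G} (hc : c ∈ CP z P) (h : S.ψ c = 1) : c ∈ Subgroup.normalizer (Fr.A : Set G) := by
  have ht : Fr.F.R.t ∈ Subgroup.normalizer (Fr.A : Set G) := Fr.mem_normalizer_of_act Fr.act_t
  have hp : S.p ∈ Subgroup.normalizer (Fr.A : Set G) := by
    rcases Fr.F.R.t_p with e | e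
    · rwa [e] at ht
    · have e' : S.p = Fr.F.R.t * Fr.F.R.t := by
        rw [e, show S.p * S.p * (S.p * S.p) = S.p * S.p * S.p * S.p by group, S.p_pow, one_mul]
      rw [e']; exact mul_mem ht ht
  have hz : z ∈ Subgroup.normalizer (Fr.A : Set G) := Subgroup.le_normalizer Fr.z_mem_A
  rcases S.ker_cases hc h with (e | e | e) | (e | e | e) <;> rw [e]
  exacts [one_mem _, hp, mul_mem hp hp, hz, mul_mem hz hp, mul_mem hz (mul_mem hp hp)]

/-- The image of the normaliser in the simple group. -/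
theorem card_image_normalizer :
    Nat.card ↥(((Subgroup.normalizer (Fr.A : Set G)).subgroupOf (CP z P)).map (Frame.ψH (S := S))) = 5760 := by
  set N := (Subgroup.normalizer (Fr.A : Set G)).subgroupOf (CP z P) with hN
  set L := N.map (Frame.ψH (S := S)) with hL
  have hup : Nat.card ↥L ≤ 5760 := by
    refine le_trans (Nat.card_le_card_of_injective (fun g => (⟨g.1, ?_⟩ :
      ↥(MulAction.stabilizer ↥Cfsg.Spor.M22 (pts hexMask)))) fun a b e => Subtype.ext (by simpa using e)) card_hexStab_le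
    obtain ⟨c, hc, e⟩ := g.2
    rw [MulAction.mem_stabilizer_iff, ← e]
    exact Fr.ψ_smul_hex c.2 (Subgroup.mem_subgroupOf.1 hc)
  have hlo : 5760 ≤ Nat.card ↥L := by
    rw [← Subgroup.card_subtype Cfsg.Spor.M22 L]
    refine card_hexGen_le fun k hk => ?_
    have hmem : ∀ c ∈ CP z P, c ∈ Subgroup.normalizer (Fr.A : Set G) → S.ψ c = permOf (pk k) →
        permOf (pk k) ∈ L.map Cfsg.Spor.M22.subtype := fun c hc hn e =>
      ⟨Frame.ψH (S := S) ⟨c, hc⟩, ⟨⟨c, hc⟩, Subgroup.mem_subgroupOf.2 hn, rfl⟩, e⟩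
    interval_cases k
    iterate 4
      · refine hmem _ (Fr.X.mem _ ?_) (Subgroup.le_normalizer (Fr.mem_A.2 ⟨_, ?_, Fr.Av_high ?_⟩))
          ((Fr.X.ψ_b _ ?_).trans (wordπ_kw_two_pow ?_)) <;> norm_num
    · exact hmem _ Fr.F.R.x_mem (Fr.mem_normalizer_of_act Fr.act_x) Fr.F.R.x_ψ
    · exact hmem _ Fr.F.R.y_mem (Fr.mem_normalizer_of_act Fr.act_y) Fr.F.R.y_ψ
    · exact hmem _ Fr.F.s_mem (Fr.mem_normalizer_of_act Fr.act_s) Fr.F.s_ψ
    · exact hmem _ Fr.F.w_mem (Fr.mem_normalizer_of_act Fr.act_w) Fr.F.w_ψ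
  exact le_antisymm hup hlo

theorem ker_le_normalizer :
    (Frame.ψH (S := S)).ker ≤ (Subgroup.normalizer (Fr.A : Set G)).subgroupOf (CP z P) := fun c hc => by
  rw [Subgroup.mem_subgroupOf]
  exact Fr.ker_mem_normalizer c.2 (congrArg Subtype.val (MonoidHom.mem_ker.1 hc))

/-- The normaliser meets the centraliser of the three-group in a subgroup of index 77. -/
theorem index_normalizer_CP :
    ((Subgroup.normalizer (Fr.A : Set G)).subgroupOf (CP z P)).index = 77 := by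
  set N := (Subgroup.normalizer (Fr.A : Set G)).subgroupOf (CP z P) with hN
  have hcomap : (N.map (Frame.ψH (S := S))).comap (Frame.ψH (S := S)) = N := by
    rw [Subgroup.comap_map_eq, sup_eq_left.2 Fr.ker_le_normalizer]
  rw [← hcomap, Subgroup.index_comap_of_surjective _ ψH_surjective]
  have h := (N.map (Frame.ψH (S := S))).index_mul_card
  rw [Fus.Mathieu.card22, Fr.card_image_normalizer] at h
  omega

/-- The centraliser is covered by the three-group part and the normaliser. -/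
theorem exists_CP_mul {h : G} (hhz : h * z = z * h) :
    ∃ c ∈ CP z P, c⁻¹ * h ∈ Subgroup.normalizer (Fr.A : Set G) := by
  have hEN := Fr.core_mem_normalizer
  rcases S.inner_cases hhz with hi | hi
  · obtain ⟨c, hc, m, hm, rfl⟩ := S.mem_inner.1 hi
    exact ⟨c, hc, by rw [inv_mul_cancel_left]; exact hEN hm⟩
  · have ho : Fr.F.o * S.o⁻¹ ∈ innerH z P :=
      (S.inner_cases Fr.F.o_norm.hz).resolve_left fun hin => by
        have := S.act_inner hin
        have e : Fr.F.o * S.p = S.p * S.p * Fr.F.o := by rw [← Fr.F.o_p, inv_mul_cancel_right]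
        rw [← S.act_mul _ _ Fr.F.o_norm.hz S.pz, e, S.act_mul _ _ S.pp_z Fr.F.o_norm.hz, S.act_mul _ _ S.pz S.pz,
          mul_assoc] at this
        have h2 := congrArg (fun x => x * S.act Fr.F.o⁻¹) this
        simp only [mul_assoc, S.act_mul_inv Fr.F.o_norm.hz, mul_one] at h2
        have h3 := congrArg (fun x => S.act S.p⁻¹ * x) h2
        simp only [← mul_assoc, S.act_inv_mul S.pz, one_mul] at h3
        exact S.act_p_ne h3
    have hio : h * Fr.F.o⁻¹ ∈ innerH z P := by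
      rw [show h * Fr.F.o⁻¹ = h * S.o⁻¹ * (Fr.F.o * S.o⁻¹)⁻¹ by group]
      exact mul_mem hi (inv_mem ho)
    obtain ⟨c, hc, m, hm, e⟩ := S.mem_inner.1 hio
    refine ⟨c, hc, ?_⟩
    rw [show c⁻¹ * h = m * Fr.F.o by rw [mul_inv_eq_iff_eq_mul.1 e]; group]
    exact mul_mem (hEN hm) Fr.o_mem_normalizer

/-- The order of the normaliser in the centraliser. -/
theorem card_normalizer_H :
    Nat.card ↥(Subgroup.normalizer (Fr.A : Set G) ⊓ Subgroup.centralizer ({z} : Set G)) = 2 ^ 11 * 138240 := by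
  set H := Subgroup.centralizer ({z} : Set G) with hH
  set N := Subgroup.normalizer (Fr.A : Set G) with hN
  have hCH : CP z P ≤ H := inf_le_left
  have hidx : N.relIndex H = 77 := by
    rw [← Fr.index_normalizer_CP]
    unfold Subgroup.relIndex Subgroup.index
    let f : ↥(CP z P) ⧸ N.subgroupOf (CP z P) → ↥H ⧸ N.subgroupOf H :=
      Quotient.map' (Subgroup.inclusion hCH) fun a b h => by
        rw [QuotientGroup.leftRel_apply, Subgroup.mem_subgroupOf] at h ⊢
        exact h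
    refine (Nat.card_eq_of_bijective f ⟨?_, ?_⟩).symm
    · rintro ⟨a⟩ ⟨b⟩ e
      have e' := QuotientGroup.eq.1 (e : (QuotientGroup.mk (Subgroup.inclusion hCH a) : ↥H ⧸ N.subgroupOf H) =
        QuotientGroup.mk (Subgroup.inclusion hCH b))
      rw [Subgroup.mem_subgroupOf] at e'
      exact QuotientGroup.eq.2 (Subgroup.mem_subgroupOf.2 e')
    · rintro ⟨h, hh⟩
      have hhz : h * z = z * h := Subgroup.mem_centralizer_singleton_iff.1 hh
      obtain ⟨c, hc, hcn⟩ := Fr.exists_CP_mul hhz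
      exact ⟨QuotientGroup.mk ⟨c, hc⟩, QuotientGroup.eq.2 (Subgroup.mem_subgroupOf.2 hcn)⟩
  have h2 := Subgroup.relIndex_mul_relIndex ⊥ (N ⊓ H) H bot_le inf_le_right
  rw [Subgroup.relIndex_bot_left, Subgroup.relIndex_bot_left, Subgroup.inf_relIndex_right, hidx, S.card_H] at h2
  norm_num at h2 ⊢
  omega

end Cfsg.Agent.Spor.JFour.Frame
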