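import Cfsg.Agent.Lib.Spor.JFourType.OrbitData
import Cfsg.Agent.Lib.Spor.JFourType.NormA
import Cfsg.Agent.Lib.Spor.JFourType.FusionMain

/-!
The conjugates of the involution in the elementary abelian group of order 2¹¹: a union of few orbits of the
normaliser in the centraliser, on which the normaliser is transitive.
-/

set_option autoImplicit false
set_option maxRecDepth 100000
set_option linter.style.haveILetI false

open Cfsg Cfsg.Agent.Spor.Golay
open Cfsg.Agent.Spor.Cos.J4Sub (app mm app_mm app_xor app_zero)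

namespace Cfsg.Agent.Spor.JFour

/-- The parent of a vector. -/
def orbUp (χ v : ℕ) : ℕ := (orbPar χ >>> (16 * v)) % 2048

/-- The generator leading to a vector. -/
def orbBy (χ v : ℕ) : ℕ := (orbPar χ >>> (16 * v)) / 2048 % 32

/-- A path to a representative. -/
def climb (χ j : ℕ) : ℕ → ℕ → Bool
  | 0, v => v == orbRep j
  | f + 1, v => v == orbRep j ||
      (decide (orbBy χ v < 12) && (app ((orbGens χ).getD (orbBy χ v) []) (orbUp χ v) == v) &&
        climb χ j f (orbUp χ v))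

theorem orb_check : ([0, 9].all fun χ => (List.range 2048).all fun v => decide (v < 2) ||
    (((List.range 5).any fun j => (orbMask χ j).testBit v) &&
      (List.range 5).all fun j => !((orbMask χ j).testBit v) || climb χ j 12 v)) = true := by
  decide +kernel

/-- The union of some of the orbits with the involution. -/
def orbUnion (χ s : ℕ) : ℕ :=
  2 ||| (if s.testBit 0 then orbMask χ 0 else 0) ||| (if s.testBit 1 then orbMask χ 1 else 0) |||
    (if s.testBit 2 then orbMask χ 2 else 0) ||| (if s.testBit 3 then orbMask χ 3 else 0) |||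
    (if s.testBit 4 then orbMask χ 4 else 0)

theorem testBit_orbUnion (χ s v : ℕ) : (orbUnion χ s).testBit v = true ↔
    v = 1 ∨ ∃ j < 5, s.testBit j = true ∧ (orbMask χ j).testBit v = true := by
  have h2 : ∀ x, (2 : ℕ).testBit x = true ↔ x = 1 := fun x => by
    rw [show (2 : ℕ) = 2 ^ 1 from rfl, Nat.testBit_two_pow]; simp [eq_comm]
  have hi : ∀ (b : Bool) (m : ℕ), (if b then m else 0).testBit v = (b && m.testBit v) := fun b m => by
    cases b <;> simp
  simp only [orbUnion, Nat.testBit_or, Bool.or_eq_true, h2, hi, Bool.and_eq_true]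
  constructor
  · rintro (((((h | h) | h) | h) | h) | h)
    exacts [Or.inl h, Or.inr ⟨0, by norm_num, h⟩, Or.inr ⟨1, by norm_num, h⟩, Or.inr ⟨2, by norm_num, h⟩,
      Or.inr ⟨3, by norm_num, h⟩, Or.inr ⟨4, by norm_num, h⟩]
  · rintro (h | ⟨j, hj, h⟩)
    · simp [h]
    · interval_cases j <;> simp [h]

/-- The number of translates in a set. -/
def orbCnt (m u : ℕ) : ℕ :=
  ((Finset.range 2048).filter fun w => (m.testBit w && m.testBit (w ^^^ u)) = true).card

/-- The number of bits. -/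
def orbSize (m : ℕ) : ℕ := ((Finset.range 2048).filter fun w => m.testBit w = true).card

/-- The unions with constant count. -/
def orbCands : ℕ → List ℕ
  | 0 => [0, 3, 8, 31]
  | _ => [0, 3, 26, 31]

theorem cnt_check : ([0, 9].all fun χ => (List.range 32).all fun s => (orbCands χ).contains s ||
    (List.range 5).any fun j =>
      s.testBit j && (orbCnt (orbUnion χ s) (orbRep j) != orbCnt (orbUnion χ s) 1)) = true := by
  decide +kernel

theorem union_zero (χ : ℕ) : orbUnion χ 0 = 2 := by simp [orbUnion]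

/-- The orbit of an element under conjugation by a subgroup. -/
theorem card_conj_orbit {G : Type*} [Group G] [Finite G] (N : Subgroup G) (a : G) :
    Nat.card {x : G // ∃ n ∈ N, n * a * n⁻¹ = x} * Nat.card ↥(N ⊓ Subgroup.centralizer ({a} : Set G)) =
      Nat.card ↥N := by
  classical
  set C := (Subgroup.centralizer ({a} : Set G)).subgroupOf N with hC
  have hbij : Function.Bijective fun q : ↥N ⧸ C => (⟨(q.out : G) * a * (q.out : G)⁻¹, q.out, q.out.2, rfl⟩ :
      {x : G // ∃ n ∈ N, n * a * n⁻¹ = x}) := by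
    have key : ∀ m n : ↥N, (m : G) * a * (m : G)⁻¹ = (n : G) * a * (n : G)⁻¹ ↔ m⁻¹ * n ∈ C := fun m n => by
      rw [hC, Subgroup.mem_subgroupOf, Subgroup.mem_centralizer_singleton_iff, Subgroup.coe_mul, Subgroup.coe_inv]
      constructor
      · intro e
        calc (m : G)⁻¹ * n * a = (m : G)⁻¹ * ((n : G) * a * (n : G)⁻¹) * n := by group
          _ = (m : G)⁻¹ * ((m : G) * a * (m : G)⁻¹) * n := by rw [e]
          _ = a * ((m : G)⁻¹ * n) := by group
      · intro e
        calc (m : G) * a * (m : G)⁻¹ = (m : G) * (a * ((m : G)⁻¹ * n)) * (n : G)⁻¹ := by group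
          _ = (m : G) * ((m : G)⁻¹ * n * a) * (n : G)⁻¹ := by rw [e]
          _ = _ := by group
    refine ⟨fun p q e => ?_, fun ⟨x, n, hn, e⟩ => ⟨QuotientGroup.mk (⟨n, hn⟩ : ↥N), Subtype.ext ?_⟩⟩
    · rw [← QuotientGroup.out_eq' p, ← QuotientGroup.out_eq' q]
      exact QuotientGroup.eq.2 ((key _ _).1 (congrArg Subtype.val e))
    · exact ((key _ (⟨n, hn⟩ : ↥N)).2 (QuotientGroup.eq.1 (QuotientGroup.out_eq' _))).trans e
  have hcard : Nat.card ↥C = Nat.card ↥(N ⊓ Subgroup.centralizer ({a} : Set G)) := by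
    rw [hC, ← Subgroup.inf_subgroupOf_left]
    exact Nat.card_congr (Subgroup.subgroupOfEquivOfLe inf_le_left).toEquiv
  rw [← Nat.card_eq_of_bijective _ hbij, ← hcard]
  exact (Subgroup.card_eq_card_quotient_mul_card_subgroup C).symm

namespace Frame

variable {G : Type*} [Group G] {z : G} {P : Subgroup G} {S : Setting z P} (Fr : Frame S) [Finite G]

/-- The coordinate gives a conjugate of the involution. -/
def InO (v : ℕ) : Prop := ∃ g : G, g * z * g⁻¹ = Fr.Av v

theorem inO_one : Fr.InO 1 := ⟨1, by rw [Fr.Av_one]; group⟩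

theorem not_inO_zero : ¬ Fr.InO 0 := fun ⟨g, e⟩ => by
  rw [Fr.Av_zero, mul_inv_eq_iff_eq_mul, one_mul, mul_eq_left] at e
  exact S.ext.ne e

theorem inO_act {g : G} {M : List ℕ} (h : Fr.Act g M) {u : ℕ} (hu : u < 2048) :
    Fr.InO (app M u) ↔ Fr.InO u := by
  constructor
  · rintro ⟨k, e⟩
    refine ⟨g⁻¹ * k, ?_⟩
    rw [show g⁻¹ * k * z * (g⁻¹ * k)⁻¹ = g⁻¹ * (k * z * k⁻¹) * g by group, e, ← h.eq u hu]
    group
  · rintro ⟨k, e⟩
    refine ⟨g * k, ?_⟩
    rw [show g * k * z * (g * k)⁻¹ = g * (k * z * k⁻¹) * g⁻¹ by group, e, h.eq u hu]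

theorem act_gen : ∀ i < 12, ∃ g : G, g * z = z * g ∧ Fr.Act g ((orbGens Fr.χ).getD i []) := by
  intro i hi
  have htr : ∀ k < 6, ∃ g : G, g * z = z * g ∧ Fr.Act g (m11T k) := fun k hk =>
    ⟨_, S.ext.central _ (Fr.F.toCoord.lh_spec _).1, Fr.act_tr hk⟩
  interval_cases i
  exacts [⟨_, S.commz Fr.F.R.x_mem, Fr.act_x⟩, ⟨_, S.commz Fr.F.R.y_mem, Fr.act_y⟩,
    ⟨_, S.commz Fr.F.s_mem, Fr.act_s⟩, ⟨_, S.commz Fr.F.w_mem, Fr.act_w⟩, ⟨_, Fr.F.o_norm.hz, Fr.act_o⟩,
    ⟨_, S.commz Fr.F.toCoord.t_mem, Fr.act_t⟩, htr 0 (by norm_num), htr 1 (by norm_num), htr 2 (by norm_num),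
    htr 3 (by norm_num), htr 4 (by norm_num), htr 5 (by norm_num)]

theorem climb_iff (j : ℕ) : ∀ f v, climb Fr.χ j f v = true → v < 2048 → (Fr.InO v ↔ Fr.InO (orbRep j))
  | 0, v, h, _ => by rw [climb, beq_iff_eq] at h; rw [h]
  | f + 1, v, h, hv => by
    simp only [climb, Bool.or_eq_true, Bool.and_eq_true, beq_iff_eq, decide_eq_true_eq] at h
    rcases h with h | ⟨⟨hi, e⟩, h⟩
    · rw [h]
    have hu : orbUp Fr.χ v < 2048 := Nat.mod_lt _ (by norm_num)
    obtain ⟨g, -, hg⟩ := Fr.act_gen _ hi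
    rw [← climb_iff j f _ h hu, ← Fr.inO_act hg hu, e]

theorem χ_mem : Fr.χ ∈ [0, 9] := by rcases Fr.χ_cases with e | e <;> simp [e]

/-- The conjugates form a union of orbits. -/
theorem exists_union : ∃ s < 32, ∀ v < 2048, (Fr.InO v ↔ (orbUnion Fr.χ s).testBit v = true) := by
  classical
  obtain ⟨s, hs, hbit⟩ : ∃ s < 32, ∀ j < 5, (s.testBit j = true ↔ Fr.InO (orbRep j)) := by
    suffices h : ∀ b : ℕ → Bool, ∃ s < 32, ∀ j < 5, s.testBit j = b j by
      obtain ⟨s, hs, h⟩ := h fun j => decide (Fr.InO (orbRep j))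
      exact ⟨s, hs, fun j hj => by rw [h j hj, decide_eq_true_eq]⟩
    intro b
    refine ⟨bn (b 0) + 2 * bn (b 1) + 4 * bn (b 2) + 8 * bn (b 3) + 16 * bn (b 4), ?_, fun j hj => ?_⟩
    · unfold bn; split_ifs <;> norm_num
    · interval_cases j <;> cases b 0 <;> cases b 1 <;> cases b 2 <;> cases b 3 <;> cases b 4 <;> rfl
  refine ⟨s, hs, fun v hv => ?_⟩
  have hc := List.all_eq_true.1 (List.all_eq_true.1 orb_check _ Fr.χ_mem) v (List.mem_range.2 hv)
  simp only [Bool.or_eq_true, decide_eq_true_eq, Bool.and_eq_true, List.any_eq_true, List.mem_range,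
    List.all_eq_true, Bool.not_eq_true'] at hc
  rcases hc with hc | ⟨⟨j, hj, hjv⟩, hall⟩
  · interval_cases v
    · refine iff_of_false Fr.not_inO_zero ?_
      rw [testBit_orbUnion]
      rintro (h | ⟨j, hj, -, h⟩)
      · exact absurd h (by norm_num)
      · rcases Fr.χ_cases with e | e <;> rw [e] at h <;> interval_cases j <;> revert h <;> decide +kernel
    · exact iff_of_true Fr.inO_one ((testBit_orbUnion _ _ _).2 (Or.inl rfl))
  · have hiff : ∀ k < 5, (orbMask Fr.χ k).testBit v = true → (Fr.InO v ↔ Fr.InO (orbRep k)) := fun k hk h =>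
      Fr.climb_iff k 12 v ((hall k hk).resolve_left (by simp [h])) hv
    rw [testBit_orbUnion]
    constructor
    · intro h
      exact Or.inr ⟨j, hj, (hbit j hj).2 ((hiff j hj hjv).1 h), hjv⟩
    · rintro (rfl | ⟨k, hk, h1, h2⟩)
      · exact Fr.inO_one
      · exact (hiff k hk h2).2 ((hbit k hk).1 h1)

/-- Translates counted at a conjugate. -/
theorem cnt_le {m : ℕ} (hm : ∀ v < 2048, (Fr.InO v ↔ m.testBit v = true)) {n : G}
    (hn : n ∈ Subgroup.normalizer (Fr.A : Set G)) {a b : ℕ} (ha : a < 2048) (hb : b < 2048)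
    (e : n * Fr.Av a * n⁻¹ = Fr.Av b) : orbCnt m a ≤ orbCnt m b := by
  classical
  have hπ : ∀ w, ∃ v, w < 2048 → v < 2048 ∧ Fr.Av v = n * Fr.Av w * n⁻¹ := fun w => by
    by_cases hw : w < 2048
    · obtain ⟨v, hv, ev⟩ := (Subgroup.mem_normalizer_iff.1 hn _).1 (Fr.Av_mem hw)
      exact ⟨v, fun _ => ⟨hv, ev⟩⟩
    · exact ⟨0, fun h => absurd h hw⟩
  choose π hπ using hπ
  have hI : ∀ w < 2048, m.testBit w = true → m.testBit (π w) = true := fun w hw h => by
    obtain ⟨k, ek⟩ := (hm w hw).2 h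
    refine (hm _ (hπ w hw).1).1 ⟨n * k, ?_⟩
    rw [(hπ w hw).2, ← ek]
    group
  refine Finset.card_le_card_of_injOn π (fun w hw => ?_) (fun v hv w hw evw => ?_)
  · simp only [Finset.mem_coe, Finset.mem_filter, Finset.mem_range, Bool.and_eq_true] at hw ⊢
    obtain ⟨hw, h1, h2⟩ := hw
    have hwa : w ^^^ a < 2048 := Nat.xor_lt_two_pow (n := 11) hw ha
    refine ⟨(hπ w hw).1, hI w hw h1, ?_⟩
    have e2 : π (w ^^^ a) = π w ^^^ b := Fr.Av_inj (hπ _ hwa).1 (Nat.xor_lt_two_pow (n := 11) (hπ w hw).1 hb) (by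
      rw [(hπ _ hwa).2, ← Fr.Av_mul (hπ w hw).1 hb, (hπ w hw).2, ← e, ← Fr.Av_mul hw ha]
      group)
    rw [← e2]
    exact hI _ hwa h2
  · simp only [Finset.mem_coe, Finset.mem_filter, Finset.mem_range] at hv hw
    refine Fr.Av_inj hv.1 hw.1 ?_
    have h := congrArg Fr.Av evw
    rw [(hπ v hv.1).2, (hπ w hw.1).2] at h
    exact mul_left_cancel (mul_right_cancel h)

variable [IsSimpleGroup G]

/-- The possible unions. -/
theorem exists_candidate (hG : ¬ IsMulCommutative G) :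
    ∃ s ∈ orbCands Fr.χ, s ≠ 0 ∧ ∀ v < 2048, (Fr.InO v ↔ (orbUnion Fr.χ s).testBit v = true) := by
  obtain ⟨s, hs, hm⟩ := Fr.exists_union
  refine ⟨s, ?_, ?_, hm⟩
  · have hc := List.all_eq_true.1 (List.all_eq_true.1 cnt_check _ Fr.χ_mem) s (List.mem_range.2 hs)
    simp only [Bool.or_eq_true, List.contains_iff_mem, List.any_eq_true, List.mem_range, Bool.and_eq_true,
      bne_iff_ne] at hc
    rcases hc with hc | ⟨j, hj, hjs, hne⟩
    · exact hc
    exfalso
    have hr : orbRep j < 2048 := by interval_cases j <;> decide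
    have hj2 : (orbMask Fr.χ j).testBit (orbRep j) = true := by
      rcases Fr.χ_cases with e | e <;> rw [e] <;> interval_cases j <;> decide +kernel
    obtain ⟨g, hg⟩ := (hm _ hr).2 ((testBit_orbUnion _ _ _).2 (Or.inr ⟨j, hj, hjs, hj2⟩))
    obtain ⟨n, hn, en⟩ := Fr.conj_in_normalizer (g := g) (hg ▸ Fr.Av_mem hr)
    refine hne (le_antisymm ?_ ?_)
    · refine Fr.cnt_le hm (inv_mem hn) hr (by norm_num) ?_
      rw [Fr.Av_one, ← hg, ← en]
      group
    · exact Fr.cnt_le hm hn (by norm_num) hr (by rw [Fr.Av_one, en, hg])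
  · rintro rfl
    obtain ⟨g, hgA, hne⟩ := Fr.exists_fusion hG
    obtain ⟨v, hv, e⟩ := Fr.mem_A.1 hgA
    have h := (hm v hv).1 ⟨g, e.symm⟩
    rw [union_zero, show (2 : ℕ) = 2 ^ 1 from rfl, Nat.testBit_two_pow, decide_eq_true_eq] at h
    subst h
    exact hne (by rw [← e, Fr.Av_one])

omit [IsSimpleGroup G] in
/-- The order of the normaliser. -/
theorem card_normalizer_of_union {m : ℕ} (hm : ∀ v < 2048, (Fr.InO v ↔ m.testBit v = true)) :
    Nat.card ↥(Subgroup.normalizer (Fr.A : Set G)) = orbSize m * (2 ^ 11 * 138240) := by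
  classical
  rw [← card_conj_orbit (Subgroup.normalizer (Fr.A : Set G)) z, Fr.card_normalizer_H]
  congr 1
  rw [orbSize, ← Nat.card_eq_finsetCard]
  refine (Nat.card_eq_of_bijective (fun v : {v // v ∈ (Finset.range 2048).filter fun w => m.testBit w = true} =>
    (⟨Fr.Av v.1, ?_⟩ : {x : G // ∃ n ∈ Subgroup.normalizer (Fr.A : Set G), n * z * n⁻¹ = x})) ⟨?_, ?_⟩).symm
  · obtain ⟨hv, h⟩ := Finset.mem_filter.1 v.2
    obtain ⟨g, hg⟩ := (hm _ (Finset.mem_range.1 hv)).2 h
    obtain ⟨n, hn, e⟩ := Fr.conj_in_normalizer (g := g) (hg ▸ Fr.Av_mem (Finset.mem_range.1 hv))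
    exact ⟨n, hn, e.trans hg⟩
  · intro v w e
    exact Subtype.ext (Fr.Av_inj (Finset.mem_range.1 (Finset.mem_filter.1 v.2).1)
      (Finset.mem_range.1 (Finset.mem_filter.1 w.2).1) (congrArg Subtype.val e))
  · rintro ⟨x, n, hn, e⟩
    obtain ⟨v, hv, ev⟩ := Fr.mem_A.1 ((Subgroup.mem_normalizer_iff.1 hn z).1 Fr.z_mem_A)
    refine ⟨⟨v, Finset.mem_filter.2 ⟨Finset.mem_range.2 hv, (hm v hv).1 ⟨n, ev.symm⟩⟩⟩, Subtype.ext ?_⟩
    exact ev.trans e

end Frame

end Cfsg.Agent.Spor.JFour
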