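import Cfsg.Agent.Lib.Spor.JFourType.Basic
import Cfsg.Agent.Lib.Spor.JFourType.Orbit
import Cfsg.Agent.Lib.Block.Mathieu.Search

/-!
The elements of order three of the simple group on 22 points: they form one class, their centralisers have
pairwise commuting involutions, and the normaliser of the Sylow three-group has order 72.
-/

set_option autoImplicit false
set_option maxRecDepth 100000

open Cfsg Cfsg.Agent.Spor.Golay
open scoped Pointwise
open Cfsg.Agent.Block.Mathieu (relTest relTest_ok relFull relFull_ok allOf mem_allOf)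

namespace Cfsg.Agent.Spor.JFour

/-- The word of an element of the Sylow three-group. -/
def threeWord (i j : ℕ) : List ℕ := List.replicate i 4 ++ List.replicate j 5

/-- The elements of the Sylow three-group, packed. -/
def nineList : List ℕ := (List.range 3).flatMap fun i => (List.range 3).map fun j => wordP (threeWord i j)

/-- Carries a conjugate of the first generator with convenient cycles to it. -/
def baseA : ℕ := 0xa86547c53370cea6aecc2c10620ae0

/-- Its inverse. -/
def baseAi : ℕ := 0xa6f4856469bd6853225690e370ac0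

/-- The conjugate. -/
def baseE : ℕ := 0x4daa59c1aba38c793117545e220c20

/-- Compatibility with the conjugate and the two fixed points. -/
def baseTest (Q : ℕ) (cs : List ℕ) : Bool :=
  relTest baseE baseE Q cs && cs.all fun c => Nat.blt 1 c || Nat.beq (Golay.get Q c) c

/-- The centraliser of the first generator, packed. -/
def centList : List ℕ :=
  ((allOf baseTest).filter (relFull baseE baseE)).map fun R => comp baseA (comp R baseAi)

theorem base_check : inM24 baseA = true ∧ valid baseAi = true ∧ valid baseE = true ∧ comp baseAi baseA = idP ∧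
    comp baseAi (comp (pk 4) baseA) = baseE ∧ Golay.get baseA 0 = 0 ∧ Golay.get baseA 1 = 23 := by decide +kernel

/-- Words carrying the elements of order three to the first generator. -/
def toFirst : List (List ℕ) := [[], [6, 6, 6], [6], [], [8, 6], [8, 6, 6], [6, 6], [8], [6, 8]]

set_option maxHeartbeats 0 in
theorem cent_check :
    (centList.all fun R => centList.all fun T => !(Nat.beq (comp R R) idP) || !(Nat.beq (comp T T) idP) ||
      Nat.beq (comp R T) (comp T R)) = true ∧
    (centList.filter fun R => nineList.any fun w => Nat.beq (comp R (pk 5)) (comp w R)).length ≤ 9 := by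
  decide +kernel

theorem nine_check :
    ((List.range 3).all fun i => (List.range 3).all fun j => (List.range 3).all fun k => (List.range 3).all fun l =>
      (wordP (threeWord i j ++ threeWord k l) == wordP (threeWord ((i + k) % 3) ((j + l) % 3))) &&
        ((i == k && j == l) || wordP (threeWord i j) != wordP (threeWord k l))) = true ∧
    ((List.range 3).all fun i => (List.range 3).all fun j => (i == 0 && j == 0) ||
      (wordP (toFirst.getD (3 * i + j) [] ++ threeWord i j) == wordP ([4] ++ toFirst.getD (3 * i + j) [])) &&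
      ((toFirst.getD (3 * i + j) []).all fun k => decide (k < 9)) &&
      (List.range 3).all fun a => (List.range 3).all fun b => (List.range 3).any fun c => (List.range 3).any fun d =>
        wordP (toFirst.getD (3 * i + j) [] ++ threeWord a b) == wordP (threeWord c d ++ toFirst.getD (3 * i + j) [])) =
      true := by
  decide +kernel

theorem pack_get_comp (P Q : ℕ) : comp P Q = pack 24 (Golay.get (comp P Q)) := by
  show pack 24 (fun i => Golay.get P (Golay.get Q i)) = pack 24 (Golay.get (comp P Q))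
  exact Census.pack_ext 24 _ _ fun i hi => (get_comp P Q hi).symm

theorem pack_get (w : List ℕ) : wordP w = pack 24 (Golay.get (wordP w)) := by
  cases w with
  | nil =>
    rw [wordP]
    exact Census.pack_ext 24 _ _ fun i hi => (get_idP hi).symm
  | cons k w =>
    rw [wordP]
    generalize pk k = a
    generalize wordP w = b
    exact pack_get_comp a b

theorem wordπ_inj_get {u v : List ℕ} (h : wordπ u = wordπ v) : wordP u = wordP v := by
  rw [wordπ_eq, wordπ_eq] at h
  rw [pack_get u, pack_get v]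
  exact Census.pack_ext 24 _ _ fun i hi => Block.Mathieu.eq_packed (wordP_valid u) (wordP_valid v) h hi

theorem comp_eq_of_perm {a b c d : ℕ} (ha : valid a = true) (hb : valid b = true) (hc : valid c = true)
    (hd : valid d = true) (h : permOf (comp a b) = permOf (comp c d)) : comp a b = comp c d :=
  Census.pack_ext 24 _ _ fun i hi => by
    have h1 := Block.Mathieu.eq_packed (valid_comp ha hb) (valid_comp hc hd) h hi
    rwa [get_comp _ _ hi, get_comp _ _ hi] at h1

theorem comp_sq_eq_idP {a : ℕ} (ha : valid a = true) (h : permOf a * permOf a = 1) : comp a a = idP :=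
  Census.pack_ext 24 _ _ fun i hi => by
    have h1 := Block.Mathieu.eq_packed (valid_comp ha ha) valid_idP (by rw [permOf_comp ha ha, h, permOf_idP]) hi
    rwa [get_comp _ _ hi, get_idP hi] at h1

/-- The Sylow three-group. -/
def nineGrp : Subgroup (Equiv.Perm GolayPt) where
  carrier := {g | ∃ i < 3, ∃ j < 3, wordπ (threeWord i j) = g}
  one_mem' := ⟨0, by norm_num, 0, by norm_num, rfl⟩
  mul_mem' := by
    rintro _ _ ⟨i, hi, j, hj, rfl⟩ ⟨k, hk, l, hl, rfl⟩
    refine ⟨(i + k) % 3, Nat.mod_lt _ (by norm_num), (j + l) % 3, Nat.mod_lt _ (by norm_num), ?_⟩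
    have h := List.all_eq_true.1 (List.all_eq_true.1 (List.all_eq_true.1 (List.all_eq_true.1 nine_check.1 i
      (List.mem_range.2 hi)) j (List.mem_range.2 hj)) k (List.mem_range.2 hk)) l (List.mem_range.2 hl)
    simp only [Bool.and_eq_true, beq_iff_eq] at h
    rw [← wordπ_congr h.1]
    simp [wordπ]
  inv_mem' := by
    rintro _ ⟨i, hi, j, hj, rfl⟩
    refine ⟨(3 - i) % 3, Nat.mod_lt _ (by norm_num), (3 - j) % 3, Nat.mod_lt _ (by norm_num),
      eq_inv_of_mul_eq_one_left ?_⟩
    have h := List.all_eq_true.1 (List.all_eq_true.1 (List.all_eq_true.1 (List.all_eq_true.1 nine_check.1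
      ((3 - i) % 3) (List.mem_range.2 (Nat.mod_lt _ (by norm_num)))) ((3 - j) % 3)
      (List.mem_range.2 (Nat.mod_lt _ (by norm_num)))) i (List.mem_range.2 hi)) j (List.mem_range.2 hj)
    simp only [Bool.and_eq_true, beq_iff_eq] at h
    rw [show wordπ (threeWord ((3 - i) % 3) ((3 - j) % 3)) * wordπ (threeWord i j) =
      wordπ (threeWord ((3 - i) % 3) ((3 - j) % 3) ++ threeWord i j) by simp [wordπ], wordπ_congr h.1,
      show ((3 - i) % 3 + i) % 3 = 0 by omega, show ((3 - j) % 3 + j) % 3 = 0 by omega]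
    rfl

theorem mem_nineGrp {g : Equiv.Perm GolayPt} : g ∈ nineGrp ↔ ∃ i < 3, ∃ j < 3, wordπ (threeWord i j) = g := Iff.rfl

theorem nineGrp_le : nineGrp ≤ Cfsg.Spor.M22 := by
  rintro _ ⟨i, -, j, -, rfl⟩
  refine list_prod_mem fun g hg => ?_
  obtain ⟨k, hk, rfl⟩ := List.mem_map.1 hg
  refine pk_mem ?_
  simp only [threeWord, List.mem_append, List.mem_replicate] at hk
  omega

theorem x0_mem : permOf (pk 4) ∈ nineGrp := ⟨1, by norm_num, 0, by norm_num, by simp [threeWord, wordπ]⟩

theorem y0_mem : permOf (pk 5) ∈ nineGrp := ⟨0, by norm_num, 1, by norm_num, by simp [threeWord, wordπ]⟩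

theorem nineGrp_comm {a b : Equiv.Perm GolayPt} (ha : a ∈ nineGrp) (hb : b ∈ nineGrp) : a * b = b * a := by
  obtain ⟨i, hi, j, hj, rfl⟩ := ha
  obtain ⟨k, hk, l, hl, rfl⟩ := hb
  have h1 := List.all_eq_true.1 (List.all_eq_true.1 (List.all_eq_true.1 (List.all_eq_true.1 nine_check.1 i
    (List.mem_range.2 hi)) j (List.mem_range.2 hj)) k (List.mem_range.2 hk)) l (List.mem_range.2 hl)
  have h2 := List.all_eq_true.1 (List.all_eq_true.1 (List.all_eq_true.1 (List.all_eq_true.1 nine_check.1 k
    (List.mem_range.2 hk)) l (List.mem_range.2 hl)) i (List.mem_range.2 hi)) j (List.mem_range.2 hj)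
  simp only [Bool.and_eq_true, beq_iff_eq] at h1 h2
  have e1 := wordπ_congr h1.1
  have e2 := wordπ_congr h2.1
  rw [Nat.add_comm k i, Nat.add_comm l j] at e2
  simpa [wordπ] using e1.trans e2.symm

theorem card_nineGrp : Nat.card ↥nineGrp = 9 := by
  rw [show (9 : ℕ) = Nat.card (Fin 3 × Fin 3) by simp]
  refine (Nat.card_eq_of_bijective (fun u : Fin 3 × Fin 3 =>
    (⟨wordπ (threeWord u.1 u.2), u.1, u.1.2, u.2, u.2.2, rfl⟩ : ↥nineGrp)) ⟨?_, ?_⟩).symm
  · rintro ⟨i, j⟩ ⟨k, l⟩ e
    have h := List.all_eq_true.1 (List.all_eq_true.1 (List.all_eq_true.1 (List.all_eq_true.1 nine_check.1 i.1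
      (List.mem_range.2 i.2)) j.1 (List.mem_range.2 j.2)) k.1 (List.mem_range.2 k.2)) l.1 (List.mem_range.2 l.2)
    simp only [Bool.and_eq_true, Bool.or_eq_true, beq_iff_eq, bne_iff_ne] at h
    have e' := wordπ_inj_get (congrArg Subtype.val e)
    exact Prod.ext (Fin.ext (h.2.resolve_right fun g => g e').1) (Fin.ext (h.2.resolve_right fun g => g e').2)
  · rintro ⟨g, i, hi, j, hj, e⟩
    exact ⟨(⟨i, hi⟩, ⟨j, hj⟩), Subtype.ext e⟩

/-- The non-identity elements of the Sylow three-group are conjugate to the first generator by elements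
normalising it. -/
theorem nine_conj {g : Equiv.Perm GolayPt} (hg : g ∈ nineGrp) (hne : g ≠ 1) :
    ∃ h ∈ Cfsg.Spor.M22, h * g * h⁻¹ = permOf (pk 4) ∧ ∀ a ∈ nineGrp, h * a * h⁻¹ ∈ nineGrp := by
  obtain ⟨i, hi, j, hj, rfl⟩ := hg
  have h := List.all_eq_true.1 (List.all_eq_true.1 nine_check.2 i (List.mem_range.2 hi)) j (List.mem_range.2 hj)
  set w := toFirst.getD (3 * i + j) [] with hw
  simp only [Bool.or_eq_true, Bool.and_eq_true, beq_iff_eq, List.all_eq_true, decide_eq_true_eq, List.any_eq_true,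
    List.mem_range] at h
  rcases h with ⟨rfl, rfl⟩ | ⟨⟨e, hlt⟩, hn⟩
  · exact absurd rfl hne
  refine ⟨wordπ w, list_prod_mem fun g hg => ?_, ?_, ?_⟩
  · obtain ⟨k, hk, rfl⟩ := List.mem_map.1 hg
    exact pk_mem (hlt k hk)
  · have e' := wordπ_congr e
    rw [mul_inv_eq_iff_eq_mul]
    simpa [wordπ] using e'
  · rintro _ ⟨a, ha, b, hb, rfl⟩
    obtain ⟨c, hc, d, hd, ec⟩ := hn a ha b hb
    refine ⟨c, hc, d, hd, ?_⟩
    have e' := wordπ_congr ec
    rw [eq_mul_inv_iff_mul_eq]
    simpa [wordπ] using e'.symm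

/-- One class of elements of order three. -/
theorem three_conj {g : Equiv.Perm GolayPt} (hg : g ∈ Cfsg.Spor.M22) (h3 : g * g * g = 1) (hne : g ≠ 1) :
    ∃ h ∈ Cfsg.Spor.M22, h * g * h⁻¹ = permOf (pk 4) := by
  haveI : Fact (Nat.Prime 3) := ⟨Nat.prime_three⟩
  let Q : Sylow 3 ↥Cfsg.Spor.M22 := Sylow.ofCard (nineGrp.subgroupOf Cfsg.Spor.M22) (by
    rw [Nat.card_congr (Subgroup.subgroupOfEquivOfLe nineGrp_le).toEquiv, card_nineGrp, Fus.Mathieu.card22]
    have h1 : 3 ^ 2 ∣ 443520 := by norm_num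
    have h2 : ¬ 3 ^ 3 ∣ 443520 := by norm_num
    rw [Nat.Prime.pow_dvd_iff_le_factorization Nat.prime_three (by norm_num)] at h1 h2
    rw [show Nat.factorization 443520 3 = 2 by omega]; norm_num)
  set x : ↥Cfsg.Spor.M22 := ⟨g, hg⟩
  have hx3 : x ^ 3 = 1 := Subtype.ext (by rw [SubmonoidClass.coe_pow, pow_three']; exact h3)
  obtain ⟨R, hR⟩ := (IsPGroup.of_card (p := 3) (n := 1) (G := ↥(Subgroup.zpowers x)) (by
    rw [Nat.card_zpowers, orderOf_eq_prime hx3 (fun e => hne (congrArg Subtype.val e)), pow_one])).exists_le_sylow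
  obtain ⟨k, hk⟩ := MulAction.exists_smul_eq ↥Cfsg.Spor.M22 R Q
  have h1 : (MulAut.conj k) • x ∈ (MulAut.conj k) • (R : Subgroup ↥Cfsg.Spor.M22) :=
    Subgroup.smul_mem_pointwise_smul _ _ _ (hR (Subgroup.mem_zpowers x))
  change _ ∈ ((k • R : Sylow 3 ↥Cfsg.Spor.M22) : Subgroup ↥Cfsg.Spor.M22) at h1
  rw [hk, Sylow.coe_ofCard, Subgroup.mem_subgroupOf] at h1
  change (k : Equiv.Perm GolayPt) * g * (k : Equiv.Perm GolayPt)⁻¹ ∈ nineGrp at h1
  obtain ⟨h, hh, e, -⟩ := nine_conj h1 (fun e => hne (conj_eq_one_iff.1 e))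
  exact ⟨h * k, mul_mem hh k.2, by rw [← e]; group⟩

theorem mem_centList {g : Equiv.Perm GolayPt} (hg : g ∈ Cfsg.Spor.M22)
    (hc : g * permOf (pk 4) = permOf (pk 4) * g) : ∃ R ∈ centList, valid R = true ∧ permOf R = g := by
  obtain ⟨ha, hai, he, hinv, hE, a0, a1⟩ := base_check
  have hva : valid baseA = true := by
    rw [inM24, Bool.and_eq_true] at ha
    exact ha.1
  have hinv' : permOf baseAi = (permOf baseA)⁻¹ :=
    eq_inv_of_mul_eq_one_left (by rw [← permOf_comp hai hva, hinv, permOf_idP])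
  have hEp : permOf baseE = (permOf baseA)⁻¹ * (permOf (pk 4) * permOf baseA) := by
    rw [← hE, permOf_comp hai (valid_comp (pk_valid 4) hva), permOf_comp (pk_valid 4) hva, hinv']
  set g' := (permOf baseA)⁻¹ * g * permOf baseA with hg'
  have hM := mem_Fix.1 (Fus.Mathieu.fix22 ▸ hg)
  have hfix : ∀ i, i = 0 ∨ i = 23 → g (pt i) = pt i := by
    have h1 := hM.2.1 8388608 (by simp)
    have h2 := hM.2.1 1 (by simp)
    rintro i (rfl | rfl)
    · rw [Fus.Mathieu.pts_zero, Finset.smul_finset_singleton, Finset.singleton_inj] at h2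
      rw [show pt 0 = (some 0 : GolayPt) by decide]; exact h2
    · rw [Fus.Mathieu.pts_top, Finset.smul_finset_singleton, Finset.singleton_inj] at h1
      rw [show pt 23 = (none : GolayPt) by decide]; exact h1
  have hbase : ∀ c ≤ 1, g' (pt c) = pt c := by
    intro c hc
    have h : permOf baseA (pt c) = pt (Golay.get baseA c) := by
      rw [permOf_apply hva, Golay.app, idx_pt (by omega)]
    have h2 : g (permOf baseA (pt c)) = permOf baseA (pt c) := by
      rw [h]
      refine hfix _ ?_
      interval_cases c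
      exacts [Or.inl a0, Or.inr a1]
    rw [hg', Equiv.Perm.mul_apply, Equiv.Perm.mul_apply, h2]
    exact (permOf baseA).symm_apply_apply _
  have hcomm : g' * permOf baseE = permOf baseE * g' := by
    rw [hEp, hg']
    calc (permOf baseA)⁻¹ * g * permOf baseA * ((permOf baseA)⁻¹ * (permOf (pk 4) * permOf baseA))
        = (permOf baseA)⁻¹ * (g * permOf (pk 4)) * permOf baseA := by group
      _ = (permOf baseA)⁻¹ * (permOf (pk 4) * g) * permOf baseA := by rw [hc]
      _ = _ := by group
  have hg24 : g' ∈ M24 := mul_mem (mul_mem (inv_mem (permOf_mem_M24 ha)) hM.1) (permOf_mem_M24 ha)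
  obtain ⟨R, hR, hv, e⟩ := mem_allOf hg24 (test := baseTest) fun Q cs hQ h => by
    simp only [baseTest, Bool.and_eq_true, List.all_eq_true, Bool.or_eq_true]
    refine ⟨relTest_ok he he hcomm hQ h, fun c hcs => ?_⟩
    by_cases h1 : c ≤ 1
    · have h2 := congrArg idx ((h c hcs).trans (hbase c h1))
      rw [idx_permOf hQ, idx_pt (by omega)] at h2
      exact Or.inr (by rw [h2]; exact Nat.beq_refl _)
    · exact Or.inl (by simp [Nat.blt]; omega)
  refine ⟨comp baseA (comp R baseAi), List.mem_map.2 ⟨R, List.mem_filter.2 ⟨hR, relFull_ok he he hv ?_⟩, rfl⟩,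
    valid_comp hva (valid_comp hv hai), ?_⟩
  · rw [e]; exact hcomm
  · rw [permOf_comp hva (valid_comp hv hai), permOf_comp hv hai, e, hinv', hg']
    group

/-- Involutions centralising an element of order three commute. -/
theorem invs_commute {a b x : Equiv.Perm GolayPt} (ha : a ∈ Cfsg.Spor.M22) (hb : b ∈ Cfsg.Spor.M22)
    (hx : x ∈ Cfsg.Spor.M22) (a2 : a * a = 1) (b2 : b * b = 1) (hx3 : x * x * x = 1) (hxne : x ≠ 1)
    (hax : a * x = x * a) (hbx : b * x = x * b) : a * b = b * a := by
  obtain ⟨h, hh, e⟩ := three_conj hx hx3 hxne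
  have hc : ∀ c ∈ Cfsg.Spor.M22, c * x = x * c →
      ∃ R ∈ centList, valid R = true ∧ permOf R = h * c * h⁻¹ := fun c hcM hcx =>
    mem_centList (mul_mem (mul_mem hh hcM) (inv_mem hh)) (by
      rw [← e]
      calc h * c * h⁻¹ * (h * x * h⁻¹) = h * (c * x) * h⁻¹ := by group
        _ = h * (x * c) * h⁻¹ := by rw [hcx]
        _ = _ := by group)
  obtain ⟨R, hR, hRv, eR⟩ := hc a ha hax
  obtain ⟨T, hT, hTv, eT⟩ := hc b hb hbx
  have hsq : ∀ {S : ℕ} {c : Equiv.Perm GolayPt}, valid S = true → permOf S = h * c * h⁻¹ → c * c = 1 →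
      Nat.beq (comp S S) idP = true := by
    intro S c hS eS c2
    rw [comp_sq_eq_idP hS (by rw [eS, show h * c * h⁻¹ * (h * c * h⁻¹) = h * (c * c) * h⁻¹ by group, c2]; group)]
    exact Nat.beq_refl _
  have h1 := List.all_eq_true.1 (List.all_eq_true.1 cent_check.1 R hR) T hT
  rw [hsq hRv eR a2, hsq hTv eT b2] at h1
  simp only [Bool.not_true, Bool.false_or] at h1
  have h2 := congrArg permOf (Nat.eq_of_beq_eq_true h1)
  rw [permOf_comp hRv hTv, permOf_comp hTv hRv, eR, eT] at h2
  refine mul_left_cancel (a := h) (mul_right_cancel (b := h⁻¹) ?_)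
  calc h * (a * b) * h⁻¹ = h * a * h⁻¹ * (h * b * h⁻¹) := by group
    _ = h * b * h⁻¹ * (h * a * h⁻¹) := h2
    _ = _ := by group

/-- The normaliser of the Sylow three-group. -/
theorem card_normalizer_nine :
    Nat.card ↥(Cfsg.Spor.M22 ⊓ Subgroup.normalizer (nineGrp : Set (Equiv.Perm GolayPt))) = 72 := by
  classical
  set N := Cfsg.Spor.M22 ⊓ Subgroup.normalizer (nineGrp : Set (Equiv.Perm GolayPt)) with hN
  set x := permOf (pk 4) with hx
  have hQN : nineGrp ≤ N := le_inf nineGrp_le Subgroup.le_normalizer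
  have horb : Nat.card {y : Equiv.Perm GolayPt // ∃ n ∈ N, n * x * n⁻¹ = y} = 8 := by
    have h9 : Nat.card {y : ↥nineGrp // y ≠ 1} = 8 := by
      haveI := Fintype.ofFinite ↥nineGrp
      rw [Nat.card_eq_fintype_card, Fintype.card_subtype_compl, Fintype.card_subtype_eq, ← Nat.card_eq_fintype_card,
        card_nineGrp]
    rw [← h9]
    refine (Nat.card_eq_of_bijective (fun y : {y : ↥nineGrp // y ≠ 1} =>
      (⟨y.1.1, ?_⟩ : {y : Equiv.Perm GolayPt // ∃ n ∈ N, n * x * n⁻¹ = y})) ⟨?_, ?_⟩).symm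
    · obtain ⟨h, hh, e, hn⟩ := nine_conj y.1.2 fun e => y.2 (Subtype.ext e)
      have hnm : h ∈ N := ⟨hh, Subgroup.mem_normalizer_fintype fun a ha => hn a ha⟩
      refine ⟨h⁻¹, inv_mem hnm, ?_⟩
      rw [hx, ← e]
      group
    · intro a b e
      exact Subtype.ext (Subtype.ext (congrArg (fun t => t.1) e))
    · rintro ⟨y, n, hn, e⟩
      have hy : y ∈ nineGrp := e ▸ (Subgroup.mem_normalizer_iff.1 hn.2 x).1 x0_mem
      refine ⟨⟨⟨y, hy⟩, fun h => ?_⟩, rfl⟩
      have h1 : y = 1 := congrArg Subtype.val h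
      rw [h1] at e
      exact perm_three_facts.2.2.2.2.2.1 (conj_eq_one_iff.1 e)
  have hstab : Nat.card ↥(N ⊓ Subgroup.centralizer ({x} : Set (Equiv.Perm GolayPt))) = 9 := by
    refine le_antisymm ?_ (card_nineGrp ▸ Subgroup.card_le_of_le (le_inf hQN fun a ha =>
      Subgroup.mem_centralizer_singleton_iff.2 (nineGrp_comm ha x0_mem)))
    set L := centList.filter fun R => nineList.any fun w => Nat.beq (comp R (pk 5)) (comp w R) with hL
    have hsel : ∀ g : ↥(N ⊓ Subgroup.centralizer ({x} : Set (Equiv.Perm GolayPt))),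
        ∃ R ∈ L.toFinset, permOf R = (g : Equiv.Perm GolayPt) := by
      rintro ⟨g, ⟨hgM, hgN⟩, hgc⟩
      obtain ⟨R, hR, hv, e⟩ := mem_centList hgM (Subgroup.mem_centralizer_singleton_iff.1 hgc)
      refine ⟨R, List.mem_toFinset.2 (List.mem_filter.2 ⟨hR, List.any_eq_true.2 ?_⟩), e⟩
      obtain ⟨i, hi, j, hj, ew⟩ := (Subgroup.mem_normalizer_iff.1 hgN _).1 y0_mem
      refine ⟨wordP (threeWord i j), List.mem_flatMap.2 ⟨i, List.mem_range.2 hi, List.mem_map.2
        ⟨j, List.mem_range.2 hj, rfl⟩⟩, ?_⟩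
      have hwv := wordP_valid (threeWord i j)
      have h : permOf (comp R (pk 5)) = permOf (comp (wordP (threeWord i j)) R) := by
        rw [permOf_comp hv (pk_valid 5), permOf_comp hwv hv, e, ← wordπ_eq, ew, inv_mul_cancel_right]
      rw [comp_eq_of_perm hv (pk_valid 5) hwv hv h]
      exact Nat.beq_refl _
    choose f hf ef using hsel
    refine le_trans (Nat.card_le_card_of_injective (fun g => (⟨f g, hf g⟩ : ↥L.toFinset)) fun g g' e => ?_) ?_
    · have e' : f g = f g' := congrArg Subtype.val e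
      exact Subtype.ext (by rw [← ef g, ← ef g', e'])
    · rw [Nat.card_eq_finsetCard]
      exact (List.toFinset_card_le _).trans cent_check.2
  rw [← card_conj_orbit N x, horb, hstab]

end Cfsg.Agent.Spor.JFour
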