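import Cfsg.Agent.Lib.Spor.JFourType.Isolation
import Cfsg.Agent.Lib.Spor.JFourType.ThreePerm

/-!
The centraliser of the three-group lies in the centraliser of the involution and is perfect.
-/

set_option autoImplicit false
set_option maxRecDepth 100000
set_option linter.style.haveILetI false

open Cfsg Cfsg.Agent.Spor.Golay
open Cfsg.Agent.Spor.Cos.J4Sub (app mm app_mm app_xor app_zero)
open scoped commutatorElement

namespace Cfsg.Agent.Spor.JFour

variable {G : Type*} [Group G] {z : G} {P : Subgroup G}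

theorem pow_odd_sq_one {M : Type*} [Monoid M] {x : M} (h2 : x * x = 1) {k : ℕ} (hk : x ^ (2 * k + 1) = 1) : x = 1 := by
  rwa [pow_succ, pow_mul, pow_two, h2, one_pow, one_mul] at hk

variable [Finite G]

namespace Setting

variable (S : Setting z P)
include S

/-- Elements of odd order are inner. -/
theorem inner_of_odd {h : G} (hh : h * z = z * h) {k : ℕ} (hk : h ^ (2 * k + 1) = 1) : h ∈ innerH z P := by
  by_contra hi
  have h2 : (h * h) ^ k ∈ innerH z P := pow_mem (inner_mul_iff S hh hh hi hi) k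
  refine hi ?_
  have e : h = ((h * h) ^ k)⁻¹ := by
    refine eq_inv_of_mul_eq_one_right ?_
    rw [← pow_two, ← pow_mul, ← pow_succ, hk]
  rw [e]
  exact inv_mem h2

/-- Normal subsets of the centraliser of the three-group map onto the simple group unless in the kernel. -/
theorem image_normal {K : Subgroup G} (hK : K ≤ CP z P) (hn : ∀ c ∈ CP z P, ∀ k ∈ K, c * k * c⁻¹ ∈ K)
    {a : G} (ha : a ∈ K) (hane : S.ψ a ≠ 1) {g : Equiv.Perm GolayPt} (hg : g ∈ Cfsg.Spor.M22) :
    ∃ k ∈ K, S.ψ k = g := by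
  let f : ↥(CP z P) →* ↥Cfsg.Spor.M22 := Frame.ψH (S := S)
  haveI : (K.subgroupOf (CP z P)).Normal := ⟨fun k hk c => hn c c.2 k hk⟩
  haveI : ((K.subgroupOf (CP z P)).map f).Normal := Subgroup.Normal.map inferInstance f Frame.ψH_surjective
  haveI := simple_M22
  rcases (inferInstance : ((K.subgroupOf (CP z P)).map f).Normal).eq_bot_or_eq_top with e | e
  · exfalso
    have h : f ⟨a, hK ha⟩ ∈ (K.subgroupOf (CP z P)).map f := ⟨⟨a, hK ha⟩, ha, rfl⟩
    rw [e, Subgroup.mem_bot] at h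
    exact hane (congrArg Subtype.val h)
  · obtain ⟨k, hk, ek⟩ : (⟨g, hg⟩ : ↥Cfsg.Spor.M22) ∈ (K.subgroupOf (CP z P)).map f := e ▸ Subgroup.mem_top _
    exact ⟨k, hk, congrArg Subtype.val ek⟩

end Setting

namespace Frame

variable {S : Setting z P} (Fr : Frame S)

theorem ψ_b_ne {k : ℕ} (hk : k < 16) (hk0 : k ≠ 0) : S.ψ (Fr.X.b k) ≠ 1 := fun h => by
  rw [Fr.X.ψ_b k hk, ← wordπ_kw_zero] at h
  exact hk0 (wordπ_kw_inj hk (by norm_num) h)

theorem b_not_E {k : ℕ} (hk : k < 16) (hk0 : k ≠ 0) : Fr.X.b k ∉ twoCoreOfCentralizer z := fun h => by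
  refine hk0 (Fr.X.b_inj hk (by norm_num) ?_)
  rw [Fr.X.b_zero, one_mul]
  exact S.fix _ h (S.mem_iff.1 (Fr.X.mem k hk)).2.symm

theorem A_le_inner : Fr.A ≤ innerH z P := by
  rintro _ ⟨v, hv, rfl⟩
  exact mul_mem (mul_mem (Subgroup.mem_sup_right (S.zp_mem_E _))
    (Subgroup.mem_sup_right (Fr.F.toCoord.lh_spec _).1)) (Subgroup.mem_sup_left (Fr.X.mem _ (by omega)))

include Fr in
/-- A subgroup of odd order normalised by the centraliser of the three-group meets it in the three-group. -/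
theorem odd_inter {N : Subgroup G} (hN : Odd (Nat.card ↥N))
    (hn : ∀ c ∈ CP z P, ∀ k ∈ N, c * k * c⁻¹ ∈ N) : N ⊓ CP z P ≤ P := by
  obtain ⟨j, hj⟩ := hN
  have hpow : ∀ k ∈ N, k ^ (2 * j + 1) = 1 := fun k hk => by
    rw [← hj]; exact orderOf_dvd_iff_pow_eq_one.1 (Subgroup.orderOf_dvd_natCard N hk)
  intro n hn'
  obtain ⟨hnN, hnC⟩ := hn'
  have hψ : S.ψ n = 1 := by
    by_contra hne
    obtain ⟨k, hk, ek⟩ := S.image_normal (K := N ⊓ CP z P) inf_le_right
      (fun c hc k hk => ⟨hn c hc k hk.1, Subgroup.mul_mem _ (Subgroup.mul_mem _ hc hk.2) (Subgroup.inv_mem _ hc)⟩) (show n ∈ N ⊓ CP z P from ⟨hnN, hnC⟩)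
      hne (S.ψ_mem _ (Fr.X.mem 1 (by norm_num)))
    refine Fr.ψ_b_ne (k := 1) (by norm_num) one_ne_zero (pow_odd_sq_one ?_ (k := j) ?_)
    · rw [← S.ψ_mul _ (Fr.X.mem 1 (by norm_num)) _ (Fr.X.mem 1 (by norm_num)), Fr.X.sq (by norm_num), S.ψ_one]
    · rw [← ek, ← S.ψ_pow hk.2, hpow k hk.1, S.ψ_one]
  have hzq : ∀ q ∈ P, n = z * q → False := fun q hq e => by
    have hq' : q * z = z * q := by
      obtain ⟨i, rfl⟩ := Subgroup.mem_zpowers_iff.1 (S.mem_P.1 hq)
      exact ((show Commute S.p z from S.pz).zpow_left i).eq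
    have h := hpow n hnN
    rw [e, (show Commute z q from hq'.symm).mul_pow, pow_succ z, pow_mul, pow_two, S.zz, one_pow, one_mul] at h
    have hzP : z ∈ P := by rw [eq_inv_of_mul_eq_one_left h]; exact inv_mem (pow_mem hq _)
    obtain ⟨i, hi⟩ := (isOfFinOrder_of_finite S.p).mem_powers_iff_mem_zpowers.2 (S.mem_P.1 hzP)
    have hi' : S.p ^ i = z := hi
    have h3 : z * z * z = 1 := (congrArg (fun x => x * x * x) hi'.symm).trans (by
      show S.p ^ i * S.p ^ i * S.p ^ i = 1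
      rw [← pow_add, ← pow_add, show i + i + i = 3 * i by ring, pow_mul, pow_three', S.p_pow, one_pow])
    rw [S.zz, one_mul] at h3
    exact S.ext.ne h3
  rcases S.ker_cases hnC hψ with (e | e | e) | (e | e | e)
  · rw [e]; exact one_mem _
  · rw [e]; exact S.p_in_P
  · rw [e]; exact mul_mem S.p_in_P S.p_in_P
  · exact (hzq 1 (one_mem _) (by rw [e, mul_one])).elim
  · exact (hzq _ S.p_in_P e).elim
  · exact (hzq _ (mul_mem S.p_in_P S.p_in_P) e).elim

variable [IsSimpleGroup G] (hG : ¬ IsMulCommutative G)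
include hG

/-- A lift outside the core is a conjugate of the involution by the normaliser. -/
theorem exists_conj_b : ∃ g ∈ Subgroup.normalizer (Fr.A : Set G), g * z * g⁻¹ = Fr.X.b 1 * z := by
  obtain ⟨k, hk⟩ := (Fr.inO_iff hG (v := 129) (by norm_num)).2 ⟨by norm_num, by decide +kernel⟩
  obtain ⟨g, hg, e⟩ := Fr.conj_in_normalizer (g := k) (hk ▸ Fr.Av_mem (by norm_num))
  exact ⟨g, hg, by rw [e, hk, show 129 = 128 * 1 ^^^ 1 from rfl, ← Fr.Av_mul (by norm_num) (by norm_num),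
    Fr.Av_high (by norm_num), Fr.Av_one]⟩

include Fr in
/-- The involution is in the derived group of the centraliser of the three-group. -/
theorem z_mem_derived : z ∈ ⁅CP z P, CP z P⁆ := by
  have hmem : ∀ k < 16, Fr.X.b k ∈ ⁅CP z P, CP z P⁆ := by
    have hcheck : ((List.range 16).all fun k => (List.range 16).any fun i => (List.range 16).any fun j =>
        (sA 4 i ^^^ i) ^^^ (sA 5 j ^^^ j) == k) = true := by decide +kernel
    intro k hk
    have h := List.all_eq_true.1 hcheck k (List.mem_range.2 hk)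
    simp only [List.any_eq_true, List.mem_range, beq_iff_eq] at h
    obtain ⟨i, hi, j, hj, e⟩ := h
    have hc : ∀ {a i s : ℕ} {x : G}, i < 16 → s < 16 → a = s ^^^ i → x ∈ CP z P →
        x * Fr.X.b i * x⁻¹ = Fr.X.b s → Fr.X.b a ∈ ⁅CP z P, CP z P⁆ := by
      intro a i s x hi hs ha hx hconj
      have h := Subgroup.commutator_mem_commutator hx (Fr.X.mem i hi)
      rw [commutatorElement_def, hconj, inv_eq_of_mul_eq_one_right (Fr.X.sq hi), Fr.X.mul _ hs _ hi, ← ha] at h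
      exact h
    have h4 := sA_lt (g := 4) (k := i) (by simp) hi
    have h5 := sA_lt (g := 5) (k := j) (by simp) hj
    rw [← e, ← Fr.X.mul _ (Nat.xor_lt_two_pow (n := 4) h4 hi) _ (Nat.xor_lt_two_pow (n := 4) h5 hj)]
    exact mul_mem (hc hi h4 rfl Fr.F.R.x_mem (Fr.X.x_conj i hi)) (hc hj h5 rfl Fr.F.R.y_mem (Fr.X.y_conj j hj))
  have hχ := Fr.χ_nine hG
  have hw := Fr.act_w.eq 128 (by norm_num)
  rw [hχ, show app (m11 7 mW 9) 128 = 128 * 7 ^^^ 1 by decide +kernel, ← Fr.Av_mul (by norm_num) (by norm_num),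
    Fr.Av_high (by norm_num), Fr.Av_one, show 128 = 128 * 1 from rfl, Fr.Av_high (by norm_num)] at hw
  have hcm := Subgroup.commutator_mem_commutator Fr.F.w_mem (Fr.X.mem 1 (by norm_num))
  rw [commutatorElement_def, hw] at hcm
  have h := mul_mem (inv_mem (hmem 7 (by norm_num))) (mul_mem hcm (hmem 1 (by norm_num)))
  rwa [inv_mul_cancel_right, inv_mul_cancel_left] at h

include Fr in
/-- Elements of a normal odd subgroup commuting with the lift commute with the involution. -/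
theorem comm_of_comm_b {N : Subgroup G} (hN : Odd (Nat.card ↥N)) (hNP : N ≤ Subgroup.centralizer (P : Set G))
    (hn : ∀ d ∈ Subgroup.centralizer (P : Set G), ∀ k ∈ N, d * k * d⁻¹ ∈ N) {n : G} (hnN : n ∈ N)
    (hnu : n * (Fr.X.b 1 * z) = Fr.X.b 1 * z * n) : n * z = z * n := by
  obtain ⟨j, hj⟩ := hN
  set u := Fr.X.b 1 * z with hu
  have huC : u ∈ CP z P := mul_mem (Fr.X.mem 1 (by norm_num)) S.z_mem
  obtain ⟨hu1, hu2⟩ := S.mem_iff.1 huC
  obtain ⟨g, hg, eg⟩ := Fr.exists_conj_b hG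
  rw [← hu] at eg
  have huE : u ∉ twoCoreOfCentralizer z := fun h => Fr.b_not_E (k := 1) (by norm_num) one_ne_zero (by
    have := mul_mem h S.ext.mem
    rwa [hu, mul_assoc, S.zz, mul_one] at this)
  have huz : u ≠ z := fun e => huE (by rw [e]; exact S.ext.mem)
  have hzi : z⁻¹ = z := inv_eq_of_mul_eq_one_right S.zz
  have hzD : z ∈ Subgroup.centralizer (P : Set G) := S.z_mem.2
  set d := z * n * z * n⁻¹ with hd
  have hdN : d ∈ N := mul_mem (by have := hn z hzD n hnN; rwa [hzi] at this) (inv_mem hnN)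
  have hdu : d * u = u * d := by
    have h1 : Commute z u := hu1.symm
    have h2 : Commute n u := hnu
    exact ((((h1.mul_left h2).mul_left h1)).mul_left h2.inv_left).eq
  have hdz : z * d * z = d⁻¹ := by
    rw [hd]
    simp only [mul_inv_rev, inv_inv, hzi, ← mul_assoc, S.zz, one_mul]
  -- transport to the centraliser
  set z' := g⁻¹ * z * g with hz'
  set q := g⁻¹ * S.p * g with hq
  set c := g⁻¹ * d * g with hc
  have hz'A : z' ∈ Fr.A := (Subgroup.mem_normalizer_iff''.1 hg z).1 Fr.z_mem_A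
  have hz'i : z' ∈ innerH z P := Fr.A_le_inner hz'A
  have hz'2 : z' * z' = 1 := Fr.A_sq _ hz'A
  have hz'ne : z' ≠ z := fun e => huz (by
    rw [← eg]
    conv_lhs => rw [show g * z * g⁻¹ = g * (g⁻¹ * z * g) * g⁻¹ by rw [← hz', e]]
    group)
  have hz'E : z' ∉ twoCoreOfCentralizer z := fun h => by
    have h1 := Frame.z_mem_coreAt Fr (g := g⁻¹) (by rw [inv_inv]; exact h) (by rw [inv_inv]; exact hz'ne)
    rw [Frame.mem_coreAt, inv_inv, eg] at h1
    exact huE h1
  have hcz : ∀ {x : G}, x * u = u * x → g⁻¹ * x * g * z = z * (g⁻¹ * x * g) := fun {x} h => by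
    calc g⁻¹ * x * g * z = g⁻¹ * (x * (g * z * g⁻¹)) * g := by group
      _ = g⁻¹ * (u * x) * g := by rw [eg, h]
      _ = _ := by rw [← eg]; group
  have hqz : q * z = z * q := hcz hu2.symm
  have hq3 : q * q * q = 1 := by
    rw [hq, show g⁻¹ * S.p * g * (g⁻¹ * S.p * g) * (g⁻¹ * S.p * g) = g⁻¹ * (S.p * S.p * S.p) * g by group, S.p_pow]
    group
  have hqi : q ∈ innerH z P := S.inner_of_odd hqz (k := 1) (by rw [show 2 * 1 + 1 = 3 from rfl, pow_three', hq3])
  have hqθ : S.θ q ≠ 1 := fun h => by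
    rcases S.scalar_of_θ hqi h with e | e
    · have hqE := (S.act_ker q hqz).1 e
      have hqq : q * q * (q * q) = 1 := by rcases S.ext.sq q hqE with e' | e' <;> rw [e'] <;> simp [S.zz]
      have hq1 : q = 1 := by
        calc q = q * q * (q * q) * (q * q * q)⁻¹ := by group
          _ = 1 := by rw [hqq, hq3, one_mul, inv_one]
      exact S.p_ne (by
        calc S.p = g * q * g⁻¹ := by rw [hq]; group
          _ = 1 := by rw [hq1]; group)
    · obtain ⟨m, hm, emP⟩ := S.conj_to_P hqz hq3 e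
      have hgm : (g * m)⁻¹ ∈ Subgroup.normalizer (P : Set G) := Subgroup.mem_normalizer_fintype fun a ha => by
        obtain ⟨i, rfl⟩ := Subgroup.mem_zpowers_iff.1 (S.mem_P.1 ha)
        rw [← conj_zpow]
        refine zpow_mem ?_ i
        rw [show (g * m)⁻¹ * S.p * (g * m)⁻¹⁻¹ = m⁻¹ * (g⁻¹ * S.p * g) * m by group]
        exact emP
      have hgm' := inv_mem hgm
      rw [inv_inv] at hgm'
      have ec : g * m * z * (g * m)⁻¹ = u := by
        rw [← eg, show g * m * z * (g * m)⁻¹ = g * (m * z * m⁻¹) * g⁻¹ by group, S.ext.central m hm,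
          mul_inv_cancel_right]
      exact huz (ec ▸ Fr.isolated hgm' (by rw [ec]; exact hu1))
  have hcN : c ^ (2 * j + 1) = 1 := by
    rw [hc, show g⁻¹ * d * g = g⁻¹ * d * g⁻¹⁻¹ by group, conj_pow, ← hj,
      orderOf_dvd_iff_pow_eq_one.1 (Subgroup.orderOf_dvd_natCard N hdN)]
    group
  have hcz' : c * z = z * c := hcz hdu
  have hci : c ∈ innerH z P := S.inner_of_odd hcz' hcN
  have hdP : Commute S.p d := by
    have := Subgroup.mem_centralizer_iff.1 (hNP hdN) S.p S.p_in_P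
    exact this
  have hqc : q * c = c * q := by
    rw [hq, hc, show g⁻¹ * S.p * g * (g⁻¹ * d * g) = g⁻¹ * (S.p * d) * g by group, hdP.eq]
    group
  have hqz' : q * z' = z' * q := by
    rw [hq, hz', show g⁻¹ * S.p * g * (g⁻¹ * z * g) = g⁻¹ * (S.p * z) * g by group, S.pz]
    group
  have hinv : z' * c * z' = c⁻¹ := by
    rw [hz', hc, show g⁻¹ * z * g * (g⁻¹ * d * g) * (g⁻¹ * z * g) = g⁻¹ * (z * d * z) * g by group, hdz]
    group
  set a := S.θ z' with ha
  set t := S.θ c with ht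
  have ha2 : a * a = 1 := by rw [ha, ← S.θ_mul hz'i hz'i, hz'2, S.θ_one]
  have hat : a * t * a = t⁻¹ := by
    rw [ha, ht, ← S.θ_mul hz'i hci, ← S.θ_mul (mul_mem hz'i hci) hz'i, hinv, S.θ_inv hci]
  have hab := invs_commute (S.θ_mem hz'i) (mul_mem (S.θ_mem hz'i) (S.θ_mem hci)) (S.θ_mem hqi) ha2
    (show a * t * (a * t) = 1 by rw [← mul_assoc, hat, inv_mul_cancel])
    (by rw [← S.θ_mul hqi hqi, ← S.θ_mul (mul_mem hqi hqi) hqi, hq3, S.θ_one]) hqθ
    (by rw [← S.θ_mul hz'i hqi, ← S.θ_mul hqi hz'i, hqz'])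
    (by rw [← S.θ_mul hz'i hci, ← S.θ_mul (mul_mem hz'i hci) hqi, ← S.θ_mul hqi (mul_mem hz'i hci), mul_assoc,
      ← hqc, ← mul_assoc, ← hqz', mul_assoc])
  change a * (a * t) = a * t * a at hab
  rw [← mul_assoc, ha2, one_mul, hat] at hab
  have hθpow : ∀ m : ℕ, S.θ (c ^ m) = t ^ m := fun m => by
    induction m with
    | zero => rw [pow_zero, pow_zero, S.θ_one]
    | succ m ih => rw [pow_succ, pow_succ, S.θ_mul (pow_mem hci m) hci, ih]
  have ht1 : t = 1 := pow_odd_sq_one (k := j) (by nth_rewrite 1 [hab]; exact inv_mul_cancel t) (by rw [← hθpow, hcN, S.θ_one])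
  have hz'z := Subgroup.mem_centralizer_singleton_iff.1 (S.inner_le hz'i)
  have hcomm : S.act z' * S.act c = S.act c * S.act z' := by
    have hp := S.act_inner hz'i
    rcases S.scalar_of_θ hci ht1 with e | e | e <;> rw [e]
    · rw [mul_one, one_mul]
    · exact hp
    · rw [← mul_assoc, hp, mul_assoc, hp, ← mul_assoc]
  have hactc : S.act c = 1 := by
    refine pow_odd_sq_one (k := j) ?_ (by rw [← S.act_pow hcz', hcN, S.act_one])
    have hzc : z' * c * z = z * (z' * c) := ((show Commute z' z from hz'z).mul_left hcz').eq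
    have h1 : S.act (z' * c * z') = S.act c := by
      rw [S.act_mul _ _ hzc hz'z, S.act_mul _ _ hz'z hcz', hcomm, mul_assoc, ← S.act_mul _ _ hz'z hz'z, hz'2,
        S.act_one, mul_one]
    rw [hinv] at h1
    nth_rewrite 1 [← h1]
    exact S.act_inv_mul hcz'
  have hcE := (S.act_ker c hcz').1 hactc
  have hc4 : c * c * (c * c) = 1 := by rcases S.ext.sq c hcE with e | e <;> rw [e] <;> simp [S.zz]
  have hc1 : c = 1 := pow_odd_sq_one (pow_odd_sq_one hc4 (k := j) (by
    rw [← pow_two, ← pow_mul, mul_comm, pow_mul, hcN, one_pow])) hcN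
  have hd1 : d = 1 := by
    calc d = g * c * g⁻¹ := by rw [hc]; group
      _ = 1 := by rw [hc1]; group
  rw [hd, mul_inv_eq_one] at hd1
  calc n * z = z * n * z * z := by rw [hd1]
    _ = z * n := by rw [mul_assoc, S.zz, mul_one]

include Fr in
/-- The centraliser of the three-group fixes the involution. -/
theorem centralizer_P_le : Subgroup.centralizer (P : Set G) ≤ CP z P := by
  set D := Subgroup.centralizer (P : Set G) with hD
  have hzD : z ∈ D := S.z_mem.2
  have hiso : IsIsolatedInvolution (⟨z, hzD⟩ : ↥D) := by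
    refine ⟨?_, fun g hg => Subtype.ext ?_⟩
    · rw [← Subgroup.orderOf_coe]
      exact orderOf_eq_prime (by rw [pow_two, S.zz]) S.ext.ne
    · exact Fr.isolated (Subgroup.centralizer_le_normalizer _ g.2) (congrArg Subtype.val hg).symm
  obtain ⟨N0, hN0, hodd, hcomm⟩ := ZStar.exists_odd_normal hiso
  set N := N0.map D.subtype with hNdef
  have hN : Odd (Nat.card ↥N) := by
    rwa [hNdef, Subgroup.card_map_of_injective D.subtype_injective]
  have hND : N ≤ D := by
    rintro _ ⟨x, -, rfl⟩; exact x.2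
  have hnorm : ∀ d ∈ D, ∀ k ∈ N, d * k * d⁻¹ ∈ N := by
    rintro d hd _ ⟨x, hx, rfl⟩
    exact ⟨⟨d, hd⟩ * x * ⟨d, hd⟩⁻¹, hN0.conj_mem x hx ⟨d, hd⟩, rfl⟩
  have hNC : N ⊓ CP z P ≤ P := Fr.odd_inter hN fun c hc => hnorm c hc.2
  set u := Fr.X.b 1 * z with hu
  have huC : u ∈ CP z P := mul_mem (Fr.X.mem 1 (by norm_num)) S.z_mem
  have huD : u ∈ D := huC.2
  have huu : u * u = 1 := by
    rw [hu, show Fr.X.b 1 * z * (Fr.X.b 1 * z) = Fr.X.b 1 * (z * Fr.X.b 1) * z by group,
      ← S.commz (Fr.X.mem 1 (by norm_num)), show Fr.X.b 1 * (Fr.X.b 1 * z) * z = Fr.X.b 1 * Fr.X.b 1 * (z * z) by group,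
      Fr.X.sq (by norm_num), S.zz, one_mul]
  have hui : u⁻¹ = u := inv_eq_of_mul_eq_one_right huu
  have hzi : z⁻¹ = z := inv_eq_of_mul_eq_one_right S.zz
  have hPc : ∀ q ∈ P, ∀ d ∈ D, d * q = q * d := fun q hq d hd => (Subgroup.mem_centralizer_iff.1 hd q hq).symm
  -- both involutions invert modulo the three-group
  have hinvol : ∀ {w : G}, w ∈ D → w * w = 1 → (∀ n ∈ N, n * w = w * n → n ∈ P) →
      ∀ n ∈ N, ∃ r ∈ P, w * n * w = r * n⁻¹ := by
    intro w hwD hw2 hfix n hn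
    have hwi : w⁻¹ = w := inv_eq_of_mul_eq_one_right hw2
    have hwn : ∀ k ∈ N, w * k * w ∈ N := fun k hk => by
      have := hnorm w hwD k hk; rwa [hwi] at this
    set x := n⁻¹ * (w * n * w) with hx
    have hxN : x ∈ N := mul_mem (inv_mem hn) (hwn n hn)
    have hxw : w * x * w = x⁻¹ := by
      rw [hx]
      simp only [mul_inv_rev, inv_inv, hwi]
      calc w * (n⁻¹ * (w * n * w)) * w = w * n⁻¹ * w * n * (w * w) := by group
        _ = w * n⁻¹ * w * n := by rw [hw2, mul_one]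
        _ = _ := by group
    obtain ⟨i, hi⟩ := hN
    have hxo : x ^ (2 * i + 1) = 1 := by
      rw [← hi]; exact orderOf_dvd_iff_pow_eq_one.1 (Subgroup.orderOf_dvd_natCard N hxN)
    set m := x ^ (i + 1) with hm
    have hmm : m * m = x := by
      rw [hm, ← pow_add, show i + 1 + (i + 1) = 2 * i + 1 + 1 by ring, pow_succ, hxo, one_mul]
    have hwm : w * m * w = m⁻¹ := by
      rw [hm, ← inv_pow, ← hxw, show w * x * w = w * x * w⁻¹ by rw [hwi], conj_pow, hwi]
    have hnm : w * n * w = n * x := by rw [hx, mul_inv_cancel_left]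
    set r := n * m with hr
    have hrN : r ∈ N := mul_mem hn (pow_mem hxN _)
    have hwr : w * r * w = r := by
      calc w * (n * m) * w = (w * n * w) * (w * m * w) := by
            rw [show w * n * w * (w * m * w) = w * n * (w * w) * m * w by group, hw2]; group
        _ = n * (m * m) * m⁻¹ := by rw [hwm, hnm, hmm]
        _ = n * m := by group
    have hrP : r ∈ P := hfix r hrN (by
      calc r * w = w * r * w * w := by rw [hwr]
        _ = w * r := by rw [mul_assoc, hw2, mul_one])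
    refine ⟨r * r, mul_mem hrP hrP, ?_⟩
    have hc := hPc r hrP n (hND hn)
    calc w * n * w = n * (m * m) := by rw [hnm, hmm]
      _ = (n * m) * (n⁻¹ * (n * m)) := by group
      _ = r * (n⁻¹ * r) := by rw [hr]
      _ = r * (r * n⁻¹) := by rw [hPc r hrP n⁻¹ (inv_mem (hND hn))]
      _ = _ := by group
  have hfz : ∀ n ∈ N, n * z = z * n → n ∈ P := fun n hn h =>
    hNC ⟨hn, Subgroup.mem_centralizer_singleton_iff.2 h, hND hn⟩
  have hfu : ∀ n ∈ N, n * u = u * n → n ∈ P := fun n hn h =>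
    hfz n hn (Fr.comm_of_comm_b hG hN hND hnorm hn h)
  -- the part acting trivially modulo the three-group
  let K : Subgroup G :=
    { carrier := {k | k ∈ CP z P ∧ ∀ n ∈ N, k * n * k⁻¹ * n⁻¹ ∈ P}
      one_mem' := ⟨one_mem _, fun n _ => by simp⟩
      mul_mem' := by
        rintro a b ⟨ha, ha'⟩ ⟨hb, hb'⟩
        refine ⟨mul_mem ha hb, fun n hn => ?_⟩
        have hc := hPc _ (hb' n hn) a ha.2
        rw [show a * b * n * (a * b)⁻¹ * n⁻¹ = (a * (b * n * b⁻¹ * n⁻¹) * a⁻¹) * (a * n * a⁻¹ * n⁻¹) by group, hc,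
          mul_inv_cancel_right]
        exact mul_mem (hb' n hn) (ha' n hn)
      inv_mem' := by
        rintro a ⟨ha, ha'⟩
        refine ⟨inv_mem ha, fun n hn => ?_⟩
        have hk : a⁻¹ * n * a ∈ N := by simpa using hnorm a⁻¹ (inv_mem ha.2) n hn
        have := inv_mem (ha' _ hk)
        rwa [show (a * (a⁻¹ * n * a) * a⁻¹ * (a⁻¹ * n * a)⁻¹)⁻¹ = a⁻¹ * n * a⁻¹⁻¹ * n⁻¹ by group] at this }
  have hKn : ∀ c ∈ CP z P, ∀ k ∈ K, c * k * c⁻¹ ∈ K := by
    rintro c hc k ⟨hk, hk'⟩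
    refine ⟨mul_mem (mul_mem hc hk) (inv_mem hc), fun n hn => ?_⟩
    have hn' : c⁻¹ * n * c ∈ N := by simpa using hnorm c⁻¹ (inv_mem hc.2) n hn
    have h := hk' _ hn'
    rw [show c * k * c⁻¹ * n * (c * k * c⁻¹)⁻¹ * n⁻¹ =
      c * (k * (c⁻¹ * n * c) * k⁻¹ * (c⁻¹ * n * c)⁻¹) * c⁻¹ by group, hPc _ h c hc.2, mul_inv_cancel_right]
    exact h
  have hzu : z * u ∈ K := by
    refine ⟨mul_mem S.z_mem huC, fun n hn => ?_⟩
    obtain ⟨r1, hr1, e1⟩ := hinvol hzD S.zz hfz n hn
    obtain ⟨r2, hr2, e2⟩ := hinvol huD huu hfu n hn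
    have e3 : z * n⁻¹ * z = n * r1⁻¹ := by
      have := congrArg (·⁻¹) e1
      simpa [hzi, mul_assoc] using this
    rw [mul_inv_rev, hzi, hui, show z * u * n * (u * z) * n⁻¹ = z * (u * n * u) * z * n⁻¹ by group, e2,
      show z * (r2 * n⁻¹) * z = (z * r2) * n⁻¹ * z by group, hPc r2 hr2 z hzD,
      show r2 * z * n⁻¹ * z = r2 * (z * n⁻¹ * z) by group, e3, hPc r1⁻¹ (inv_mem hr1) n (hND hn),
      show r2 * (r1⁻¹ * n) * n⁻¹ = r2 * r1⁻¹ by group]
    exact mul_mem hr2 (inv_mem hr1)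
  have hψzu : S.ψ (z * u) ≠ 1 := by
    rw [S.ψ_mul _ S.z_mem _ huC, S.ψ_z, one_mul, hu, S.ψ_mul _ (Fr.X.mem 1 (by norm_num)) _ S.z_mem, S.ψ_z,
      mul_one]
    exact Fr.ψ_b_ne (by norm_num) one_ne_zero
  have hdec : ∀ c ∈ CP z P, ∃ k ∈ K, ∀ e ∈ CP z P, Commute (k⁻¹ * c) e := fun c hc => by
    obtain ⟨k, hk, ek⟩ := S.image_normal (K := K) (fun x hx => hx.1) hKn hzu hψzu (S.ψ_mem c hc)
    refine ⟨k, hk, fun e he => S.ker_central (mul_mem (inv_mem hk.1) hc) ?_ he⟩
    rw [S.ψ_mul _ (inv_mem hk.1) _ hc, S.ψ_inv hk.1, ek, inv_mul_cancel]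
  have hzK : z ∈ K := by
    refine (Subgroup.commutator_le.2 fun a ha b hb => ?_) (Fr.z_mem_derived hG)
    obtain ⟨k, hk, hka⟩ := hdec a ha
    obtain ⟨l, hl, hlb⟩ := hdec b hb
    have e : ⁅a, b⁆ = ⁅k, l⁆ := by
      have h1 := hka (k * l * k⁻¹) (mul_mem (mul_mem hk.1 hl.1) (inv_mem hk.1))
      have h2 := hlb a ha
      have h3 := hlb k hk.1
      have h4 := hka l hl.1
      set s := k⁻¹ * a with hs
      set r := l⁻¹ * b with hrr
      have ea : a = k * s := by rw [hs]; group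
      have eb : b = l * r := by rw [hrr]; group
      have hsr : Commute s r := hka r (mul_mem (inv_mem hl.1) hb)
      rw [commutatorElement_def, commutatorElement_def, ea, eb]
      calc k * s * (l * r) * (k * s)⁻¹ * (l * r)⁻¹ = k * (s * l) * (r * s⁻¹) * k⁻¹ * r⁻¹ * l⁻¹ := by group
        _ = k * (l * s) * (s⁻¹ * r) * k⁻¹ * r⁻¹ * l⁻¹ := by rw [h4.eq, hsr.inv_left.eq]
        _ = k * l * (r * k⁻¹) * r⁻¹ * l⁻¹ := by group
        _ = k * l * (k⁻¹ * r) * r⁻¹ * l⁻¹ := by rw [h3.inv_right.eq]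
        _ = _ := by group
    rw [e, commutatorElement_def]
    exact mul_mem (mul_mem (mul_mem hk hl) (inv_mem hk)) (inv_mem hl)
  -- so the odd subgroup is small
  have hsmall : ∀ n ∈ N, n ∈ P := fun n hn => by
    obtain ⟨r, hr, e⟩ := hinvol hzD S.zz hfz n hn
    have h := hzK.2 n hn
    rw [hzi, e] at h
    have h2 : n⁻¹ * n⁻¹ ∈ P := by
      have := mul_mem (inv_mem hr) h
      rwa [show r⁻¹ * (r * n⁻¹ * n⁻¹) = n⁻¹ * n⁻¹ by group] at this
    obtain ⟨i, hi⟩ := hN
    have ho : n ^ (2 * i + 1) = 1 := by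
      rw [← hi]; exact orderOf_dvd_iff_pow_eq_one.1 (Subgroup.orderOf_dvd_natCard N hn)
    have h3 := inv_mem (pow_mem h2 (i + 1))
    rwa [← pow_two, ← pow_mul, inv_pow, inv_inv, show 2 * (i + 1) = 2 * i + 1 + 1 by ring, pow_succ, ho,
      one_mul] at h3
  intro g hg
  refine ⟨Subgroup.mem_centralizer_singleton_iff.2 ?_, hg⟩
  have hm : z * g * z⁻¹ * g⁻¹ ∈ N := ⟨_, hcomm ⟨g, hg⟩, rfl⟩
  rw [hzi] at hm
  obtain ⟨i, hi⟩ := hN
  have ho : (z * g * z * g⁻¹) ^ (2 * i + 1) = 1 := by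
    rw [← hi]; exact orderOf_dvd_iff_pow_eq_one.1 (Subgroup.orderOf_dvd_natCard N hm)
  have hcz : Commute (z * g * z * g⁻¹) z := by
    obtain ⟨k, hk⟩ := Subgroup.mem_zpowers_iff.1 (S.mem_P.1 (hsmall _ hm))
    rw [← hk]; exact (show Commute S.p z from S.pz).zpow_left k
  have h1 : z * g * z * g⁻¹ = 1 := by
    refine pow_odd_sq_one ?_ ho
    calc z * g * z * g⁻¹ * (z * g * z * g⁻¹) = z * g * z * g⁻¹ * (z * (z * g * z * g⁻¹) * z) := by
          rw [← hcz.eq, mul_assoc _ z z, S.zz, mul_one]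
      _ = z * g * z * g⁻¹ * ((z * z) * g * z * g⁻¹ * z) := by group
      _ = z * g * (z * (g⁻¹ * g) * z) * g⁻¹ * z := by rw [S.zz]; group
      _ = z * g * (z * z) * g⁻¹ * z := by group
      _ = _ := by rw [S.zz]; simp [S.zz]
  rw [mul_inv_eq_one] at h1
  calc g * z = z * g * z * z := by rw [h1]
    _ = z * g := by rw [mul_assoc, S.zz, mul_one]

include Fr in
/-- The centraliser of the three-group in the centraliser of the involution is perfect. -/
theorem perfect : ⁅CP z P, CP z P⁆ = CP z P := by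
  refine le_antisymm (Subgroup.commutator_le.2 fun a ha b hb => ?_) fun c hc => ?_
  · rw [commutatorElement_def]
    exact mul_mem (mul_mem (mul_mem ha hb) (inv_mem ha)) (inv_mem hb)
  set K := ⁅CP z P, CP z P⁆ with hK
  have hle : K ≤ CP z P := Subgroup.commutator_le.2 fun a ha b hb => by
    rw [commutatorElement_def]
    exact mul_mem (mul_mem (mul_mem ha hb) (inv_mem ha)) (inv_mem hb)
  have hn : ∀ c ∈ CP z P, ∀ k ∈ K, c * k * c⁻¹ ∈ K := fun c hc k hk => by
    have h := Subgroup.commutator_mem_commutator hc (hle hk)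
    rw [commutatorElement_def] at h
    have := mul_mem h hk
    rwa [inv_mul_cancel_right] at this
  have hne : ∃ a ∈ K, S.ψ a ≠ 1 := by
    by_contra hcon
    push Not at hcon
    refine perm_three_facts.2.2.2.2.2.2.2.1 ?_
    have h := hcon _ (Subgroup.commutator_mem_commutator Fr.F.s_mem Fr.F.R.x_mem)
    have hs := Fr.F.s_mem
    have hx := Fr.F.R.x_mem
    rw [commutatorElement_def, S.ψ_mul _ (mul_mem (mul_mem hs hx) (inv_mem hs)) _ (inv_mem hx), S.ψ_conj hs hx,
      S.ψ_inv hx, Fr.F.s_ψ, Fr.F.R.x_ψ, perm_three_facts.2.2.2.1, mul_inv_cancel_right, mul_inv_eq_one] at h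
    exact h
  obtain ⟨a, ha, hane⟩ := hne
  obtain ⟨k, hk, ek⟩ := S.image_normal hle hn ha hane (S.ψ_mem c hc)
  have hkc : k⁻¹ * c ∈ K := by
    have hp := S.der
    rcases S.ker_cases (mul_mem (inv_mem (hle hk)) hc)
      (by rw [S.ψ_mul _ (inv_mem (hle hk)) _ hc, S.ψ_inv (hle hk), ek, inv_mul_cancel]) with
      (e | e | e) | (e | e | e) <;> rw [e]
    exacts [one_mem _, hp, mul_mem hp hp, Fr.z_mem_derived hG, mul_mem (Fr.z_mem_derived hG) hp,
      mul_mem (Fr.z_mem_derived hG) (mul_mem hp hp)]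
  have := mul_mem hk hkc
  rwa [mul_inv_cancel_left] at this

include Fr in
/-- The normaliser of the three-group fixes the involution. -/
theorem normalizer_P_le : Subgroup.normalizer (P : Set G) ≤ Subgroup.centralizer ({z} : Set G) := by
  intro g hg
  have hz : g * z * g⁻¹ ∈ Subgroup.centralizer (P : Set G) := Subgroup.mem_centralizer_iff.2 fun q hq => by
    have hq' : g⁻¹ * q * g ∈ P := (Subgroup.mem_normalizer_iff''.1 hg q).1 hq
    have h := Subgroup.mem_centralizer_iff.1 S.z_mem.2 _ hq'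
    calc q * (g * z * g⁻¹) = g * (g⁻¹ * q * g * z) * g⁻¹ := by group
      _ = g * (z * (g⁻¹ * q * g)) * g⁻¹ := by rw [h]
      _ = _ := by group
  have := Fr.isolated hg (S.commz (Fr.centralizer_P_le hG hz))
  exact Subgroup.mem_centralizer_singleton_iff.2 (mul_inv_eq_iff_eq_mul.1 this)

end Frame

end Cfsg.Agent.Spor.JFour
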