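import Cfsg.Agent.Lib.Spor.JFourType.SevenData
import Cfsg.Agent.Lib.Spor.JFourType.OrbitExcl

/-!
The class of an involution over the first translation commuting with an element of order seven.
-/

set_option autoImplicit false
set_option maxRecDepth 100000
set_option Elab.async false

open Cfsg Cfsg.Agent.Spor.Golay
open Cfsg.Agent.Spor.Cos.J4Sub (app mm app_mm app_xor app_zero)

namespace Cfsg.Agent.Spor.JFour.Frame

open Mathieu Seven

variable {G : Type*} [Group G] {z : G} {P : Subgroup G} {S : Setting z P} (Fr : Frame S) [Finite G]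

variable [IsSimpleGroup G] in
theorem isConj_Av_iff (hG : ¬ IsMulCommutative G) {v : ℕ} (hv : v < 2048) :
    IsConj z (Fr.Av v) ↔ v ≠ 0 ∧ tMask.testBit v = false := by
  rw [← Fr.inO_iff hG hv, isConj_iff]
  rfl

/-- Moving a vector of the core into the lower half. -/
theorem core_walk : ∀ (w : List ℕ) {x : G} {n m : ℕ}, x ∈ twoCoreOfCentralizer z → n < 4096 →
    S.rep x = Fr.F.Φ n → (∀ i ∈ w, i < moveM.length) → walk w n = m → m < 64 →
    IsConj x (Fr.Av (2 * m)) ∨ IsConj x (Fr.Av (2 * m + 1))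
  | [], x, n, m, hx, _, e, _, h, hm => by
    rw [walk] at h
    subst h
    rcases Fr.F.toCoord.lh_cases hx e with h | h
    · exact Or.inl (by rw [h, Fr.Av_low hm])
    · refine Or.inr ?_
      have e1 : Fr.Av (2 * n + 1) = Fr.Av (2 * n) * z := by
        rw [show 2 * n + 1 = 2 * n ^^^ 1 by simp, ← Fr.Av_mul (by omega) (by norm_num), Fr.Av_one]
      rw [h, e1, Fr.Av_low hm]
  | i :: w, x, n, m, hx, hn, e, hw, h, hm => by
    have hi := hw i (List.mem_cons_self ..)
    have hM : moveM.getD i [] ∈ moveM := by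
      rw [List.getD_eq_getElem _ _ hi]; exact List.getElem_mem hi
    obtain ⟨g, hg⟩ := Fr.mover hM
    rw [walk] at h
    have hc : IsConj x (g * x * g⁻¹) := isConj_iff.2 ⟨g, rfl⟩
    rcases core_walk w (S.ext.norm g hg.hz x hx) (app_lt_of_ok hg.ok n)
      (by rw [← S.act_rep g hg.hz x hx, e, hg.eq n hn]) (fun j hj => hw j (List.mem_cons_of_mem _ hj)) h hm with
      h' | h'
    · exact Or.inl (hc.trans h')
    · exact Or.inr (hc.trans h')

variable [IsSimpleGroup G] in
/-- The class of the translation and of two of its companions. -/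
theorem translation_classes (hG : ¬ IsMulCommutative G) :
    IsConj z (Fr.Av 0 * Fr.u1) ∧ ¬ IsConj z (Fr.Av 8 * Fr.u1) ∧ ¬ IsConj z (Fr.Av 16 * Fr.u1) := by
  obtain ⟨w0, w1, w2, hlen, m62, m63, m90, m91, m6, m7⟩ := walk_checks
  simp only [List.all_eq_true, decide_eq_true_eq] at hlen
  have hE : Fr.u1 ∈ twoCoreOfCentralizer z := (Fr.F.toCoord.lh_spec 64).1
  have hr : ∀ n < 64, S.rep (Fr.Av (2 * n) * Fr.u1) = Fr.F.Φ (n ^^^ 64) ∧
      Fr.Av (2 * n) * Fr.u1 ∈ twoCoreOfCentralizer z := fun n hn => by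
    rw [Fr.Av_low hn, u1]
    exact ⟨by rw [S.rep_mul _ (Fr.F.toCoord.lh_spec n).1 _ (Fr.F.toCoord.lh_spec 64).1,
      (Fr.F.toCoord.lh_spec n).2.1, (Fr.F.toCoord.lh_spec 64).2.1, Fr.F.add],
      mul_mem (Fr.F.toCoord.lh_spec n).1 (Fr.F.toCoord.lh_spec 64).1⟩
  refine ⟨?_, fun h => ?_, fun h => ?_⟩
  · obtain ⟨r, hm⟩ := hr 0 (by norm_num)
    rcases Fr.core_walk (path 64) hm (by norm_num) r (hlen 64 (by simp)) w0 (by norm_num) with e | e
    · exact ((Fr.isConj_Av_iff hG (by norm_num)).2 ⟨by norm_num, m62⟩).trans e.symm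
    · exact ((Fr.isConj_Av_iff hG (by norm_num)).2 ⟨by norm_num, m63⟩).trans e.symm
  · obtain ⟨r, hm⟩ := hr 4 (by norm_num)
    rcases Fr.core_walk (path 68) hm (by decide) r (hlen 68 (by simp)) w1 (by norm_num) with e | e
    · exact Bool.false_ne_true (((Fr.isConj_Av_iff hG (by norm_num)).1 (h.trans e)).2.symm.trans m90)
    · exact Bool.false_ne_true (((Fr.isConj_Av_iff hG (by norm_num)).1 (h.trans e)).2.symm.trans m91)
  · obtain ⟨r, hm⟩ := hr 8 (by norm_num)
    rcases Fr.core_walk (path 72) hm (by decide) r (hlen 72 (by simp)) w2 (by norm_num) with e | e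
    · exact Bool.false_ne_true (((Fr.isConj_Av_iff hG (by norm_num)).1 (h.trans e)).2.symm.trans m6)
    · exact Bool.false_ne_true (((Fr.isConj_Av_iff hG (by norm_num)).1 (h.trans e)).2.symm.trans m7)

theorem mem_imList {d : ℕ} (h : d ∈ imList) : ∃ w < 2048, w ^^^ app u1M w = d := by
  have h := List.all_eq_true.1 im_checks.1 d h
  simpa only [List.any_eq_true, List.mem_range, beq_iff_eq] using h

variable [IsSimpleGroup G] in
/-- The involution over the translation commuting with the element of order seven is central. -/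
theorem isConj_of_commute (hG : ¬ IsMulCommutative G) {n7 : G} (hn : Fr.Act n7 s7M) {v : ℕ} (hv : v < 2048)
    (hfix : app u1M v = v) (hc : n7 * (Fr.Av v * Fr.u1) = Fr.Av v * Fr.u1 * n7) :
    IsConj z (Fr.Av v * Fr.u1) := by
  obtain ⟨h0, h8, h16⟩ := Fr.translation_classes hG
  obtain ⟨⟨-, aA, -⟩, -⟩ := Fr.u_spec
  have move : ∀ w < 2048, ∀ d ∈ imList, IsConj z (Fr.Av (w ^^^ d) * Fr.u1) ↔ IsConj z (Fr.Av w * Fr.u1) := by
    intro w hw d hd
    obtain ⟨x, hx, rfl⟩ := mem_imList hd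
    have hc : IsConj (Fr.Av w * Fr.u1) (Fr.Av (w ^^^ (x ^^^ app u1M x)) * Fr.u1) :=
      isConj_iff.2 ⟨Fr.Av x, Fr.coset_move aA hw hx⟩
    exact ⟨fun h => h.trans hc.symm, fun h => h.trans hc⟩
  have hlt : ∀ w, app s7M w < 2048 := hn.lt
  -- the action on the coset
  have step : ∀ w < 2048, IsConj z (Fr.Av w * Fr.u1) ↔ IsConj z (Fr.Av (app s7M (w ^^^ v) ^^^ v) * Fr.u1) := by
    intro w hw
    have hxor := Nat.xor_lt_two_pow (n := 11) hw hv
    have e : n7 * (Fr.Av w * Fr.u1) * n7⁻¹ = Fr.Av (app s7M (w ^^^ v) ^^^ v) * Fr.u1 := by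
      have hw' : Fr.Av w = Fr.Av (w ^^^ v) * Fr.Av v := by
        rw [Fr.Av_mul hxor hv, Nat.xor_assoc, Nat.xor_self, Nat.xor_zero]
      calc n7 * (Fr.Av w * Fr.u1) * n7⁻¹
          = (n7 * Fr.Av (w ^^^ v) * n7⁻¹) * (n7 * (Fr.Av v * Fr.u1) * n7⁻¹) := by rw [hw']; group
        _ = Fr.Av (app s7M (w ^^^ v)) * (Fr.Av v * Fr.u1) := by rw [hn.eq _ hxor, hc, mul_inv_cancel_right]
        _ = _ := by rw [← mul_assoc, Fr.Av_mul (hlt _) hv]
    have hcj : IsConj (Fr.Av w * Fr.u1) (Fr.Av (app s7M (w ^^^ v) ^^^ v) * Fr.u1) := isConj_iff.2 ⟨n7, e⟩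
    exact ⟨fun h => h.trans hcj, fun h => h.trans hcj.symm⟩
  have itlt : ∀ k, itM k v < 2048 := fun k => by
    cases k with
    | zero => exact hv
    | succ k => exact hlt _
  have iter : ∀ k, IsConj z (Fr.Av (itM k v ^^^ v) * Fr.u1) := by
    intro k
    induction k with
    | zero => simpa [itM] using h0
    | succ k ih =>
      have h := (step _ (Nat.xor_lt_two_pow (n := 11) (itlt k) hv)).1 ih
      rwa [Nat.xor_assoc, Nat.xor_self, Nat.xor_zero] at h
  have h := List.all_eq_true.1 im_checks.2 v (List.mem_range.2 hv)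
  simp only [hfix, beq_self_eq_true, Bool.not_true, Bool.false_or, Bool.or_eq_true, List.contains_iff_mem,
    List.any_eq_true, List.mem_range] at h
  rcases h with h | ⟨t, ht, k, -, hk⟩
  · have h1 := (move 0 (by norm_num) v h).2 h0
    rwa [Nat.zero_xor] at h1
  · exfalso
    have htlt : t < 2048 := by
      simp only [List.mem_cons, List.not_mem_nil, or_false] at ht
      rcases ht with rfl | rfl <;> norm_num
    have h1 := (move t htlt _ hk).1 (by
      rw [show t ^^^ (itM k v ^^^ (t ^^^ v)) = itM k v ^^^ v by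
        apply Nat.eq_of_testBit_eq
        intro i
        simp only [Nat.testBit_xor]
        cases t.testBit i <;> cases (itM k v).testBit i <;> cases v.testBit i <;> rfl]
      exact iter k)
    simp only [List.mem_cons, List.not_mem_nil, or_false] at ht
    rcases ht with rfl | rfl
    exacts [h8 h1, h16 h1]

end Cfsg.Agent.Spor.JFour.Frame
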