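import Cfsg.Agent.Lib.Spor.JFourType.TwoGroupLvl

/-!
The subgroups of the Sylow two-group of 256 matrices: elementary abelian subgroups with their fixed vectors,
commutators in the subgroups of index at most two, and the class of the inner involutions.
-/

set_option autoImplicit false
set_option maxRecDepth 100000
set_option Elab.async false

namespace Cfsg.Agent.Spor.JFour

open Cfsg.Agent.Spor.Cos.J4Sub (app mm app_mm)

theorem mm_assoc (A B D : List ℕ) : mm (mm A B) D = mm A (mm B D) := by
  simp only [mm, List.map_map]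
  exact List.map_congr_left fun c _ => app_mm A B c

theorem bm_lt_check : ((List.range 16).all fun d => (List.range 16).all fun k =>
    decide (sigT d k < 16) && decide (mulT d k < 16)) = true := by decide +kernel

theorem table_check : ((List.range 16).all fun a => (List.range 16).all fun b =>
    (mm (akM.getD a []) (akM.getD b []) == akM.getD (a ^^^ b) []) &&
    (mm (dM.getD a []) (akM.getD b []) == mm (akM.getD (sigT a b) []) (dM.getD a [])) &&
    (mm (dM.getD a []) (dM.getD b []) == dM.getD (mulT a b) [])) = true := by decide +kernel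

theorem bm_lt {e f : ℕ} (he : e < 256) (hf : f < 256) : bm e f < 256 := by
  have h := List.all_eq_true.1 bm_lt_check (e / 16) (List.mem_range.2 (by omega))
  have h1 := List.all_eq_true.1 h (f % 16) (List.mem_range.2 (by omega))
  have h2 := List.all_eq_true.1 h (f / 16) (List.mem_range.2 (by omega))
  simp only [Bool.and_eq_true, decide_eq_true_eq] at h1 h2
  have := Nat.xor_lt_two_pow (n := 4) (show e % 16 < 2 ^ 4 by omega) (show sigT (e / 16) (f % 16) < 2 ^ 4 by omega)
  unfold bm
  omega

/-- The indices multiply as the matrices do. -/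
theorem tbEl_mul {e f : ℕ} (he : e < 256) (hf : f < 256) : mm (tbEl e) (tbEl f) = tbEl (bm e f) := by
  have h := fun a b (ha : a < 16) (hb : b < 16) => List.all_eq_true.1
    (List.all_eq_true.1 table_check a (List.mem_range.2 ha)) b (List.mem_range.2 hb)
  simp only [Bool.and_eq_true, beq_iff_eq] at h
  have hs := List.all_eq_true.1 (List.all_eq_true.1 bm_lt_check (e / 16) (List.mem_range.2 (by omega))) (f % 16)
    (List.mem_range.2 (by omega))
  simp only [Bool.and_eq_true, decide_eq_true_eq] at hs
  have hx := Nat.xor_lt_two_pow (n := 4) (show e % 16 < 2 ^ 4 by omega) (show sigT (e / 16) (f % 16) < 2 ^ 4 by omega)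
  have hm : bm e f % 16 = e % 16 ^^^ sigT (e / 16) (f % 16) := by unfold bm; omega
  have hd : bm e f / 16 = mulT (e / 16) (f / 16) := by unfold bm; omega
  unfold tbEl
  rw [hm, hd, ← (h (e % 16) (sigT (e / 16) (f % 16)) (by omega) (by omega)).1.1,
    ← (h (e / 16) (f / 16) (by omega) (by omega)).2, mm_assoc, mm_assoc, ← mm_assoc (dM.getD (e / 16) []),
    (h (e / 16) (f % 16) (by omega) (by omega)).1.2, mm_assoc]

theorem tbEl_check : ((List.range 256).all fun e => (okMat (tbEl e)) && ((e == 0) || tbEl e != mI) &&
    ((List.range 256).any fun f => bm e f == 0) && (!(bm e e == 0) || e == 0 || tbInvs.contains e)) = true ∧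
    tbEl 0 = mI := by decide +kernel

theorem tbEl_ok {e : ℕ} (he : e < 256) : okMat (tbEl e) = true := by
  have h := List.all_eq_true.1 tbEl_check.1 e (List.mem_range.2 he)
  simp only [Bool.and_eq_true] at h
  exact h.1.1.1

theorem tbEl_eq_one {e : ℕ} (he : e < 256) (h1 : tbEl e = mI) : e = 0 := by
  have h := List.all_eq_true.1 tbEl_check.1 e (List.mem_range.2 he)
  simp only [Bool.and_eq_true, h1, bne_self_eq_false, Bool.or_false, beq_iff_eq] at h
  exact h.1.1.2

theorem bm_inv {e : ℕ} (he : e < 256) : ∃ f < 256, bm e f = 0 := by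
  have h := List.all_eq_true.1 tbEl_check.1 e (List.mem_range.2 he)
  simp only [Bool.and_eq_true, List.any_eq_true, List.mem_range, beq_iff_eq] at h
  exact h.1.2

/-- An index is determined by its matrix. -/
theorem tbEl_inj {e f : ℕ} (he : e < 256) (hf : f < 256) (h : tbEl e = tbEl f) : e = f := by
  obtain ⟨g, hg, hgf⟩ := bm_inv hf
  have h1 : tbEl (bm e g) = mI := by rw [← tbEl_mul he hg, h, tbEl_mul hf hg, hgf, tbEl_check.2]
  have e1 := tbEl_eq_one (bm_lt he hg) h1
  by_contra hne
  have u1 : ((List.range 256).all fun c => ((List.range 256).filter fun a => bm a c == 0).length == 1) = true := by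
    decide +kernel
  have u := List.all_eq_true.1 u1 g (List.mem_range.2 hg)
  rw [beq_iff_eq, List.length_eq_one_iff] at u
  obtain ⟨a0, ha0⟩ := u
  have m1 : e ∈ [a0] := ha0 ▸ List.mem_filter.2 ⟨List.mem_range.2 he, beq_iff_eq.2 e1⟩
  have m2 : f ∈ [a0] := ha0 ▸ List.mem_filter.2 ⟨List.mem_range.2 hf, beq_iff_eq.2 hgf⟩
  simp only [List.mem_singleton] at m1 m2
  exact hne (m1.trans m2.symm)

/-- An elementary abelian subgroup of the indices. -/
structure ElemSet (X : Finset ℕ) : Prop where
  lt : ∀ a ∈ X, a < 256
  zero : 0 ∈ X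
  mul : ∀ a ∈ X, ∀ b ∈ X, bm a b ∈ X
  sq : ∀ a ∈ X, bm a a = 0
  comm : ∀ a ∈ X, ∀ b ∈ X, bm a b = bm b a

theorem elemsT_subset {X : Finset ℕ} (hX : ElemSet X) : ∀ g : List ℕ, (∀ a ∈ g, a ∈ X) → ∀ b ∈ elemsT g, b ∈ X
  | [], _, b, hb => by
    rw [elemsT, List.mem_singleton] at hb
    exact hb ▸ hX.zero
  | a :: g, h, b, hb => by
    rw [elemsT, List.mem_append] at hb
    rcases hb with hb | hb
    · exact elemsT_subset hX g (fun c hc => h c (List.mem_cons_of_mem _ hc)) b hb
    · obtain ⟨c, hc, rfl⟩ := List.mem_map.1 hb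
      exact hX.mul a (h a (List.mem_cons_self ..)) c
        (elemsT_subset hX g (fun d hd => h d (List.mem_cons_of_mem _ hd)) c hc)

theorem mem_elemsT : ∀ (g : List ℕ) (a : ℕ), (∀ b ∈ g, b < 256) → a ∈ g → a ∈ elemsT g
  | b :: g, a, hlt, h => by
    rw [elemsT, List.mem_append]
    rcases List.mem_cons.1 h with rfl | h
    · refine Or.inr (List.mem_map.2 ⟨0, ?_, ?_⟩)
      · induction g with
        | nil => simp [elemsT]
        | cons c g ih =>
          exact List.mem_append_left _ (ih (fun d hd => hlt d (by simp at hd ⊢; tauto)) (List.mem_cons_self ..))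
      · have h0 : ((List.range 256).all fun x => bm x 0 == x) = true := by decide +kernel
        exact beq_iff_eq.1 (List.all_eq_true.1 h0 a (List.mem_range.2 (hlt a (List.mem_cons_self ..))))
    · exact Or.inl (mem_elemsT g a (fun d hd => hlt d (List.mem_cons_of_mem _ hd)) h)

/-- A large elementary abelian subgroup contains one from the list. -/
theorem exists_level {X : Finset ℕ} (hX : ElemSet X) : ∀ k ≤ 5, 2 ^ k ≤ X.card →
    ∃ U ∈ lvl k, ∀ a ∈ elemsT U.1, a ∈ X
  | 0, _, _ => ⟨([], 1), List.mem_singleton.2 rfl, fun a ha => by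
      rw [elemsT, List.mem_singleton] at ha
      exact ha ▸ hX.zero⟩
  | k + 1, hk, hc => by
    obtain ⟨U, hU, hsub⟩ := exists_level hX k (by omega) (le_trans (Nat.pow_le_pow_right two_pos (by omega)) hc)
    have hm := List.all_eq_true.1 (List.all_eq_true.1 lvl_masks k (List.mem_range.2 (by omega))) U hU
    simp only [Bool.and_eq_true, beq_iff_eq, decide_eq_true_eq, List.all_eq_true] at hm
    obtain ⟨⟨hmask, hlen⟩, hlt⟩ := hm
    obtain ⟨a, haX, haU⟩ : ∃ a ∈ X, a ∉ elemsT U.1 := by
      by_contra hcon
      push Not at hcon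
      have h1 := le_trans (Finset.card_le_card (t := (elemsT U.1).toFinset) fun a ha =>
        List.mem_toFinset.2 (hcon a ha)) (List.toFinset_card_le _)
      rw [pow_succ] at hc
      have := Nat.two_pow_pos k
      omega
    have hain : a ∈ tbInvs := by
      have h := List.all_eq_true.1 tbEl_check.1 a (List.mem_range.2 (hX.lt a haX))
      simp only [Bool.and_eq_true, hX.sq a haX, beq_self_eq_true, Bool.not_true, Bool.false_or, Bool.or_eq_true,
        beq_iff_eq, List.contains_iff_mem] at h
      refine h.2.resolve_left fun e => haU ?_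
      subst e
      clear h hlen hmask hc hsub hU haX hlt
      induction U.1 with
      | nil => simp [elemsT]
      | cons c g ih => exact List.mem_append_left _ ih
    have hUg : ∀ b ∈ U.1, b ∈ X := fun b hb => hsub b (mem_elemsT U.1 b (fun c hc => hlt c hc) hb)
    have hnb : U.2.testBit a = false := by
      rw [← hmask, ← Bool.not_eq_true, testBit_maskOf]
      exact haU
    have hcm : (U.1.all fun b => bm a b == bm b a) = true :=
      List.all_eq_true.2 fun b hb => beq_iff_eq.2 (hX.comm a haX b (hUg b hb))
    obtain ⟨V, hV, hVm⟩ := lvl_step (show k < 5 by omega) hU hain hnb hcm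
    have hm' := List.all_eq_true.1 (List.all_eq_true.1 lvl_masks (k + 1) (List.mem_range.2 (by omega))) V hV
    simp only [Bool.and_eq_true, beq_iff_eq] at hm'
    refine ⟨V, hV, fun b hb => elemsT_subset hX (a :: U.1) (fun c hc => ?_) b ?_⟩
    · rcases List.mem_cons.1 hc with rfl | hc
      · exact haX
      · exact hUg c hc
    · rw [← testBit_maskOf, ← hVm, ← hm'.1.1, testBit_maskOf]
      exact hb

/-- The vectors fixed by some indices. -/
def fixedBy : List ℕ → List ℕ
  | [] => List.range 4096
  | a :: g => let M := tbEl a; (fixedBy g).filter fun v => app M v == v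

theorem mem_fixedBy : ∀ {g : List ℕ} {v : ℕ}, v < 4096 → (∀ a ∈ g, app (tbEl a) v = v) → v ∈ fixedBy g
  | [], v, hv, _ => List.mem_range.2 hv
  | a :: g, v, hv, h => List.mem_filter.2 ⟨mem_fixedBy hv fun b hb => h b (List.mem_cons_of_mem _ hb),
      beq_iff_eq.2 (h a (List.mem_cons_self ..))⟩

theorem lvl_fix : (lvl4.all fun U => (U.2 == 65535) || decide ((fixedBy U.1).length < 64)) = true ∧
    (lvl5.all fun U => (fixedBy U.1).all fun v => v == 0 || v == 51) = true ∧
    maskOf (List.range 16) = 65535 := by decide +kernel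

/-- Parity of a bit vector along indices. -/
def par (msk : ℕ) : List ℕ → Bool
  | [] => false
  | i :: w => xor (msk.testBit i) (par msk w)

/-- The seven generators. -/
def tbGen (i : ℕ) : ℕ := [1, 2, 4, 8, 16, 32, 48].getD i 0

/-- An index as a word in the generators. -/
def tbWord (e : ℕ) : List ℕ :=
  (if e.testBit 0 then [0] else []) ++ (if e.testBit 1 then [1] else []) ++ (if e.testBit 2 then [2] else []) ++
    (if e.testBit 3 then [3] else []) ++ (dIdx.getD (e / 16) []).map fun i => i + 4

/-- The product of generators. -/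
def tbProd : List ℕ → ℕ
  | [] => 0
  | i :: w => bm (tbGen i) (tbProd w)

theorem tbWord_check : ((List.range 256).all fun e => (tbProd (tbWord e) == e) &&
    (tbWord e).all fun i => decide (i < 7)) = true := by decide +kernel

/-- The inverse. -/
def binv (e : ℕ) : ℕ := ((List.range 256).find? fun f => bm e f == 0).getD 0

/-- The commutator. -/
def bcomm (a b : ℕ) : ℕ := bm (bm a b) (bm (binv a) (binv b))

theorem wit_check : ((List.range 128).all fun msk => let w := tbWit.getD msk []
    let a := w.getD 0 0
    let b := w.getD 1 0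
    let c := w.getD 2 0
    let d := w.getD 3 0
    decide (a < 256) && decide (b < 256) && decide (c < 256) && decide (d < 256) &&
      !(par msk (tbWord a)) && !(par msk (tbWord b)) && !(par msk (tbWord c)) && !(par msk (tbWord d)) &&
      (bcomm a b != 0) && (bcomm c d != 0) && (bcomm a b != bcomm c d) &&
      (bm a (binv a) == 0) && (bm b (binv b) == 0) && (bm c (binv c) == 0) && (bm d (binv d) == 0)) = true := by
  decide +kernel

theorem conj_check : ((List.range 256).all fun e => !(bm e e == 0) || e == 0 ||
    !(mm (tbEl e) mT == mm mT (tbEl e)) ||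
    tbConj.any fun p => (p.1 == e) && (p.2.all fun i => decide (i < 9)) &&
      (mm (evM (asg mS mW mQ) p.2) (mA 0) == mm (tbEl e) (evM (asg mS mW mQ) p.2))) = true := by decide +kernel

theorem dM_check : ((List.range 16).all fun d =>
    (evM (fun i => if i = 6 then mS else if i = 7 then mW else mO) (dLetters.getD d []) == dM.getD d []) &&
    (akM.getD d [] == evM mA ((if d.testBit 0 then [0] else []) ++ (if d.testBit 1 then [1] else []) ++
      (if d.testBit 2 then [2] else []) ++ (if d.testBit 3 then [3] else []))) &&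
    (dLetters.getD d []).all fun i => i == 6 || i == 7 || i == 9) = true := by decide +kernel

end Cfsg.Agent.Spor.JFour
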