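import Cfsg.Agent.Lib.Spor.JFourType.Gens
import Cfsg.Agent.Lib.Spor.JFourType.TwoGroup
import Cfsg.Agent.Lib.Grp.Basic

/-!
The Sylow two-subgroup of the centraliser as the preimage of the group of 256 matrices.
-/

set_option autoImplicit false
set_option maxRecDepth 100000
set_option linter.style.haveILetI false

open Cfsg Cfsg.Agent.Spor.Golay
open scoped Pointwise
open Cfsg.Agent.Spor.Cos.J4Sub (app mm app_mm app_xor)

namespace Cfsg.Agent.Spor.JFour

variable {G : Type*} [Group G] {z : G} {P : Subgroup G}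

theorem mm_mI {e : ℕ} (he : e < 256) : mm (tbEl e) mI = tbEl e ∧ mm mI (tbEl e) = tbEl e := by
  have h : ((List.range 256).all fun a => bm a 0 == a && bm 0 a == a) = true := by decide +kernel
  have h' := List.all_eq_true.1 h e (List.mem_range.2 he)
  simp only [Bool.and_eq_true, beq_iff_eq] at h'
  rw [← tbEl_check.2, tbEl_mul he (by norm_num), tbEl_mul (by norm_num) he, h'.1, h'.2]
  exact ⟨rfl, rfl⟩

namespace Coord

variable {S : Setting z P} (C : Coord S)

theorem rep_E {m : G} (hm : m ∈ twoCoreOfCentralizer z) : C.Rep m mI :=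
  ⟨S.ext.central m hm, okMat_mI, fun n hn => by
    rw [S.act_eq_one (S.ext.central m hm) hm, Module.End.one_apply, app_mI hn]⟩

theorem rep_mI_iff {g : G} : C.Rep g mI ↔ g ∈ twoCoreOfCentralizer z := by
  refine ⟨fun h => (S.act_ker g h.hz).1 (LinearMap.ext fun v => ?_), C.rep_E⟩
  obtain ⟨n, hn, rfl⟩ := C.surj v
  rw [h.eq n hn, app_mI hn, Module.End.one_apply]

theorem eq_of_rep {g h : G} {M : List ℕ} (hg : C.Rep g M) (hh : C.Rep h M) :
    g⁻¹ * h ∈ twoCoreOfCentralizer z := by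
  refine (S.act_ker _ (by rw [mul_assoc, hh.hz, ← mul_assoc, conj_inv_comm hg.hz, mul_assoc])).1
    (LinearMap.ext fun v => ?_)
  obtain ⟨n, hn, rfl⟩ := C.surj v
  rw [S.act_mul _ _ (conj_inv_comm hg.hz) hh.hz, Module.End.mul_apply, hh.eq n hn, ← hg.eq n hn,
    ← Module.End.mul_apply, S.act_inv_mul hg.hz]

theorem rep_sq_one {v : G} {M : List ℕ} (hv : C.Rep v M) (h : v * v = 1) : mm M M = mI :=
  C.rep_unique (by rw [← h]; exact C.rep_mul hv hv) C.rep_one

end Coord

namespace Full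

variable {S : Setting z P} (F : Full S)

/-- The letters. -/
def gl (i : ℕ) : G := if i < 4 then F.a i else if i = 6 then F.s else if i = 7 then F.w else F.o

theorem tb_word : ∀ w : List ℕ, (∀ i ∈ w, i = 6 ∨ i = 7 ∨ i = 9) →
    F.toCoord.Rep (w.map F.gl).prod (evM (fun i => if i = 6 then mS else if i = 7 then mW else mO) w)
  | [], _ => F.toCoord.rep_one
  | i :: w, h => by
    rw [List.map_cons, List.prod_cons]
    refine F.toCoord.rep_mul ?_ (tb_word w fun j hj => h j (List.mem_cons_of_mem _ hj))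
    rcases h i (List.mem_cons_self ..) with rfl | rfl | rfl
    · exact F.rs
    · exact F.rw'
    · exact F.ro

theorem ak_word : ∀ w : List ℕ, (∀ i ∈ w, i < 4) → F.toCoord.Rep (w.map F.gl).prod (evM mA w)
  | [], _ => F.toCoord.rep_one
  | i :: w, h => by
    rw [List.map_cons, List.prod_cons]
    refine F.toCoord.rep_mul ?_ (ak_word w fun j hj => h j (List.mem_cons_of_mem _ hj))
    have hi := h i (List.mem_cons_self ..)
    rw [gl, if_pos hi]
    exact F.toCoord.rep_a hi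

theorem tb_exists {e : ℕ} (he : e < 256) : ∃ g, F.toCoord.Rep g (tbEl e) := by
  have h1 := List.all_eq_true.1 dM_check (e % 16) (List.mem_range.2 (by omega))
  have h2 := List.all_eq_true.1 dM_check (e / 16) (List.mem_range.2 (by omega))
  simp only [Bool.and_eq_true, beq_iff_eq, List.all_eq_true, Bool.or_eq_true] at h1 h2
  refine ⟨?w, ?_⟩
  rotate_left
  unfold tbEl
  rw [h1.1.2, ← h2.1.1]
  refine F.toCoord.rep_mul (F.ak_word _ fun i hi => ?_) (F.tb_word _ fun i hi => ?_)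
  · simp only [List.mem_append] at hi
    rcases hi with ((hi | hi) | hi) | hi <;> split_ifs at hi <;> simp_all
  · rcases h2.2 i hi with (e | e) | e
    exacts [Or.inl e, Or.inr (Or.inl e), Or.inr (Or.inr e)]

/-- The Sylow two-subgroup. -/
def T : Subgroup G where
  carrier := {g | ∃ e < 256, F.toCoord.Rep g (tbEl e)}
  one_mem' := ⟨0, by norm_num, by rw [tbEl_check.2]; exact F.toCoord.rep_one⟩
  mul_mem' := by
    rintro g h ⟨e, he, hg⟩ ⟨f, hf, hh⟩
    exact ⟨bm e f, bm_lt he hf, by rw [← tbEl_mul he hf]; exact F.toCoord.rep_mul hg hh⟩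
  inv_mem' := by
    rintro g ⟨e, he, hg⟩
    obtain ⟨f, hf, hef⟩ := bm_inv he
    obtain ⟨g', hg'⟩ := F.tb_exists hf
    have h := F.toCoord.rep_mul hg hg'
    rw [tbEl_mul he hf, hef, tbEl_check.2, F.toCoord.rep_mI_iff] at h
    refine ⟨f, hf, ?_⟩
    have h2 := F.toCoord.rep_mul hg' (F.toCoord.rep_E (inv_mem h))
    rwa [(mm_mI hf).1, mul_inv_rev, mul_inv_cancel_left] at h2

theorem mem_T {g : G} : g ∈ F.T ↔ ∃ e < 256, F.toCoord.Rep g (tbEl e) := Iff.rfl

theorem T_le : F.T ≤ Subgroup.centralizer ({z} : Set G) := fun g hg => by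
  obtain ⟨e, -, h⟩ := hg
  exact Subgroup.mem_centralizer_singleton_iff.2 h.hz

theorem E_le_T : twoCoreOfCentralizer z ≤ F.T := fun m hm =>
  ⟨0, by norm_num, by rw [tbEl_check.2]; exact F.toCoord.rep_E hm⟩

/-- The image of a subgroup. -/
noncomputable def img (X : Subgroup G) : Finset ℕ :=
  @Finset.filter ℕ (fun e => ∃ g ∈ X, F.toCoord.Rep g (tbEl e)) (Classical.decPred _) (Finset.range 256)

theorem mem_img {X : Subgroup G} {e : ℕ} : e ∈ F.img X ↔ e < 256 ∧ ∃ g ∈ X, F.toCoord.Rep g (tbEl e) := by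
  classical
  rw [img, Finset.mem_filter, Finset.mem_range]

theorem img_lt {X : Subgroup G} {e : ℕ} (h : e ∈ F.img X) : e < 256 := (F.mem_img.1 h).1

theorem img_zero (X : Subgroup G) : 0 ∈ F.img X :=
  F.mem_img.2 ⟨by norm_num, 1, one_mem X, by rw [tbEl_check.2]; exact F.toCoord.rep_one⟩

theorem img_mul {X : Subgroup G} {e f : ℕ} (he : e ∈ F.img X) (hf : f ∈ F.img X) : bm e f ∈ F.img X := by
  obtain ⟨he', g, hg, hgr⟩ := F.mem_img.1 he
  obtain ⟨hf', h, hh, hhr⟩ := F.mem_img.1 hf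
  exact F.mem_img.2 ⟨bm_lt he' hf', g * h, mul_mem hg hh, by rw [← tbEl_mul he' hf']; exact F.toCoord.rep_mul hgr hhr⟩

/-- Relations of indices are those of elements modulo the core. -/
theorem img_eq_of_mem {g h : G} {e f : ℕ} (he : e < 256) (hf : f < 256) (hg : F.toCoord.Rep g (tbEl e))
    (hh : F.toCoord.Rep h (tbEl f)) (hm : g⁻¹ * h ∈ twoCoreOfCentralizer z) : e = f := by
  refine tbEl_inj he hf (F.toCoord.rep_unique (g := h) ?_ hh)
  have := F.toCoord.rep_mul hg (F.toCoord.rep_E hm)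
  rwa [(mm_mI he).1, mul_inv_cancel_left] at this

theorem img_sq {X : Subgroup G} (h : ∀ g ∈ X, g * g ∈ twoCoreOfCentralizer z) {e : ℕ} (he : e ∈ F.img X) :
    bm e e = 0 := by
  obtain ⟨he', g, hg, hgr⟩ := F.mem_img.1 he
  refine F.img_eq_of_mem (bm_lt he' he') (by norm_num) (g := g * g) (h := 1)
    (by rw [← tbEl_mul he' he']; exact F.toCoord.rep_mul hgr hgr) (by rw [tbEl_check.2]; exact F.toCoord.rep_one) ?_
  rw [mul_one]; exact inv_mem (h g hg)

theorem img_comm {X : Subgroup G} (h : ∀ g ∈ X, ∀ k ∈ X, (g * k)⁻¹ * (k * g) ∈ twoCoreOfCentralizer z) {e f : ℕ}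
    (he : e ∈ F.img X) (hf : f ∈ F.img X) : bm e f = bm f e := by
  obtain ⟨he', g, hg, hgr⟩ := F.mem_img.1 he
  obtain ⟨hf', k, hk, hkr⟩ := F.mem_img.1 hf
  exact F.img_eq_of_mem (bm_lt he' hf') (bm_lt hf' he')
    (g := g * k) (by rw [← tbEl_mul he' hf']; exact F.toCoord.rep_mul hgr hkr)
    (h := k * g) (by rw [← tbEl_mul hf' he']; exact F.toCoord.rep_mul hkr hgr) (h g hg k hk)

/-- An elementary abelian image. -/
theorem img_elem {X : Subgroup G} (hsq : ∀ g ∈ X, g * g ∈ twoCoreOfCentralizer z)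
    (hcomm : ∀ g ∈ X, ∀ k ∈ X, (g * k)⁻¹ * (k * g) ∈ twoCoreOfCentralizer z) : ElemSet (F.img X) :=
  ⟨fun _ h => F.img_lt h, F.img_zero X, fun _ ha _ hb => F.img_mul ha hb, fun _ ha => F.img_sq hsq ha,
    fun _ ha _ hb => F.img_comm hcomm ha hb⟩

variable [Finite G]

/-- The order of a subgroup from its image and its part in the core. -/
theorem card_img {X : Subgroup G} (hX : X ≤ F.T) :
    Nat.card ↥X = (F.img X).card * Nat.card ↥(X ⊓ twoCoreOfCentralizer z) := by
  classical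
  have hidx : ∀ g : ↥X, ∃ e : ↥(F.img X), F.toCoord.Rep (g : G) (tbEl e) := fun g => by
    obtain ⟨e, he, hr⟩ := hX g.2
    exact ⟨⟨e, F.mem_img.2 ⟨he, g, g.2, hr⟩⟩, hr⟩
  choose idx hidx using hidx
  have hr : ∀ e : ↥(F.img X), ∃ g : ↥X, F.toCoord.Rep (g : G) (tbEl e) := fun e => by
    obtain ⟨-, g, hg, hr⟩ := F.mem_img.1 e.2
    exact ⟨⟨g, hg⟩, hr⟩
  choose r hr using hr
  rw [← Nat.card_eq_finsetCard, ← Nat.card_prod]
  refine Nat.card_congr ⟨fun g => (idx g, ⟨(r (idx g) : G)⁻¹ * g, Subgroup.mem_inf.2 ⟨X.mul_mem (X.inv_mem (r (idx g)).2) g.2,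
      F.toCoord.eq_of_rep (hr _) (hidx g)⟩⟩),
    fun u => r u.1 * ⟨u.2, u.2.2.1⟩, fun g => Subtype.ext (mul_inv_cancel_left _ _), fun u => ?_⟩
  have he : idx (r u.1 * ⟨u.2, u.2.2.1⟩) = u.1 := by
    refine Subtype.ext (F.img_eq_of_mem (F.img_lt u.1.2) (F.img_lt (idx _).2) (hr u.1) (hidx _) ?_).symm
    show (r u.1 : G)⁻¹ * ((r u.1 : G) * u.2) ∈ _
    rw [inv_mul_cancel_left]
    exact u.2.2.2
  refine Prod.ext he (Subtype.ext ?_)
  show (r (idx (r u.1 * ⟨u.2, u.2.2.1⟩)) : G)⁻¹ * ((r u.1 : G) * u.2) = u.2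
  rw [he, inv_mul_cancel_left]

theorem img_T : F.img F.T = Finset.range 256 := by
  refine Finset.ext fun e => ?_
  rw [F.mem_img, Finset.mem_range]
  exact ⟨fun h => h.1, fun he => ⟨he, (F.tb_exists he).imp fun g hg => ⟨⟨e, he, hg⟩, hg⟩⟩⟩

theorem card_T : Nat.card ↥F.T = 2 ^ 21 := by
  rw [F.card_img le_rfl, F.img_T, Finset.card_range, inf_eq_right.2 F.E_le_T, S.cardE]
  norm_num

end Full

/-- The elements of the centraliser inducing inner automorphisms. -/
def innerH (z : G) (P : Subgroup G) : Subgroup G := CP z P ⊔ twoCoreOfCentralizer z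

namespace Setting

variable (S : Setting z P)
include S

theorem mem_inner {g : G} : g ∈ innerH z P ↔ ∃ c ∈ CP z P, ∃ m ∈ twoCoreOfCentralizer z, g = c * m := by
  have hn : CP z P ≤ Subgroup.normalizer (twoCoreOfCentralizer z : Set G) := fun c hc =>
    Subgroup.mem_normalizer_iff.2 fun m => ⟨fun h => S.ext.norm c (S.commz hc) m h, fun h => by
      have := S.ext.norm c⁻¹ (conj_inv_comm (S.commz hc)) _ h
      rwa [show c⁻¹ * (c * m * c⁻¹) * c⁻¹⁻¹ = m by group] at this⟩
  rw [innerH, ← SetLike.mem_coe, Subgroup.coe_mul_of_left_le_normalizer_right _ _ hn]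
  exact ⟨fun ⟨c, hc, m, hm, e⟩ => ⟨c, hc, m, hm, e.symm⟩, fun ⟨c, hc, m, hm, e⟩ => ⟨c, hc, m, hm, e.symm⟩⟩

theorem inner_le : innerH z P ≤ Subgroup.centralizer ({z} : Set G) :=
  sup_le (fun _ hc => Subgroup.mem_centralizer_singleton_iff.2 (S.commz hc))
    fun m hm => Subgroup.mem_centralizer_singleton_iff.2 (S.ext.central m hm)

theorem act_inner {g : G} (hg : g ∈ innerH z P) : S.act g * S.act S.p = S.act S.p * S.act g := by
  obtain ⟨c, hc, m, hm, rfl⟩ := S.mem_inner.1 hg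
  rw [S.act_mul _ _ (S.commz hc) (S.ext.central m hm), S.act_eq_one (S.ext.central m hm) hm, mul_one,
    ← S.act_mul _ _ (S.commz hc) S.pz, ← S.act_mul _ _ S.pz (S.commz hc), (S.mem_iff.1 hc).2]

theorem act_p_ne : S.act S.p ≠ 1 := fun h => by
  have hp : S.p ∈ twoCoreOfCentralizer z := (S.act_ker _ S.pz).1 h
  rcases S.fix _ hp rfl with e | e
  · exact S.p_ne e
  · exact S.z_ne_p e.symm

theorem o_not_inner : S.o ∉ innerH z P := fun h => by
  have h1 := S.act_inner h
  have e : S.o * S.p = S.p * S.p * S.o := by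
    rw [← S.op, inv_mul_cancel_right]
  rw [← S.act_mul _ _ S.oz S.pz, e, S.act_mul _ _ (by rw [mul_assoc, S.pz, ← mul_assoc, S.pz, mul_assoc]) S.oz,
    S.act_mul _ _ S.pz S.pz, mul_assoc] at h1
  have h2 := congrArg (fun x => x * S.act S.o⁻¹) h1
  simp only [mul_assoc, S.act_mul_inv S.oz, mul_one] at h2
  have h3 := congrArg (fun x => S.act S.p⁻¹ * x) h2
  simp only [← mul_assoc, S.act_inv_mul S.pz, one_mul] at h3
  exact S.act_p_ne h3

theorem inner_cases {h : G} (hh : h * z = z * h) : h ∈ innerH z P ∨ h * S.o⁻¹ ∈ innerH z P := by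
  obtain ⟨e, he, c, hc, rfl | rfl⟩ := S.frattini h hh
  · exact Or.inl (mul_mem (Subgroup.mem_sup_right he) (Subgroup.mem_sup_left hc))
  · rw [mul_inv_cancel_right]
    exact Or.inr (mul_mem (Subgroup.mem_sup_right he) (Subgroup.mem_sup_left hc))

variable [Finite G]

theorem card_inner : Nat.card ↥(innerH z P) = 2 ^ 12 * (6 * 443520) := by
  have hn : CP z P ≤ Subgroup.normalizer (twoCoreOfCentralizer z : Set G) := fun c hc =>
    Subgroup.mem_normalizer_iff.2 fun m => ⟨fun h => S.ext.norm c (S.commz hc) m h, fun h => by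
      have := S.ext.norm c⁻¹ (conj_inv_comm (S.commz hc)) _ h
      rwa [show c⁻¹ * (c * m * c⁻¹) * c⁻¹⁻¹ = m by group] at this⟩
  have h := Grp.card_sup_mul_card_inf hn
  have hinf : CP z P ⊓ twoCoreOfCentralizer z = Subgroup.zpowers z := by
    refine le_antisymm (fun c hc => ?_) (Subgroup.zpowers_le.2 ⟨S.z_mem, S.ext.mem⟩)
    rcases S.fix c hc.2 (S.mem_iff.1 hc.1).2.symm with e | e <;> rw [e]
    exacts [one_mem _, Subgroup.mem_zpowers z]
  rw [hinf, Nat.card_zpowers, orderOf_eq_prime (p := 2) (by rw [pow_two, S.zz]) S.ext.ne, S.cardC, S.cardE] at h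
  have h' : Nat.card ↥(innerH z P) * 2 = 6 * 443520 * 2 ^ 13 := h
  omega

theorem card_H : Nat.card ↥(Subgroup.centralizer ({z} : Set G)) = 2 ^ 21 * 10395 := by
  set H := Subgroup.centralizer ({z} : Set G) with hH
  have hle := S.inner_le
  have h2 : (innerH z P).relIndex H = 2 := by
    rw [Subgroup.relIndex, Subgroup.index_eq_two_iff]
    refine ⟨⟨S.o, Subgroup.mem_centralizer_singleton_iff.2 S.oz⟩, fun h => ?_⟩
    have hh : (h : G) * z = z * h := Subgroup.mem_centralizer_singleton_iff.1 h.2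
    rw [Subgroup.mem_subgroupOf, Subgroup.mem_subgroupOf, Subgroup.coe_mul]
    by_cases hmem : (h : G) ∈ innerH z P
    · refine Or.inr ⟨hmem, fun hb => S.o_not_inner ?_⟩
      have := mul_mem (inv_mem hmem) hb
      rwa [inv_mul_cancel_left] at this
    · refine Or.inl ⟨?_, hmem⟩
      have h1 := (S.inner_cases hh).resolve_left hmem
      have h3 : ∀ x ∈ innerH z P, S.o⁻¹ * x * S.o ∈ innerH z P := fun x hx => by
        obtain ⟨c, hc, m, hm, rfl⟩ := S.mem_inner.1 hx
        rw [show S.o⁻¹ * (c * m) * S.o = (S.o⁻¹ * c * S.o) * (S.o⁻¹ * m * S.o) by group]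
        refine mul_mem (Subgroup.mem_sup_left (S.mem_iff.2 ⟨?_, ?_⟩)) (Subgroup.mem_sup_right ?_)
        · exact (((show Commute S.o z from S.oz).inv_left).mul_left (S.commz hc)).mul_left S.oz |>.eq
        · have hpp : c * (S.p * S.p) = S.p * S.p * c := by
            rw [← mul_assoc, (S.mem_iff.1 hc).2, mul_assoc, (S.mem_iff.1 hc).2, ← mul_assoc]
          have e : S.o * S.p = S.p * S.p * S.o := by rw [← S.op, inv_mul_cancel_right]
          have e' : S.o⁻¹ * (S.p * S.p) = S.p * S.o⁻¹ := by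
            rw [eq_mul_inv_iff_mul_eq, mul_assoc, ← e, inv_mul_cancel_left]
          calc S.o⁻¹ * c * S.o * S.p = S.o⁻¹ * (c * (S.o * S.p)) := by group
            _ = S.o⁻¹ * (c * (S.p * S.p) * S.o) := by rw [e]; group
            _ = S.o⁻¹ * (S.p * S.p) * c * S.o := by rw [hpp]; group
            _ = _ := by rw [e']; group
        · have := S.ext.norm S.o⁻¹ (conj_inv_comm S.oz) m hm
          rwa [inv_inv] at this
      have h4 : (S.o * S.o : G) ∈ innerH z P :=
        (S.inner_cases (by rw [mul_assoc, S.oz, ← mul_assoc, S.oz, mul_assoc])).resolve_right fun e => by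
          rw [mul_inv_cancel_right] at e; exact S.o_not_inner e
      rw [show (h : G) * S.o = (h : G) * S.o⁻¹ * (S.o * S.o) by group]
      exact mul_mem h1 h4
  have h5 := Subgroup.relIndex_mul_relIndex ⊥ (innerH z P) H bot_le hle
  rw [Subgroup.relIndex_bot_left, Subgroup.relIndex_bot_left, S.card_inner, h2] at h5
  rw [← h5]; norm_num

end Setting

namespace Full

variable {S : Setting z P} (F : Full S) [Finite G]

theorem exists_conj_le_T {X : Subgroup G} (hX : X ≤ Subgroup.centralizer ({z} : Set G)) {n : ℕ}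
    (hc : Nat.card ↥X = 2 ^ n) :
    ∃ h, h * z = z * h ∧ X.map (MulAut.conj h).toMonoidHom ≤ F.T := by
  haveI : Fact (Nat.Prime 2) := ⟨Nat.prime_two⟩
  set H := Subgroup.centralizer ({z} : Set G) with hH
  have hfac : (Nat.card ↥H).factorization 2 = 21 := by
    rw [S.card_H, Nat.factorization_mul (by norm_num) (by norm_num), Nat.factorization_pow, Finsupp.add_apply,
      Finsupp.smul_apply, Nat.Prime.factorization_self Nat.prime_two, Nat.factorization_eq_zero_of_not_dvd (by norm_num)]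
    rfl
  let T' : Sylow 2 ↥H := Sylow.ofCard (F.T.subgroupOf H) (by
    rw [Nat.card_congr (Subgroup.subgroupOfEquivOfLe F.T_le).toEquiv, F.card_T, hfac])
  obtain ⟨Q, hQ⟩ := (IsPGroup.of_card (p := 2) (n := n) (G := ↥(X.subgroupOf H)) (by
    rw [Nat.card_congr (Subgroup.subgroupOfEquivOfLe hX).toEquiv, hc])).exists_le_sylow
  obtain ⟨h, hh⟩ := MulAction.exists_smul_eq ↥H Q T'
  refine ⟨h, Subgroup.mem_centralizer_singleton_iff.1 h.2, ?_⟩
  rintro _ ⟨x, hx, rfl⟩
  have h1 : (MulAut.conj h) • (⟨x, hX hx⟩ : ↥H) ∈ (MulAut.conj h) • (Q : Subgroup ↥H) :=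
    Subgroup.smul_mem_pointwise_smul _ _ _ (hQ hx)
  change _ ∈ ((h • Q : Sylow 2 ↥H) : Subgroup ↥H) at h1
  rw [hh, Sylow.coe_ofCard, Subgroup.mem_subgroupOf] at h1
  exact h1

/-- A single involution. -/
theorem exists_conj_mem_T {v : G} (hv : v * z = z * v) (hv2 : v * v = 1) :
    ∃ h, h * z = z * h ∧ h * v * h⁻¹ ∈ F.T := by
  by_cases h1 : v = 1
  · exact ⟨1, by rw [one_mul, mul_one], by rw [h1, one_mul, inv_one, mul_one]; exact one_mem _⟩
  haveI : Fact (Nat.Prime 2) := ⟨Nat.prime_two⟩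
  obtain ⟨h, hh, hle⟩ := F.exists_conj_le_T (X := Subgroup.zpowers v)
    (Subgroup.zpowers_le.2 (Subgroup.mem_centralizer_singleton_iff.2 hv)) (n := 1)
    (by rw [Nat.card_zpowers, orderOf_eq_prime (by rw [pow_two, hv2]) h1]; norm_num)
  exact ⟨h, hh, hle ⟨v, Subgroup.mem_zpowers v, rfl⟩⟩

end Full

end Cfsg.Agent.Spor.JFour
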