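import Cfsg.Agent.Lib.Spor.JFourType.SevenData
import Cfsg.Agent.Lib.Spor.JFourType.SylowH

/-!
An element of order seven in the centraliser of the involution, its centraliser and normaliser there.
-/

set_option autoImplicit false
set_option maxRecDepth 100000
set_option Elab.async false
set_option linter.style.haveILetI false

open Cfsg Cfsg.Agent.Spor.Golay Cfsg.Agent.Spor.Golay.Aut
open Cfsg.Agent.Spor.Cos.J4Sub (app mm app_mm)

namespace Cfsg.Agent.Spor.JFour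

open Seven

namespace Seven

theorem twist_check : ((List.range 3).all fun k =>
    (List.range 4096).all fun n => !(app (mm (mTp k) s0M) n == n) || (n == 0)) = true := by decide +kernel

theorem mem22 {Q : ℕ} (h1 : inM24 Q = true) (h2 : preserves c22.M Q = true) : permOf Q ∈ Cfsg.Spor.M22 := by
  have hv : valid Q = true := by simp only [inM24, Bool.and_eq_true] at h1; exact h1.1
  rw [M22_eq]
  exact mem_Fix.2 ⟨permOf_mem_M24 h1, (preserves_iff hv (by decide +kernel)).1 h2, by simp⟩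

theorem s0Inv_eq : permOf s0Inv = (permOf s0P)⁻¹ := by
  obtain ⟨-, -, -, -, -, -, -, hs, -, -, h, -⟩ := s0_checks
  have hv : valid s0P = true := by simp only [inM24, Bool.and_eq_true] at hs; exact hs.1
  have hi : valid s0Inv = true := valid_comp (valid_comp (valid_comp hv hv) (valid_comp hv hv)) (valid_comp hv hv)
  refine eq_inv_of_mul_eq_one_right ?_
  rw [← permOf_comp hv hi, h, permOf_idP]

/-- The rigidity on 22 points. -/
theorem rigid22 {g : Equiv.Perm GolayPt} (hg : g ∈ Cfsg.Spor.M22) :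
    g * permOf s0P ≠ (permOf s0P)⁻¹ * g ∧
      (g * permOf s0P = permOf s0P * g → ∃ k : ℕ, g = permOf s0P ^ k) := by
  obtain ⟨r1, r2, ht, e0, e23⟩ := rigid_s0
  obtain ⟨-, -, -, -, -, -, -, hs, -, -, -, -, -, -, hne, -⟩ := s0_checks
  have h0 : g (pt 0) = pt 0 := by
    rw [show pt 0 = some 0 by decide]; exact hg.2
  have h23 : g (pt 23) = pt 23 := by
    rw [show pt 23 = none by decide]; exact hg.1.2
  refine ⟨fun h => ?_, fun h => ?_⟩
  · rw [← s0Inv_eq] at h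
    exact hne (rigid r2 ht (permOf_mem_M24 hs) hg.1.1 h0 h23 e0 e23 h).1
  · exact (rigid r1 ht (permOf_mem_M24 hs) hg.1.1 h0 h23 e0 e23 h).2

end Seven

namespace Setting

variable {G : Type*} [Group G] {z : G} {P : Subgroup G} (S : Setting z P)

theorem eq_of_ψ_seven {x y : G} (hx : x ∈ CP z P) (hy : y ∈ CP z P) (hx7 : x ^ 7 = 1) (hy7 : y ^ 7 = 1)
    (h : S.ψ x = S.ψ y) : x = y := by
  have hk : x * y⁻¹ ∈ CP z P := mul_mem hx (inv_mem hy)
  have hψ : S.ψ (x * y⁻¹) = 1 := by rw [S.ψ_mul _ hx _ (inv_mem hy), S.ψ_inv hy, h, mul_inv_cancel]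
  have hc : Commute (x * y⁻¹) y := S.ker_central hk hψ hy
  have h7 : (x * y⁻¹) ^ 7 = 1 := by
    have := hc.mul_pow 7
    rwa [inv_mul_cancel_right, hx7, hy7, mul_one, eq_comm] at this
  obtain ⟨i, j, hij⟩ := S.ψ_ker _ hk hψ
  have h6 : (x * y⁻¹) ^ 6 = 1 := by
    rw [hij, ((show Commute z S.p from S.pz.symm).pow_pow i j).mul_pow, ← pow_mul, ← pow_mul,
      show z ^ (i * 6) = (z * z) ^ (i * 3) by rw [← pow_two, ← pow_mul]; congr 1; ring,
      show S.p ^ (j * 6) = (S.p * S.p * S.p) ^ (j * 2) by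
        rw [show S.p * S.p * S.p = S.p ^ 3 by simp [pow_succ], ← pow_mul]; congr 1; ring,
      S.zz, S.p_pow, one_pow, one_pow, one_mul]
  refine mul_inv_eq_one.1 ?_
  rw [show x * y⁻¹ = (x * y⁻¹) ^ 7 * ((x * y⁻¹) ^ 6)⁻¹ by group, h7, h6, inv_one, mul_one]

end Setting

namespace Full

variable {G : Type*} [Group G] {z : G} {P : Subgroup G} {S : Setting z P} (F : Full S) [Finite G]

/-- The facts. -/
structure SevenH (S : Setting z P) where
  /-- the element of order seven -/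
  s : G
  /-- an outer element commuting with it -/
  o : G
  /-- an element squaring it -/
  m : G
  s_pow : s ^ 7 = 1
  s_ne : s ≠ 1
  s_z : s * z = z * s
  s_p : s * S.p = S.p * s
  o_z : o * z = z * o
  o_s : o * s = s * o
  o_p : o * S.p * o⁻¹ = S.p * S.p
  cent : ∀ h, h * z = z * h → h * s = s * h →
    ∃ i j k : ℕ, h = z ^ i * S.p ^ j * s ^ k ∨ h = z ^ i * S.p ^ j * s ^ k * o
  no_inv : ∀ h, h * z = z * h → h * s * h⁻¹ ≠ s⁻¹
  m_z : m * z = z * m
  m_s : m * s * m⁻¹ = s * s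

include F in
theorem exists_sevenH : Nonempty (SevenH S) := by
  classical
  obtain ⟨hw, hvc, hvn, hc0, hc0', hn0, hn0', hs0, hcomm, hnorm, hinv, -, -, hne, -, -⟩ := s0_checks
  have hvs : valid s0P = true := by simp only [inM24, Bool.and_eq_true] at hs0; exact hs0.1
  let gl : ℕ → G := fun k => if k = 6 then F.s else if k = 7 then F.w else if k = 8 then F.q else F.toCoord.lift k
  obtain ⟨cC, cψ, crep⟩ := F.toCoord.rep_word gl (asg mS mW mQ) 9 (fun k hk => by
    interval_cases k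
    exacts [F.toCoord.lift_spec (k := 0) (by norm_num), F.toCoord.lift_spec (k := 1) (by norm_num),
      F.toCoord.lift_spec (k := 2) (by norm_num), F.toCoord.lift_spec (k := 3) (by norm_num),
      F.toCoord.lift_spec (k := 4) (by norm_num), F.toCoord.lift_spec (k := 5) (by norm_num),
      ⟨F.s_mem, F.s_ψ, F.rs⟩, ⟨F.w_mem, F.w_ψ, F.rw'⟩, ⟨F.q_mem, F.q_ψ, F.rq⟩]) [0, 8] (by decide)
  set c := (([0, 8] : List ℕ).map gl).prod
  rw [wordπ_eq, hw] at cψ
  have hσ7 : permOf s0P ^ 7 = 1 := by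
    have hi : permOf s0Inv = permOf s0P ^ 6 := by
      rw [s0Inv, permOf_comp (valid_comp (valid_comp hvs hvs) (valid_comp hvs hvs)) (valid_comp hvs hvs),
        permOf_comp (valid_comp hvs hvs) (valid_comp hvs hvs), permOf_comp hvs hvs]
      simp only [pow_succ, pow_zero, one_mul, mul_assoc]
    rw [pow_succ', ← hi, s0Inv_eq, mul_inv_cancel]
  have h42 : c ^ 42 = 1 := by
    obtain ⟨i, j, hij⟩ := S.ψ_ker _ (pow_mem cC 7) (by rw [S.ψ_pow cC, cψ, hσ7])
    rw [show (42 : ℕ) = 7 * 6 by norm_num, pow_mul, hij, ((show Commute z S.p from S.pz.symm).pow_pow i j).mul_pow,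
      ← pow_mul, ← pow_mul, show z ^ (i * 6) = (z * z) ^ (i * 3) by rw [← pow_two, ← pow_mul]; congr 1; ring,
      show S.p ^ (j * 6) = (S.p * S.p * S.p) ^ (j * 2) by
        rw [show S.p * S.p * S.p = S.p ^ 3 by simp [pow_succ], ← pow_mul]; congr 1; ring,
      S.zz, S.p_pow, one_pow, one_pow, one_mul]
  set s := c ^ 36 with hs
  have hsC : s ∈ CP z P := pow_mem cC 36
  have hsψ : S.ψ s = permOf s0P := by
    rw [hs, S.ψ_pow cC, cψ, show (36 : ℕ) = 7 * 5 + 1 by norm_num, pow_succ, pow_mul, hσ7, one_pow, one_mul]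
  have hs7 : s ^ 7 = 1 := by
    rw [hs, ← pow_mul, show 36 * 7 = 42 * 6 by norm_num, pow_mul, h42, one_pow]
  have hσne : permOf s0P ≠ 1 := fun h => hne (by
    have hp : pack 24 (Golay.get s0P) = s0P := by decide +kernel
    rw [← hp, idP]
    refine Census.pack_ext 24 _ _ fun i hi => ?_
    have h3 := idx_permOf hvs (pt i)
    rw [h, Equiv.Perm.one_apply, idx_pt hi] at h3
    exact h3.symm)
  have hs1 : s ≠ 1 := fun e => hσne (by rw [← hsψ, e, S.ψ_one])
  -- nothing of the core but the centre commutes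
  have hfix : ∀ e ∈ twoCoreOfCentralizer z, e * s = s * e → e = 1 ∨ e = z := fun e he hc => by
    refine (S.rep_zero e he).1 ?_
    obtain ⟨n, hn, hne'⟩ := F.toCoord.surj (S.rep e)
    obtain ⟨M, hM⟩ := F.toCoord.exists_rep (S.commz hsC)
    obtain ⟨k, hk, rfl⟩ := F.toCoord.rep_upto hsC cC (by rw [hsψ, cψ]) hM crep
    have h1 := S.act_rep s (S.commz hsC) e he
    rw [← hc, mul_inv_cancel_right, ← hne', hM.eq n hn] at h1
    have h2 := F.toCoord.inj _ (app_lt_of_ok hM.ok n) n hn h1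
    have h3 := List.all_eq_true.1 (List.all_eq_true.1 twist_check k (List.mem_range.2 hk)) n (List.mem_range.2 hn)
    change app (mm (mTp k) (evM (asg mS mW mQ) [0, 8])) n = n at h2
    rw [s0M, h2] at h3
    simp only [beq_self_eq_true, Bool.not_true, Bool.false_or, beq_iff_eq] at h3
    rw [← hne', h3, F.toCoord.zero']
  -- inner elements moving it into the centraliser of the three-group
  have hinner : ∀ h ∈ innerH z P, ∀ s' ∈ CP z P, s' ^ 7 = 1 → h * s * h⁻¹ = s' →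
      ∃ c' ∈ CP z P, S.ψ c' * permOf s0P = S.ψ s' * S.ψ c' ∧ ∃ i : ℕ, h = z ^ i * c' := by
    intro h hh s' hs' hs'7 e
    obtain ⟨c', hc', m, hm, rfl⟩ := S.mem_inner.1 hh
    have hd : c'⁻¹ * s' * c' ∈ CP z P := mul_mem (mul_mem (inv_mem hc') hs') hc'
    have e1 : m * s * m⁻¹ = c'⁻¹ * s' * c' := by rw [← e]; group
    have hE : c'⁻¹ * s' * c' * s⁻¹ ∈ CP z P ⊓ twoCoreOfCentralizer z := by
      refine Subgroup.mem_inf.2 ⟨mul_mem hd (inv_mem hsC), ?_⟩
      rw [← e1, show m * s * m⁻¹ * s⁻¹ = m * (s * m⁻¹ * s⁻¹) by group]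
      exact mul_mem hm (S.ext.norm s (S.commz hsC) _ (inv_mem hm))
    have hψd : S.ψ (c'⁻¹ * s' * c') = S.ψ s := by
      have h1 : S.ψ (c'⁻¹ * s' * c' * s⁻¹) = 1 := by
        rcases S.fix _ hE.2 (S.mem_iff.1 hE.1).2.symm with e2 | e2 <;> rw [e2]
        exacts [S.ψ_one, S.ψ_z]
      rwa [S.ψ_mul _ hd _ (inv_mem hsC), S.ψ_inv hsC, mul_inv_eq_one] at h1
    have hds : c'⁻¹ * s' * c' = s := S.eq_of_ψ_seven hd hsC
      (by rw [show c'⁻¹ * s' * c' = c'⁻¹ * s' * c'⁻¹⁻¹ by group, conj_pow, hs'7]; group) hs7 hψd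
    refine ⟨c', hc', ?_, ?_⟩
    · have h2 : c' * s = s' * c' := by rw [← hds]; group
      have h3 := congrArg S.ψ h2
      rwa [S.ψ_mul _ hc' _ hsC, S.ψ_mul _ hs' _ hc', hsψ] at h3
    · rw [hds] at e1
      rcases hfix m hm (mul_inv_eq_iff_eq_mul.1 e1) with rfl | rfl
      · exact ⟨0, by rw [pow_zero, mul_one, one_mul]⟩
      · exact ⟨1, by rw [pow_one, S.commz hc']⟩
  -- the outer element
  obtain ⟨c0, hc0C, hc0ψ⟩ := S.ψ_surj _ (mem22 hc0 hc0')
  set o := c0 * F.o with ho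
  have hos' : o * s * o⁻¹ ∈ CP z P := by
    rw [show o * s * o⁻¹ = c0 * (F.o * s * F.o⁻¹) * c0⁻¹ by rw [ho]; group]
    exact mul_mem (mul_mem hc0C (F.o_norm.mem s hsC)) (inv_mem hc0C)
  have hos : o * s = s * o := mul_inv_eq_iff_eq_mul.1 (S.eq_of_ψ_seven hos' hsC
    (by rw [conj_pow, hs7, mul_one, mul_inv_cancel]) hs7 (by
      rw [show o * s * o⁻¹ = c0 * (F.o * s * F.o⁻¹) * c0⁻¹ by rw [ho]; group, S.ψ_conj hc0C (F.o_norm.mem s hsC),
        F.o_norm.ψ s hsC, hsψ, hc0ψ,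
        show permOf c0P * (permOf (pk 9) * permOf s0P * (permOf (pk 9))⁻¹) * (permOf c0P)⁻¹ =
          (permOf c0P * permOf (pk 9)) * permOf s0P * (permOf c0P * permOf (pk 9))⁻¹ by group,
        ← permOf_comp hvc (pk_valid 9), ← permOf_comp (valid_comp hvc (pk_valid 9)) hvs, hcomm,
        permOf_comp hvs (valid_comp hvc (pk_valid 9)), mul_inv_cancel_right]))
  have hop : o * S.p * o⁻¹ = S.p * S.p := by
    rw [show o * S.p * o⁻¹ = c0 * (F.o * S.p * F.o⁻¹) * c0⁻¹ by rw [ho]; group, F.o_p, mul_inv_eq_iff_eq_mul,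
      ← mul_assoc, (S.mem_iff.1 hc0C).2, mul_assoc, (S.mem_iff.1 hc0C).2, ← mul_assoc]
  have hoz : o * z = z * o := ((show Commute c0 z from S.commz hc0C).mul_left F.o_norm.hz).eq
  have hoi : o ∉ innerH z P := fun hi => by
    have h1 := S.act_inner hi
    have e : o * S.p = S.p * S.p * o := by rw [← hop, inv_mul_cancel_right]
    rw [← S.act_mul _ _ hoz S.pz, e, S.act_mul _ _ S.pp_z hoz, S.act_mul _ _ S.pz S.pz, mul_assoc] at h1
    have h2 := congrArg (fun x => x * S.act o⁻¹) h1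
    simp only [mul_assoc, S.act_mul_inv hoz, mul_one] at h2
    have h3 := congrArg (fun x => S.act S.p⁻¹ * x) h2
    simp only [← mul_assoc, S.act_inv_mul S.pz, one_mul] at h3
    exact S.act_p_ne h3
  have hcases : ∀ h, h * z = z * h → h ∈ innerH z P ∨ h * o⁻¹ ∈ innerH z P := fun h hh => by
    rcases S.inner_cases hh with h1 | h1
    · exact Or.inl h1
    · refine Or.inr ?_
      have h2 := (S.inner_cases hoz).resolve_left hoi
      have := mul_mem h1 (inv_mem h2)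
      rwa [show h * S.o⁻¹ * (o * S.o⁻¹)⁻¹ = h * o⁻¹ by group] at this
  have hin : ∀ h ∈ innerH z P, h * s = s * h → ∃ i j k : ℕ, h = z ^ i * S.p ^ j * s ^ k := fun h hh hc => by
    obtain ⟨c', hc', hψ, i, rfl⟩ := hinner h hh s hsC hs7 (by rw [hc, mul_inv_cancel_right])
    rw [hsψ] at hψ
    obtain ⟨k, hk⟩ := (rigid22 (S.ψ_mem _ hc')).2 hψ
    obtain ⟨i', j, hij⟩ := S.ψ_ker (c' * (s ^ k)⁻¹) (mul_mem hc' (inv_mem (pow_mem hsC k))) (by
      rw [S.ψ_mul _ hc' _ (inv_mem (pow_mem hsC k)), S.ψ_inv (pow_mem hsC k), S.ψ_pow hsC, hsψ, hk, mul_inv_cancel])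
    exact ⟨i + i', j, k, by rw [pow_add, mul_inv_eq_iff_eq_mul.1 hij]; group⟩
  have hinv' : s⁻¹ ∈ CP z P := inv_mem hsC
  -- the squaring element
  obtain ⟨n, hnC, hnψ⟩ := S.ψ_surj _ (mem22 hn0 hn0')
  refine ⟨⟨s, o, n, hs7, hs1, S.commz hsC, (S.mem_iff.1 hsC).2, hoz, hos, hop, fun h hh hc => ?_, fun h hh e => ?_,
    S.commz hnC, S.eq_of_ψ_seven (mul_mem (mul_mem hnC hsC) (inv_mem hnC)) (mul_mem hsC hsC)
      (by rw [conj_pow, hs7, mul_one, mul_inv_cancel]) (by rw [← pow_two, ← pow_mul, mul_comm, pow_mul, hs7, one_pow]) ?_⟩⟩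
  · rcases hcases h hh with hi | hi
    · obtain ⟨i, j, k, rfl⟩ := hin h hi hc
      exact ⟨i, j, k, Or.inl rfl⟩
    · obtain ⟨i, j, k, e⟩ := hin _ hi (by
        rw [mul_assoc, show o⁻¹ * s = s * o⁻¹ from (show Commute o s from hos).inv_left.eq, ← mul_assoc, hc, mul_assoc])
      exact ⟨i, j, k, Or.inr (mul_inv_eq_iff_eq_mul.1 e)⟩
  · obtain ⟨h', hi, e'⟩ : ∃ h' ∈ innerH z P, h' * s * h'⁻¹ = s⁻¹ := by
      rcases hcases h hh with hi | hi
      · exact ⟨h, hi, e⟩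
      · refine ⟨_, hi, ?_⟩
        rw [show h * o⁻¹ * s * (h * o⁻¹)⁻¹ = h * (o⁻¹ * s) * o * h⁻¹ by group,
          show o⁻¹ * s = s * o⁻¹ from (show Commute o s from hos).inv_left.eq, ← e]
        group
    obtain ⟨c', hc', hψ, -⟩ := hinner h' hi s⁻¹ hinv' (by rw [inv_pow, hs7, inv_one]) e'
    rw [S.ψ_inv hsC, hsψ] at hψ
    exact (rigid22 (S.ψ_mem _ hc')).1 hψ
  · rw [S.ψ_conj hnC hsC, S.ψ_mul _ hsC _ hsC, hsψ, hnψ, mul_inv_eq_iff_eq_mul,
      ← permOf_comp hvn hvs, hnorm, permOf_comp (valid_comp hvs hvs) hvn, permOf_comp hvs hvs]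

end Full

end Cfsg.Agent.Spor.JFour
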