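import Cfsg.Agent.Lib.Spor.JFourType.FiveData
import Cfsg.Agent.Lib.Spor.JFourType.SevenClass
import Cfsg.Agent.Lib.Spor.JFourType.SevenH

/-!
An element of order five in the centraliser of the involution and its centraliser there.
-/

set_option autoImplicit false
set_option maxRecDepth 100000
set_option Elab.async false
set_option linter.style.haveILetI false

open Cfsg Cfsg.Agent.Spor.Golay Cfsg.Agent.Spor.Golay.Aut
open Cfsg.Agent.Spor.Cos.J4Sub (app mm app_mm app_zero)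

namespace Cfsg.Agent.Spor.JFour

open Five
open Seven (walk mem22)

theorem Five.rigid22 {g : Equiv.Perm GolayPt} (hg : g ∈ Cfsg.Spor.M22) (h : g * permOf s5P = permOf s5P * g) :
    ∃ k : ℕ, g = permOf s5P ^ k := by
  obtain ⟨r, t, e0, e23⟩ := rigid_s5
  have h0 : g (pt 0) = pt 0 := by
    rw [show pt 0 = some 0 by decide]; exact hg.2
  have h23 : g (pt 23) = pt 23 := by
    rw [show pt 23 = none by decide]; exact hg.1.2
  exact Five.rigid r t (permOf_mem_M24 s5_checks.1) hg.1.1 h0 h23 h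

namespace Setting

variable {G : Type*} [Group G] {z : G} {P : Subgroup G} (S : Setting z P)

theorem eq_of_ψ_five {x y : G} (hx : x ∈ CP z P) (hy : y ∈ CP z P) (hx5 : x ^ 5 = 1) (hy5 : y ^ 5 = 1)
    (h : S.ψ x = S.ψ y) : x = y := by
  have hk : x * y⁻¹ ∈ CP z P := mul_mem hx (inv_mem hy)
  have hψ : S.ψ (x * y⁻¹) = 1 := by rw [S.ψ_mul _ hx _ (inv_mem hy), S.ψ_inv hy, h, mul_inv_cancel]
  have hc : Commute (x * y⁻¹) y := S.ker_central hk hψ hy
  have h5 : (x * y⁻¹) ^ 5 = 1 := by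
    have := hc.mul_pow 5
    rwa [inv_mul_cancel_right, hx5, hy5, mul_one, eq_comm] at this
  obtain ⟨i, j, hij⟩ := S.ψ_ker _ hk hψ
  have h6 : (x * y⁻¹) ^ 6 = 1 := by
    rw [hij, ((show Commute z S.p from S.pz.symm).pow_pow i j).mul_pow, ← pow_mul, ← pow_mul,
      show z ^ (i * 6) = (z * z) ^ (i * 3) by rw [← pow_two, ← pow_mul]; congr 1; ring,
      show S.p ^ (j * 6) = (S.p * S.p * S.p) ^ (j * 2) by
        rw [show S.p * S.p * S.p = S.p ^ 3 by simp [pow_succ], ← pow_mul]; congr 1; ring,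
      S.zz, S.p_pow, one_pow, one_pow, one_mul]
  refine mul_inv_eq_one.1 ?_
  rw [show x * y⁻¹ = (x * y⁻¹) ^ 6 * ((x * y⁻¹) ^ 5)⁻¹ by group, h6, h5, inv_one, mul_one]

end Setting

namespace Frame

open Mathieu (moveM tMask)

variable {G : Type*} [Group G] {z : G} {P : Subgroup G} {S : Setting z P} (Fr : Frame S) [Finite G]

/-- The facts. -/
structure FiveH (S : Setting z P) where
  /-- the element of order five -/
  s : G
  /-- the group of order eight -/
  E : Subgroup G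
  s_pow : s ^ 5 = 1
  s_ne : s ≠ 1
  s_z : s * z = z * s
  cardE : Nat.card ↥E = 8
  E_comm : ∀ a ∈ E, ∀ b ∈ E, a * b = b * a
  z_mem : z ∈ E
  E_le : ∀ e ∈ E, e * z = z * e ∧ e * s = s * e
  E_z : ∀ e ∈ E, e ≠ 1 → IsConj z e
  card_cent : Nat.card ↥(Subgroup.centralizer ({z} : Set G) ⊓ Subgroup.centralizer ({s} : Set G)) = 960
  trans : ∀ a ∈ E, ∀ b ∈ E, a ≠ 1 → a ≠ z → b ≠ 1 → b ≠ z → ∃ h, h * z = z * h ∧ h * s = s * h ∧ h * a * h⁻¹ = b
  centE : ∀ h, h * z = z * h → h * s = s * h → (∀ e ∈ E, h * e = e * h) → ∃ e ∈ E, ∃ l : ℕ, h = e * s ^ l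
  E_max : ∀ x0, x0 * z = z * x0 → x0 * s = s * x0 → x0 * x0 = 1 → x0 ≠ 1 → ¬ IsConj z x0 →
    (∀ g, g * z = z * g → g * s = s * g → g * x0 = x0 * g → g ^ 4 = 1 → g * g = 1) →
    ∀ x, x * z = z * x → x * s = s * x → x * x = 1 → IsConj z x → x ∈ E

variable [IsSimpleGroup G]

set_option maxHeartbeats 1600000 in
include Fr in
theorem exists_fiveH (hG : ¬ IsMulCommutative G) : Nonempty (FiveH S) := by
  classical
  haveI : Fact (Nat.Prime 5) := ⟨by norm_num⟩
  obtain ⟨hs5, hs5', -, -, -, -, -, -, -, -, -, h55, hne, cp5, -, -, -, -, -, hc5, hc5', hc5p, -, -⟩ := s5_checks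
  obtain ⟨hsM, hoM, hsW, hsok, -, hsWlt, hnil⟩ := word_checks
  obtain ⟨hfix, hFX, hFXnd, hL4, hcls, hns, hLflip, hLperp⟩ := fix_core
  obtain ⟨t1051, t2093, t3126, hout, him, o298, q298, hfaith⟩ := outer_checks
  simp only [List.all_eq_true, List.any_eq_true, List.mem_range, Bool.and_eq_true, Bool.or_eq_true, beq_iff_eq,
    Bool.not_eq_true', decide_eq_true_eq, beq_eq_false_iff_ne, List.contains_iff_mem, ne_eq] at hfix hFX hL4 hcls hns hLflip hLperp hout him hfaith hsWlt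
  have hvs : valid s5P = true := by simp only [inM24, Bool.and_eq_true] at hs5; exact hs5.1
  have hvc : valid (wordP c5W) = true := wordP_valid _
  set C := Fr.F.toCoord with hC
  let gl : ℕ → G := fun k => if k = 6 then Fr.F.s else if k = 7 then Fr.F.w else if k = 8 then Fr.F.q else C.lift k
  have hgl : ∀ k < 9, gl k ∈ CP z P ∧ S.ψ (gl k) = permOf (pk k) ∧ C.Rep (gl k) (asg mS mW mQ k) := fun k hk => by
    interval_cases k
    exacts [C.lift_spec (k := 0) (by norm_num), C.lift_spec (k := 1) (by norm_num),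
      C.lift_spec (k := 2) (by norm_num), C.lift_spec (k := 3) (by norm_num),
      C.lift_spec (k := 4) (by norm_num), C.lift_spec (k := 5) (by norm_num),
      ⟨Fr.F.s_mem, Fr.F.s_ψ, Fr.F.rs⟩, ⟨Fr.F.w_mem, Fr.F.w_ψ, Fr.F.rw'⟩, ⟨Fr.F.q_mem, Fr.F.q_ψ, Fr.F.rq⟩]
  -- the element of order five
  obtain ⟨cC, cψ, -⟩ := C.rep_word gl (asg mS mW mQ) 9 hgl [0, 7, 8] (by decide)
  obtain ⟨hsC, hsψ, hsrep⟩ := C.rep_word gl (asg mS mW mQ) 9 hgl s5W hsWlt
  obtain ⟨oC, oψ, orep⟩ := C.rep_word gl (asg mS mW mQ) 9 hgl c5W (by decide)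
  set c := (([0, 7, 8] : List ℕ).map gl).prod
  set s := (s5W.map gl).prod with hsdef
  set c0 := (c5W.map gl).prod
  rw [hsM] at hsrep
  rw [wordπ_eq, hsW] at hsψ
  rw [wordπ_eq, show wordP [0, 7, 8] = s5P from rfl] at cψ
  rw [wordπ_eq] at oψ
  have hσ5 : permOf s5P ^ 5 = 1 := by
    have v2 := valid_comp hvs hvs
    rw [← permOf_idP, ← h55, permOf_comp (valid_comp (valid_comp v2 hvs) hvs) hvs,
      permOf_comp (valid_comp v2 hvs) hvs, permOf_comp v2 hvs, permOf_comp hvs hvs]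
    simp only [pow_succ, pow_zero, one_mul, mul_assoc]
  have hσne : permOf s5P ≠ 1 := fun h => hne (by
    have hp : pack 24 (Golay.get s5P) = s5P := by decide +kernel
    rw [← hp, idP]
    refine Census.pack_ext 24 _ _ fun i hi => ?_
    have h3 := idx_permOf hvs (pt i)
    rw [h, Equiv.Perm.one_apply, idx_pt hi] at h3
    exact h3.symm)
  have hc30 : c ^ 30 = 1 := by
    obtain ⟨i, j, hij⟩ := S.ψ_ker _ (pow_mem cC 5) (by rw [S.ψ_pow cC, cψ, hσ5])
    rw [show (30 : ℕ) = 5 * 6 by norm_num, pow_mul, hij, ((show Commute z S.p from S.pz.symm).pow_pow i j).mul_pow,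
      ← pow_mul, ← pow_mul, show z ^ (i * 6) = (z * z) ^ (i * 3) by rw [← pow_two, ← pow_mul]; congr 1; ring,
      show S.p ^ (j * 6) = (S.p * S.p * S.p) ^ (j * 2) by
        rw [show S.p * S.p * S.p = S.p ^ 3 by simp [pow_succ], ← pow_mul]; congr 1; ring,
      S.zz, S.p_pow, one_pow, one_pow, one_mul]
  have hsc : s = c ^ 36 := by
    rw [hsdef, s5W, List.map_flatten, List.map_replicate, List.prod_flatten, List.map_replicate, List.prod_replicate]
  have hs5 : s ^ 5 = 1 := by rw [hsc, ← pow_mul, show 36 * 5 = 30 * 6 by norm_num, pow_mul, hc30, one_pow]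
  have hs1 : s ≠ 1 := fun e => hσne (by rw [← hsψ, e, S.ψ_one])
  have hsz := S.commz hsC
  have hcast : ∀ {l l' : ℕ}, s ^ l = s ^ l' → l % 5 = l' % 5 := fun h => by
    have := pow_eq_pow_iff_modEq.1 h
    rwa [orderOf_eq_prime hs5 hs1] at this
  -- the core centraliser
  have hE2 : IsPGroup 2 ↥(twoCoreOfCentralizer z) := IsPGroup.of_card S.cardE
  have hcore1 : ∀ (q : ℕ), Nat.Coprime q 2 → ∀ e ∈ twoCoreOfCentralizer z, e ^ q = 1 → e = 1 := fun q hq e he h => by
    have hd : orderOf e ∣ 2 ^ 13 := S.cardE ▸ Subgroup.orderOf_dvd_natCard _ he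
    have := Nat.eq_one_of_dvd_coprimes (hq.pow_right 13) (orderOf_dvd_of_pow_eq_one h) hd
    exact orderOf_eq_one_iff.1 this
  have hFXlt : ∀ v ∈ FX, v < 4096 := fun v hv => (hFX v hv).1
  have hXof : ∀ e ∈ twoCoreOfCentralizer z, e * s = s * e → ∃ v ∈ FX, S.rep e = C.Φ v := fun e he hc => by
    obtain ⟨n, hn, hne'⟩ := C.surj (S.rep e)
    have h1 := S.act_rep s hsz e he
    rw [← hc, mul_inv_cancel_right, ← hne', hsrep.eq n hn] at h1
    refine ⟨n, (hfix n hn).resolve_left ?_, hne'.symm⟩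
    simp [C.inj _ (app_lt_of_ok hsok n) n hn h1]
  have hXmk : ∀ e ∈ twoCoreOfCentralizer z, ∀ v ∈ FX, S.rep e = C.Φ v → e * s = s * e := fun e he v hv hev => by
    have h1 : S.rep (s * e * s⁻¹) = S.rep e := by
      rw [← S.act_rep s hsz e he, hev, hsrep.eq v (hFXlt v hv), (hFX v hv).2]
    rcases S.eq_or_mul_z he (S.ext.norm s hsz e he) h1.symm with h | h
    · exact (mul_inv_eq_iff_eq_mul.1 h).symm
    · exfalso
      have key : ∀ l : ℕ, s ^ l * e * (s ^ l)⁻¹ = e * z ^ l := fun l => by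
        induction l with
        | zero => simp
        | succ l ih =>
          rw [pow_succ', show s * s ^ l * e * (s * s ^ l)⁻¹ = s * (s ^ l * e * (s ^ l)⁻¹) * s⁻¹ by group, ih,
            show s * (e * z ^ l) * s⁻¹ = (s * e * s⁻¹) * (s * z ^ l * s⁻¹) by group, h,
            ((show Commute s z from hsz).pow_right l).eq, mul_inv_cancel_right, mul_assoc, ← pow_succ']
      have h5 := key 5
      rw [hs5, one_mul, inv_one, mul_one, show z ^ 5 = z by
        rw [pow_succ, pow_succ, pow_succ, pow_succ, pow_one, S.zz, one_mul, S.zz, one_mul]] at h5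
      exact S.ext.ne (left_eq_mul.1 h5)
  have hlhX : ∀ v ∈ FX, C.lh v * s = s * C.lh v := fun v hv => hXmk _ (C.lh_spec v).1 v hv (C.lh_spec v).2.1
  have hpair : ∀ {a b : G} {u v : ℕ}, a ∈ twoCoreOfCentralizer z → b ∈ twoCoreOfCentralizer z → u < 4096 →
      v < 4096 → S.rep a = C.Φ u → S.rep b = C.Φ v → a * b = b * a * zp z (bv u v) :=
    fun ha hb hu hv ea eb => C.core_comm ha hb hu hv ea eb
  have hsq : ∀ {a : G} {u : ℕ}, a ∈ twoCoreOfCentralizer z → u < 4096 → S.rep a = C.Φ u → a * a = zp z (qv u) :=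
    fun {a u} ha hu ea => by rw [S.q_sq a ha, ea, C.form u hu, Coord.pw_zb]
  have hz0 : S.rep z = C.Φ 0 := by
    rw [C.zero']
    have h := (S.rep_zero _ (S.zp_mem_E true)).2 (Or.inr rfl)
    exact h
  have hzE : z ∈ twoCoreOfCentralizer z := S.zp_mem_E true
  -- the group of order eight
  let E : Subgroup G :=
    { carrier := {e | e ∈ twoCoreOfCentralizer z ∧ ∃ v ∈ L4, S.rep e = C.Φ v}
      one_mem' := ⟨one_mem _, 0, by decide, by rw [C.zero', (S.rep_zero 1 (one_mem _)).2 (Or.inl rfl)]⟩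
      mul_mem' := by
        rintro a b ⟨ha, u, hu, ea⟩ ⟨hb, v, hv, eb⟩
        exact ⟨mul_mem ha hb, u ^^^ v, ((hL4 u hu).2 v hv).2, by rw [S.rep_mul a ha b hb, ea, eb, C.add]⟩
      inv_mem' := by
        rintro a ⟨ha, u, hu, ea⟩
        exact ⟨inv_mem ha, u, hu, by rw [S.rep_inv ha, ea]⟩ }
  have memE : ∀ {e}, e ∈ E ↔ e ∈ twoCoreOfCentralizer z ∧ ∃ v ∈ L4, S.rep e = C.Φ v := Iff.rfl
  have hL4F : ∀ v ∈ L4, v ∈ FX := fun v hv => (hL4 v hv).1.1
  have hLlt : ∀ v ∈ L4, v < 4096 := fun v hv => hFXlt v (hL4F v hv)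
  have hfibre : ∀ (Ls : List ℕ), Ls.Nodup → (∀ v ∈ Ls, v < 4096) → ∀ (X : Subgroup G),
      (∀ e, e ∈ X ↔ e ∈ twoCoreOfCentralizer z ∧ ∃ v ∈ Ls, S.rep e = C.Φ v) → Nat.card ↥X = 2 * Ls.length := by
    intro Ls hnd hlt X hX
    let f : {v // v ∈ Ls} × Bool → ↥X := fun p => ⟨C.lh p.1 * zp z p.2, (hX _).2 ⟨mul_mem (C.lh_spec _).1 (S.zp_mem_E _),
      p.1, p.1.2, by
        rw [S.rep_mul _ (C.lh_spec _).1 _ (S.zp_mem_E _), (C.lh_spec _).2.1,
          (S.rep_zero _ (S.zp_mem_E _)).2 (by cases p.2 <;> simp [zp]), add_zero]⟩⟩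
    have hf : Function.Bijective f := by
      constructor
      · rintro ⟨⟨u, hu⟩, a⟩ ⟨⟨v, hv⟩, b⟩ h
        have h1 := congrArg Subtype.val h
        simp only [f] at h1
        have h2 := congrArg S.rep h1
        rw [S.rep_mul _ (C.lh_spec _).1 _ (S.zp_mem_E _), S.rep_mul _ (C.lh_spec _).1 _ (S.zp_mem_E _),
          (C.lh_spec _).2.1, (C.lh_spec _).2.1, (S.rep_zero _ (S.zp_mem_E _)).2 (by cases a <;> simp [zp]),
          (S.rep_zero _ (S.zp_mem_E _)).2 (by cases b <;> simp [zp]), add_zero, add_zero] at h2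
        obtain rfl := C.inj _ (hlt u hu) _ (hlt v hv) h2
        rw [mul_right_inj] at h1
        cases a <;> cases b <;> simp_all [zp, S.ext.ne, Ne.symm S.ext.ne]
      · rintro ⟨e, he⟩
        obtain ⟨he', v, hv, ev⟩ := (hX e).1 he
        rcases C.lh_cases he' ev with h | h
        · exact ⟨(⟨v, hv⟩, false), Subtype.ext (by simp [f, h, zp])⟩
        · exact ⟨(⟨v, hv⟩, true), Subtype.ext (by simp [f, h, zp])⟩
    rw [← Nat.card_eq_of_bijective f hf, Nat.card_prod, mul_comm, Nat.card_eq_fintype_card,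
      Nat.card_eq_fintype_card (α := {v // v ∈ Ls}), Fintype.card_bool,
      Fintype.card_of_subtype Ls.toFinset (fun x => List.mem_toFinset), List.toFinset_card_of_nodup hnd]
  let X : Subgroup G := twoCoreOfCentralizer z ⊓ Subgroup.centralizer ({s} : Set G)
  have memX : ∀ e, e ∈ X ↔ e ∈ twoCoreOfCentralizer z ∧ ∃ v ∈ FX, S.rep e = C.Φ v := fun e => by
    rw [Subgroup.mem_inf, Subgroup.mem_centralizer_singleton_iff]
    exact ⟨fun h => ⟨h.1, hXof e h.1 h.2⟩, fun ⟨h, v, hv, e'⟩ => ⟨h, hXmk e h v hv e'⟩⟩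
  have hcardX : Nat.card ↥X = 32 := hfibre FX hFXnd hFXlt X memX
  have hEX : ∀ e ∈ E, e ∈ X := fun e he => (memX e).2 ⟨he.1, by
    obtain ⟨v, hv, ev⟩ := he.2; exact ⟨v, hL4F v hv, ev⟩⟩
  -- the outer element
  set o := c0 * Fr.F.o with ho
  have horep : C.Rep o o5M := hoM ▸ C.rep_mul orep Fr.F.ro
  have hos' : o * s * o⁻¹ ∈ CP z P := by
    rw [show o * s * o⁻¹ = c0 * (Fr.F.o * s * Fr.F.o⁻¹) * c0⁻¹ by rw [ho]; group]
    exact mul_mem (mul_mem oC (Fr.F.o_norm.mem s hsC)) (inv_mem oC)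
  have hos : o * s = s * o := mul_inv_eq_iff_eq_mul.1 (S.eq_of_ψ_five hos' hsC
    (by rw [conj_pow, hs5, mul_one, mul_inv_cancel]) hs5 (by
      rw [show o * s * o⁻¹ = c0 * (Fr.F.o * s * Fr.F.o⁻¹) * c0⁻¹ by rw [ho]; group, S.ψ_conj oC (Fr.F.o_norm.mem s hsC),
        Fr.F.o_norm.ψ s hsC, hsψ, oψ,
        show permOf (wordP c5W) * (permOf (pk 9) * permOf s5P * (permOf (pk 9))⁻¹) * (permOf (wordP c5W))⁻¹ =
          (permOf (wordP c5W) * permOf (pk 9)) * permOf s5P * (permOf (wordP c5W) * permOf (pk 9))⁻¹ by group,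
        ← permOf_comp hvc (pk_valid 9), hc5p,
        ← permOf_comp (by rw [← hc5p]; exact valid_comp hvc (pk_valid 9)) hvs, cp5,
        permOf_comp hvs (by rw [← hc5p]; exact valid_comp hvc (pk_valid 9)), mul_inv_cancel_right]))
  have hop : o * S.p * o⁻¹ = S.p * S.p := by
    rw [show o * S.p * o⁻¹ = c0 * (Fr.F.o * S.p * Fr.F.o⁻¹) * c0⁻¹ by rw [ho]; group, Fr.F.o_p, mul_inv_eq_iff_eq_mul,
      ← mul_assoc, (S.mem_iff.1 oC).2, mul_assoc, (S.mem_iff.1 oC).2, ← mul_assoc]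
  have hoz : o * z = z * o := horep.hz
  have hoi : o ∉ innerH z P := fun hi => by
    have h1 := S.act_inner hi
    have e : o * S.p = S.p * S.p * o := by rw [← hop, inv_mul_cancel_right]
    rw [← S.act_mul _ _ hoz S.pz, e, S.act_mul _ _ S.pp_z hoz, S.act_mul _ _ S.pz S.pz, mul_assoc] at h1
    have h2 := congrArg (fun x => x * S.act o⁻¹) h1
    simp only [mul_assoc, S.act_mul_inv hoz, mul_one] at h2
    have h3 := congrArg (fun x => S.act S.p⁻¹ * x) h2
    simp only [← mul_assoc, S.act_inv_mul S.pz, one_mul] at h3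
    exact S.act_p_ne h3
  have hcases : ∀ h, h * z = z * h → h ∈ innerH z P ∨ h * o⁻¹ ∈ innerH z P := fun h hh => by
    rcases S.inner_cases hh with h1 | h1
    · exact Or.inl h1
    · refine Or.inr ?_
      have h2 := (S.inner_cases hoz).resolve_left hoi
      have := mul_mem h1 (inv_mem h2)
      rwa [show h * S.o⁻¹ * (o * S.o⁻¹)⁻¹ = h * o⁻¹ by group] at this
  -- the element of order three
  set t := C.R.t with ht
  have htC : t ∈ CP z P := C.t_mem
  have htz := S.commz htC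
  have hts : t * s = s * t := S.ker_central htC C.t_ψ hsC
  have ht3 : t ^ 3 = 1 := by
    rcases C.R.t_p with e | e <;> rw [ht, e]
    · rw [pow_succ, pow_two, S.p_pow]
    · rw [pow_succ, pow_two, show S.p * S.p * (S.p * S.p) * (S.p * S.p) = (S.p * S.p * S.p) * (S.p * S.p * S.p) by group,
        S.p_pow, one_mul]
  have htp : ∀ j : ℕ, ∃ j' < 3, S.p ^ j = t ^ j' := by
    intro j
    rcases pow_three_cases S.p_pow j with e | e | e <;> rw [e]
    · exact ⟨0, by norm_num, (pow_zero _).symm⟩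
    · rcases C.R.t_p with f | f
      · exact ⟨1, by norm_num, by rw [pow_one, ht, f]⟩
      · exact ⟨2, by norm_num, by
          rw [ht, f, pow_two, show S.p * S.p * (S.p * S.p) = S.p * S.p * S.p * S.p by group, S.p_pow, one_mul]⟩
    · rcases C.R.t_p with f | f
      · exact ⟨2, by norm_num, by rw [ht, f, pow_two]⟩
      · exact ⟨1, by norm_num, by rw [pow_one, ht, f]⟩
  have hzpow : ∀ i : ℕ, z ^ i ∈ X := fun i =>
    pow_mem (Subgroup.mem_inf.2 ⟨hzE, Subgroup.mem_centralizer_singleton_iff.2 hsz.symm⟩) i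
  -- the inner part
  have hin : ∀ h ∈ innerH z P, h * s = s * h → ∃ x ∈ X, ∃ j < 3, ∃ l < 5, h = x * t ^ j * s ^ l := by
    intro h hh hc
    obtain ⟨c', hc', m, hm, rfl⟩ := S.mem_inner.1 hh
    have hd : c'⁻¹ * s * c' ∈ CP z P := mul_mem (mul_mem (inv_mem hc') hsC) hc'
    have e1 : m * s * m⁻¹ = c'⁻¹ * s * c' := by
      rw [show m * s * m⁻¹ = c'⁻¹ * (c' * m * s) * m⁻¹ by group, hc]; group
    have hE : c'⁻¹ * s * c' * s⁻¹ ∈ CP z P ⊓ twoCoreOfCentralizer z := by
      refine Subgroup.mem_inf.2 ⟨mul_mem hd (inv_mem hsC), ?_⟩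
      rw [← e1, show m * s * m⁻¹ * s⁻¹ = m * (s * m⁻¹ * s⁻¹) by group]
      exact mul_mem hm (S.ext.norm s hsz _ (inv_mem hm))
    have hψd : S.ψ (c'⁻¹ * s * c') = S.ψ s := by
      have h1 : S.ψ (c'⁻¹ * s * c' * s⁻¹) = 1 := by
        rcases S.fix _ hE.2 (S.mem_iff.1 hE.1).2.symm with e2 | e2 <;> rw [e2]
        exacts [S.ψ_one, S.ψ_z]
      rwa [S.ψ_mul _ hd _ (inv_mem hsC), S.ψ_inv hsC, mul_inv_eq_one] at h1
    have hds : c'⁻¹ * s * c' = s := S.eq_of_ψ_five hd hsC
      (by rw [show c'⁻¹ * s * c' = c'⁻¹ * s * c'⁻¹⁻¹ by group, conj_pow, hs5]; group) hs5 hψd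
    rw [hds] at e1
    have hms : m * s = s * m := mul_inv_eq_iff_eq_mul.1 e1
    have hcs : c' * s = s * c' := by
      conv_lhs => rw [← hds]
      group
    have hψ : S.ψ c' * permOf s5P = permOf s5P * S.ψ c' := by
      rw [← hsψ, ← S.ψ_mul _ hc' _ hsC, hcs, S.ψ_mul _ hsC _ hc']
    obtain ⟨k, hk⟩ := Five.rigid22 (S.ψ_mem _ hc') hψ
    obtain ⟨i, j, hij⟩ := S.ψ_ker (c' * (s ^ k)⁻¹) (mul_mem hc' (inv_mem (pow_mem hsC k))) (by
      rw [S.ψ_mul _ hc' _ (inv_mem (pow_mem hsC k)), S.ψ_inv (pow_mem hsC k), S.ψ_pow hsC, hsψ, hk, mul_inv_cancel])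
    have hcm : c' = z ^ i * S.p ^ j * s ^ k := mul_inv_eq_iff_eq_mul.1 hij
    obtain ⟨j', hj', ej⟩ := htp j
    rw [ej] at hcm
    refine ⟨z ^ i * (t ^ j' * m * (t ^ j')⁻¹), mul_mem (hzpow i) (Subgroup.mem_inf.2 ⟨S.ext.norm _
      ((show Commute t z from htz).pow_left j').eq m hm, Subgroup.mem_centralizer_singleton_iff.2 ?_⟩),
      j', hj', k % 5, Nat.mod_lt _ (by norm_num), ?_⟩
    · have hcts : Commute (t ^ j') s := (show Commute t s from hts).pow_left j'
      exact ((hcts.mul_left hms).mul_left hcts.inv_left).eq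
    · have hk5 : s ^ (k % 5) = s ^ k := (pow_eq_pow_mod k hs5).symm
      rw [hk5, hcm]
      calc z ^ i * t ^ j' * s ^ k * m = z ^ i * t ^ j' * (s ^ k * m) := by group
        _ = z ^ i * t ^ j' * (m * s ^ k) := by rw [((show Commute m s from hms).pow_right k).eq]
        _ = _ := by group
  have hdec : ∀ h, h * z = z * h → h * s = s * h → ∃ x ∈ X, ∃ j < 3, ∃ b : Bool, ∃ l < 5,
      h = x * t ^ j * (if b then o else 1) * s ^ l := by
    intro h hh hc
    rcases hcases h hh with hi | hi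
    · obtain ⟨x, hx, j, hj, l, hl, e⟩ := hin h hi hc
      exact ⟨x, hx, j, hj, false, l, hl, by simpa using e⟩
    · obtain ⟨x, hx, j, hj, l, hl, e⟩ := hin _ hi (by
        rw [mul_assoc, show o⁻¹ * s = s * o⁻¹ from (show Commute o s from hos).inv_left.eq, ← mul_assoc, hc, mul_assoc])
      refine ⟨x, hx, j, hj, true, l, hl, ?_⟩
      rw [mul_inv_eq_iff_eq_mul.1 e, if_pos rfl, mul_assoc, ← ((show Commute o s from hos).pow_right l).eq, ← mul_assoc]
  set D := Subgroup.centralizer ({z} : Set G) ⊓ Subgroup.centralizer ({s} : Set G) with hD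
  have memD : ∀ {h}, h ∈ D ↔ h * z = z * h ∧ h * s = s * h := fun {h} => by
    rw [hD, Subgroup.mem_inf, Subgroup.mem_centralizer_singleton_iff, Subgroup.mem_centralizer_singleton_iff]
  have memXD : ∀ x ∈ X, x ∈ D := fun x hx => memD.2
    ⟨(S.ext.central x (Subgroup.mem_inf.1 hx).1), Subgroup.mem_centralizer_singleton_iff.1 (Subgroup.mem_inf.1 hx).2⟩
  have hbD : ∀ b : Bool, (if b then o else 1) ∈ D := fun b => by
    cases b
    · exact one_mem D
    · exact memD.2 ⟨hoz, hos⟩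
  have htD : ∀ j, t ^ j ∈ D := fun j => pow_mem (memD.2 ⟨htz, hts⟩) j
  have hsD : ∀ l, s ^ l ∈ D := fun l => pow_mem (memD.2 ⟨hsz, rfl⟩) l
  have hXin : ∀ x ∈ X, ∀ j l, x * t ^ j * s ^ l ∈ innerH z P := fun x hx j l =>
    mul_mem (mul_mem (Subgroup.mem_sup_right (Subgroup.mem_inf.1 hx).1) (Subgroup.mem_sup_left (pow_mem htC j)))
      (Subgroup.mem_sup_left (pow_mem hsC l))
  have hsep : ∀ x ∈ X, ∀ x' ∈ X, ∀ j < 3, ∀ j' < 3, ∀ l < 5, ∀ l' < 5,
      x * t ^ j * s ^ l = x' * t ^ j' * s ^ l' → x = x' ∧ j = j' ∧ l = l' := by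
    intro x hx x' hx' j hj j' hj' l hl l' hl' e
    have hk : x'⁻¹ * x = t ^ j' * s ^ l' * (s ^ l)⁻¹ * (t ^ j)⁻¹ := by
      rw [show x = x * t ^ j * s ^ l * (s ^ l)⁻¹ * (t ^ j)⁻¹ by group, e]; group
    have hc : x'⁻¹ * x ∈ twoCoreOfCentralizer z := mul_mem (inv_mem (Subgroup.mem_inf.1 hx').1) (Subgroup.mem_inf.1 hx).1
    have hcp : x'⁻¹ * x ∈ CP z P := hk ▸ mul_mem (mul_mem (mul_mem (pow_mem htC _) (pow_mem hsC _))
      (inv_mem (pow_mem hsC _))) (inv_mem (pow_mem htC _))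
    have hz' := S.fix _ hc (S.mem_iff.1 hcp).2.symm
    have hψ : S.ψ (x'⁻¹ * x) = 1 := by
      rcases hz' with e2 | e2 <;> rw [e2]
      exacts [S.ψ_one, S.ψ_z]
    have hll : l = l' := by
      rw [hk, S.ψ_mul _ (mul_mem (mul_mem (pow_mem htC _) (pow_mem hsC _)) (inv_mem (pow_mem hsC _))) _
        (inv_mem (pow_mem htC _)), S.ψ_mul _ (mul_mem (pow_mem htC _) (pow_mem hsC _)) _ (inv_mem (pow_mem hsC _)),
        S.ψ_mul _ (pow_mem htC _) _ (pow_mem hsC _), S.ψ_inv (pow_mem hsC _), S.ψ_inv (pow_mem htC _), S.ψ_pow htC,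
        S.ψ_pow htC, C.t_ψ, one_pow, one_pow, inv_one, one_mul, mul_one, S.ψ_pow hsC, S.ψ_pow hsC, hsψ,
        mul_inv_eq_one] at hψ
      have h5 : orderOf (permOf s5P) = 5 := orderOf_eq_prime hσ5 hσne
      have := pow_eq_pow_iff_modEq.1 hψ
      rw [h5, Nat.ModEq, Nat.mod_eq_of_lt hl, Nat.mod_eq_of_lt hl'] at this
      exact this.symm
    subst hll
    rw [mul_inv_cancel_right] at hk
    have h3 : (t ^ j' * (t ^ j)⁻¹) ^ 3 = 1 := by
      rw [((Commute.pow_pow (Commute.refl t) j' j).inv_right).mul_pow, inv_pow, ← pow_mul, ← pow_mul, mul_comm j' 3,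
        mul_comm j 3, pow_mul, pow_mul, ht3, one_pow, one_pow, inv_one, one_mul]
    have h1 : x'⁻¹ * x = 1 := hcore1 3 (by norm_num) _ hc (by rw [hk]; exact h3)
    refine ⟨(inv_mul_eq_one.1 h1).symm, ?_, rfl⟩
    rw [h1, eq_comm, mul_inv_eq_one] at hk
    have ht1 : t ≠ 1 := fun e => S.p_ne (by
      obtain ⟨a, -, ea⟩ := htp 1
      rwa [pow_one, e, one_pow] at ea)
    haveI : Fact (Nat.Prime 3) := ⟨Nat.prime_three⟩
    have := pow_eq_pow_iff_modEq.1 hk
    rw [orderOf_eq_prime ht3 ht1, Nat.ModEq, Nat.mod_eq_of_lt hj, Nat.mod_eq_of_lt hj'] at this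
    exact this.symm
  have hcardD : Nat.card ↥D = 960 := by
    let f : ↥X × Fin 3 × Bool × Fin 5 → ↥D := fun p => ⟨(p.1 : G) * t ^ (p.2.1 : ℕ) * (if p.2.2.1 then o else 1) *
      s ^ (p.2.2.2 : ℕ), mul_mem (mul_mem (mul_mem (memXD _ p.1.2) (htD _)) (hbD _)) (hsD _)⟩
    have hf : Function.Bijective f := by
      constructor
      · rintro ⟨⟨x, hx⟩, j, b, l⟩ ⟨⟨x', hx'⟩, j', b', l'⟩ h
        have h1 := congrArg Subtype.val h
        simp only [f] at h1
        have hmv : ∀ (y : G) (i : ℕ), y * o * s ^ i = y * s ^ i * o := fun y i => by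
          rw [mul_assoc, ((show Commute o s from hos).pow_right i).eq, mul_assoc]
        have hbb : b = b' := by
          cases b <;> cases b'
          · rfl
          · exfalso
            simp only [Bool.false_eq_true, if_false, if_true, mul_one, hmv] at h1
            refine hoi ?_
            rw [show o = (x' * t ^ (j' : ℕ) * s ^ (l' : ℕ))⁻¹ * (x' * t ^ (j' : ℕ) * s ^ (l' : ℕ) * o) by group, ← h1]
            exact mul_mem (inv_mem (hXin x' hx' _ _)) (hXin x hx _ _)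
          · exfalso
            simp only [Bool.false_eq_true, if_false, if_true, mul_one, hmv] at h1
            refine hoi ?_
            rw [show o = (x * t ^ (j : ℕ) * s ^ (l : ℕ))⁻¹ * (x * t ^ (j : ℕ) * s ^ (l : ℕ) * o) by group, h1]
            exact mul_mem (inv_mem (hXin x hx _ _)) (hXin x' hx' _ _)
          · rfl
        subst hbb
        obtain ⟨ex, ej, el⟩ := hsep x hx x' hx' j j.2 j' j'.2 l l.2 l' l'.2 (by
          cases b
          · simpa using h1
          · simp only [if_true, hmv] at h1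
            exact mul_right_cancel h1)
        simp only [Prod.mk.injEq, Subtype.mk.injEq]
        exact ⟨ex, Fin.ext ej, trivial, Fin.ext el⟩
      · rintro ⟨h, hh⟩
        obtain ⟨x, hx, j, hj, b, l, hl, e⟩ := hdec h (memD.1 hh).1 (memD.1 hh).2
        exact ⟨(⟨x, hx⟩, ⟨j, hj⟩, b, ⟨l, hl⟩), Subtype.ext e.symm⟩
    rw [← Nat.card_eq_of_bijective f hf, Nat.card_prod, Nat.card_prod, Nat.card_prod, hcardX]
    simp
  -- conjugation on the fixed vectors
  have hrepX : ∀ x ∈ X, C.Rep x mI := fun x hx => C.rep_E (Subgroup.mem_inf.1 hx).1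
  have hXclass : ∀ x ∈ twoCoreOfCentralizer z, ∀ v ∈ FX, S.rep x = C.Φ v → v ≠ 0 → qv v = false →
      (v ∈ L4 → IsConj z x) ∧ (v ∉ L4 → ¬ IsConj z x) := by
    intro x hx v hv ev hv0 hq
    obtain ⟨⟨⟨hlt, hp⟩, m0⟩, m1⟩ := ((hcls v hv).resolve_left (by simp [hq, hv0]))
    have hcl : ∀ m < 2048, 0 < m ∨ True → IsConj x (Fr.Av m) → tMask.testBit m = !(decide (v ∈ L4)) →
        (v ∈ L4 → IsConj z x) ∧ (v ∉ L4 → ¬ IsConj z x) := by
      intro m hm _ hc hb
      refine ⟨fun h => ?_, fun h hz => ?_⟩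
      · have hb' : tMask.testBit m = false := by simpa [h] using hb
        have hm0 : m ≠ 0 := fun e0 => by
          rw [e0, Fr.Av_zero] at hc
          obtain ⟨g, hg⟩ := isConj_iff.1 hc
          have hx1 : x = 1 := conj_eq_one_iff.1 hg
          rw [hx1, (S.rep_zero 1 (one_mem _)).2 (Or.inl rfl), ← C.zero'] at ev
          exact hv0 (C.inj _ (hFXlt v hv) 0 (by norm_num) ev.symm)
        exact ((Fr.isConj_Av_iff hG hm).2 ⟨hm0, hb'⟩).trans hc.symm
      · have hb' : tMask.testBit m = true := by simpa [h] using hb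
        exact Bool.false_ne_true (((Fr.isConj_Av_iff hG hm).1 (hz.trans hc)).2.symm.trans hb')
    rcases Fr.core_walk (path5 v) hx (hFXlt v hv) ev hp rfl hlt with e | e
    · exact hcl _ (by omega) (Or.inr trivial) e (by rw [m0]; simp)
    · exact hcl _ (by omega) (Or.inr trivial) e (by rw [m1]; simp)
  have hEz : ∀ e ∈ E, e ≠ 1 → IsConj z e := fun e he he1 => by
    obtain ⟨v, hv, ev⟩ := he.2
    by_cases hv0 : v = 0
    · rw [hv0, C.zero'] at ev
      rcases (S.rep_zero e he.1).1 ev with h | h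
      · exact absurd h he1
      · rw [h]
    · exact (hXclass e he.1 v (hL4F v hv) ev hv0 (hL4 v hv).1.2).1 hv
  have hrot : ∀ v ∈ L4, ∀ w ∈ L4, v ≠ 0 → w ≠ 0 → ∃ j < 3, app (mTp j) v = w := by
    decide +kernel
  refine ⟨⟨s, E, hs5, hs1, hsz, ?_, ?_, ⟨hzE, 0, by decide, hz0⟩, ?_, hEz, hcardD, ?_, ?_, ?_⟩⟩
  · exact hfibre L4 (by decide) hLlt E fun e => Iff.rfl
  · rintro a ⟨ha, u, hu, ea⟩ b ⟨hb, v, hv, eb⟩
    rw [hpair ha hb (hLlt u hu) (hLlt v hv) ea eb, ((hL4 u hu).2 v hv).1]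
    simp [zp]
  · exact fun e he => memD.1 (memXD e (hEX e he))
  · intro a ha b hb ha1 haz hb1 hbz
    obtain ⟨u, hu, ea⟩ := ha.2
    obtain ⟨v, hv, eb⟩ := hb.2
    have hu0 : u ≠ 0 := fun e => by
      rw [e, C.zero'] at ea
      rcases (S.rep_zero a ha.1).1 ea with h | h
      exacts [ha1 h, haz h]
    have hv0 : v ≠ 0 := fun e => by
      rw [e, C.zero'] at eb
      rcases (S.rep_zero b hb.1).1 eb with h | h
      exacts [hb1 h, hbz h]
    obtain ⟨j, hj, hjv⟩ := hrot u hu v hv hu0 hv0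
    have htj := memD.1 (htD j)
    have hm := S.ext.norm _ htj.1 a ha.1
    have hr : S.rep (t ^ j * a * (t ^ j)⁻¹) = C.Φ v := by
      rw [← S.act_rep _ htj.1 a ha.1, ea, (C.rep_tpow hj).eq u (hLlt u hu), hjv]
    rcases S.eq_or_mul_z hb.1 hm (hr.trans eb.symm).symm with h | h
    · exact ⟨t ^ j, htj.1, htj.2, h⟩
    · obtain ⟨f, hf, hfv⟩ := (hLflip v hv).resolve_left hv0
      have hlf := (C.lh_spec f)
      have hfD := memD.1 (memXD _ ((memX _).2 ⟨hlf.1, f, hf, hlf.2.1⟩))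
      have hmulD := mul_mem (memD.2 hfD) (memD.2 htj)
      refine ⟨C.lh f * t ^ j, (memD.1 hmulD).1, (memD.1 hmulD).2, ?_⟩
      have hc := hpair hlf.1 hb.1 (hFXlt f hf) (hLlt v hv) hlf.2.1 eb
      rw [hfv] at hc
      rw [show C.lh f * t ^ j * a * (C.lh f * t ^ j)⁻¹ = C.lh f * (t ^ j * a * (t ^ j)⁻¹) * (C.lh f)⁻¹ by group, h,
        mul_inv_eq_iff_eq_mul, ← mul_assoc, hc, show zp z true = z from rfl, mul_assoc, S.zz, mul_one]
  · intro h hhz hhs hcomm
    obtain ⟨x, hx, j, hj, b, l, hl, rfl⟩ := hdec h hhz hhs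
    obtain ⟨u, hu, ex⟩ := hXof x (Subgroup.mem_inf.1 hx).1
      (Subgroup.mem_centralizer_singleton_iff.1 (Subgroup.mem_inf.1 hx).2)
    have hy : C.Rep (t ^ j * (if b then o else 1)) (mm (mTp j) (if b then o5M else mI)) :=
      C.rep_mul (C.rep_tpow hj) (by cases b <;> simp [horep, C.rep_one])
    have hxy : C.Rep (x * (t ^ j * (if b then o else 1))) (mm mI (mm (mTp j) (if b then o5M else mI))) :=
      C.rep_mul (hrepX x hx) hy
    have hxs : ∀ e ∈ E, Commute (x * (t ^ j * (if b then o else 1))) e := by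
      intro e he
      have h1 : Commute (x * (t ^ j * (if b then o else 1)) * s ^ l) e := by
        show _ = _
        rw [← mul_assoc x]; exact hcomm e he
      have h2 : Commute (s ^ l)⁻¹ e := ((show Commute s e from
        ((memD.1 (memXD e (hEX e he))).2).symm).pow_left l).inv_left
      simpa using h1.mul_left h2
    have hfixv : ∀ v ∈ L4, app (mm (mTp j) (if b then o5M else mI)) v = v := by
      intro v hv
      have he : C.lh v ∈ E := ⟨(C.lh_spec v).1, v, hv, (C.lh_spec v).2.1⟩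
      have h1 := S.act_rep _ hxy.hz _ (C.lh_spec v).1
      rw [(hxs _ he).eq, mul_inv_cancel_right, (C.lh_spec v).2.1, hxy.eq v (hLlt v hv)] at h1
      have h2 := C.inj _ (app_lt_of_ok hxy.ok v) v (hLlt v hv) h1
      rwa [app_mm, app_mI (app_lt_of_ok hy.ok v)] at h2
    have hjk : j = 0 ∧ b = false := by
      rcases hfaith j hj (if b then 1 else 0) (by split <;> norm_num) with ⟨e1, e2⟩ | ⟨v, hv, hne⟩
      · refine ⟨e1, ?_⟩
        cases b
        · rfl
        · simp at e2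
      · exact absurd (hfixv v hv) (by cases b <;> simpa using hne)
    obtain ⟨rfl, rfl⟩ := hjk
    refine ⟨x, ?_, l, by simp⟩
    refine ⟨(Subgroup.mem_inf.1 hx).1, u, by_contra fun hnot => ?_, ex⟩
    obtain ⟨w, hw, hbw⟩ := (hLperp u hu).resolve_left hnot
    have hc := hpair (Subgroup.mem_inf.1 hx).1 (C.lh_spec w).1 (hFXlt u hu) (hLlt w hw) ex (C.lh_spec w).2.1
    have h1 : x * C.lh w = C.lh w * x := by
      simpa [commute_iff_eq] using hxs (C.lh w) ⟨(C.lh_spec w).1, w, hw, (C.lh_spec w).2.1⟩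
    rw [← h1, hbw, show zp z true = z from rfl, left_eq_mul] at hc
    exact S.ext.ne hc
  · intro x0 h0z h0s h00 h01 h0nz hexp x hxz hxs hxx hxc
    -- the shape of an involution
    have shape : ∀ y, y * z = z * y → y * s = s * y → y * y = 1 →
        y ∈ X ∨ ∃ i < 3, C.Rep (t ^ i * y * (t ^ i)⁻¹) o5M := by
      intro y hyz hys hyy
      obtain ⟨w, hw, j, hj, b, l, hl, e⟩ := hdec y hyz hys
      have hyD := memD.2 ⟨hyz, hys⟩
      set y0 := w * t ^ j * (if b then o else 1) with hy0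
      have hc0 : Commute y0 (s ^ l) :=
        ((show Commute y0 s from (memD.1 (mul_mem (mul_mem (memXD w hw) (htD j)) (hbD b))).2)).pow_right l
      have hsq' : y0 * y0 = ((s ^ l) * (s ^ l))⁻¹ := by
        refine eq_inv_of_mul_eq_one_left ?_
        rw [← hyy, e]
        calc y0 * y0 * (s ^ l * s ^ l) = y0 * (y0 * s ^ l) * s ^ l := by group
          _ = y0 * (s ^ l * y0) * s ^ l := by rw [hc0.eq]
          _ = _ := by group
      have hy0r : C.Rep y0 (mm (mTp j) (if b then o5M else mI)) := by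
        have := C.rep_mul (C.rep_mul (hrepX w hw) (C.rep_tpow hj)) (N := if b then o5M else mI)
          (h := if b then o else 1) (by cases b <;> simp [horep, C.rep_one])
        have e1 : mm mI (mTp j) = mTp j := C.rep_unique (by simpa using C.rep_mul C.rep_one (C.rep_tpow hj)) (C.rep_tpow hj)
        rwa [e1] at this
      have hl0 : s ^ l = 1 := by
        cases b
        · -- inner
          have h1 : S.ψ ((s ^ l * s ^ l)⁻¹) = 1 := by
            have hm : t ^ j * (t ^ j)⁻¹ = 1 := mul_inv_cancel _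
            have hX2 : w * (t ^ j * w * (t ^ j)⁻¹) ∈ twoCoreOfCentralizer z :=
              mul_mem (Subgroup.mem_inf.1 hw).1 (S.ext.norm _ (memD.1 (htD j)).1 _ (Subgroup.mem_inf.1 hw).1)
            have h2 : (s ^ l * s ^ l)⁻¹ * ((t ^ j) * (t ^ j))⁻¹ = w * (t ^ j * w * (t ^ j)⁻¹) := by
              rw [← hsq', hy0]; simp only [Bool.false_eq_true, if_false, mul_one]; group
            have hk : (s ^ l * s ^ l)⁻¹ * ((t ^ j) * (t ^ j))⁻¹ ∈ CP z P :=
              mul_mem (inv_mem (mul_mem (pow_mem hsC l) (pow_mem hsC l))) (inv_mem (mul_mem (pow_mem htC j) (pow_mem htC j)))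
            have h3 : S.ψ ((s ^ l * s ^ l)⁻¹ * ((t ^ j) * (t ^ j))⁻¹) = 1 := by
              rcases S.fix _ (h2 ▸ hX2) (S.mem_iff.1 hk).2.symm with e2 | e2 <;> rw [e2]
              exacts [S.ψ_one, S.ψ_z]
            rwa [S.ψ_mul _ (inv_mem (mul_mem (pow_mem hsC l) (pow_mem hsC l))) _
              (inv_mem (mul_mem (pow_mem htC j) (pow_mem htC j))), S.ψ_inv (mul_mem (pow_mem htC j) (pow_mem htC j)),
              S.ψ_mul _ (pow_mem htC j) _ (pow_mem htC j), S.ψ_pow htC, C.t_ψ, one_pow, one_mul, inv_one, mul_one] at h3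
          have h2 : (s ^ l * s ^ l)⁻¹ = 1 := S.eq_of_ψ_five (inv_mem (mul_mem (pow_mem hsC l) (pow_mem hsC l)))
            (one_mem _) (by rw [inv_pow, ((Commute.refl (s ^ l))).mul_pow, ← pow_mul, mul_comm, pow_mul, hs5, one_pow,
              one_mul, inv_one]) (one_pow 5) (by rw [h1, S.ψ_one])
          rw [inv_eq_one, ← pow_add] at h2
          have := hcast (l := l + l) (l' := 0) (by rw [h2, pow_zero])
          rw [show l = 0 by omega, pow_zero]
        · have hM : mm (mm (mTp j) o5M) (mm (mTp j) o5M) = mI := (hout j hj).1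
          have hrep : C.Rep ((s ^ l * s ^ l)⁻¹) mI := by
            rw [← hsq', ← hM]
            simp only [if_true] at hy0r
            exact C.rep_mul hy0r hy0r
          have h2 : (s ^ l * s ^ l)⁻¹ = 1 := hcore1 5 (by norm_num) _ (C.rep_mI_iff.1 hrep)
            (by rw [inv_pow, ((Commute.refl (s ^ l))).mul_pow, ← pow_mul, mul_comm, pow_mul, hs5, one_pow, one_mul,
              inv_one])
          rw [inv_eq_one, ← pow_add] at h2
          have := hcast (l := l + l) (l' := 0) (by rw [h2, pow_zero])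
          rw [show l = 0 by omega, pow_zero]
      rw [hl0, mul_one] at e
      cases b
      · left
        simp only [Bool.false_eq_true, if_false, mul_one] at hy0
        rw [e, hy0]
        have hh := hsep (w * (t ^ j * w * (t ^ j)⁻¹)) (mul_mem hw (Subgroup.mem_inf.2
          ⟨S.ext.norm _ (memD.1 (htD j)).1 _ (Subgroup.mem_inf.1 hw).1, Subgroup.mem_centralizer_singleton_iff.2
            (memD.1 (mul_mem (mul_mem (htD j) (memXD w hw)) (inv_mem (htD j)))).2⟩)) 1 (one_mem X)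
          ((j + j) % 3) (Nat.mod_lt _ (by norm_num)) 0 (by norm_num) 0 (by norm_num) 0 (by norm_num) (by
            rw [pow_zero, pow_zero, mul_one, mul_one, mul_one, ← pow_eq_pow_mod (j + j) ht3, pow_add, ← hyy, e, hy0]
            group)
        rw [show j = 0 by omega, pow_zero, mul_one]
        exact hw
      · right
        obtain ⟨-, i, hi, i', hi', hii, hconj⟩ := hout j hj
        refine ⟨i, hi, ?_⟩
        simp only [if_true] at hy0r
        have hinv : t ^ i * t ^ i' = 1 := by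
          refine hcore1 3 (by norm_num) _ (C.rep_mI_iff.1 (hii ▸ C.rep_mul (C.rep_tpow hi) (C.rep_tpow hi'))) ?_
          rw [← pow_add, ← pow_mul, mul_comm, pow_mul, ht3, one_pow]
        have hti : t ^ i' = (t ^ i)⁻¹ := (inv_eq_of_mul_eq_one_right hinv).symm
        rw [e, ← hconj, ← hti]
        exact C.rep_mul (C.rep_mul (C.rep_tpow hi) hy0r) (C.rep_tpow hi')
    have hxclass : x ∈ X → x ∈ E := fun hx => by
      obtain ⟨v, hv, ev⟩ := ((memX x).1 hx).2
      have hxE := ((memX x).1 hx).1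
      refine ⟨hxE, v, by_contra fun hnot => ?_, ev⟩
      have hv0 : v ≠ 0 := fun e => hnot (e ▸ by decide)
      have hq : qv v = false := by
        have h := hsq hxE (hFXlt v hv) ev
        rw [hxx] at h
        cases hb : qv v
        · rfl
        · rw [hb] at h; exact absurd h.symm S.ext.ne
      exact (hXclass x hxE v hv ev hv0 hq).2 hnot hxc
    rcases shape x hxz hxs hxx with hx | ⟨i, hi, hxr⟩
    · exact hxclass hx
    exfalso
    rcases shape x0 h0z h0s h00 with h0 | ⟨i0, hi0, h0r⟩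
    · obtain ⟨v, hv, ev⟩ := ((memX x0).1 h0).2
      have h0E := ((memX x0).1 h0).1
      have hv0 : v ≠ 0 := fun e => by
        rw [e, C.zero'] at ev
        rcases (S.rep_zero x0 h0E).1 ev with h | h
        · exact h01 h
        · exact h0nz (h ▸ IsConj.refl z)
      obtain ⟨a, ha, hqa, hba⟩ := (hns v hv).resolve_left hv0
      have hla := C.lh_spec a
      have hgD := memD.1 (memXD _ ((memX _).2 ⟨hla.1, a, ha, hla.2.1⟩))
      have hsqa := hsq hla.1 (hFXlt a ha) hla.2.1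
      rw [hqa] at hsqa
      have hcomm' : C.lh a * x0 = x0 * C.lh a := by
        rw [hpair hla.1 h0E (hFXlt a ha) (hFXlt v hv) hla.2.1 ev, bv_comm, hba]; simp [zp]
      have := hexp _ hgD.1 hgD.2 hcomm' (by
        rw [pow_succ, pow_succ, pow_two, mul_assoc (C.lh a * C.lh a), hsqa]
        exact S.zz)
      rw [hsqa] at this
      exact S.ext.ne this
    · -- both outer
      set T0 := t ^ i0 with hT0
      set y0 := T0 * x0 * T0⁻¹ with hy0
      set y := t ^ i * x * (t ^ i)⁻¹ with hy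
      have hT0D := memD.1 (htD i0)
      have hy0D : y0 ∈ D := mul_mem (mul_mem (htD i0) (memD.2 ⟨h0z, h0s⟩)) (inv_mem (htD i0))
      have hyD : y ∈ D := mul_mem (mul_mem (htD i) (memD.2 ⟨hxz, hxs⟩)) (inv_mem (htD i))
      have hy00 : y0 * y0 = 1 := by rw [hy0, show T0 * x0 * T0⁻¹ * (T0 * x0 * T0⁻¹) = T0 * (x0 * x0) * T0⁻¹ by group, h00]; group
      have hyy : y * y = 1 := by
        rw [hy, show t ^ i * x * (t ^ i)⁻¹ * (t ^ i * x * (t ^ i)⁻¹) = t ^ i * (x * x) * (t ^ i)⁻¹ by group, hxx]; group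
      set e := y0 * y with he
      have hee : e ∈ twoCoreOfCentralizer z := by
        have := C.eq_of_rep h0r hxr
        rwa [inv_eq_of_mul_eq_one_right hy00] at this
      have heX : e ∈ X := Subgroup.mem_inf.2 ⟨hee,
        Subgroup.mem_centralizer_singleton_iff.2 (memD.1 (mul_mem hy0D hyD)).2⟩
      obtain ⟨v, hv, ev⟩ := ((memX e).1 heX).2
      have hvfix : app o5M v = v := by
        have h1 := S.act_rep _ h0r.hz e hee
        rw [ev, h0r.eq v (hFXlt v hv), show y0 * e * y0⁻¹ = e⁻¹ by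
          refine eq_inv_of_mul_eq_one_left ?_
          rw [he, show y0 * (y0 * y) * y0⁻¹ * (y0 * y) = (y0 * y0) * (y * y) by group, hy00, hyy, one_mul], S.rep_inv hee, ev] at h1
        exact C.inj _ (app_lt_of_ok h0r.ok v) v (hFXlt v hv) h1
      obtain ⟨w, hw, hwv⟩ := (him v hv).resolve_left (by simp [hvfix])
      have hlw := C.lh_spec w
      have hwD := memXD _ ((memX _).2 ⟨hlw.1, w, hw, hlw.2.1⟩)
      have hwz := (memD.1 hwD).1
      have hr' : S.rep (y0⁻¹ * (C.lh w * y0 * (C.lh w)⁻¹)) = S.rep e := by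
        rw [show y0⁻¹ * (C.lh w * y0 * (C.lh w)⁻¹) = (y0 * C.lh w * y0⁻¹) * (C.lh w)⁻¹ by
          rw [inv_eq_of_mul_eq_one_right hy00]; group, S.rep_mul _ (S.ext.norm _ h0r.hz _ hlw.1) _ (inv_mem hlw.1),
          ← S.act_rep _ h0r.hz _ hlw.1, S.rep_inv hlw.1, hlw.2.1, h0r.eq w (hFXlt w hw), ev, ← C.add, Nat.xor_comm, hwv]
      have hm1 : y0⁻¹ * (C.lh w * y0 * (C.lh w)⁻¹) ∈ twoCoreOfCentralizer z := by
        rw [show y0⁻¹ * (C.lh w * y0 * (C.lh w)⁻¹) = (y0⁻¹ * C.lh w * y0⁻¹⁻¹) * (C.lh w)⁻¹ by group]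
        exact mul_mem (S.ext.norm _ (show y0⁻¹ * z = z * y0⁻¹ from
          ((show Commute y0 z from h0r.hz).inv_left).eq) _ hlw.1) (inv_mem hlw.1)
      have hnz0 : ¬ IsConj z y0 := fun h => h0nz (h.trans (isConj_iff.2 ⟨T0⁻¹, by rw [hy0]; group⟩))
      have hzy : IsConj z y := hxc.trans (isConj_iff.2 ⟨t ^ i, rfl⟩)
      -- the twist by the centre
      have hflip : IsConj y0 (y0 * z) := by
        have hl := C.lh_spec 298
        have hfFX : (298 : ℕ) ∈ FX := by decide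
        have hfD := memXD _ ((memX _).2 ⟨hl.1, 298, hfFX, hl.2.1⟩)
        have h1 := S.act_rep _ h0r.hz _ hl.1
        rw [hl.2.1, h0r.eq 298 (by norm_num), o298, ← hl.2.1] at h1
        rcases S.eq_or_mul_z hl.1 (S.ext.norm _ h0r.hz _ hl.1) h1 with h | h
        · exfalso
          have hsq2 := hsq hl.1 (by norm_num) hl.2.1
          rw [q298] at hsq2
          have hgD : T0⁻¹ * C.lh 298 * T0 ∈ D := mul_mem (mul_mem (inv_mem (htD i0)) hfD) (htD i0)
          have hg2 : T0⁻¹ * C.lh 298 * T0 * (T0⁻¹ * C.lh 298 * T0) = z := by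
            rw [show T0⁻¹ * C.lh 298 * T0 * (T0⁻¹ * C.lh 298 * T0) = T0⁻¹ * (C.lh 298 * C.lh 298) * T0 by group,
              hsq2, show zp z true = z from rfl,
              show T0⁻¹ * z * T0 = T0⁻¹ * (z * T0) by group, ← hT0D.1, inv_mul_cancel_left]
          have := hexp _ (memD.1 hgD).1 (memD.1 hgD).2 (by
            have h' : Commute (C.lh 298) y0 := (mul_inv_eq_iff_eq_mul.1 h).symm
            calc T0⁻¹ * C.lh 298 * T0 * x0 = T0⁻¹ * (C.lh 298 * (T0 * x0 * T0⁻¹)) * T0 := by group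
              _ = T0⁻¹ * ((T0 * x0 * T0⁻¹) * C.lh 298) * T0 := by rw [← hy0, h'.eq]
              _ = _ := by group) (by
            rw [pow_succ, pow_succ, pow_two, mul_assoc (T0⁻¹ * C.lh 298 * T0 * (T0⁻¹ * C.lh 298 * T0)), hg2]
            exact S.zz)
          exact S.ext.ne (hg2.symm.trans this)
        · refine isConj_iff.2 ⟨C.lh 298, ?_⟩
          have h2 : y0 * C.lh 298 = C.lh 298 * z * y0 := mul_inv_eq_iff_eq_mul.1 h
          rw [mul_inv_eq_iff_eq_mul]
          calc C.lh 298 * y0 = C.lh 298 * (z * z) * y0 := by rw [S.zz, mul_one]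
            _ = C.lh 298 * z * (z * y0) := by group
            _ = C.lh 298 * z * (y0 * z) := by rw [(memD.1 hy0D).1]
            _ = y0 * (C.lh 298 * z) := by rw [← mul_assoc, ← h2, mul_assoc]
            _ = y0 * (z * C.lh 298) := by rw [(memD.1 hfD).1]
            _ = _ := by group
      have hyeq : y = y0 * e := by rw [he, ← mul_assoc, hy00, one_mul]
      rcases S.eq_or_mul_z hee hm1 hr'.symm with h | h
      · refine hnz0 (hzy.trans (IsConj.symm (isConj_iff.2 ⟨C.lh w, ?_⟩)))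
        rw [hyeq, ← h, mul_inv_cancel_left]
      · refine hnz0 (hzy.trans (IsConj.symm (hflip.trans (isConj_iff.2 ⟨C.lh w, ?_⟩))))
        rw [show C.lh w * (y0 * z) * (C.lh w)⁻¹ = y0 * (y0⁻¹ * (C.lh w * y0 * (C.lh w)⁻¹)) * (C.lh w * z * (C.lh w)⁻¹) by
          group, h, (memD.1 hwD).1, mul_inv_cancel_right, hyeq, mul_assoc, mul_assoc e, S.zz, mul_one]

end Frame

end Cfsg.Agent.Spor.JFour
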