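import Cfsg.Agent.Lib.Spor.JFourType.FiveA
import Cfsg.Agent.Lib.Spor.JFourType.FiveH
import Cfsg.Agent.Lib.Transfer.FiveEightQuot
import Cfsg.Prelude.Def_TwoFusion

/-!
The centraliser and normaliser of a subgroup of order five.
-/

set_option autoImplicit false
set_option maxRecDepth 100000
set_option linter.style.haveILetI false

open Cfsg Cfsg.Agent.Transfer
open scoped Pointwise

namespace Cfsg.Agent.Spor.JFour

variable {G : Type*} [Group G] {z : G} {P : Subgroup G}

theorem Five.zpowers_eq [Finite G] {x y : G} (hx : orderOf x = 5) (hy : y ∈ Subgroup.zpowers x) (hy1 : y ≠ 1) :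
    Subgroup.zpowers y = Subgroup.zpowers x := by
  refine Subgroup.eq_of_le_of_card_ge (Subgroup.zpowers_le.2 hy) ?_
  rw [Nat.card_zpowers, Nat.card_zpowers, hx]
  have h : orderOf y ∣ 5 := by
    have := Subgroup.orderOf_dvd_natCard _ hy
    rwa [Nat.card_zpowers, hx] at this
  rcases (Nat.dvd_prime (by norm_num)).1 h with e | e
  · exact absurd (orderOf_eq_one_iff.1 e) hy1
  · rw [e]

/-- Subgroups of order five of the centraliser are conjugate there. -/
theorem Setting.conj_five [Finite G] (S : Setting z P) {x y : G} (hx : orderOf x = 5) (hy : orderOf y = 5)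
    (hxz : x * z = z * x) (hyz : y * z = z * y) :
    ∃ h, h * z = z * h ∧ Subgroup.zpowers (h * x * h⁻¹) = Subgroup.zpowers y := by
  haveI : Fact (Nat.Prime 5) := ⟨by norm_num⟩
  set H := Subgroup.centralizer ({z} : Set G) with hH
  have hfac : (Nat.card ↥H).factorization 5 = 1 := by
    rw [S.card_H, show 2 ^ 21 * 10395 = 5 * (2 ^ 21 * 2079) by norm_num, Nat.factorization_mul (by norm_num)
      (by norm_num), Finsupp.add_apply, Nat.Prime.factorization_self (by norm_num),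
      Nat.factorization_eq_zero_of_not_dvd (by norm_num)]
  let x' : ↥H := ⟨x, Subgroup.mem_centralizer_singleton_iff.2 hxz⟩
  let y' : ↥H := ⟨y, Subgroup.mem_centralizer_singleton_iff.2 hyz⟩
  let S1 : Sylow 5 ↥H := Sylow.ofCard (Subgroup.zpowers x') (by
    rw [hfac, pow_one, Nat.card_zpowers, ← Subgroup.orderOf_coe]; exact hx)
  let S2 : Sylow 5 ↥H := Sylow.ofCard (Subgroup.zpowers y') (by
    rw [hfac, pow_one, Nat.card_zpowers, ← Subgroup.orderOf_coe]; exact hy)
  obtain ⟨h, hh⟩ := MulAction.exists_smul_eq ↥H S1 S2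
  refine ⟨h, Subgroup.mem_centralizer_singleton_iff.1 h.2, ?_⟩
  refine Five.zpowers_eq hy ?_ fun e => by
    rw [mul_inv_eq_one, mul_eq_left] at e
    rw [e, orderOf_one] at hx
    norm_num at hx
  have h1 := Subgroup.smul_mem_pointwise_smul _ (MulAut.conj h) (S1 : Subgroup ↥H) (show x' ∈ (S1 : Subgroup ↥H) by
    rw [Sylow.coe_ofCard]; exact Subgroup.mem_zpowers _)
  change _ ∈ ((h • S1 : Sylow 5 ↥H) : Subgroup ↥H) at h1
  rw [hh, Sylow.coe_ofCard, Subgroup.mem_zpowers_iff] at h1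
  obtain ⟨i, hi⟩ := h1
  have h2 := congrArg (Subtype.val : ↥H → G) hi
  simp only [MulAut.smul_def, MulAut.conj_apply, Subgroup.coe_mul, Subgroup.coe_inv, SubgroupClass.coe_zpow] at h2
  exact Subgroup.mem_zpowers_iff.2 ⟨i, h2⟩

/-- The conclusions on a subgroup of order five. -/
def FiveLocal (Q : Subgroup G) : Prop :=
  ¬ (25 ∣ Nat.card G) ∧
    (∃ J : Subgroup G, Cfsg.IsInternalDirectProduct Q J (Subgroup.centralizer (Q : Set G)) ∧ FiveEight.Ext8 ↥J) ∧
    (∃ R : Subgroup G, Q ≤ R ∧ R ≤ Subgroup.normalizer (Q : Set G) ∧ Nat.card ↥R = 20 ∧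
      R ⊓ Subgroup.centralizer (Q : Set G) = Q) ∧
    Nat.card ↥(Subgroup.normalizer (Q : Set G)) = 2 ^ 8 * 3 * 5 * 7

theorem fiveLocal_map [Finite G] {Q : Subgroup G} (g : G) (h : FiveLocal Q) :
    FiveLocal (Q.map (MulAut.conj g).toMonoidHom) := by
  obtain ⟨h1, ⟨J, ⟨d1, d2, d3, d4, d5⟩, hJ⟩, ⟨R, r1, r2, r3, r4⟩, h4⟩ := h
  have hN : (Subgroup.normalizer (Q : Set G)).map (MulAut.conj g).toMonoidHom =
      Subgroup.normalizer ((Q.map (MulAut.conj g).toMonoidHom : Subgroup G) : Set G) :=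
    Subgroup.map_equiv_normalizer_eq Q (MulAut.conj g)
  have hC : (Subgroup.centralizer (Q : Set G)).map (MulAut.conj g).toMonoidHom =
      Subgroup.centralizer ((Q.map (MulAut.conj g).toMonoidHom : Subgroup G) : Set G) := by
    ext x
    rw [Subgroup.mem_map, Subgroup.mem_centralizer_iff]
    constructor
    · rintro ⟨y, hy, rfl⟩ _ ⟨w, hw, rfl⟩
      rw [← map_mul, Subgroup.mem_centralizer_iff.1 hy w hw, map_mul]
    · intro hx
      refine ⟨g⁻¹ * x * g, Subgroup.mem_centralizer_iff.2 fun w hw => ?_, by simp [mul_assoc]⟩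
      have hh := hx (g * w * g⁻¹) ⟨w, hw, rfl⟩
      calc w * (g⁻¹ * x * g) = g⁻¹ * (g * w * g⁻¹ * x) * g := by group
        _ = g⁻¹ * (x * (g * w * g⁻¹)) * g := by rw [hh]
        _ = _ := by group
  have hinj := (MulAut.conj g).injective
  refine ⟨h1, ⟨J.map (MulAut.conj g).toMonoidHom, ⟨?_, ?_, ?_, ?_, ?_⟩,
    hJ.congr (J.equivMapOfInjective _ hinj)⟩,
    ⟨R.map (MulAut.conj g).toMonoidHom, Subgroup.map_mono r1, ?_, ?_, ?_⟩, ?_⟩
  · rw [← hC]; exact Subgroup.map_mono d1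
  · rw [← hC]; exact Subgroup.map_mono d2
  · rintro _ ⟨a, ha, rfl⟩ _ ⟨b, hb, rfl⟩
    rw [← map_mul, ← map_mul, d3 a ha b hb]
  · rw [← Subgroup.map_inf _ _ _ hinj, d4, Subgroup.map_bot]
  · rw [← Subgroup.map_sup, d5, hC]
  · rw [← hN]; exact Subgroup.map_mono r2
  · rw [Subgroup.card_map_of_injective hinj, r3]
  · rw [← hC, ← Subgroup.map_inf _ _ _ hinj, r4]
  · rw [← hN, Subgroup.card_map_of_injective hinj, h4]

theorem Five.eq_pow {n : G} (hn : n ^ 5 = 1) (j : ℕ) : n ^ j = n ^ (j % 5) := pow_eq_pow_mod j hn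

/-- An element normalising the group of order five acts on its centraliser. -/
theorem Five.exists_aut [Finite G] {n g : G} (hn : orderOf n = 5) (hg : g * n * g⁻¹ ∈ Subgroup.zpowers n) :
    ∃ φ : MulAut ↥(Subgroup.centralizer ({n} : Set G)), ∀ x, ((φ x : ↥(Subgroup.centralizer ({n} : Set G))) : G) = g * (x : G) * g⁻¹ := by
  have hne : g * n * g⁻¹ ≠ 1 := fun e => by
    rw [conj_eq_one_iff.1 e, orderOf_one] at hn
    norm_num at hn
  obtain ⟨i, hi⟩ := Subgroup.mem_zpowers_iff.1 hg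
  obtain ⟨j, hj⟩ := Subgroup.mem_zpowers_iff.1
    ((Five.zpowers_eq hn hg hne).symm ▸ Subgroup.mem_zpowers n : n ∈ Subgroup.zpowers (g * n * g⁻¹))
  have fwd : ∀ x, x * n = n * x → g * x * g⁻¹ * n = n * (g * x * g⁻¹) := fun x hx => by
    have h : Commute (g * x * g⁻¹) (g * n * g⁻¹) := (show Commute x n from hx).conj g
    have := h.zpow_right j
    rwa [hj] at this
  have bwd : ∀ x, x * n = n * x → g⁻¹ * x * g * n = n * (g⁻¹ * x * g) := fun x hx => by
    have h : Commute x (g * n * g⁻¹) := hi ▸ (show Commute x n from hx).zpow_right i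
    calc g⁻¹ * x * g * n = g⁻¹ * (x * (g * n * g⁻¹)) * g := by group
      _ = g⁻¹ * ((g * n * g⁻¹) * x) * g := by rw [h.eq]
      _ = _ := by group
  exact ⟨{
    toFun := fun x => ⟨g * (x : G) * g⁻¹,
      Subgroup.mem_centralizer_singleton_iff.2 (fwd _ (Subgroup.mem_centralizer_singleton_iff.1 x.2))⟩
    invFun := fun x => ⟨g⁻¹ * (x : G) * g,
      Subgroup.mem_centralizer_singleton_iff.2 (bwd _ (Subgroup.mem_centralizer_singleton_iff.1 x.2))⟩
    left_inv := fun x => Subtype.ext (show g⁻¹ * (g * (x : G) * g⁻¹) * g = _ by group)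
    right_inv := fun x => Subtype.ext (show g * (g⁻¹ * (x : G) * g) * g⁻¹ = _ by group)
    map_mul' := fun a b => Subtype.ext (show g * ((a : G) * b) * g⁻¹ = g * a * g⁻¹ * (g * b * g⁻¹) by group) },
    fun x => rfl⟩

namespace Frame

open Mathieu (tMask)

variable {S : Setting z P} (Fr : Frame S) [Finite G] [IsSimpleGroup G]

set_option maxHeartbeats 1600000 in
theorem five_local (hG : ¬ IsMulCommutative G)
    (hC : ∀ v < 2048, tMask.testBit v = true →
      Subgroup.centralizer ({Fr.Av v} : Set G) ≤ Subgroup.normalizer (Fr.A : Set G)) {Q : Subgroup G}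
    (hQ : Nat.card ↥Q = 5) (hQz : Q ≤ Subgroup.centralizer ({z} : Set G)) : FiveLocal Q := by
  classical
  haveI : Fact (Nat.Prime 5) := ⟨by norm_num⟩
  obtain ⟨a⟩ := Fr.exists_fiveA hG
  obtain ⟨b⟩ := Fr.exists_fiveH hG
  obtain ⟨-, -, -, -, -, -, -, -, ht326, ht1796, -⟩ := Five.fixed_s5
  have hna : orderOf a.n = 5 := orderOf_eq_prime a.n_pow a.n_ne
  have hsb : orderOf b.s = 5 := orderOf_eq_prime b.s_pow b.s_ne
  have hconjord : ∀ g : G, orderOf (g * a.n * g⁻¹) = 5 := fun g => by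
    rw [show g * a.n * g⁻¹ = MulAut.conj g a.n from rfl, MulEquiv.orderOf_eq, hna]
  -- moving an involution of the first class onto the central one
  have mover : ∀ x : G, x * a.n = a.n * x → IsConj z x →
      ∃ k : G, k * x * k⁻¹ = z ∧ Subgroup.zpowers (k * a.n * k⁻¹) = Subgroup.zpowers b.s := by
    intro x hxn hxz
    obtain ⟨g, hg⟩ := isConj_iff.1 hxz.symm
    obtain ⟨h, hhz, hh⟩ := S.conj_five (x := g * a.n * g⁻¹) (y := b.s) (hconjord g) hsb (by
      have h := ((show Commute x a.n from hxn).conj g).symm.eq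
      rwa [hg] at h) b.s_z
    refine ⟨h * g, ?_, ?_⟩
    · rw [show h * g * x * (h * g)⁻¹ = h * (g * x * g⁻¹) * h⁻¹ by group, hg, hhz, mul_inv_cancel_right]
    · rw [← hh]; congr 1; group
  have side : ∀ k : G, Subgroup.zpowers (k * a.n * k⁻¹) = Subgroup.zpowers b.s →
      ∀ x : G, x * a.n = a.n * x ↔ (k * x * k⁻¹) * b.s = b.s * (k * x * k⁻¹) := by
    intro k hk x
    obtain ⟨i, hi⟩ := Subgroup.mem_zpowers_iff.1 (hk ▸ Subgroup.mem_zpowers (k * a.n * k⁻¹))
    obtain ⟨j, hj⟩ := Subgroup.mem_zpowers_iff.1 (hk.symm ▸ Subgroup.mem_zpowers b.s :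
      b.s ∈ Subgroup.zpowers (k * a.n * k⁻¹))
    constructor
    · intro hx
      have := ((show Commute x a.n from hx).conj k).zpow_right j
      rwa [hj] at this
    · intro hx
      have hc : Commute (k * x * k⁻¹) (k * a.n * k⁻¹) := hi ▸ (show Commute _ b.s from hx).zpow_right i
      calc x * a.n = k⁻¹ * (k * x * k⁻¹ * (k * a.n * k⁻¹)) * k := by group
        _ = k⁻¹ * ((k * a.n * k⁻¹) * (k * x * k⁻¹)) * k := by rw [hc.eq]
        _ = _ := by group
  have conj_comm : ∀ (k : G) {x y : G}, x * y = y * x ↔ k * x * k⁻¹ * (k * y * k⁻¹) = k * y * k⁻¹ * (k * x * k⁻¹) := by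
    intro k x y
    rw [show k * x * k⁻¹ * (k * y * k⁻¹) = k * (x * y) * k⁻¹ by group,
      show k * y * k⁻¹ * (k * x * k⁻¹) = k * (y * x) * k⁻¹ by group, mul_left_inj, mul_right_inj]
  set C := Subgroup.centralizer ({a.n} : Set G) with hCdef
  have mC : ∀ {x : G}, x * a.n = a.n * x → x ∈ C := fun h => Subgroup.mem_centralizer_singleton_iff.2 h
  have cC : ∀ x : ↥C, (x : G) * a.n = a.n * (x : G) := fun x => Subgroup.mem_centralizer_singleton_iff.1 x.2
  have hW8 : ∀ v ∈ Five.W8, v < 2048 := by decide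
  have hnW : ∀ v ∈ Five.W8, Fr.Av v * a.n = a.n * Fr.Av v := fun v hv => (a.n_W v hv).symm
  have hu_n : Fr.Av 1796 * a.n = a.n * Fr.Av 1796 := hnW _ (by decide)
  have ht_n : Fr.Av 326 * a.n = a.n * Fr.Av 326 := hnW _ (by decide)
  have hAc : ∀ {v w : ℕ}, v < 2048 → w < 2048 → Commute (Fr.Av v) (Fr.Av w) := fun hv hw =>
    Fr.A_comm _ (Fr.Av_mem hv) _ (Fr.Av_mem hw)
  have hu_z : IsConj z (Fr.Av 1796) := (Fr.isConj_Av_iff hG (by norm_num)).2 ⟨by norm_num, ht1796⟩
  have ht_nz : ¬ IsConj z (Fr.Av 326) := fun h => by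
    rw [((Fr.isConj_Av_iff hG (by norm_num)).1 h).2] at ht326
    exact Bool.false_ne_true ht326
  obtain ⟨k, hku, hkn⟩ := mover _ hu_n hu_z
  -- the exponent in the centraliser of the two involutions
  have hsmall : ∀ g : G, g * a.n = a.n * g → g * Fr.Av 326 = Fr.Av 326 * g → g * a.q = a.q * g → g ^ 4 = 1 →
      g * g = 1 := by
    intro g hgn hgt hgq hg4
    obtain ⟨v, hv, j, l, rfl⟩ := a.cent g (hC 326 (by norm_num) ht326 (Subgroup.mem_centralizer_singleton_iff.2 hgt))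
      hgn hgt
    set y := Fr.Av v * (if j then a.q else 1) with hy
    have hqn : Commute (if j then a.q else 1) a.n := by
      cases j
      · exact Commute.one_left _
      · exact a.q_comm
    have hyn : Commute y (a.n ^ l) := ((show Commute (Fr.Av v) a.n from hnW v hv).mul_left hqn).pow_right l
    have hyq : y * a.q = a.q * y := by
      have h := (show Commute (y * a.n ^ l) a.q from hgq).mul_left
        ((show Commute a.q a.n from a.q_comm).pow_right l).symm.inv_left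
      rwa [mul_inv_cancel_right] at h
    have hvq : Fr.Av v * a.q = a.q * Fr.Av v := by
      cases j
      · simpa [hy] using hyq
      · refine mul_right_cancel (b := a.q) ?_
        calc Fr.Av v * a.q * a.q = y * a.q := by simp [hy]
          _ = a.q * y := hyq
          _ = _ := by simp [hy, mul_assoc]
    have hy2 : y * y = 1 := by
      cases j
      · simp only [hy, Bool.false_eq_true, if_false, mul_one]
        exact Fr.A_sq _ (Fr.Av_mem (hW8 v hv))
      · simp only [hy, if_true]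
        rw [show Fr.Av v * a.q * (Fr.Av v * a.q) = Fr.Av v * (a.q * Fr.Av v) * a.q by group, ← hvq,
          show Fr.Av v * (Fr.Av v * a.q) * a.q = Fr.Av v * Fr.Av v * (a.q * a.q) by group,
          Fr.A_sq _ (Fr.Av_mem (hW8 v hv)), a.q_sq, one_mul]
    have h4 : (a.n ^ l) ^ 4 = 1 := by
      rwa [hyn.mul_pow, show y ^ 4 = (y * y) * (y * y) by rw [pow_succ, pow_succ, pow_two, mul_assoc], hy2, one_mul,
        one_mul] at hg4
    have hl : a.n ^ l = 1 := by
      rw [show a.n ^ l = (a.n ^ l) ^ 5 * ((a.n ^ l) ^ 4)⁻¹ by group, h4, ← pow_mul, mul_comm, pow_mul, a.n_pow]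
      simp
    rw [hl, mul_one, hy2]
  -- the maximal group of order eight
  obtain ⟨k', hk'q, hk'n⟩ := mover _ a.q_comm a.q_z
  have hEmax := b.E_max (k' * Fr.Av 326 * k'⁻¹) (by
      have h := (conj_comm k').1 ((a.q_fix 326 (by decide)).symm)
      rwa [hk'q] at h)
    ((side k' hk'n _).1 ht_n)
    (by rw [show k' * Fr.Av 326 * k'⁻¹ * (k' * Fr.Av 326 * k'⁻¹) = k' * (Fr.Av 326 * Fr.Av 326) * k'⁻¹ by group,
      Fr.A_sq _ (Fr.Av_mem (by norm_num))]; group)
    (fun e => by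
      have := Fr.Av_inj (u := 326) (v := 0) (by norm_num) (by norm_num)
        ((conj_eq_one_iff.1 e).trans Fr.Av_zero.symm)
      norm_num at this)
    (fun h => ht_nz (h.trans (isConj_iff.2 ⟨k'⁻¹, by group⟩)))
    (fun g hgz hgs hgt hg4 => by
      have e : k' * (k'⁻¹ * g * k') * k'⁻¹ = g := by group
      have h := hsmall (k'⁻¹ * g * k') ((side k' hk'n _).2 (by rwa [e])) ((conj_comm k').2 (by rwa [e]))
        ((conj_comm k').2 (by rw [e, hk'q]; exact hgz))
        (by rw [show k'⁻¹ * g * k' = k'⁻¹ * g * k'⁻¹⁻¹ by group, conj_pow, hg4]; group)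
      calc g * g = k' * (k'⁻¹ * g * k' * (k'⁻¹ * g * k')) * k'⁻¹ := by group
        _ = 1 := by rw [h]; group)
  let E' : Subgroup ↥C := (b.E.comap (MulAut.conj k).toMonoidHom).subgroupOf C
  have memE' : ∀ x : ↥C, x ∈ E' ↔ k * (x : G) * k⁻¹ ∈ b.E := fun x => Iff.rfl
  have hback : ∀ e ∈ b.E, k⁻¹ * e * k ∈ C := fun e he => mC ((side k hkn _).2 (by
    rw [show k * (k⁻¹ * e * k) * k⁻¹ = e by group]; exact (b.E_le e he).2))
  have hmemu : ∀ x : G, x * Fr.Av 1796 = Fr.Av 1796 * x ↔ k * x * k⁻¹ * z = z * (k * x * k⁻¹) := fun x => by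
    have h := conj_comm k (x := x) (y := Fr.Av 1796)
    rwa [hku] at h
  have zt_eq : ∀ (g : G) (x : G), IsConj z (g * x * g⁻¹) ↔ IsConj z x := fun g x =>
    ⟨fun h => h.trans (isConj_iff.2 ⟨g⁻¹, by group⟩), fun h => h.trans (isConj_iff.2 ⟨g, rfl⟩)⟩
  let d : FiveEight.Data ↥C :=
    { n := ⟨a.n, mC rfl⟩
      n5 := Subtype.ext a.n_pow
      n_ne := fun e => a.n_ne (congrArg Subtype.val e)
      n_cen := fun x => Subtype.ext (cC x)
      zt := fun x => IsConj z (x : G)
      zt_conj := fun g x h => (zt_eq (g : G) (x : G)).2 h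
      zt_sq := fun x h => Subtype.ext (by
        obtain ⟨g, hg⟩ := isConj_iff.1 h
        show (x : G) * (x : G) = 1
        rw [← hg, show g * z * g⁻¹ * (g * z * g⁻¹) = g * (z * z) * g⁻¹ by group, S.zz]; group)
      zt_ne := fun x h e => by
        obtain ⟨g, hg⟩ := isConj_iff.1 h
        rw [e, OneMemClass.coe_one] at hg
        exact S.ext.ne (conj_eq_one_iff.1 hg)
      u := ⟨Fr.Av 1796, mC hu_n⟩
      u_zt := hu_z
      E := E'
      cardE := by
        rw [← b.cardE]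
        refine Nat.card_eq_of_bijective (fun x : ↥E' => (⟨k * ((x : ↥C) : G) * k⁻¹, x.2⟩ : ↥b.E)) ⟨fun x y h => ?_, ?_⟩
        · exact Subtype.ext (Subtype.ext (mul_left_cancel (mul_right_cancel (congrArg Subtype.val h :))))
        · rintro ⟨e, he⟩
          refine ⟨⟨⟨k⁻¹ * e * k, hback e he⟩, (memE' _).2 (by
            show k * (k⁻¹ * e * k) * k⁻¹ ∈ b.E
            rwa [show k * (k⁻¹ * e * k) * k⁻¹ = e by group])⟩, Subtype.ext ?_⟩
          show k * (k⁻¹ * e * k) * k⁻¹ = e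
          group
      E_comm := fun x hx y hy => Subtype.ext ((conj_comm k).2 (b.E_comm _ hx _ hy))
      u_mem := (memE' _).2 (hku.symm ▸ b.z_mem)
      E_zt := fun x hx h1 => (zt_eq k (x : G)).1
        (b.E_z _ hx fun e => h1 (Subtype.ext (conj_eq_one_iff.1 e)))
      E_max := fun x hxu hxz => (memE' _).2 (hEmax _ ((hmemu _).1 (congrArg Subtype.val hxu))
        ((side k hkn _).1 (cC x)) (by
          obtain ⟨g, hg⟩ := isConj_iff.1 hxz
          rw [← hg, show k * (g * z * g⁻¹) * k⁻¹ * (k * (g * z * g⁻¹) * k⁻¹) = k * g * (z * z) * g⁻¹ * k⁻¹ by group, S.zz]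
          group) ((zt_eq k _).2 hxz))
      card_u := by
        rw [← b.card_cent]
        refine Nat.card_eq_of_bijective (fun x => (⟨k * ((x : ↥C) : G) * k⁻¹, Subgroup.mem_inf.2
          ⟨Subgroup.mem_centralizer_singleton_iff.2 ((hmemu _).1 (congrArg Subtype.val
            (Subgroup.mem_centralizer_singleton_iff.1 x.2))),
            Subgroup.mem_centralizer_singleton_iff.2 ((side k hkn _).1 (cC (x : ↥C)))⟩⟩ :
          ↥(Subgroup.centralizer ({z} : Set G) ⊓ Subgroup.centralizer ({b.s} : Set G)))) ⟨fun x y h => ?_, ?_⟩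
        · exact Subtype.ext (Subtype.ext (mul_left_cancel (mul_right_cancel (congrArg Subtype.val h :))))
        · rintro ⟨y, hy⟩
          obtain ⟨hy1, hy2⟩ := Subgroup.mem_inf.1 hy
          have e : k * (k⁻¹ * y * k) * k⁻¹ = y := by group
          refine ⟨⟨⟨k⁻¹ * y * k, mC ((side k hkn _).2 (by rw [e]; exact Subgroup.mem_centralizer_singleton_iff.1 hy2))⟩,
            Subgroup.mem_centralizer_singleton_iff.2 (Subtype.ext ((hmemu _).2 (by
              rw [e]; exact Subgroup.mem_centralizer_singleton_iff.1 hy1)))⟩, Subtype.ext e⟩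
      trans := fun x hx y hy hx1 hxu hy1 hyu => by
        have ne1 : ∀ w : ↥C, w ≠ 1 → k * (w : G) * k⁻¹ ≠ 1 := fun w hw e => hw (Subtype.ext (conj_eq_one_iff.1 e))
        have nez : ∀ w : ↥C, w ≠ ⟨Fr.Av 1796, mC hu_n⟩ → k * (w : G) * k⁻¹ ≠ z := fun w hw e => hw (Subtype.ext (by
          rw [← hku] at e
          exact mul_left_cancel (mul_right_cancel e)))
        obtain ⟨h, hhz, hhs, hh⟩ := b.trans _ hx _ hy (ne1 x hx1) (nez x hxu) (ne1 y hy1) (nez y hyu)
        have e : k * (k⁻¹ * h * k) * k⁻¹ = h := by group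
        refine ⟨⟨k⁻¹ * h * k, mC ((side k hkn _).2 (by rw [e]; exact hhs))⟩,
          Subtype.ext ((hmemu _).2 (by rw [e]; exact hhz)), Subtype.ext ?_⟩
        show k⁻¹ * h * k * (x : G) * (k⁻¹ * h * k)⁻¹ = (y : G)
        have hh' : h * (k * (x : G) * k⁻¹) * h⁻¹ = k * (y : G) * k⁻¹ := hh
        calc k⁻¹ * h * k * (x : G) * (k⁻¹ * h * k)⁻¹ = k⁻¹ * (h * (k * (x : G) * k⁻¹) * h⁻¹) * k := by group
          _ = k⁻¹ * (k * (y : G) * k⁻¹) * k := by rw [hh']
          _ = _ := by group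
      centE := fun h hh => by
        have hcom : ∀ e ∈ b.E, k * (h : G) * k⁻¹ * e = e * (k * (h : G) * k⁻¹) := fun e he => by
          have e' : k * (k⁻¹ * e * k) * k⁻¹ = e := by group
          have := (conj_comm k).1 (congrArg Subtype.val (hh ⟨k⁻¹ * e * k, hback e he⟩ ((memE' _).2 (by
            show k * (k⁻¹ * e * k) * k⁻¹ ∈ b.E
            rwa [e']))))
          simpa [e'] using this
        obtain ⟨e, he, l, hl⟩ := b.centE _ (hcom z b.z_mem) ((side k hkn _).1 (cC h)) hcom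
        obtain ⟨m, hm⟩ : ∃ m : ℕ, k⁻¹ * b.s * k = a.n ^ m := by
          obtain ⟨i, hi⟩ := (isOfFinOrder_of_finite _).mem_powers_iff_mem_zpowers.2
            (hkn.symm ▸ Subgroup.mem_zpowers b.s : b.s ∈ Subgroup.zpowers (k * a.n * k⁻¹))
          refine ⟨i, ?_⟩
          rw [← hi]
          show k⁻¹ * (k * a.n * k⁻¹) ^ i * k = _
          rw [conj_pow]; group
        refine ⟨⟨k⁻¹ * e * k, hback e he⟩, (memE' _).2 (by
          show k * (k⁻¹ * e * k) * k⁻¹ ∈ b.E
          rwa [show k * (k⁻¹ * e * k) * k⁻¹ = e by group]), m * l, Subtype.ext ?_⟩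
        show (h : G) = k⁻¹ * e * k * a.n ^ (m * l)
        rw [pow_mul, ← hm, show k⁻¹ * b.s * k = k⁻¹ * b.s * k⁻¹⁻¹ by group, conj_pow,
          show k⁻¹ * e * k * (k⁻¹ * b.s ^ l * k⁻¹⁻¹) = k⁻¹ * (e * b.s ^ l) * k by group, ← hl]
        group
      t := ⟨Fr.Av 326, mC ht_n⟩
      tt := Subtype.ext (Fr.A_sq _ (Fr.Av_mem (by norm_num)))
      t_ne := fun e => by
        have := Fr.Av_inj (u := 326) (v := 0) (by norm_num) (by norm_num)
          ((congrArg Subtype.val e).trans Fr.Av_zero.symm)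
        norm_num at this
      t_zt := ht_nz
      t_u := Subtype.ext (hAc (v := 326) (w := 1796) (by norm_num) (by norm_num)).eq
      cent_t := fun x hx => Subtype.ext (by
        have hx' : (x : G) * Fr.Av 326 = Fr.Av 326 * x := congrArg Subtype.val hx
        obtain ⟨v, hv, j, l, e⟩ := a.cent x (hC 326 (by norm_num) ht326 (Subgroup.mem_centralizer_singleton_iff.2 hx'))
          (cC x) hx'
        show (x : G) * Fr.Av 1796 = Fr.Av 1796 * x
        rw [e]
        have c1 : Commute (if j then a.q else 1) (Fr.Av 1796) := by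
          cases j
          · exact Commute.one_left _
          · exact a.q_fix 1796 (by decide)
        exact (((hAc (hW8 v hv) (by norm_num)).mul_left c1).mul_left
          ((show Commute a.n (Fr.Av 1796) from hu_n.symm).pow_left l)).eq)
      card_t := by
        let f : {v // v ∈ Five.W8} × Bool × Fin 5 → ↥C := fun p =>
          ⟨Fr.Av p.1 * (if p.2.1 then a.q else 1) * a.n ^ (p.2.2 : ℕ), C.mul_mem (C.mul_mem (mC (hnW _ p.1.2)) (by
            cases p.2.1
            · exact C.one_mem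
            · exact mC a.q_comm)) (C.pow_mem (mC rfl) _)⟩
        have hsub : ((Subgroup.centralizer ({(⟨Fr.Av 326, mC ht_n⟩ : ↥C)} : Set ↥C) : Subgroup ↥C) : Set ↥C) ⊆
            Set.range f := by
          intro x hx
          have hx' : (x : G) * Fr.Av 326 = Fr.Av 326 * x :=
            congrArg Subtype.val (Subgroup.mem_centralizer_singleton_iff.1 hx)
          obtain ⟨v, hv, j, l, e⟩ := a.cent x (hC 326 (by norm_num) ht326 (Subgroup.mem_centralizer_singleton_iff.2 hx'))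
            (cC x) hx'
          refine ⟨(⟨v, hv⟩, j, ⟨l % 5, Nat.mod_lt _ (by norm_num)⟩), Subtype.ext ?_⟩
          show Fr.Av v * (if j then a.q else 1) * a.n ^ (l % 5) = (x : G)
          rw [← Five.eq_pow a.n_pow, e]
        have h1 := Set.ncard_le_ncard hsub (Set.finite_range f)
        rw [← Nat.card_coe_set_eq, SetLike.coe_sort_coe] at h1
        have h2 : (Set.range f).ncard ≤ 80 := by
          rw [← Nat.card_coe_set_eq]
          refine (Finite.card_range_le f).trans (le_of_eq ?_)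
          rw [Nat.card_prod, Nat.card_prod, Nat.card_eq_fintype_card,
            Fintype.card_of_subtype Five.W8.toFinset (fun x => List.mem_toFinset)]
          simp [Five.W8]
        exact h1.trans h2
      zt_move := fun x hx => by
        obtain ⟨g, hgx, hgn⟩ := mover _ (cC x) hx
        have hmem : k⁻¹ * g * a.n * (k⁻¹ * g)⁻¹ ∈ Subgroup.zpowers a.n := by
          obtain ⟨i, hi⟩ := Subgroup.mem_zpowers_iff.1
            (hkn.symm ▸ hgn ▸ Subgroup.mem_zpowers (g * a.n * g⁻¹) :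
              g * a.n * g⁻¹ ∈ Subgroup.zpowers (k * a.n * k⁻¹))
          refine Subgroup.mem_zpowers_iff.2 ⟨i, ?_⟩
          rw [conj_zpow] at hi
          rw [show k⁻¹ * g * a.n * (k⁻¹ * g)⁻¹ = k⁻¹ * (g * a.n * g⁻¹) * k by group, ← hi]
          group
        obtain ⟨φ, hφ⟩ := Five.exists_aut hna hmem
        refine ⟨φ, Subtype.ext ?_, fun y => ?_⟩
        · rw [hφ]
          show k⁻¹ * g * (x : G) * (k⁻¹ * g)⁻¹ = Fr.Av 1796
          rw [show k⁻¹ * g * (x : G) * (k⁻¹ * g)⁻¹ = k⁻¹ * (g * (x : G) * g⁻¹) * k by group, hgx,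
            show Fr.Av 1796 = k⁻¹ * (k * Fr.Av 1796 * k⁻¹) * k by group, hku]
        · show IsConj z ((φ y : ↥C) : G) ↔ _
          rw [hφ]
          exact zt_eq _ _
      t_move := fun x hx hx1 hxz => by
        have hx2 : (x : G) * x = 1 := congrArg Subtype.val hx
        obtain ⟨v, hv, hvt, h, hh⟩ := (Fr.invol_cases hG hx2 fun e => hx1 (Subtype.ext e)).resolve_left hxz
        have hcomm : h * a.n * h⁻¹ * Fr.Av v = Fr.Av v * (h * a.n * h⁻¹) := by
          rw [← hh]; exact (conj_comm h).1 (cC x).symm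
        obtain ⟨g, hgv, hgn⟩ := a.move v hv hvt _ (hC v hv hvt (Subgroup.mem_centralizer_singleton_iff.2 hcomm))
          (hconjord h) hcomm
        have hmem : g * h * a.n * (g * h)⁻¹ ∈ Subgroup.zpowers a.n := by
          rwa [show g * h * a.n * (g * h)⁻¹ = g * (h * a.n * h⁻¹) * g⁻¹ by group]
        obtain ⟨φ, hφ⟩ := Five.exists_aut hna hmem
        refine ⟨φ, Subtype.ext ?_, fun y => ?_⟩
        · rw [hφ]
          show g * h * (x : G) * (g * h)⁻¹ = Fr.Av 326
          rw [← hgv, ← hh]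
          group
        · show IsConj z ((φ y : ↥C) : G) ↔ _
          rw [hφ]
          exact zt_eq _ _ }
  have hTn : Subgroup.centralizer (Subgroup.zpowers a.n : Set G) = C := by
    ext x
    rw [hCdef, Subgroup.mem_centralizer_singleton_iff, Subgroup.mem_centralizer_iff]
    refine ⟨fun h => (h a.n (Subgroup.mem_zpowers _)).symm, fun h y hy => ?_⟩
    obtain ⟨i, rfl⟩ := Subgroup.mem_zpowers_iff.1 hy
    exact ((show Commute x a.n from h).zpow_right i).eq.symm
  have hcardC : Nat.card ↥C = 6720 := FiveEight.card_C d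
  suffices key : FiveLocal (Subgroup.zpowers a.n) by
    obtain ⟨x, hxQ, hx1⟩ : ∃ x ∈ Q, x ≠ 1 := by
      by_contra hcon
      push Not at hcon
      rw [(Subgroup.eq_bot_iff_forall Q).2 hcon, Subgroup.card_bot] at hQ
      norm_num at hQ
    have hxo : orderOf x = 5 := by
      have hd : orderOf x ∣ 5 := hQ ▸ Subgroup.orderOf_dvd_natCard Q hxQ
      rcases (Nat.dvd_prime (by norm_num)).1 hd with e | e
      · exact absurd (orderOf_eq_one_iff.1 e) hx1
      · exact e
    have hQx : Q = Subgroup.zpowers x :=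
      (Subgroup.eq_of_le_of_card_ge (Subgroup.zpowers_le.2 hxQ) (by rw [hQ, Nat.card_zpowers, hxo])).symm
    obtain ⟨h', -, hh'⟩ := S.conj_five hsb hxo b.s_z (Subgroup.mem_centralizer_singleton_iff.1 (hQz hxQ))
    have hres := fiveLocal_map (h' * k) key
    rw [MonoidHom.map_zpowers] at hres
    suffices e : Subgroup.zpowers ((MulAut.conj (h' * k)).toMonoidHom a.n) = Q by rwa [e] at hres
    rw [hQx, ← hh']
    refine Five.zpowers_eq ?_ ?_ ?_
    · rw [show h' * b.s * h'⁻¹ = MulAut.conj h' b.s from rfl, MulEquiv.orderOf_eq, hsb]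
    · obtain ⟨i, hi⟩ := Subgroup.mem_zpowers_iff.1 (hkn ▸ Subgroup.mem_zpowers (k * a.n * k⁻¹))
      refine Subgroup.mem_zpowers_iff.2 ⟨i, ?_⟩
      rw [conj_zpow, hi, MulEquiv.coe_toMonoidHom, MulAut.conj_apply]
      group
    · exact fun e => a.n_ne ((MulEquiv.map_eq_one_iff (MulAut.conj (h' * k))).1 e)
  obtain ⟨J, hJ1, hJ2, hJ3⟩ := FiveEight.exists_complement d
  have hpm : ∀ i : ℕ, a.m ^ i * a.n * (a.m ^ i)⁻¹ = a.n ^ (2 ^ i) := by
    intro i
    induction i with
    | zero => simp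
    | succ i ih =>
      rw [pow_succ', show a.m * a.m ^ i * a.n * (a.m * a.m ^ i)⁻¹ = a.m * (a.m ^ i * a.n * (a.m ^ i)⁻¹) * a.m⁻¹ by group,
        ih, ← conj_pow, a.m_n, ← pow_two, ← pow_mul, pow_succ']
  have hn4 : ∀ i < 4, ∀ j < 4, a.n ^ (2 ^ i) = a.n ^ (2 ^ j) → i = j := by
    intro i hi j hj h
    have := pow_eq_pow_iff_modEq.1 h
    rw [hna] at this
    revert this
    interval_cases i <;> interval_cases j <;> simp [Nat.ModEq]
  have hmN : a.m ∈ Subgroup.normalizer (Subgroup.zpowers a.n : Set G) := by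
    have hpow : ∀ y ∈ Subgroup.zpowers a.n, a.m * y * a.m⁻¹ ∈ Subgroup.zpowers a.n := fun y hy => by
      obtain ⟨j, rfl⟩ := Subgroup.mem_zpowers_iff.1 hy
      rw [← conj_zpow, a.m_n]
      exact Subgroup.zpow_mem _ (mul_mem (Subgroup.mem_zpowers _) (Subgroup.mem_zpowers _)) j
    refine Subgroup.mem_normalizer_iff.2 fun y => ⟨hpow y, fun hy => ?_⟩
    have h3 := hpow _ (hpow _ (hpow _ hy))
    have e4 : a.m * a.m * a.m * a.m = 1 := by rw [← a.m_pow]; simp [pow_succ]
    rwa [show a.m * (a.m * (a.m * (a.m * y * a.m⁻¹) * a.m⁻¹) * a.m⁻¹) * a.m⁻¹ =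
      a.m * a.m * a.m * a.m * y * (a.m * a.m * a.m * a.m)⁻¹ by group, e4, one_mul, inv_one, mul_one] at h3
  have hCN : C ≤ Subgroup.normalizer (Subgroup.zpowers a.n : Set G) :=
    hTn ▸ Subgroup.centralizer_le_normalizer _
  have key2 : ∀ (r : ℕ) (w : ↥C), a.m ^ r * (w : G) * a.n * (a.m ^ r * (w : G))⁻¹ = a.n ^ (2 ^ r) := fun r w => by
    rw [mul_assoc (a.m ^ r), cC w, ← hpm r]; group
  refine ⟨fun h25 => ?_, ⟨J.map C.subtype, ⟨?_, ?_, ?_, ?_, ?_⟩, hJ3.congr (J.equivMapOfInjective _ C.subtype_injective)⟩,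
    ?_, ?_⟩
  · -- a Sylow subgroup containing the group of order five
    obtain ⟨R, hR⟩ := (IsPGroup.of_card (p := 5) (n := 1) (by rw [Nat.card_zpowers, hna, pow_one]) :
      IsPGroup 5 ↥(Subgroup.zpowers a.n)).exists_le_sylow
    obtain ⟨e, he⟩ := R.2.exists_card_eq
    have he2 : 2 ≤ e := by
      have h5 := R.pow_dvd_card_of_pow_dvd_card (n := 2) (by norm_num; exact h25)
      rw [he, Nat.pow_dvd_pow_iff_le_right (by norm_num)] at h5
      exact h5
    haveI := R.2.isNilpotent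
    have hlt : (Subgroup.zpowers a.n).subgroupOf (R : Subgroup G) < ⊤ := lt_top_iff_ne_top.2 fun h => by
      have h' : (R : Subgroup G) = Subgroup.zpowers a.n := le_antisymm (Subgroup.subgroupOf_eq_top.1 h) hR
      rw [h', Nat.card_zpowers, hna] at he
      have := Nat.pow_le_pow_right (show 0 < 5 by norm_num) he2
      omega
    obtain ⟨y, hy, hyn⟩ := SetLike.exists_of_lt (Group.normalizerCondition_of_isNilpotent _ hlt)
    have hnm : (y : G) * a.n * (y : G)⁻¹ ∈ Subgroup.zpowers a.n := Subgroup.mem_subgroupOf.1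
      ((Subgroup.mem_normalizer_iff.1 hy ⟨a.n, hR (Subgroup.mem_zpowers _)⟩).1
        (Subgroup.mem_subgroupOf.2 (Subgroup.mem_zpowers _)))
    obtain ⟨i, hi⟩ := (isOfFinOrder_of_finite _).mem_powers_iff_mem_zpowers.2 hnm
    have hpow : ∀ j : ℕ, (y : G) ^ j * a.n * ((y : G) ^ j)⁻¹ = a.n ^ (i ^ j) := by
      intro j
      induction j with
      | zero => simp
      | succ j ih =>
        rw [pow_succ', show (y : G) * (y : G) ^ j * a.n * ((y : G) * (y : G) ^ j)⁻¹ =
          (y : G) * ((y : G) ^ j * a.n * ((y : G) ^ j)⁻¹) * (y : G)⁻¹ by group, ih, ← conj_pow, ← hi, ← pow_mul,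
          pow_succ']
    obtain ⟨j, hj⟩ := IsPGroup.iff_orderOf.1 R.2 y
    have hi1 : a.n ^ i = a.n := by
      have h := hpow (5 ^ j)
      rw [← hj, ← Subgroup.orderOf_coe, pow_orderOf_eq_one, one_mul, inv_one, mul_one,
        Subgroup.orderOf_coe, hj] at h
      have hmod : i ^ (5 ^ j) % 5 = i % 5 := by
        clear h hj
        induction j with
        | zero => rw [pow_zero, pow_one]
        | succ j ih =>
          rw [pow_succ, pow_mul, Nat.pow_mod, ih, ← Nat.pow_mod]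
          have : ∀ a < 5, a ^ 5 % 5 = a := by decide
          rw [Nat.pow_mod]
          exact this _ (Nat.mod_lt _ (by norm_num))
      rw [pow_eq_pow_mod (i ^ (5 ^ j)) a.n_pow, hmod, ← pow_eq_pow_mod i a.n_pow] at h
      exact h.symm
    have hyC : (y : G) ∈ C := mC (by rw [← mul_inv_eq_iff_eq_mul, ← hi]; exact hi1)
    have hgt : 5 ^ 2 ∣ Nat.card ↥C := by
      have hle : Subgroup.zpowers a.n ⊔ Subgroup.zpowers (y : G) ≤ (R : Subgroup G) ⊓ C :=
        sup_le (le_inf hR (Subgroup.zpowers_le.2 (mC rfl))) (Subgroup.zpowers_le.2 (Subgroup.mem_inf.2 ⟨y.2, hyC⟩))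
      obtain ⟨f, hf⟩ := IsPGroup.iff_card.1 (R.2.to_le (inf_le_left : (R : Subgroup G) ⊓ C ≤ R))
      have hf2 : 2 ≤ f := by
        by_contra hlt'
        push Not at hlt'
        have hsub : Subgroup.zpowers a.n = (R : Subgroup G) ⊓ C :=
          Subgroup.eq_of_le_of_card_ge (le_trans le_sup_left hle) (by
            rw [hf, Nat.card_zpowers, hna]
            calc 5 ^ f ≤ 5 ^ 1 := Nat.pow_le_pow_right (by norm_num) (by omega)
              _ = 5 := pow_one 5)
        refine hyn (Subgroup.mem_subgroupOf.2 ?_)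
        rw [hsub]
        exact hle (Subgroup.mem_sup_right (Subgroup.mem_zpowers _))
      exact dvd_trans (pow_dvd_pow 5 hf2) (hf ▸ Subgroup.card_dvd_of_le inf_le_right)
    rw [hcardC] at hgt
    norm_num at hgt
  · rw [hTn]; exact Subgroup.zpowers_le.2 (mC rfl)
  · rw [hTn]; exact Subgroup.map_subtype_le J
  · rintro x hx _ ⟨y, -, rfl⟩
    obtain ⟨i, rfl⟩ := Subgroup.mem_zpowers_iff.1 hx
    exact ((show Commute a.n (y : G) from (cC y).symm).zpow_left i).eq
  · rw [Subgroup.eq_bot_iff_forall]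
    intro x hx
    obtain ⟨hx1, y, hy, rfl⟩ := Subgroup.mem_inf.1 hx
    have hy' : y ∈ Subgroup.zpowers d.n ⊓ J := by
      refine Subgroup.mem_inf.2 ⟨?_, hy⟩
      obtain ⟨i, hi⟩ := Subgroup.mem_zpowers_iff.1 hx1
      exact Subgroup.mem_zpowers_iff.2 ⟨i, Subtype.ext (by rw [SubgroupClass.coe_zpow]; exact hi)⟩
    rw [hJ1, Subgroup.mem_bot] at hy'
    rw [hy']; rfl
  · rw [hTn]
    have h1 := congrArg (Subgroup.map C.subtype) hJ2
    rw [Subgroup.map_sup, MonoidHom.map_zpowers, ← MonoidHom.range_eq_map, Subgroup.range_subtype] at h1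
    exact h1
  · -- the Frobenius group
    let f : Fin 5 × Fin 4 → G := fun p => a.n ^ (p.1 : ℕ) * a.m ^ (p.2 : ℕ)
    have hmul : ∀ p q, ∃ r, f r = f p * f q := by
      intro p q
      refine ⟨(⟨((p.1 : ℕ) + 2 ^ (p.2 : ℕ) * q.1) % 5, Nat.mod_lt _ (by norm_num)⟩,
        ⟨((p.2 : ℕ) + q.2) % 4, Nat.mod_lt _ (by norm_num)⟩), ?_⟩
      show a.n ^ (((p.1 : ℕ) + 2 ^ (p.2 : ℕ) * q.1) % 5) * a.m ^ (((p.2 : ℕ) + q.2) % 4) = _
      rw [← pow_eq_pow_mod _ a.n_pow, ← pow_eq_pow_mod _ a.m_pow, pow_add, pow_add, pow_mul, ← hpm, conj_pow]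
      simp only [f]
      group
    let R : Subgroup G :=
      { carrier := Set.range f
        one_mem' := ⟨(0, 0), by simp [f]⟩
        mul_mem' := by rintro _ _ ⟨p, rfl⟩ ⟨q, rfl⟩; obtain ⟨r, hr⟩ := hmul p q; exact ⟨r, hr⟩
        inv_mem' := by
          rintro _ ⟨p, rfl⟩
          have hfin := isOfFinOrder_of_finite (f p)
          obtain ⟨n, hn⟩ : ∃ n : ℕ, f p ^ n = (f p)⁻¹ :=
            hfin.mem_powers_iff_mem_zpowers.2 (inv_mem (Subgroup.mem_zpowers _))
          rw [← hn]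
          clear hn
          induction n with
          | zero => exact ⟨(0, 0), by simp [f]⟩
          | succ n ih =>
            obtain ⟨r, hr⟩ := ih
            obtain ⟨r', hr'⟩ := hmul r p
            exact ⟨r', by rw [hr', hr, pow_succ]⟩ }
    have hcent : ∀ p, f p ∈ C → (p.2 : ℕ) = 0 := fun p hp => by
      have h1 := key2 (p.2 : ℕ) ⟨1, C.one_mem⟩
      rw [mul_one] at h1
      have h2 : a.m ^ (p.2 : ℕ) ∈ C := by
        have := C.mul_mem (C.inv_mem (C.pow_mem (mC rfl) (p.1 : ℕ))) hp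
        simpa [f] using this
      rw [Subgroup.mem_centralizer_singleton_iff.1 h2, mul_inv_cancel_right] at h1
      exact hn4 _ p.2.2 0 (by norm_num) (by rw [← h1, pow_zero, pow_one])
    refine ⟨R, ?_, ?_, ?_, ?_⟩
    · refine Subgroup.zpowers_le.2 ⟨(⟨1, by norm_num⟩, 0), by simp [f]⟩
    · rintro _ ⟨p, rfl⟩
      exact mul_mem (pow_mem (Subgroup.le_normalizer (Subgroup.mem_zpowers _)) _) (pow_mem hmN _)
    · have hf : Function.Injective f := fun p q h => by
        have h' : a.n ^ (p.1 : ℕ) * a.m ^ (p.2 : ℕ) = a.n ^ (q.1 : ℕ) * a.m ^ (q.2 : ℕ) := h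
        have hc : ∀ r : Fin 5 × Fin 4, f r * a.n * (f r)⁻¹ = a.n ^ (2 ^ (r.2 : ℕ)) := fun r => by
          show a.n ^ (r.1 : ℕ) * a.m ^ (r.2 : ℕ) * a.n * (a.n ^ (r.1 : ℕ) * a.m ^ (r.2 : ℕ))⁻¹ = _
          rw [show a.n ^ (r.1 : ℕ) * a.m ^ (r.2 : ℕ) * a.n * (a.n ^ (r.1 : ℕ) * a.m ^ (r.2 : ℕ))⁻¹ =
            a.n ^ (r.1 : ℕ) * (a.m ^ (r.2 : ℕ) * a.n * (a.m ^ (r.2 : ℕ))⁻¹) * (a.n ^ (r.1 : ℕ))⁻¹ by group, hpm,
            ((Commute.refl a.n).pow_pow (r.1 : ℕ) (2 ^ (r.2 : ℕ))).eq, mul_inv_cancel_right]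
        have e2 : (p.2 : ℕ) = q.2 := hn4 _ p.2.2 _ q.2.2 (by rw [← hc p, ← hc q, h])
        rw [e2] at h'
        have e1 := pow_eq_pow_iff_modEq.1 (mul_right_cancel h')
        rw [hna, Nat.ModEq, Nat.mod_eq_of_lt p.1.2, Nat.mod_eq_of_lt q.1.2] at e1
        exact Prod.ext (Fin.ext e1) (Fin.ext e2)
      rw [show Nat.card ↥R = Nat.card ↥(Set.range f) from rfl, Nat.card_range_of_injective hf, Nat.card_prod,
        Nat.card_fin, Nat.card_fin]
    · rw [hTn]
      refine le_antisymm ?_ (le_inf (Subgroup.zpowers_le.2 ⟨(⟨1, by norm_num⟩, 0), by simp [f]⟩)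
        (Subgroup.zpowers_le.2 (mC rfl)))
      intro x hx
      obtain ⟨⟨p, rfl⟩, hx2⟩ := Subgroup.mem_inf.1 hx
      show a.n ^ (p.1 : ℕ) * a.m ^ (p.2 : ℕ) ∈ _
      rw [hcent p hx2, pow_zero, mul_one]
      exact pow_mem (Subgroup.mem_zpowers _) _
  · -- the normaliser
    rw [show 2 ^ 8 * 3 * 5 * 7 = Nat.card (Fin 4 × ↥C) by rw [Nat.card_prod, hcardC, Nat.card_fin]; norm_num]
    refine (Nat.card_eq_of_bijective (fun p : Fin 4 × ↥C =>
      (⟨a.m ^ (p.1 : ℕ) * p.2, mul_mem (pow_mem hmN _) (hCN p.2.2)⟩ :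
        ↥(Subgroup.normalizer (Subgroup.zpowers a.n : Set G)))) ⟨?_, ?_⟩).symm
    · rintro ⟨i, x⟩ ⟨j, y⟩ e
      have e' : a.m ^ (i : ℕ) * (x : G) = a.m ^ (j : ℕ) * y := congrArg Subtype.val e
      have hij := hn4 i i.2 j j.2 (by rw [← key2 _ x, ← key2 _ y, e'])
      obtain rfl := Fin.ext hij
      exact Prod.ext rfl (Subtype.ext (mul_left_cancel e'))
    · rintro ⟨x, hx⟩
      obtain ⟨j, hj⟩ := (isOfFinOrder_of_finite _).mem_powers_iff_mem_zpowers.2
        ((Subgroup.mem_normalizer_iff.1 hx a.n).1 (Subgroup.mem_zpowers _))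
      obtain ⟨i, hi⟩ : ∃ i : Fin 4, x * a.n * x⁻¹ = a.n ^ (2 ^ (i : ℕ)) := by
        have hj' : x * a.n * x⁻¹ = a.n ^ (j % 5) := by rw [← pow_eq_pow_mod j a.n_pow]; exact hj.symm
        have : j % 5 < 5 := Nat.mod_lt _ (by norm_num)
        interval_cases hjv : j % 5
        · rw [pow_zero] at hj'
          exact absurd (conj_eq_one_iff.1 hj') a.n_ne
        · exact ⟨0, hj'⟩
        · exact ⟨1, hj'⟩
        · exact ⟨3, by rw [hj', pow_eq_pow_mod (2 ^ ((3 : Fin 4) : ℕ)) a.n_pow]; rfl⟩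
        · exact ⟨2, hj'⟩
      refine ⟨(i, ⟨(a.m ^ (i : ℕ))⁻¹ * x, mC ?_⟩), Subtype.ext (mul_inv_cancel_left _ _)⟩
      calc (a.m ^ (i : ℕ))⁻¹ * x * a.n = (a.m ^ (i : ℕ))⁻¹ * (x * a.n * x⁻¹) * x := by group
        _ = (a.m ^ (i : ℕ))⁻¹ * (a.m ^ (i : ℕ) * a.n * (a.m ^ (i : ℕ))⁻¹) * x := by rw [hi, hpm]
        _ = _ := by group

end Frame

end Cfsg.Agent.Spor.JFour
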