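import Cfsg.Agent.Lib.Spor.JFourType.SevenA
import Cfsg.Agent.Lib.Spor.JFourType.SevenH
import Cfsg.Agent.Lib.Transfer.SevenS5Quot
import Cfsg.Prelude.Def_TwoFusion

/-!
The centraliser and normaliser of a subgroup of order seven.
-/

set_option autoImplicit false
set_option maxRecDepth 100000
set_option linter.style.haveILetI false

open Cfsg Cfsg.Agent.Transfer
open scoped Pointwise

namespace Cfsg.Agent.Spor.JFour

variable {G : Type*} [Group G] {z : G} {P : Subgroup G}

theorem zpowers_eq_of_mem [Finite G] {p : ℕ} [Fact p.Prime] {x y : G} (hx : orderOf x = p) (hy : y ∈ Subgroup.zpowers x)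
    (hy1 : y ≠ 1) : Subgroup.zpowers y = Subgroup.zpowers x := by
  refine Subgroup.eq_of_le_of_card_ge (Subgroup.zpowers_le.2 hy) ?_
  rw [Nat.card_zpowers, Nat.card_zpowers, hx]
  have h : orderOf y ∣ p := by
    have := Subgroup.orderOf_dvd_natCard _ hy
    rwa [Nat.card_zpowers, hx] at this
  rcases (Nat.dvd_prime (Fact.out : p.Prime)).1 h with e | e
  · exact absurd (orderOf_eq_one_iff.1 e) hy1
  · rw [e]

/-- Subgroups of order seven of the centraliser are conjugate there. -/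
theorem Setting.conj_seven [Finite G] (S : Setting z P) {x y : G} (hx : orderOf x = 7) (hy : orderOf y = 7)
    (hxz : x * z = z * x) (hyz : y * z = z * y) :
    ∃ h, h * z = z * h ∧ Subgroup.zpowers (h * x * h⁻¹) = Subgroup.zpowers y := by
  haveI : Fact (Nat.Prime 7) := ⟨by norm_num⟩
  set H := Subgroup.centralizer ({z} : Set G) with hH
  have hfac : (Nat.card ↥H).factorization 7 = 1 := by
    rw [S.card_H, show 2 ^ 21 * 10395 = 7 * (2 ^ 21 * 1485) by norm_num, Nat.factorization_mul (by norm_num)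
      (by norm_num), Finsupp.add_apply, Nat.Prime.factorization_self (by norm_num),
      Nat.factorization_eq_zero_of_not_dvd (by norm_num)]
  let x' : ↥H := ⟨x, Subgroup.mem_centralizer_singleton_iff.2 hxz⟩
  let y' : ↥H := ⟨y, Subgroup.mem_centralizer_singleton_iff.2 hyz⟩
  let S1 : Sylow 7 ↥H := Sylow.ofCard (Subgroup.zpowers x') (by
    rw [hfac, pow_one, Nat.card_zpowers, ← Subgroup.orderOf_coe]; exact hx)
  let S2 : Sylow 7 ↥H := Sylow.ofCard (Subgroup.zpowers y') (by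
    rw [hfac, pow_one, Nat.card_zpowers, ← Subgroup.orderOf_coe]; exact hy)
  obtain ⟨h, hh⟩ := MulAction.exists_smul_eq ↥H S1 S2
  refine ⟨h, Subgroup.mem_centralizer_singleton_iff.1 h.2, ?_⟩
  refine zpowers_eq_of_mem (p := 7) hy ?_ fun e => by
    rw [mul_inv_eq_one, mul_eq_left] at e
    rw [e, orderOf_one] at hx
    norm_num at hx
  have h1 := Subgroup.smul_mem_pointwise_smul _ (MulAut.conj h) (S1 : Subgroup ↥H) (show x' ∈ (S1 : Subgroup ↥H) by
    rw [Sylow.coe_ofCard]; exact Subgroup.mem_zpowers _)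
  change _ ∈ ((h • S1 : Sylow 7 ↥H) : Subgroup ↥H) at h1
  rw [hh, Sylow.coe_ofCard, Subgroup.mem_zpowers_iff] at h1
  obtain ⟨i, hi⟩ := h1
  have h2 := congrArg (Subtype.val : ↥H → G) hi
  simp only [MulAut.smul_def, MulAut.conj_apply, Subgroup.coe_mul, Subgroup.coe_inv, SubgroupClass.coe_zpow] at h2
  exact Subgroup.mem_zpowers_iff.2 ⟨i, h2⟩

/-- The conclusions on a subgroup of order seven. -/
def SevenLocal (T : Subgroup G) : Prop :=
  ¬ (49 ∣ Nat.card G) ∧
    (∃ I : Subgroup G, Cfsg.IsInternalDirectProduct T I (Subgroup.centralizer (T : Set G)) ∧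
      Nonempty (↥I ≃* Equiv.Perm (Fin 5))) ∧
    Nat.card ↥(Subgroup.normalizer (T : Set G)) = 3 * Nat.card ↥(Subgroup.centralizer (T : Set G)) ∧
    Nat.card ↥(Subgroup.normalizer (T : Set G)) = 2 ^ 3 * 3 ^ 2 * 5 * 7

theorem sevenLocal_map [Finite G] {T : Subgroup G} (g : G) (h : SevenLocal T) :
    SevenLocal (T.map (MulAut.conj g).toMonoidHom) := by
  obtain ⟨h1, ⟨I, ⟨d1, d2, d3, d4, d5⟩, ⟨e⟩⟩, h3, h4⟩ := h
  have hN : (Subgroup.normalizer (T : Set G)).map (MulAut.conj g).toMonoidHom =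
      Subgroup.normalizer ((T.map (MulAut.conj g).toMonoidHom : Subgroup G) : Set G) :=
    Subgroup.map_equiv_normalizer_eq T (MulAut.conj g)
  have hC : (Subgroup.centralizer (T : Set G)).map (MulAut.conj g).toMonoidHom =
      Subgroup.centralizer ((T.map (MulAut.conj g).toMonoidHom : Subgroup G) : Set G) := by
    ext x
    rw [Subgroup.mem_map, Subgroup.mem_centralizer_iff]
    constructor
    · rintro ⟨y, hy, rfl⟩ _ ⟨w, hw, rfl⟩
      rw [← map_mul, Subgroup.mem_centralizer_iff.1 hy w hw, map_mul]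
    · intro hx
      refine ⟨g⁻¹ * x * g, Subgroup.mem_centralizer_iff.2 fun w hw => ?_, by simp [mul_assoc]⟩
      have hh := hx (g * w * g⁻¹) ⟨w, hw, rfl⟩
      calc w * (g⁻¹ * x * g) = g⁻¹ * (g * w * g⁻¹ * x) * g := by group
        _ = g⁻¹ * (x * (g * w * g⁻¹)) * g := by rw [hh]
        _ = _ := by group
  have hinj := (MulAut.conj g).injective
  refine ⟨h1, ⟨I.map (MulAut.conj g).toMonoidHom, ⟨?_, ?_, ?_, ?_, ?_⟩,
    ⟨(I.equivMapOfInjective _ hinj).symm.trans e⟩⟩, ?_, ?_⟩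
  · rw [← hC]; exact Subgroup.map_mono d1
  · rw [← hC]; exact Subgroup.map_mono d2
  · rintro _ ⟨a, ha, rfl⟩ _ ⟨b, hb, rfl⟩
    rw [← map_mul, ← map_mul, d3 a ha b hb]
  · rw [← Subgroup.map_inf _ _ _ hinj, d4, Subgroup.map_bot]
  · rw [← Subgroup.map_sup, d5, hC]
  · rw [← hN, ← hC, Subgroup.card_map_of_injective hinj, Subgroup.card_map_of_injective hinj, h3]
  · rw [← hN, Subgroup.card_map_of_injective hinj, h4]

namespace Frame

variable {S : Setting z P} (Fr : Frame S) [Finite G] [IsSimpleGroup G]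

set_option maxHeartbeats 800000 in
theorem seven_local (hG : ¬ IsMulCommutative G)
    (hC43 : Subgroup.centralizer ({Fr.Av 43} : Set G) ≤ Subgroup.normalizer (Fr.A : Set G)) {T : Subgroup G}
    (hT : Nat.card ↥T = 7) (hTz : T ≤ Subgroup.centralizer ({z} : Set G)) : SevenLocal T := by
  classical
  haveI : Fact (Nat.Prime 7) := ⟨by norm_num⟩
  obtain ⟨a⟩ := Fr.exists_sevenA hG
  obtain ⟨b⟩ := Fr.F.exists_sevenH
  obtain ⟨-, -, -, -, -, -, -, -, -, -, -, ht43, ht827, ht784⟩ := Seven.fixed_s7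
  have hna : orderOf a.n = 7 := orderOf_eq_prime a.n_pow a.n_ne
  have hsb : orderOf b.s = 7 := orderOf_eq_prime b.s_pow b.s_ne
  -- moving the second involution onto the first one
  obtain ⟨g, hg⟩ := isConj_iff.1 a.u_z.symm
  obtain ⟨h, hhz, hh⟩ := S.conj_seven (x := g * a.n * g⁻¹) (y := b.s)
    (by rw [show g * a.n * g⁻¹ = MulAut.conj g a.n from rfl, MulEquiv.orderOf_eq, hna]) hsb
    (by
      have e : g * a.n * g⁻¹ * (g * a.u * g⁻¹) = g * a.u * g⁻¹ * (g * a.n * g⁻¹) := by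
        rw [show g * a.n * g⁻¹ * (g * a.u * g⁻¹) = g * (a.n * a.u) * g⁻¹ by group, ← a.u_comm]; group
      rwa [hg] at e) b.s_z
  set k := h * g with hk
  have hku : k * a.u * k⁻¹ = z := by
    rw [hk, show h * g * a.u * (h * g)⁻¹ = h * (g * a.u * g⁻¹) * h⁻¹ by group, hg, hhz, mul_inv_cancel_right]
  have hkn : Subgroup.zpowers (k * a.n * k⁻¹) = Subgroup.zpowers b.s := by
    rw [← hh]; congr 1; rw [hk]; group
  have nmem : k * a.n * k⁻¹ ∈ Subgroup.zpowers b.s := hkn ▸ Subgroup.mem_zpowers _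
  obtain ⟨m, hm⟩ : ∃ m : ℕ, k⁻¹ * b.s * k = a.n ^ m := by
    obtain ⟨i, hi⟩ := (isOfFinOrder_of_finite _).mem_powers_iff_mem_zpowers.2
      (hkn.symm ▸ Subgroup.mem_zpowers b.s : b.s ∈ Subgroup.zpowers (k * a.n * k⁻¹))
    refine ⟨i, ?_⟩
    rw [← hi]
    show k⁻¹ * (k * a.n * k⁻¹) ^ i * k = _
    rw [conj_pow]
    group
  obtain ⟨m', hm'⟩ : ∃ m' : ℕ, k * a.n * k⁻¹ = b.s ^ m' := by
    obtain ⟨i, hi⟩ := (isOfFinOrder_of_finite _).mem_powers_iff_mem_zpowers.2 nmem
    exact ⟨i, hi.symm⟩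
  -- commuting with the element of order seven on both sides
  have side : ∀ x : G, x * a.n = a.n * x ↔ (k * x * k⁻¹) * b.s = b.s * (k * x * k⁻¹) := fun x => by
    constructor
    · intro hx
      have hc : Commute x (k⁻¹ * b.s * k) := by rw [hm]; exact (show Commute x a.n from hx).pow_right m
      calc k * x * k⁻¹ * b.s = k * (x * (k⁻¹ * b.s * k)) * k⁻¹ := by group
        _ = k * ((k⁻¹ * b.s * k) * x) * k⁻¹ := by rw [hc.eq]
        _ = _ := by group
    · intro hx
      have hc : Commute (k * x * k⁻¹) (k * a.n * k⁻¹) := by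
        rw [hm']; exact (show Commute (k * x * k⁻¹) b.s from hx).pow_right m'
      calc x * a.n = k⁻¹ * (k * x * k⁻¹ * (k * a.n * k⁻¹)) * k := by group
        _ = k⁻¹ * ((k * a.n * k⁻¹) * (k * x * k⁻¹)) * k := by rw [hc.eq]
        _ = _ := by group
  have sideu : ∀ x : G, x * a.u = a.u * x ↔ (k * x * k⁻¹) * z = z * (k * x * k⁻¹) := fun x => by
    have e : x * a.u = a.u * x ↔
        k * x * k⁻¹ * (k * a.u * k⁻¹) = (k * a.u * k⁻¹) * (k * x * k⁻¹) := by
      rw [show k * x * k⁻¹ * (k * a.u * k⁻¹) = k * (x * a.u) * k⁻¹ by group,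
        show k * a.u * k⁻¹ * (k * x * k⁻¹) = k * (a.u * x) * k⁻¹ by group, mul_left_inj, mul_right_inj]
    rwa [hku] at e
  have hnt : a.n * Fr.Av 43 = Fr.Av 43 * a.n := a.n_t 43 (by simp)
  have hnt2 : a.n * Fr.Av 827 = Fr.Av 827 * a.n := a.n_t 827 (by simp)
  have t3e : Fr.Av 43 * Fr.Av 827 = Fr.Av 784 := by
    rw [Fr.Av_mul (by norm_num) (by norm_num), show (43 : ℕ) ^^^ 827 = 784 by decide]
  have hnotz : ∀ v < 2048, Mathieu.tMask.testBit v = true → ¬ IsConj z (Fr.Av v) := fun v hv ht hc => by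
    rw [((Fr.isConj_Av_iff hG hv).1 hc).2] at ht
    exact Bool.false_ne_true ht
  have hne1 : ∀ v < 2048, v ≠ 0 → Fr.Av v ≠ 1 := fun v hv h0 e =>
    h0 (Fr.Av_inj hv (by norm_num) (e.trans Fr.Av_zero.symm))
  set q := k⁻¹ * S.p * k with hq
  have hqn : q * a.n = a.n * q := (side q).2 (by
    rw [show k * q * k⁻¹ = S.p by rw [hq]; group]; exact b.s_p.symm)
  -- the first involution inverts the element of order three
  set t' := k * Fr.Av 43 * k⁻¹ with ht'
  have ht'z : t' * z = z * t' := (sideu _).1 a.u_t1.symm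
  have ht's : t' * b.s = b.s * t' := (side _).1 hnt.symm
  have cz : Commute z S.p := S.pz.symm
  have cs : Commute b.s S.p := b.s_p
  have csz : Commute b.s z := b.s_z
  obtain ⟨i0, j0, l0, e0⟩ : ∃ i j l : ℕ, t' = z ^ i * S.p ^ j * b.s ^ l * b.o := by
    obtain ⟨i, j, l, e | e⟩ := b.cent t' ht'z ht's
    · exfalso
      have hsq : t' * t' = 1 := by
        rw [ht', show k * Fr.Av 43 * k⁻¹ * (k * Fr.Av 43 * k⁻¹) = k * (Fr.Av 43 * Fr.Av 43) * k⁻¹ by group,
          Fr.Av_mul (by norm_num) (by norm_num), Nat.xor_self, Fr.Av_zero]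
        group
      have e2 : t' * t' = S.p ^ (2 * j) * b.s ^ (2 * l) := by
        have h1 : t' ^ 2 = z ^ (i * 2) * S.p ^ (j * 2) * b.s ^ (l * 2) := by
          rw [e, (((csz.symm.pow_pow i l)).mul_left (cs.symm.pow_pow j l)).mul_pow, (cz.pow_pow i j).mul_pow,
            ← pow_mul, ← pow_mul, ← pow_mul]
        rw [← pow_two, h1, show z ^ (i * 2) = 1 by rw [mul_comm, pow_mul, pow_two, S.zz, one_pow], one_mul,
          mul_comm j, mul_comm l]
      rw [hsq] at e2
      have p3 : S.p ^ 3 = 1 := by rw [pow_succ, pow_two]; exact S.p_pow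
      have hs6 : b.s ^ (2 * l * 3) = 1 := by
        have h1 := congrArg (fun x => x ^ 3) e2.symm
        rw [one_pow] at h1
        simpa [((cs.symm).pow_pow (2 * j) (2 * l)).mul_pow, ← pow_mul, mul_comm (2 * j) 3, pow_mul S.p 3, p3] using h1
      have hl : b.s ^ l = 1 := by
        rw [← orderOf_dvd_iff_pow_eq_one, hsb] at hs6 ⊢
        exact (Nat.Coprime.dvd_of_dvd_mul_left (by norm_num : Nat.Coprime 7 6)
          (by rwa [show 2 * l * 3 = 6 * l by ring] at hs6))
      have hj : S.p ^ j = 1 := by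
        have h1 : S.p ^ (2 * j) = 1 := by
          rw [show 2 * l = l * 2 by ring, pow_mul b.s, hl, one_pow, mul_one] at e2
          exact e2.symm
        rw [show S.p ^ j = (S.p ^ 3) ^ j * (S.p ^ (2 * j))⁻¹ by rw [← pow_mul]; group, p3, h1, one_pow, inv_one,
          mul_one]
      rw [hl, hj, mul_one, mul_one] at e
      rcases SevenS5.bool_pow S.zz i with ei | ei <;> rw [ei] at e
      · exact hne1 43 (by norm_num) (by norm_num) (by
          rw [show Fr.Av 43 = k⁻¹ * t' * k by rw [ht']; group, e]; group)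
      · refine hnotz 43 (by norm_num) ht43 (isConj_iff.2 ⟨k⁻¹, ?_⟩)
        have h2 : k⁻¹ * t' * k⁻¹⁻¹ = Fr.Av 43 := by rw [ht']; group
        rwa [e] at h2
    · exact ⟨i, j, l, e⟩
  have ht'p : t' * S.p = S.p * S.p * t' := by
    have ho : b.o * S.p = S.p * S.p * b.o := mul_inv_eq_iff_eq_mul.1 b.o_p
    have hcm : Commute (z ^ i0 * S.p ^ j0 * b.s ^ l0) (S.p * S.p) := by
      refine Commute.mul_right ?_ ?_ <;>
        exact ((cz.pow_left i0).mul_left ((Commute.refl S.p).pow_left j0)).mul_left (cs.pow_left l0)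
    rw [e0, mul_assoc, ho, ← mul_assoc, hcm.eq, mul_assoc]
  -- the group
  set C := Subgroup.centralizer ({a.n} : Set G) with hCdef
  have mC : ∀ {x : G}, x * a.n = a.n * x → x ∈ C := fun h => Subgroup.mem_centralizer_singleton_iff.2 h
  have cq : Commute a.u q := (show Commute q a.u from (sideu q).2 (by
    rw [show k * q * k⁻¹ = S.p by rw [hq]; group]; exact S.pz)).symm
  let d : SevenS5.Data ↥C :=
    { n := ⟨a.n, mC rfl⟩
      t := ⟨Fr.Av 43, mC hnt.symm⟩
      t2 := ⟨Fr.Av 827, mC hnt2.symm⟩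
      u := ⟨a.u, mC a.u_comm⟩
      q := ⟨q, mC hqn⟩
      r := ⟨a.r, mC a.r_comm⟩
      n_pow := Subtype.ext a.n_pow
      n_ne := fun e => a.n_ne (congrArg Subtype.val e)
      n_cen := fun x => Subtype.ext (Subgroup.mem_centralizer_singleton_iff.1 x.2)
      tt := Subtype.ext (show Fr.Av 43 * Fr.Av 43 = 1 by
        rw [Fr.Av_mul (by norm_num) (by norm_num), Nat.xor_self, Fr.Av_zero])
      t_ne := fun e => hne1 43 (by norm_num) (by norm_num) (congrArg Subtype.val e)
      t2t2 := Subtype.ext (show Fr.Av 827 * Fr.Av 827 = 1 by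
        rw [Fr.Av_mul (by norm_num) (by norm_num), Nat.xor_self, Fr.Av_zero])
      t2_ne := fun e => hne1 827 (by norm_num) (by norm_num) (congrArg Subtype.val e)
      t2_ne_t := fun e => absurd (Fr.Av_inj (u := 827) (v := 43) (by norm_num) (by norm_num) (congrArg Subtype.val e))
        (by norm_num)
      t_t2 := Subtype.ext (Fr.A_comm _ (Fr.Av_mem (by norm_num)) _ (Fr.Av_mem (by norm_num)))
      uu := Subtype.ext a.u_sq
      u_ne := fun e => by
        have h1 : a.u = 1 := congrArg Subtype.val e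
        rw [h1, mul_one, mul_inv_cancel] at hku
        exact S.ext.ne hku.symm
      u_t := Subtype.ext a.u_t1
      u_t2 := Subtype.ext (show a.u * Fr.Av 827 = Fr.Av 43 * Fr.Av 827 * a.u by
        rw [t3e, ← a.u_t2, inv_mul_cancel_right])
      q3 := Subtype.ext (show q * q * q = 1 by
        rw [hq, show k⁻¹ * S.p * k * (k⁻¹ * S.p * k) * (k⁻¹ * S.p * k) = k⁻¹ * (S.p * S.p * S.p) * k by group, S.p_pow]
        group)
      q_ne := fun e => S.p_ne (by
        have h1 : q = 1 := congrArg Subtype.val e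
        rw [show S.p = k * q * k⁻¹ by rw [hq]; group, h1]; group)
      q_u := Subtype.ext cq.symm.eq
      t_q := Subtype.ext (show Fr.Av 43 * q = q * q * Fr.Av 43 by
        calc Fr.Av 43 * q = k⁻¹ * (t' * S.p) * k := by rw [ht', hq]; group
          _ = k⁻¹ * (S.p * S.p * t') * k := by rw [ht'p]
          _ = _ := by rw [ht', hq]; group)
      r_t := Subtype.ext a.r_t.1
      r_t2 := Subtype.ext (show a.r * Fr.Av 827 * a.r⁻¹ = Fr.Av 43 * Fr.Av 827 by rw [t3e]; exact a.r_t.2.1)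
      r_t3 := Subtype.ext (show a.r * (Fr.Av 43 * Fr.Av 827) * a.r⁻¹ = Fr.Av 43 by rw [t3e]; exact a.r_t.2.2)
      cent_t := fun x hx => by
        have hx' : (x : G) * Fr.Av 43 = Fr.Av 43 * x := congrArg Subtype.val hx
        obtain ⟨l, v, hv, e⟩ := a.cent x (hC43 (Subgroup.mem_centralizer_singleton_iff.2 hx'))
          (Subgroup.mem_centralizer_singleton_iff.1 x.2) hx'
        simp only [List.mem_cons, List.not_mem_nil, or_false] at hv
        rcases e with e | e
        · rcases hv with rfl | rfl | rfl | rfl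
          · exact ⟨0, 0, 0, l, Subtype.ext (by simp [e, Fr.Av_zero])⟩
          · exact ⟨1, 0, 0, l, Subtype.ext (by simp [e])⟩
          · exact ⟨0, 1, 0, l, Subtype.ext (by simp [e])⟩
          · exact ⟨1, 1, 0, l, Subtype.ext (by simp [e, t3e])⟩
        · rcases hv with rfl | rfl | rfl | rfl
          · exact ⟨0, 0, 1, l, Subtype.ext (by simp [e, Fr.Av_zero])⟩
          · exact ⟨1, 0, 1, l, Subtype.ext (by simp [e])⟩
          · exact ⟨0, 1, 1, l, Subtype.ext (by simp [e])⟩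
          · exact ⟨1, 1, 1, l, Subtype.ext (by simp [e, t3e])⟩
      cent_u := fun x hx => by
        have hx' : (x : G) * a.u = a.u * x := congrArg Subtype.val hx
        obtain ⟨i, j, l, e⟩ := b.cent (k * x * k⁻¹) ((sideu _).1 hx')
          ((side _).1 (Subgroup.mem_centralizer_singleton_iff.1 x.2))
        have back : ∀ A B L : ℕ, k⁻¹ * (z ^ A * S.p ^ B * b.s ^ L) * k = a.u ^ A * q ^ B * a.n ^ (m * L) := by
          intro A B L
          have e1 : k⁻¹ * z ^ A * k = a.u ^ A := by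
            have h1 : k⁻¹ * (k * a.u * k⁻¹) ^ A * k = a.u ^ A := by rw [conj_pow]; group
            rwa [hku] at h1
          have e2 : k⁻¹ * S.p ^ B * k = q ^ B := by
            rw [hq, show k⁻¹ * S.p * k = k⁻¹ * S.p * k⁻¹⁻¹ by group, conj_pow, inv_inv]
          have e3 : k⁻¹ * b.s ^ L * k = a.n ^ (m * L) := by
            rw [pow_mul, ← hm, show k⁻¹ * b.s * k = k⁻¹ * b.s * k⁻¹⁻¹ by group, conj_pow, inv_inv]
          rw [← e1, ← e2, ← e3]; group
        have xeq : (x : G) = k⁻¹ * (k * x * k⁻¹) * k := by group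
        rcases e with e | e
        · refine ⟨i, j, 0, m * l, Subtype.ext ?_⟩
          rw [e, back] at xeq
          simpa using xeq
        · refine ⟨i + i0, j + 2 * j0, 1, m * (l + 6 * l0), Subtype.ext ?_⟩
          have eo : b.o = (z ^ i0 * S.p ^ j0 * b.s ^ l0)⁻¹ * t' := by rw [e0, inv_mul_cancel_left]
          have einv : (z ^ i0 * S.p ^ j0 * b.s ^ l0)⁻¹ = z ^ i0 * S.p ^ (2 * j0) * b.s ^ (6 * l0) := by
            refine inv_eq_of_mul_eq_one_right ?_
            have c1 : Commute (b.s ^ l0) (z ^ i0 * S.p ^ (2 * j0)) :=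
              (csz.pow_pow l0 i0).mul_right (cs.pow_pow l0 (2 * j0))
            have c2 : Commute (S.p ^ j0) (z ^ i0) := (cz.symm.pow_pow j0 i0)
            calc z ^ i0 * S.p ^ j0 * b.s ^ l0 * (z ^ i0 * S.p ^ (2 * j0) * b.s ^ (6 * l0))
                = z ^ i0 * S.p ^ j0 * (b.s ^ l0 * (z ^ i0 * S.p ^ (2 * j0))) * b.s ^ (6 * l0) := by group
              _ = z ^ i0 * (S.p ^ j0 * z ^ i0) * S.p ^ (2 * j0) * (b.s ^ l0 * b.s ^ (6 * l0)) := by rw [c1.eq]; group
              _ = (z * z) ^ i0 * (S.p * S.p * S.p) ^ j0 * (b.s ^ 7) ^ l0 := by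
                rw [c2.eq, ← pow_two z, show S.p * S.p * S.p = S.p ^ 3 by simp [pow_succ], ← pow_mul, ← pow_mul,
                  ← pow_mul]
                group
              _ = 1 := by rw [S.zz, S.p_pow, b.s_pow]; simp
          have c3 : Commute (b.s ^ l) (z ^ i0 * S.p ^ (2 * j0)) :=
            (csz.pow_pow l i0).mul_right (cs.pow_pow l (2 * j0))
          have c4 : Commute (S.p ^ j) (z ^ i0) := (cz.symm.pow_pow j i0)
          have ey : k * x * k⁻¹ = z ^ (i + i0) * S.p ^ (j + 2 * j0) * b.s ^ (l + 6 * l0) * t' := by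
            rw [e, eo, einv, pow_add, pow_add, pow_add]
            calc z ^ i * S.p ^ j * b.s ^ l * (z ^ i0 * S.p ^ (2 * j0) * b.s ^ (6 * l0) * t')
                = z ^ i * S.p ^ j * (b.s ^ l * (z ^ i0 * S.p ^ (2 * j0))) * b.s ^ (6 * l0) * t' := by group
              _ = z ^ i * (S.p ^ j * z ^ i0) * S.p ^ (2 * j0) * (b.s ^ l * b.s ^ (6 * l0)) * t' := by rw [c3.eq]; group
              _ = _ := by rw [c4.eq]; group
          rw [ey, show k⁻¹ * (z ^ (i + i0) * S.p ^ (j + 2 * j0) * b.s ^ (l + 6 * l0) * t') * k =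
            k⁻¹ * (z ^ (i + i0) * S.p ^ (j + 2 * j0) * b.s ^ (l + 6 * l0)) * k * Fr.Av 43 by rw [ht']; group,
            back] at xeq
          have cn : Commute (a.n ^ (m * (l + 6 * l0))) (Fr.Av 43) := (show Commute a.n (Fr.Av 43) from hnt).pow_left _
          rw [mul_assoc _ _ (Fr.Av 43), cn.eq, ← mul_assoc] at xeq
          simpa using xeq
      not_conj := fun hc => by
        obtain ⟨c, hc⟩ := isConj_iff.1 hc
        refine hnotz 43 (by norm_num) ht43 (a.u_z.trans (isConj_iff.2 ⟨(c : G)⁻¹, ?_⟩))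
        have hc' : (c : G) * Fr.Av 43 * (c : G)⁻¹ = a.u := congrArg Subtype.val hc
        rw [← hc']; group }
  have hTn : Subgroup.centralizer (Subgroup.zpowers a.n : Set G) = C := by
    ext x
    rw [hCdef, Subgroup.mem_centralizer_singleton_iff, Subgroup.mem_centralizer_iff]
    refine ⟨fun h => (h a.n (Subgroup.mem_zpowers _)).symm, fun h y hy => ?_⟩
    obtain ⟨i, rfl⟩ := Subgroup.mem_zpowers_iff.1 hy
    exact ((show Commute x a.n from h).zpow_right i).eq.symm
  have hcardC : Nat.card ↥C = 840 := SevenS5.card_C d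
  -- conjugating the conclusions
  suffices key : SevenLocal (Subgroup.zpowers a.n) by
    obtain ⟨x, hxT, hx1⟩ : ∃ x ∈ T, x ≠ 1 := by
      by_contra hcon
      push Not at hcon
      rw [(Subgroup.eq_bot_iff_forall T).2 hcon, Subgroup.card_bot] at hT
      norm_num at hT
    have hxo : orderOf x = 7 := by
      have hd : orderOf x ∣ 7 := hT ▸ Subgroup.orderOf_dvd_natCard T hxT
      rcases (Nat.dvd_prime (by norm_num)).1 hd with e | e
      · exact absurd (orderOf_eq_one_iff.1 e) hx1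
      · exact e
    have hTx : T = Subgroup.zpowers x :=
      (Subgroup.eq_of_le_of_card_ge (Subgroup.zpowers_le.2 hxT) (by rw [hT, Nat.card_zpowers, hxo])).symm
    obtain ⟨h', -, hh'⟩ := S.conj_seven hsb hxo b.s_z (Subgroup.mem_centralizer_singleton_iff.1 (hTz hxT))
    have hres := sevenLocal_map (h' * k) key
    rw [MonoidHom.map_zpowers] at hres
    suffices e : Subgroup.zpowers ((MulAut.conj (h' * k)).toMonoidHom a.n) = T by rwa [e] at hres
    rw [hTx, ← hh']
    refine zpowers_eq_of_mem (p := 7) ?_ ?_ ?_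
    · rw [show h' * b.s * h'⁻¹ = MulAut.conj h' b.s from rfl, MulEquiv.orderOf_eq, hsb]
    · obtain ⟨i, hi⟩ := Subgroup.mem_zpowers_iff.1 nmem
      refine Subgroup.mem_zpowers_iff.2 ⟨i, ?_⟩
      rw [conj_zpow, hi, MulEquiv.coe_toMonoidHom, MulAut.conj_apply]
      group
    · exact fun e => a.n_ne ((MulEquiv.map_eq_one_iff (MulAut.conj (h' * k))).1 e)
  obtain ⟨I, hI1, hI2, ⟨eI⟩⟩ := SevenS5.exists_complement d
  refine ⟨fun h49 => ?_, ⟨I.map C.subtype, ⟨?_, ?_, ?_, ?_, ?_⟩,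
    ⟨(I.equivMapOfInjective _ C.subtype_injective).symm.trans eI⟩⟩, ?_⟩
  · -- a Sylow subgroup containing the group of order seven
    obtain ⟨Q, hQ⟩ := (IsPGroup.of_card (p := 7) (n := 1) (by rw [Nat.card_zpowers, hna, pow_one]) :
      IsPGroup 7 ↥(Subgroup.zpowers a.n)).exists_le_sylow
    obtain ⟨e, he⟩ := Q.2.exists_card_eq
    have he2 : 2 ≤ e := by
      have h7 := Q.pow_dvd_card_of_pow_dvd_card (n := 2) (by norm_num; exact h49)
      rw [he, Nat.pow_dvd_pow_iff_le_right (by norm_num)] at h7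
      exact h7
    haveI := Q.2.isNilpotent
    have hlt : (Subgroup.zpowers a.n).subgroupOf (Q : Subgroup G) < ⊤ := lt_top_iff_ne_top.2 fun h => by
      have h' : (Q : Subgroup G) = Subgroup.zpowers a.n := le_antisymm (Subgroup.subgroupOf_eq_top.1 h) hQ
      rw [h', Nat.card_zpowers, hna] at he
      have := Nat.pow_le_pow_right (show 0 < 7 by norm_num) he2
      omega
    obtain ⟨y, hy, hyn⟩ := SetLike.exists_of_lt (Group.normalizerCondition_of_isNilpotent _ hlt)
    have hnm : (y : G) * a.n * (y : G)⁻¹ ∈ Subgroup.zpowers a.n := Subgroup.mem_subgroupOf.1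
      ((Subgroup.mem_normalizer_iff.1 hy ⟨a.n, hQ (Subgroup.mem_zpowers _)⟩).1
        (Subgroup.mem_subgroupOf.2 (Subgroup.mem_zpowers _)))
    obtain ⟨i, hi⟩ := (isOfFinOrder_of_finite _).mem_powers_iff_mem_zpowers.2 hnm
    have hpow : ∀ j : ℕ, (y : G) ^ j * a.n * ((y : G) ^ j)⁻¹ = a.n ^ (i ^ j) := by
      intro j
      induction j with
      | zero => simp
      | succ j ih =>
        rw [pow_succ', show (y : G) * (y : G) ^ j * a.n * ((y : G) * (y : G) ^ j)⁻¹ =
          (y : G) * ((y : G) ^ j * a.n * ((y : G) ^ j)⁻¹) * (y : G)⁻¹ by group, ih, ← conj_pow, ← hi, ← pow_mul,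
          pow_succ']
    obtain ⟨j, hj⟩ := IsPGroup.iff_orderOf.1 Q.2 y
    have hi1 : a.n ^ i = a.n := by
      have h := hpow (7 ^ j)
      rw [← hj, ← Subgroup.orderOf_coe, pow_orderOf_eq_one, one_mul, inv_one, mul_one,
        Subgroup.orderOf_coe, hj] at h
      have hmod : i ^ (7 ^ j) % 7 = i % 7 := by
        clear h hj
        induction j with
        | zero => rw [pow_zero, pow_one]
        | succ j ih =>
          rw [pow_succ, pow_mul, Nat.pow_mod, ih, ← Nat.pow_mod]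
          have : ∀ a < 7, a ^ 7 % 7 = a := by decide
          rw [Nat.pow_mod]
          exact this _ (Nat.mod_lt _ (by norm_num))
      rw [pow_eq_pow_mod (i ^ (7 ^ j)) a.n_pow, hmod, ← pow_eq_pow_mod i a.n_pow] at h
      exact h.symm
    have hyC : (y : G) ∈ C := mC (by rw [← mul_inv_eq_iff_eq_mul, ← hi]; exact hi1)
    have hgt : 7 ^ 2 ∣ Nat.card ↥C := by
      have hle : Subgroup.zpowers a.n ⊔ Subgroup.zpowers (y : G) ≤ (Q : Subgroup G) ⊓ C :=
        sup_le (le_inf hQ (Subgroup.zpowers_le.2 (mC rfl))) (Subgroup.zpowers_le.2 (Subgroup.mem_inf.2 ⟨y.2, hyC⟩))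
      obtain ⟨f, hf⟩ := IsPGroup.iff_card.1 (Q.2.to_le (inf_le_left : (Q : Subgroup G) ⊓ C ≤ Q))
      have hf2 : 2 ≤ f := by
        by_contra hlt'
        push Not at hlt'
        have hsub : Subgroup.zpowers a.n = (Q : Subgroup G) ⊓ C :=
          Subgroup.eq_of_le_of_card_ge (le_trans le_sup_left hle) (by
            rw [hf, Nat.card_zpowers, hna]
            calc 7 ^ f ≤ 7 ^ 1 := Nat.pow_le_pow_right (by norm_num) (by omega)
              _ = 7 := pow_one 7)
        refine hyn (Subgroup.mem_subgroupOf.2 ?_)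
        rw [hsub]
        exact hle (Subgroup.mem_sup_right (Subgroup.mem_zpowers _))
      exact dvd_trans (pow_dvd_pow 7 hf2) (hf ▸ Subgroup.card_dvd_of_le inf_le_right)
    rw [hcardC] at hgt
    norm_num at hgt
  · rw [hTn]; exact Subgroup.zpowers_le.2 (mC rfl)
  · rw [hTn]; exact Subgroup.map_subtype_le I
  · rintro x hx _ ⟨y, -, rfl⟩
    obtain ⟨i, rfl⟩ := Subgroup.mem_zpowers_iff.1 hx
    exact ((show Commute a.n (y : G) from (Subgroup.mem_centralizer_singleton_iff.1 y.2).symm).zpow_left i).eq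
  · rw [Subgroup.eq_bot_iff_forall]
    intro x hx
    obtain ⟨hx1, y, hy, rfl⟩ := Subgroup.mem_inf.1 hx
    have hy' : y ∈ Subgroup.zpowers d.n ⊓ I := by
      refine Subgroup.mem_inf.2 ⟨?_, hy⟩
      obtain ⟨i, hi⟩ := Subgroup.mem_zpowers_iff.1 hx1
      exact Subgroup.mem_zpowers_iff.2 ⟨i, Subtype.ext (by simpa using hi)⟩
    rw [hI1, Subgroup.mem_bot] at hy'
    rw [hy']; rfl
  · rw [hTn]
    have h1 := congrArg (Subgroup.map C.subtype) hI2
    rw [Subgroup.map_sup, MonoidHom.map_zpowers, ← MonoidHom.range_eq_map, Subgroup.range_subtype] at h1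
    exact h1
  · -- the normaliser
    rw [hTn, hcardC]
    suffices hN : Nat.card ↥(Subgroup.normalizer (Subgroup.zpowers a.n : Set G)) = 3 * 840 by
      exact ⟨hN, by rw [hN]; norm_num⟩
    have hnoinv : ∀ x : G, x * a.n * x⁻¹ ≠ a.n⁻¹ := by
      intro x hx
      have hmem : x * a.u * x⁻¹ ∈ C := mC (by
        have hinv : x * a.n⁻¹ * x⁻¹ = a.n := by
          rw [show x * a.n⁻¹ * x⁻¹ = (x * a.n * x⁻¹)⁻¹ by group, hx, inv_inv]
        have : Commute a.u a.n⁻¹ := (show Commute a.u a.n from a.u_comm).inv_right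
        calc x * a.u * x⁻¹ * a.n = x * a.u * x⁻¹ * (x * a.n⁻¹ * x⁻¹) := by rw [hinv]
          _ = x * (a.u * a.n⁻¹) * x⁻¹ := by group
          _ = x * (a.n⁻¹ * a.u) * x⁻¹ := by rw [this.eq]
          _ = x * a.n⁻¹ * x⁻¹ * (x * a.u * x⁻¹) := by group
          _ = _ := by rw [hinv])
      have hinv2 : orderOf (⟨_, hmem⟩ : ↥C) = 2 := by
        rw [← Subgroup.orderOf_coe]
        show orderOf (x * a.u * x⁻¹) = 2
        rw [show x * a.u * x⁻¹ = MulAut.conj x a.u from rfl, MulEquiv.orderOf_eq,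
          show a.u = ((d.u : ↥C) : G) from rfl, Subgroup.orderOf_coe, SevenS5.ord_u d]
      rcases SevenS5.all_classes d _ hinv2 with hc | hc
      · obtain ⟨c, hc⟩ := isConj_iff.1 hc
        have hc' : (c : G) * Fr.Av 43 * (c : G)⁻¹ = x * a.u * x⁻¹ := congrArg Subtype.val hc
        refine hnotz 43 (by norm_num) ht43 (a.u_z.trans (isConj_iff.2 ⟨(c : G)⁻¹ * x, ?_⟩))
        rw [show (c : G)⁻¹ * x * a.u * ((c : G)⁻¹ * x)⁻¹ = (c : G)⁻¹ * (x * a.u * x⁻¹) * c by group, ← hc']
        group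
      · obtain ⟨c, hc⟩ := isConj_iff.1 hc.symm
        have hc' : (c : G) * (x * a.u * x⁻¹) * (c : G)⁻¹ = a.u := congrArg Subtype.val hc
        set y := (c : G) * x with hy
        have hyu : y * a.u = a.u * y := by
          rw [← mul_inv_eq_iff_eq_mul, hy, show (c : G) * x * a.u * ((c : G) * x)⁻¹ = c * (x * a.u * x⁻¹) * (c : G)⁻¹ by
            group, hc']
        have hyn : y * a.n * y⁻¹ = a.n⁻¹ := by
          rw [hy, show (c : G) * x * a.n * ((c : G) * x)⁻¹ = c * (x * a.n * x⁻¹) * (c : G)⁻¹ by group, hx,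
            mul_inv_eq_iff_eq_mul]
          exact ((show Commute (c : G) a.n from Subgroup.mem_centralizer_singleton_iff.1 c.2).inv_right).eq
        refine b.no_inv (k * y * k⁻¹) ((sideu y).1 hyu) ?_
        rw [show b.s = k * (k⁻¹ * b.s * k) * k⁻¹ by group, hm,
          show k * y * k⁻¹ * (k * a.n ^ m * k⁻¹) * (k * y * k⁻¹)⁻¹ = k * (y * a.n ^ m * y⁻¹) * k⁻¹ by group,
          ← conj_pow, hyn, inv_pow]
        group
    set x0 := k⁻¹ * b.m * k with hx0
    have hx0n : x0 * a.n * x0⁻¹ = a.n ^ 2 := by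
      rw [show a.n = k⁻¹ * (k * a.n * k⁻¹) * k by group, hm', hx0,
        show k⁻¹ * b.m * k * (k⁻¹ * b.s ^ m' * k) * (k⁻¹ * b.m * k)⁻¹ = k⁻¹ * (b.m * b.s ^ m' * b.m⁻¹) * k by group,
        ← conj_pow, b.m_s, show k⁻¹ * b.s ^ m' * k = k⁻¹ * b.s ^ m' * k⁻¹⁻¹ by group, conj_pow,
        (Commute.refl b.s).mul_pow]
      group
    have hpw : ∀ i : ℕ, x0 ^ i * a.n * (x0 ^ i)⁻¹ = a.n ^ (2 ^ i) := by
      intro i
      induction i with
      | zero => simp
      | succ i ih =>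
        rw [pow_succ', show x0 * x0 ^ i * a.n * (x0 * x0 ^ i)⁻¹ = x0 * (x0 ^ i * a.n * (x0 ^ i)⁻¹) * x0⁻¹ by group,
          ih, ← conj_pow, hx0n, ← pow_mul, pow_succ']
    have hx0N : ∀ i, x0 ^ i ∈ Subgroup.normalizer (Subgroup.zpowers a.n : Set G) := by
      intro i
      refine pow_mem (Subgroup.mem_normalizer_iff.2 fun y => ?_) i
      constructor
      · intro hy
        obtain ⟨j, rfl⟩ := Subgroup.mem_zpowers_iff.1 hy
        rw [← conj_zpow, hx0n]
        exact Subgroup.zpow_mem _ (pow_mem (Subgroup.mem_zpowers _) _) j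
      · intro hy
        obtain ⟨j, hj⟩ := Subgroup.mem_zpowers_iff.1 hy
        refine Subgroup.mem_zpowers_iff.2 ⟨4 * j, ?_⟩
        apply mul_left_cancel (a := x0)
        apply mul_right_cancel (b := x0⁻¹)
        rw [← hj, ← conj_zpow, hx0n, ← zpow_natCast, ← zpow_mul]
        refine zpow_eq_zpow_iff_modEq.2 ?_
        rw [hna, Int.modEq_iff_dvd]
        exact ⟨-j, by push_cast; ring⟩
    have hCN : C ≤ Subgroup.normalizer (Subgroup.zpowers a.n : Set G) :=
      hTn ▸ Subgroup.centralizer_le_normalizer _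
    have hn4 : ∀ i : Fin 3, ∀ j : Fin 3, a.n ^ (2 ^ (i : ℕ)) = a.n ^ (2 ^ (j : ℕ)) → i = j := by
      intro i j h
      have := (pow_eq_pow_iff_modEq.1 h)
      rw [hna] at this
      revert this
      fin_cases i <;> fin_cases j <;> simp [Nat.ModEq]
    rw [← show Nat.card (Fin 3 × ↥C) = 3 * 840 by rw [Nat.card_prod, hcardC, Nat.card_fin]]
    refine (Nat.card_eq_of_bijective (fun p : Fin 3 × ↥C =>
      (⟨x0 ^ (p.1 : ℕ) * p.2, mul_mem (hx0N _) (hCN p.2.2)⟩ :
        ↥(Subgroup.normalizer (Subgroup.zpowers a.n : Set G)))) ⟨?_, ?_⟩).symm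
    · rintro ⟨i, x⟩ ⟨j, y⟩ e
      have e' : x0 ^ (i : ℕ) * (x : G) = x0 ^ (j : ℕ) * y := congrArg Subtype.val e
      have key : ∀ (r : ℕ) (w : ↥C), x0 ^ r * (w : G) * a.n * (x0 ^ r * (w : G))⁻¹ = a.n ^ (2 ^ r) := fun r w => by
        rw [mul_assoc (x0 ^ r), Subgroup.mem_centralizer_singleton_iff.1 w.2, ← hpw r]; group
      have hij := hn4 i j (by rw [← key _ x, ← key _ y, e'])
      subst hij
      exact Prod.ext rfl (Subtype.ext (mul_left_cancel e'))
    · rintro ⟨x, hx⟩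
      obtain ⟨j, hj⟩ := (isOfFinOrder_of_finite _).mem_powers_iff_mem_zpowers.2
        ((Subgroup.mem_normalizer_iff.1 hx a.n).1 (Subgroup.mem_zpowers _))
      have hj' : x * a.n * x⁻¹ = a.n ^ (j % 7) := by rw [← pow_eq_pow_mod j a.n_pow]; exact hj.symm
      have hc3 : x * a.n * x⁻¹ = a.n ^ 3 ∨ x * a.n * x⁻¹ = a.n ^ 5 → False := by
        intro h
        refine hnoinv (x * x * x) ?_
        have h' : ∀ r : ℕ, x * a.n * x⁻¹ = a.n ^ r → x * x * x * a.n * (x * x * x)⁻¹ = a.n ^ (r ^ 3) := fun r hr => by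
          rw [show x * x * x * a.n * (x * x * x)⁻¹ = x * (x * (x * a.n * x⁻¹) * x⁻¹) * x⁻¹ by group, hr, ← conj_pow, hr,
            ← pow_mul, ← conj_pow, hr, ← pow_mul]
          congr 1
          ring
        have hinv6 : a.n ^ 6 = a.n⁻¹ := eq_inv_of_mul_eq_one_left (by rw [← pow_succ, a.n_pow])
        rcases h with h | h <;>
        · rw [h' _ h, pow_eq_pow_mod _ a.n_pow]
          exact hinv6
      obtain ⟨i, hi⟩ : ∃ i : Fin 3, x * a.n * x⁻¹ = a.n ^ (2 ^ (i : ℕ)) := by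
        have : j % 7 < 7 := Nat.mod_lt _ (by norm_num)
        interval_cases hjv : j % 7
        · rw [pow_zero] at hj'
          exact absurd (conj_eq_one_iff.1 hj') a.n_ne
        · exact ⟨0, hj'⟩
        · exact ⟨1, hj'⟩
        · exact (hc3 (Or.inl hj')).elim
        · exact ⟨2, hj'⟩
        · exact (hc3 (Or.inr hj')).elim
        · exact absurd (by rw [hj']; exact eq_inv_of_mul_eq_one_left (by rw [← pow_succ, a.n_pow])) (hnoinv x)
      refine ⟨(i, ⟨(x0 ^ (i : ℕ))⁻¹ * x, mC ?_⟩), Subtype.ext (mul_inv_cancel_left _ _)⟩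
      calc (x0 ^ (i : ℕ))⁻¹ * x * a.n = (x0 ^ (i : ℕ))⁻¹ * (x * a.n * x⁻¹) * x := by group
        _ = (x0 ^ (i : ℕ))⁻¹ * (x0 ^ (i : ℕ) * a.n * (x0 ^ (i : ℕ))⁻¹) * x := by rw [hi, hpw]
        _ = _ := by group

end Frame

end Cfsg.Agent.Spor.JFour
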