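import Cfsg.Agent.Lib.Spor.JFourType.OddCore
import Cfsg.Agent.Lib.Fus.PearlCube

/-!
The Sylow three-subgroups: extraspecial of order 27 and exponent three, their normaliser in the centraliser of the
involution has order 864, and there is one class of elements of order three.
-/

set_option autoImplicit false
set_option maxRecDepth 100000
set_option linter.style.haveILetI false

open Cfsg Cfsg.Agent.Spor.Golay
open scoped Pointwise

namespace Cfsg.Agent.Spor.JFour

variable {G : Type*} [Group G] {z : G} {P : Subgroup G} {S : Setting z P}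

namespace Three

variable (R : Three S)

/-- An element written in the normal form. -/
def elt (i j k : ℕ) : G := R.x ^ i * R.y ^ j * S.p ^ k

theorem p_comm_x : Commute S.p R.x := (S.mem_iff.1 R.x_mem).2.symm

theorem p_comm_y : Commute S.p R.y := (S.mem_iff.1 R.y_mem).2.symm

theorem t_pow : ∃ e, R.t = S.p ^ e ∧ (e = 1 ∨ e = 2) := by
  rcases R.t_p with e | e
  · exact ⟨1, by rw [pow_one, e], Or.inl rfl⟩
  · exact ⟨2, by rw [pow_two, e], Or.inr rfl⟩

/-- The commutation. -/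
theorem y_x : ∃ e, ∀ j k : ℕ, R.y ^ j * R.x ^ k = R.x ^ k * R.y ^ j * S.p ^ (e * j * k) := by
  obtain ⟨e, he, -⟩ := R.t_pow
  refine ⟨e, fun j => ?_⟩
  have hx : ∀ a : ℕ, Commute (S.p ^ a) R.x := fun a => R.p_comm_x.pow_left a
  have hy : ∀ a : ℕ, Commute (S.p ^ a) R.y := fun a => R.p_comm_y.pow_left a
  have h1 : R.y * R.x = R.x * R.y * S.p ^ e := by
    rw [R.t_eq, he, ((hx e).mul_right (hy e)).eq]
  have hyk : ∀ k : ℕ, R.y * R.x ^ k = R.x ^ k * R.y * S.p ^ (e * k) := by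
    intro k
    induction k with
    | zero => simp
    | succ m ih =>
      rw [pow_succ, ← mul_assoc, ih, mul_assoc (R.x ^ m * R.y), (hx _).eq, ← mul_assoc (R.x ^ m * R.y),
        mul_assoc (R.x ^ m) R.y, h1]
      rw [show R.x ^ m * (R.x * R.y * S.p ^ e) * S.p ^ (e * m) = R.x ^ m * R.x * R.y * (S.p ^ e * S.p ^ (e * m)) by
        group, ← pow_add, show e + e * m = e * (m + 1) by ring]
  induction j with
  | zero => intro k; simp
  | succ n ih =>
    intro k
    rw [pow_succ', mul_assoc, ih, ← mul_assoc R.y, ← mul_assoc R.y, hyk, mul_assoc (R.x ^ k * R.y),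
      ((hy _).pow_right n).eq, show R.x ^ k * R.y * (R.y ^ n * S.p ^ (e * k)) * S.p ^ (e * n * k) =
        R.x ^ k * (R.y * R.y ^ n) * (S.p ^ (e * k) * S.p ^ (e * n * k)) by group, ← pow_add,
      show e * k + e * n * k = e * (n + 1) * k by ring]

/-- Products in normal form. -/
theorem elt_mul (i j k l m n : ℕ) : ∃ r, R.elt i j k * R.elt l m n = R.elt (i + l) (j + m) r := by
  obtain ⟨e, he⟩ := R.y_x
  refine ⟨e * j * l + k + n, ?_⟩
  have hpx : ∀ a b : ℕ, Commute (S.p ^ a) (R.x ^ b) := fun a b => R.p_comm_x.pow_pow a b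
  have hpy : ∀ a b : ℕ, Commute (S.p ^ a) (R.y ^ b) := fun a b => R.p_comm_y.pow_pow a b
  unfold elt
  calc R.x ^ i * R.y ^ j * S.p ^ k * (R.x ^ l * R.y ^ m * S.p ^ n)
      = R.x ^ i * R.y ^ j * (S.p ^ k * R.x ^ l) * (R.y ^ m * S.p ^ n) := by group
    _ = R.x ^ i * (R.y ^ j * R.x ^ l) * (S.p ^ k * R.y ^ m) * S.p ^ n := by rw [(hpx k l).eq]; group
    _ = R.x ^ i * (R.x ^ l * R.y ^ j * S.p ^ (e * j * l)) * (R.y ^ m * S.p ^ k) * S.p ^ n := by
        rw [he, (hpy k m).eq]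
    _ = R.x ^ i * R.x ^ l * R.y ^ j * (S.p ^ (e * j * l) * R.y ^ m) * S.p ^ k * S.p ^ n := by group
    _ = R.x ^ i * R.x ^ l * (R.y ^ j * R.y ^ m) * (S.p ^ (e * j * l) * S.p ^ k * S.p ^ n) := by
        rw [(hpy _ m).eq]; group
    _ = _ := by rw [← pow_add, ← pow_add, ← pow_add, ← pow_add]

theorem elt_red (i j k : ℕ) : R.elt i j k = R.elt (i % 3) (j % 3) (k % 3) := by
  have e : ∀ {g : G}, g * g * g = 1 → ∀ a : ℕ, g ^ a = g ^ (a % 3) := fun {g} h a =>
    pow_eq_pow_mod a (by rw [pow_three']; exact h)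
  rw [elt, elt, ← e R.x3, ← e R.y3, ← e S.p_pow]

/-- Every element has order dividing three. -/
theorem elt_cube (i j k : ℕ) : R.elt i j k * R.elt i j k * R.elt i j k = 1 := by
  obtain ⟨e, he⟩ := R.y_x
  unfold elt
  have hpx : ∀ a b : ℕ, Commute (S.p ^ a) (R.x ^ b) := fun a b => R.p_comm_x.pow_pow a b
  have hpy : ∀ a b : ℕ, Commute (S.p ^ a) (R.y ^ b) := fun a b => R.p_comm_y.pow_pow a b
  have hp3 : ∀ a, S.p ^ (3 * a) = 1 := fun a => by rw [pow_mul, pow_three', S.p_pow, one_pow]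
  set u := R.x ^ i
  set v := R.y ^ j
  set s := S.p ^ k
  have hu : u * u * u = 1 := by
    rw [← pow_add, ← pow_add, show i + i + i = 3 * i by ring, pow_mul, pow_three', R.x3, one_pow]
  have hv : v * v * v = 1 := by
    rw [← pow_add, ← pow_add, show j + j + j = 3 * j by ring, pow_mul, pow_three', R.y3, one_pow]
  have hs : s * s * s = 1 := by rw [← pow_add, ← pow_add, show k + k + k = 3 * k by ring, hp3]
  set w := S.p ^ (e * j * i)
  have hw : w * w * w = 1 := by
    rw [← pow_add, ← pow_add, show e * j * i + e * j * i + e * j * i = 3 * (e * j * i) by ring, hp3]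
  have hvu : v * u = u * v * w := he j i
  have hsu : Commute s u := hpx k i
  have hsv : Commute s v := hpy k j
  have hwu : Commute w u := hpx _ i
  have hwv : Commute w v := hpy _ j
  have hsuv : Commute s (u * v) := hsu.mul_right hsv
  have h1 : u * v * (u * v) = u * u * (v * v) * w := by
    calc u * v * (u * v) = u * (v * u) * v := by group
      _ = u * (u * v * w) * v := by rw [hvu]
      _ = u * u * v * (w * v) := by group
      _ = u * u * v * (v * w) := by rw [hwv.eq]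
      _ = _ := by group
  have h2 : v * v * u = u * (v * v) * (w * w) := by
    calc v * v * u = v * (v * u) := by group
      _ = v * (u * v * w) := by rw [hvu]
      _ = (v * u) * (v * w) := by group
      _ = (u * v * w) * (v * w) := by rw [hvu]
      _ = u * v * (w * v) * w := by group
      _ = u * v * (v * w) * w := by rw [hwv.eq]
      _ = _ := by group
  have huv : u * v * (u * v) * (u * v) = 1 := by
    calc u * v * (u * v) * (u * v) = u * u * (v * v) * w * (u * v) := by rw [h1]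
      _ = u * u * (v * v) * (w * u) * v := by group
      _ = u * u * (v * v) * (u * w) * v := by rw [hwu.eq]
      _ = u * u * (v * v * u) * (w * v) := by group
      _ = u * u * (u * (v * v) * (w * w)) * (v * w) := by rw [h2, hwv.eq]
      _ = u * u * u * (v * v) * ((w * w) * v) * w := by group
      _ = u * u * u * (v * v) * (v * (w * w)) * w := by rw [(hwv.mul_left hwv).eq]
      _ = u * u * u * (v * v * v) * (w * w * w) := by group
      _ = 1 := by rw [hu, hv, hw]; group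
  calc u * v * s * (u * v * s) * (u * v * s) = (u * v * s) ^ 3 := (pow_three' _).symm
    _ = (u * v) ^ 3 * s ^ 3 := hsuv.symm.mul_pow 3
    _ = 1 := by rw [pow_three', pow_three', huv, hs, one_mul]

variable [Finite G]

/-- The Sylow three-subgroup. -/
def grp : Subgroup G where
  carrier := {g | ∃ i j k : ℕ, g = R.elt i j k}
  one_mem' := ⟨0, 0, 0, by simp [elt]⟩
  mul_mem' := by
    rintro _ _ ⟨i, j, k, rfl⟩ ⟨l, m, n, rfl⟩
    obtain ⟨r, e⟩ := R.elt_mul i j k l m n
    exact ⟨_, _, r, e⟩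
  inv_mem' := by
    rintro _ ⟨i, j, k, rfl⟩
    obtain ⟨r, e⟩ := R.elt_mul i j k i j k
    exact ⟨i + i, j + j, r, by rw [← e]; exact inv_eq_of_mul_eq_one_right (by rw [← mul_assoc]; exact R.elt_cube i j k)⟩

theorem mem_grp {g : G} : g ∈ R.grp ↔ ∃ i j k : ℕ, g = R.elt i j k := Iff.rfl

theorem x_mem_grp : R.x ∈ R.grp := ⟨1, 0, 0, by simp [elt]⟩

theorem y_mem_grp : R.y ∈ R.grp := ⟨0, 1, 0, by simp [elt]⟩

theorem p_mem_grp : S.p ∈ R.grp := ⟨0, 0, 1, by simp [elt]⟩

theorem grp_le : R.grp ≤ CP z P := by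
  rintro _ ⟨i, j, k, rfl⟩
  exact mul_mem (mul_mem (pow_mem R.x_mem i) (pow_mem R.y_mem j)) (pow_mem S.p_mem k)

theorem ψ_elt (i j k : ℕ) : S.ψ (R.elt i j k) = wordπ (threeWord i j) := by
  rw [elt, S.ψ_mul _ (mul_mem (pow_mem R.x_mem i) (pow_mem R.y_mem j)) _ (pow_mem S.p_mem k),
    S.ψ_mul _ (pow_mem R.x_mem i) _ (pow_mem R.y_mem j), S.ψ_pow R.x_mem, S.ψ_pow R.y_mem, S.ψ_pow S.p_mem, S.ψ_p,
    one_pow, mul_one, R.x_ψ, R.y_ψ]
  simp [threeWord, wordπ]

theorem ψ_mem_nine {g : G} (hg : g ∈ R.grp) : S.ψ g ∈ nineGrp := by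
  obtain ⟨i, j, k, rfl⟩ := hg
  rw [R.elt_red i j k, R.ψ_elt]
  exact ⟨i % 3, Nat.mod_lt _ (by norm_num), j % 3, Nat.mod_lt _ (by norm_num), rfl⟩

theorem grp_cube {g : G} (hg : g ∈ R.grp) : g * g * g = 1 := by
  obtain ⟨i, j, k, rfl⟩ := hg
  exact R.elt_cube i j k

theorem kernel_cube {u : G} (hu : u ∈ CP z P) (h : S.ψ u = 1) (h3 : u * u * u = 1) : ∃ k : ℕ, u = S.p ^ k := by
  rcases S.ker_nine hu h (by rw [show (9 : ℕ) = 3 * 3 from rfl, pow_mul, pow_three' u, h3, one_pow]) with e | e | e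
  · exact ⟨0, by rw [pow_zero, e]⟩
  · exact ⟨1, by rw [pow_one, e]⟩
  · exact ⟨2, by rw [pow_two, e]⟩

/-- Membership by the image. -/
theorem mem_grp_iff {c : G} : c ∈ R.grp ↔ c ∈ CP z P ∧ S.ψ c ∈ nineGrp ∧ c * c * c = 1 := by
  refine ⟨fun h => ⟨R.grp_le h, R.ψ_mem_nine h, R.grp_cube h⟩, ?_⟩
  rintro ⟨hc, ⟨i, -, j, -, e⟩, h3⟩
  set d := R.elt i j 0
  have hdC : d ∈ CP z P := R.grp_le ⟨i, j, 0, rfl⟩
  have hd : d ∈ R.grp := ⟨i, j, 0, rfl⟩
  have hu : d⁻¹ * c ∈ CP z P := mul_mem (inv_mem hdC) hc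
  have hψ : S.ψ (d⁻¹ * c) = 1 := by
    rw [S.ψ_mul _ (inv_mem hdC) _ hc, S.ψ_inv hdC, R.ψ_elt, e, inv_mul_cancel]
  have hcom : Commute (d⁻¹ * c) d := S.ker_central hu hψ hdC
  obtain ⟨k, hk⟩ := kernel_cube hu hψ (by
    rw [← pow_three', ← one_mul ((d⁻¹ * c) ^ 3), ← R.grp_cube hd, ← pow_three', ← hcom.symm.mul_pow,
      mul_inv_cancel_left, pow_three', h3, pow_three', R.grp_cube hd])
  rw [show c = d * (d⁻¹ * c) by group, hk]
  exact mul_mem hd (pow_mem R.p_mem_grp k)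

theorem card_grp : Nat.card ↥R.grp = 27 := by
  rw [show (27 : ℕ) = Nat.card (Fin 3 × Fin 3 × Fin 3) by simp]
  refine (Nat.card_eq_of_bijective (fun u : Fin 3 × Fin 3 × Fin 3 =>
    (⟨R.elt u.1 u.2.1 u.2.2, _, _, _, rfl⟩ : ↥R.grp)) ⟨?_, ?_⟩).symm
  · rintro ⟨a, b, c⟩ ⟨a', b', c'⟩ e
    have e' : R.elt a b c = R.elt a' b' c' := congrArg Subtype.val e
    have hw := congrArg S.ψ e'
    rw [R.ψ_elt, R.ψ_elt] at hw
    have h := List.all_eq_true.1 (List.all_eq_true.1 (List.all_eq_true.1 (List.all_eq_true.1 nine_check.1 a.1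
      (List.mem_range.2 a.2)) b.1 (List.mem_range.2 b.2)) a'.1 (List.mem_range.2 a'.2)) b'.1 (List.mem_range.2 b'.2)
    simp only [Bool.and_eq_true, Bool.or_eq_true, beq_iff_eq, bne_iff_ne] at h
    obtain ⟨ha, hb⟩ := h.2.resolve_right fun g => g (wordπ_inj_get hw)
    obtain rfl := Fin.ext ha
    obtain rfl := Fin.ext hb
    have hk : S.p ^ c.1 = S.p ^ c'.1 := mul_left_cancel e'
    have hp3 : orderOf S.p = 3 := by
      haveI : Fact (Nat.Prime 3) := ⟨Nat.prime_three⟩
      exact orderOf_eq_prime (by rw [pow_three']; exact S.p_pow) S.p_ne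
    have hc : c.1 = c'.1 := pow_injOn_Iio_orderOf (by rw [hp3]; exact c.2) (by rw [hp3]; exact c'.2) hk
    rw [Fin.ext hc]
  · rintro ⟨g, i, j, k, rfl⟩
    refine ⟨(⟨i % 3, Nat.mod_lt _ (by norm_num)⟩, ⟨j % 3, Nat.mod_lt _ (by norm_num)⟩,
      ⟨k % 3, Nat.mod_lt _ (by norm_num)⟩), Subtype.ext ?_⟩
    exact (R.elt_red i j k).symm

theorem x_comm_y_ne : R.y * R.x ≠ R.x * R.y := fun h => S.three_not_comm R.x_mem R.y_mem R.x_ψ R.y_ψ h.symm

/-- The centre is the three-group. -/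
theorem grp_center {g : G} (hg : g ∈ R.grp) (h : ∀ r ∈ R.grp, r * g = g * r) : g ∈ P := by
  obtain ⟨e, he⟩ := R.y_x
  obtain ⟨i, j, k, rfl⟩ := hg
  rw [R.elt_red] at h ⊢
  have hi : i % 3 < 3 := Nat.mod_lt _ (by norm_num)
  have hj : j % 3 < 3 := Nat.mod_lt _ (by norm_num)
  generalize i % 3 = a at hi h
  generalize j % 3 = b at hj h
  generalize k % 3 = c at h
  have hpx : Commute (S.p ^ c) R.x := R.p_comm_x.pow_left c
  have hpy : Commute (S.p ^ c) R.y := R.p_comm_y.pow_left c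
  have hx := h R.x R.x_mem_grp
  have hy := h R.y R.y_mem_grp
  unfold elt at hx hy
  have hxab : Commute R.x (R.x ^ a * R.y ^ b) := by
    have h' : R.x * (R.x ^ a * R.y ^ b) * S.p ^ c = R.x ^ a * R.y ^ b * R.x * S.p ^ c := by
      rw [mul_assoc _ R.x (S.p ^ c), ← hpx.eq, ← mul_assoc _ (S.p ^ c) R.x, ← hx]; group
    exact mul_right_cancel h'
  have hyab : Commute R.y (R.x ^ a * R.y ^ b) := by
    have h' : R.y * (R.x ^ a * R.y ^ b) * S.p ^ c = R.x ^ a * R.y ^ b * R.y * S.p ^ c := by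
      rw [mul_assoc _ R.y (S.p ^ c), ← hpy.eq, ← mul_assoc _ (S.p ^ c) R.y, ← hy]; group
    exact mul_right_cancel h'
  have hb0 : b = 0 := by
    have hxb : Commute R.x (R.y ^ b) := by
      have := (Commute.pow_self R.x a).symm.inv_right.mul_right hxab
      rwa [inv_mul_cancel_left] at this
    interval_cases b
    · rfl
    · rw [pow_one] at hxb; exact absurd hxb.eq.symm R.x_comm_y_ne
    · have h2 : Commute R.x (R.y ^ 2 * R.y ^ 2) := hxb.mul_right hxb
      rw [← pow_add, show 2 + 2 = 3 + 1 from rfl, pow_succ, pow_three', R.y3, one_mul] at h2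
      exact absurd h2.eq.symm R.x_comm_y_ne
  subst hb0
  have ha0 : a = 0 := by
    rw [pow_zero, mul_one] at hyab
    interval_cases a
    · rfl
    · rw [pow_one] at hyab; exact absurd hyab.eq R.x_comm_y_ne
    · have h2 : Commute R.y (R.x ^ 2 * R.x ^ 2) := hyab.mul_right hyab
      rw [← pow_add, show 2 + 2 = 3 + 1 from rfl, pow_succ, pow_three', R.x3, one_mul] at h2
      exact absurd h2.eq R.x_comm_y_ne
  subst ha0
  unfold elt
  rw [pow_zero, pow_zero, one_mul, one_mul]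
  exact pow_mem S.p_in_P _

/-- The normaliser normalises the three-group. -/
theorem normalizer_grp_le : Subgroup.normalizer (R.grp : Set G) ≤ Subgroup.normalizer (P : Set G) := by
  intro n hn
  refine Subgroup.mem_normalizer_fintype fun q hq => ?_
  obtain ⟨i, rfl⟩ := Subgroup.mem_zpowers_iff.1 (S.mem_P.1 hq)
  rw [← conj_zpow]
  refine zpow_mem (R.grp_center ((Subgroup.mem_normalizer_iff.1 hn _).1 R.p_mem_grp) fun r hr => ?_) i
  have hr' : n⁻¹ * r * n ∈ R.grp := (Subgroup.mem_normalizer_iff''.1 hn r).1 hr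
  have hc := (S.mem_iff.1 (R.grp_le hr')).2
  calc r * (n * S.p * n⁻¹) = n * ((n⁻¹ * r * n) * S.p) * n⁻¹ := by group
    _ = n * (S.p * (n⁻¹ * r * n)) * n⁻¹ := by rw [hc]
    _ = _ := by group

theorem grp_isPGroup : IsPGroup 3 ↥R.grp := IsPGroup.of_card (n := 3) (by rw [R.card_grp]; norm_num)

end Three

namespace Frame

variable [Finite G] (Fr : Frame S) [IsSimpleGroup G] (hG : ¬ IsMulCommutative G)
include hG

include Fr in
theorem grp_maximal (R : Three S) {Q : Subgroup G} (hQ : IsPGroup 3 ↥Q) (hle : R.grp ≤ Q) : Q = R.grp := by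
  haveI : Fact (Nat.Prime 3) := ⟨Nat.prime_three⟩
  by_contra hne
  haveI := hQ.isNilpotent
  have hlt : R.grp.subgroupOf Q < ⊤ := lt_top_iff_ne_top.2 fun e => hne
    (le_antisymm (Subgroup.subgroupOf_eq_top.1 e) hle)
  obtain ⟨x, hx, hxn⟩ := SetLike.exists_of_lt (Group.normalizerCondition_of_isNilpotent (R.grp.subgroupOf Q) hlt)
  have hxN : (x : G) ∈ Subgroup.normalizer (R.grp : Set G) :=
    Subgroup.mem_normalizer_fintype fun y hy => (Subgroup.mem_normalizer_iff.1 hx ⟨y, hle hy⟩).1 hy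
  set K := Q ⊓ Subgroup.centralizer ({z} : Set G) with hK
  have hTK : R.grp ≤ K := le_inf hle (le_trans R.grp_le inf_le_left)
  have hxK : (x : G) ∈ K := ⟨x.2, Fr.normalizer_P_le hG (R.normalizer_grp_le hxN)⟩
  obtain ⟨n, hn⟩ := IsPGroup.iff_card.1 (hQ.to_le (inf_le_left : K ≤ Q))
  have hdvd := Subgroup.card_dvd_of_le (inf_le_right : K ≤ Subgroup.centralizer ({z} : Set G))
  rw [hn, S.card_H] at hdvd
  have hn3 : n ≤ 3 := by
    by_contra hc
    have : 3 ^ 4 ∣ 2 ^ 21 * 10395 := (Nat.pow_dvd_pow 3 (by omega)).trans hdvd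
    norm_num at this
  have hxT : (x : G) ∉ R.grp := hxn
  refine hxT ?_
  rw [Subgroup.eq_of_le_of_card_ge hTK (by
    rw [hn, R.card_grp, show (27 : ℕ) = 3 ^ 3 from rfl]; exact Nat.pow_le_pow_right (by norm_num) hn3)]
  exact hxK

/-- It is a Sylow subgroup of the whole group. -/
def sylowThree (R : Three S) : Sylow 3 G where
  toSubgroup := R.grp
  isPGroup' := R.grp_isPGroup
  is_maximal' := fun hQ hle => Fr.grp_maximal hG R hQ hle

include Fr in
/-- Elements of order three are conjugate to the generator. -/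
theorem isConj_p {g : G} (hg : orderOf g = 3) : IsConj g S.p := by
  haveI : Fact (Nat.Prime 3) := ⟨Nat.prime_three⟩
  set R := Fr.F.R
  have hpp : IsConj (S.p * S.p) S.p := (isConj_iff.2 ⟨S.o, S.op⟩).symm
  have hto : ∀ r ∈ R.grp, r ≠ 1 → (r = S.p ∨ r = S.p * S.p) ∨ (IsConj r R.x ∧ r ∉ P) := by
    intro r hr hr1
    by_cases hψ : S.ψ r = 1
    · obtain ⟨k, hk⟩ := Three.kernel_cube (R.grp_le hr) hψ (R.grp_cube hr)
      rcases pow_three_cases S.p_pow k with e | e | e <;> rw [e] at hk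
      exacts [absurd hk hr1, Or.inl (Or.inl hk), Or.inl (Or.inr hk)]
    refine Or.inr ⟨?_, fun hP => hψ ?_⟩
    swap
    · obtain ⟨i, hi⟩ := (isOfFinOrder_of_finite S.p).mem_powers_iff_mem_zpowers.2 (S.mem_P.1 hP)
      have hi' : S.p ^ i = r := hi
      rw [← hi', S.ψ_pow S.p_mem, S.ψ_p, one_pow]
    obtain ⟨h, hh, e, -⟩ := nine_conj (R.ψ_mem_nine hr) hψ
    obtain ⟨d, hd, rfl⟩ := S.ψ_surj h hh
    have hdr : d * r * d⁻¹ ∈ CP z P := mul_mem (mul_mem hd (R.grp_le hr)) (inv_mem hd)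
    have hψd : S.ψ (d * r * d⁻¹) = S.ψ R.x := by rw [S.ψ_conj hd (R.grp_le hr), R.x_ψ, e]
    have hu : R.x⁻¹ * (d * r * d⁻¹) ∈ CP z P := mul_mem (inv_mem R.x_mem) hdr
    have hψu : S.ψ (R.x⁻¹ * (d * r * d⁻¹)) = 1 := by
      rw [S.ψ_mul _ (inv_mem R.x_mem) _ hdr, S.ψ_inv R.x_mem, hψd, inv_mul_cancel]
    have hcom : Commute (R.x⁻¹ * (d * r * d⁻¹)) R.x := S.ker_central hu hψu R.x_mem
    have h3 : (d * r * d⁻¹) * (d * r * d⁻¹) * (d * r * d⁻¹) = 1 := by
      rw [show d * r * d⁻¹ * (d * r * d⁻¹) * (d * r * d⁻¹) = d * (r * r * r) * d⁻¹ by group, R.grp_cube hr]; group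
    have hmem : d * r * d⁻¹ ∈ R.grp :=
      R.mem_grp_iff.2 ⟨hdr, by rw [hψd, R.x_ψ]; exact x0_mem, h3⟩
    have hx3 : (R.x⁻¹ * (d * r * d⁻¹)) ^ 3 = 1 := by
      rw [show R.x⁻¹ * (d * r * d⁻¹) = (d * r * d⁻¹) * R.x⁻¹ from by
        have := hcom.inv_right.eq
        calc R.x⁻¹ * (d * r * d⁻¹) = R.x * (R.x⁻¹ * (R.x⁻¹ * (d * r * d⁻¹))) := by group
          _ = R.x * ((R.x⁻¹ * (d * r * d⁻¹)) * R.x⁻¹) := by rw [this]
          _ = _ := by group]
      have hc' : Commute (d * r * d⁻¹) R.x⁻¹ := by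
        have h1 : Commute (R.x * (R.x⁻¹ * (d * r * d⁻¹))) R.x⁻¹ :=
          (Commute.refl R.x).inv_right.mul_left hcom.inv_right
        rwa [mul_inv_cancel_left] at h1
      rw [hc'.mul_pow, pow_three', h3, one_mul, inv_pow, pow_three', R.x3, inv_one]
    obtain ⟨k, hk⟩ := Three.kernel_cube hu hψu (by rw [← pow_three']; exact hx3)
    have hy : ∀ m : ℕ, IsConj (R.x * R.t ^ m) R.x := fun m => by
      refine (isConj_iff.2 ⟨R.y ^ m, ?_⟩).symm
      induction m with
      | zero => simp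
      | succ n ih =>
        have ht : Commute R.y (R.t ^ n) := by
          refine Commute.pow_right ?_ n
          rcases R.t_p with e | e <;> rw [e]
          · exact R.p_comm_y.symm
          · exact R.p_comm_y.symm.mul_right R.p_comm_y.symm
        have hyx : R.y * R.x * R.y⁻¹ = R.x * R.t := by
          rw [R.t_eq, show R.t * (R.x * R.y) * R.y⁻¹ = R.t * R.x by group]
          rcases R.t_p with e | e <;> rw [e]
          · exact R.p_comm_x.eq
          · exact (R.p_comm_x.mul_left R.p_comm_x).eq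
        rw [pow_succ', show R.y * R.y ^ n * R.x * (R.y * R.y ^ n)⁻¹ = R.y * (R.y ^ n * R.x * (R.y ^ n)⁻¹) * R.y⁻¹ by
          group, ih, show R.y * (R.x * R.t ^ n) * R.y⁻¹ = R.y * R.x * (R.t ^ n * R.y⁻¹) by group,
          ← ht.inv_left.eq, ← mul_assoc, hyx, pow_succ']
        group
    obtain ⟨e0, he0, hcase⟩ := R.t_pow
    have hrd : IsConj r (d * r * d⁻¹) := isConj_iff.2 ⟨d, rfl⟩
    refine hrd.trans ?_
    rw [show d * r * d⁻¹ = R.x * (R.x⁻¹ * (d * r * d⁻¹)) by group, hk]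
    rcases hcase with rfl | rfl
    · have := hy k
      rwa [he0, pow_one] at this
    · have := hy (2 * k)
      rwa [he0, ← pow_mul, show 2 * (2 * k) = 3 * k + k by ring, pow_add, pow_mul, pow_three', S.p_pow, one_pow,
        one_mul] at this
  -- a conjugate of the generator outside the three-group
  obtain ⟨k, hk, ek⟩ := Fr.exists_conj_b hG
  set q := k⁻¹ * S.p * k with hq
  have hq3 : orderOf q = 3 := by
    refine orderOf_eq_prime ?_ fun e => S.p_ne ?_
    · rw [pow_three', hq, show k⁻¹ * S.p * k * (k⁻¹ * S.p * k) * (k⁻¹ * S.p * k) = k⁻¹ * (S.p * S.p * S.p) * k by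
        group, S.p_pow]
      group
    · calc S.p = k * q * k⁻¹ := by rw [hq]; group
        _ = 1 := by rw [e]; group
  have hqz : q * z = z * q := by
    have hu : Commute S.p (Fr.X.b 1 * z) :=
      ((S.mem_iff.1 (mul_mem (Fr.X.mem 1 (by norm_num)) S.z_mem)).2).symm
    rw [← ek] at hu
    calc q * z = k⁻¹ * (S.p * (k * z * k⁻¹)) * k := by rw [hq]; group
      _ = k⁻¹ * ((k * z * k⁻¹) * S.p) * k := by rw [hu.eq]
      _ = _ := by rw [hq]; group
  obtain ⟨Q, hQ⟩ := (IsPGroup.of_card (p := 3) (n := 1) (G := ↥(Subgroup.zpowers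
    (⟨q, Subgroup.mem_centralizer_singleton_iff.2 hqz⟩ : ↥(Subgroup.centralizer ({z} : Set G))))) (by
      rw [Nat.card_zpowers, ← Subgroup.orderOf_coe, pow_one]; exact hq3)).exists_le_sylow
  have hRH : R.grp ≤ Subgroup.centralizer ({z} : Set G) := le_trans R.grp_le inf_le_left
  let T' : Sylow 3 ↥(Subgroup.centralizer ({z} : Set G)) := Sylow.ofCard (R.grp.subgroupOf _) (by
    rw [Nat.card_congr (Subgroup.subgroupOfEquivOfLe hRH).toEquiv, R.card_grp, S.card_H]
    have h1 : 3 ^ 3 ∣ 2 ^ 21 * 10395 := by norm_num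
    have h2 : ¬ 3 ^ 4 ∣ 2 ^ 21 * 10395 := by norm_num
    rw [Nat.Prime.pow_dvd_iff_le_factorization Nat.prime_three (by norm_num)] at h1 h2
    rw [show (2 ^ 21 * 10395 : ℕ).factorization 3 = 3 by omega]; norm_num)
  obtain ⟨h, hh⟩ := MulAction.exists_smul_eq ↥(Subgroup.centralizer ({z} : Set G)) Q T'
  have h1 := Subgroup.smul_mem_pointwise_smul _ (MulAut.conj h) _ (hQ (Subgroup.mem_zpowers
    (⟨q, Subgroup.mem_centralizer_singleton_iff.2 hqz⟩ : ↥(Subgroup.centralizer ({z} : Set G)))))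
  change _ ∈ ((h • Q : Sylow 3 ↥(Subgroup.centralizer ({z} : Set G))) :
    Subgroup ↥(Subgroup.centralizer ({z} : Set G))) at h1
  rw [hh, Sylow.coe_ofCard, Subgroup.mem_subgroupOf] at h1
  change (h : G) * q * (h : G)⁻¹ ∈ R.grp at h1
  have hnP : (h : G) * q * (h : G)⁻¹ ∉ P := fun hP => by
    have hN : (h : G) * k⁻¹ ∈ Subgroup.normalizer (P : Set G) := Subgroup.mem_normalizer_fintype fun a ha => by
      obtain ⟨i, rfl⟩ := Subgroup.mem_zpowers_iff.1 (S.mem_P.1 ha)
      rw [← conj_zpow]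
      refine zpow_mem ?_ i
      rw [show (h : G) * k⁻¹ * S.p * ((h : G) * k⁻¹)⁻¹ = (h : G) * (k⁻¹ * S.p * k) * (h : G)⁻¹ by group]
      exact hP
    have hz := mul_mem (inv_mem (Fr.normalizer_P_le hG hN)) h.2
    rw [show ((h : G) * k⁻¹)⁻¹ * (h : G) = k by group, Subgroup.mem_centralizer_singleton_iff] at hz
    rw [hz, mul_inv_cancel_right] at ek
    exact Fr.b_not_E (k := 1) (by norm_num) one_ne_zero (by
      rw [mul_eq_right.1 ek.symm]
      exact one_mem _)
  have hne1 : (h : G) * q * (h : G)⁻¹ ≠ 1 := fun e => hnP (e ▸ one_mem _)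
  have hxp : IsConj R.x S.p := by
    rcases hto _ h1 hne1 with e | ⟨e, -⟩
    · rcases e with e | e <;> exact absurd (e ▸ (by first | exact S.p_in_P | exact mul_mem S.p_in_P S.p_in_P)) hnP
    · exact e.symm.trans ((isConj_iff.2 ⟨(h : G), rfl⟩ : IsConj q _).symm.trans
        (isConj_iff.2 ⟨k, by rw [hq]; group⟩))
  -- into the Sylow subgroup
  obtain ⟨U, hU⟩ := (IsPGroup.of_card (p := 3) (n := 1) (G := ↥(Subgroup.zpowers g))
    (by rw [Nat.card_zpowers, hg, pow_one])).exists_le_sylow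
  obtain ⟨m, hm⟩ := MulAction.exists_smul_eq G U (Fr.sylowThree hG R)
  have hgR : m * g * m⁻¹ ∈ R.grp := by
    have h2 := Subgroup.smul_mem_pointwise_smul _ (MulAut.conj m) _ (hU (Subgroup.mem_zpowers g))
    change _ ∈ ((m • U : Sylow 3 G) : Subgroup G) at h2
    rw [hm] at h2
    exact h2
  have hg1 : m * g * m⁻¹ ≠ 1 := fun e => by
    rw [conj_eq_one_iff.1 e, orderOf_one] at hg
    omega
  refine (isConj_iff.2 ⟨m, rfl⟩ : IsConj g _).trans ?_
  rcases hto _ hgR hg1 with (e | e) | ⟨e, -⟩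
  · rw [e]
  · rw [e]; exact hpp
  · exact e.trans hxp

include Fr in
/-- The normaliser of the Sylow subgroup. -/
theorem card_normalizer_grp (R : Three S) : Nat.card ↥(Subgroup.normalizer (R.grp : Set G)) = 864 := by
  classical
  haveI : Fact (Nat.Prime 3) := ⟨Nat.prime_three⟩
  set N := Subgroup.normalizer (R.grp : Set G) with hN
  set C := CP z P with hC
  set f := Frame.ψH (S := S) with hf
  set M := (Cfsg.Spor.M22 ⊓ Subgroup.normalizer (nineGrp : Set (Equiv.Perm GolayPt))).subgroupOf Cfsg.Spor.M22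
  have hcomap : M.comap f = N.subgroupOf C := by
    ext c
    rw [Subgroup.mem_comap, Subgroup.mem_subgroupOf, Subgroup.mem_subgroupOf]
    show S.ψ c ∈ Cfsg.Spor.M22 ⊓ _ ↔ _
    constructor
    · rintro ⟨-, hn⟩
      refine Subgroup.mem_normalizer_fintype fun r hr => ?_
      obtain ⟨hrC, hrψ, hr3⟩ := R.mem_grp_iff.1 hr
      refine R.mem_grp_iff.2 ⟨mul_mem (mul_mem c.2 hrC) (inv_mem c.2), ?_, ?_⟩
      · rw [S.ψ_conj c.2 hrC]
        exact (Subgroup.mem_normalizer_iff.1 hn _).1 hrψ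
      · rw [show (c : G) * r * (c : G)⁻¹ * ((c : G) * r * (c : G)⁻¹) * ((c : G) * r * (c : G)⁻¹) =
          (c : G) * (r * r * r) * (c : G)⁻¹ by group, hr3]
        group
    · intro hn
      refine ⟨S.ψ_mem c c.2, Subgroup.mem_normalizer_fintype fun a ha => ?_⟩
      obtain ⟨i, -, j, -, rfl⟩ := ha
      have hm : (c : G) * R.elt i j 0 * (c : G)⁻¹ ∈ R.grp :=
        (Subgroup.mem_normalizer_iff.1 hn _).1 ⟨i, j, 0, rfl⟩
      have := R.ψ_mem_nine hm
      rwa [S.ψ_conj c.2 (R.grp_le ⟨i, j, 0, rfl⟩), R.ψ_elt] at this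
  have h432 : Nat.card ↥(N.subgroupOf C) = 432 := by
    have hidx := Subgroup.index_comap_of_surjective M (f := f) Frame.ψH_surjective
    have h1 := Subgroup.card_mul_index (M.comap f)
    have h2 := Subgroup.card_mul_index M
    rw [hidx, S.cardC] at h1
    rw [Fus.Mathieu.card22, Nat.card_congr (Subgroup.subgroupOfEquivOfLe inf_le_left).toEquiv,
      card_normalizer_nine] at h2
    rw [hcomap] at h1
    have hi : M.index = 6160 := by omega
    rw [hi] at h1
    exact Nat.eq_of_mul_eq_mul_right (by norm_num : 0 < 6160) (h1.trans (by norm_num))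
  -- an outer element
  obtain ⟨a, haN, haC⟩ : ∃ a ∈ N, a ∉ C := by
    have ho : R.grp.map (MulAut.conj S.o).toMonoidHom ≤ C := by
      rintro _ ⟨r, hr, rfl⟩
      exact Fr.F.toCoord.o_conj_mem (R.grp_le hr)
    let T0 : Sylow 3 ↥C := Sylow.ofCard (R.grp.subgroupOf C) (by
      rw [Nat.card_congr (Subgroup.subgroupOfEquivOfLe R.grp_le).toEquiv, R.card_grp, S.cardC]
      have h1 : 3 ^ 3 ∣ 6 * 443520 := by norm_num
      have h2 : ¬ 3 ^ 4 ∣ 6 * 443520 := by norm_num
      rw [Nat.Prime.pow_dvd_iff_le_factorization Nat.prime_three (by norm_num)] at h1 h2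
      rw [show (6 * 443520 : ℕ).factorization 3 = 3 by omega]; norm_num)
    obtain ⟨Q, hQ⟩ := (IsPGroup.of_card (p := 3) (n := 3)
      (G := ↥((R.grp.map (MulAut.conj S.o).toMonoidHom).subgroupOf C)) (by
        rw [Nat.card_congr (Subgroup.subgroupOfEquivOfLe ho).toEquiv,
          Subgroup.card_map_of_injective (MulAut.conj S.o).injective, R.card_grp]; norm_num)).exists_le_sylow
    obtain ⟨c, hc⟩ := MulAction.exists_smul_eq ↥C Q T0
    refine ⟨(c : G) * S.o, Subgroup.mem_normalizer_fintype fun r hr => ?_, fun h => ?_⟩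
    · have hm : (⟨S.o * r * S.o⁻¹, ho ⟨r, hr, rfl⟩⟩ : ↥C) ∈ (R.grp.map (MulAut.conj S.o).toMonoidHom).subgroupOf C :=
        Subgroup.mem_subgroupOf.2 ⟨r, hr, rfl⟩
      have h1 := Subgroup.smul_mem_pointwise_smul _ (MulAut.conj c) _ (hQ hm)
      change _ ∈ ((c • Q : Sylow 3 ↥C) : Subgroup ↥C) at h1
      rw [hc, Sylow.coe_ofCard, Subgroup.mem_subgroupOf] at h1
      change (c : G) * (S.o * r * S.o⁻¹) * (c : G)⁻¹ ∈ R.grp at h1
      rwa [show (c : G) * S.o * r * ((c : G) * S.o)⁻¹ = (c : G) * (S.o * r * S.o⁻¹) * (c : G)⁻¹ by group]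
    · have ho' : S.o ∈ C := by
        have := mul_mem (inv_mem c.2) h
        rwa [inv_mul_cancel_left] at this
      have := S.op
      rw [(S.mem_iff.1 ho').2, mul_inv_cancel_right] at this
      exact S.p_ne (left_eq_mul.1 this)
  have haz : a * z = z * a := Subgroup.mem_centralizer_singleton_iff.1
    (Fr.normalizer_P_le hG (R.normalizer_grp_le haN))
  have hidx2 : C.relIndex N = 2 := by
    rw [Subgroup.relIndex, Subgroup.index_eq_two_iff]
    refine ⟨⟨a, haN⟩, fun b => ?_⟩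
    simp only [Subgroup.mem_subgroupOf, Subgroup.coe_mul]
    have hb := R.normalizer_grp_le b.2
    have hbz := Subgroup.mem_centralizer_singleton_iff.1 (Fr.normalizer_P_le hG hb)
    by_cases hbC : (b : G) ∈ C
    · exact Or.inr ⟨hbC, fun h => haC (by simpa using mul_mem (inv_mem hbC) h)⟩
    · refine Or.inl ⟨?_, hbC⟩
      have hpn : ∀ {n : G}, n ∈ Subgroup.normalizer (P : Set G) → n * S.p * n⁻¹ ∈ P := fun hn =>
        (Subgroup.mem_normalizer_iff.1 hn S.p).1 S.p_in_P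
      have h1 := (S.norm_cases _ hbz (hpn hb)).resolve_left hbC
      have h2 := (S.norm_cases _ haz (hpn (R.normalizer_grp_le haN))).resolve_left haC
      have h3 : S.o * ((b : G) * S.o) * S.o⁻¹ ∈ C := Fr.F.toCoord.o_conj_mem h1
      have h4 : (b : G) * a⁻¹ ∈ C := by
        have := mul_mem h1 (inv_mem h2)
        rwa [show (b : G) * S.o * (a * S.o)⁻¹ = (b : G) * a⁻¹ by group] at this
      have h5 : a * a ∈ C := by
        have hnn := mul_mem (R.normalizer_grp_le haN) (R.normalizer_grp_le haN)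
        refine S.mem_iff.2 ⟨((show Commute a z from haz).mul_left haz).eq, ?_⟩
        have hap : a * S.p * a⁻¹ = S.p * S.p := by
          have hap' := hpn (R.normalizer_grp_le haN)
          obtain ⟨i, hi⟩ := (isOfFinOrder_of_finite S.p).mem_powers_iff_mem_zpowers.2 (S.mem_P.1 hap')
          have hi' : S.p ^ i = a * S.p * a⁻¹ := hi
          rcases pow_three_cases S.p_pow i with e | e | e
          · exact absurd (conj_eq_one_iff.1 (hi'.symm.trans e)) S.p_ne
          · exact absurd (S.mem_iff.2 ⟨haz, mul_inv_eq_iff_eq_mul.1 (hi'.symm.trans e)⟩) haC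
          · exact hi'.symm.trans e
        rw [← mul_inv_eq_iff_eq_mul]
        calc a * a * S.p * (a * a)⁻¹ = a * (a * S.p * a⁻¹) * a⁻¹ := by group
          _ = a * (S.p * S.p) * a⁻¹ := by rw [hap]
          _ = (a * S.p * a⁻¹) * (a * S.p * a⁻¹) := by group
          _ = S.p * S.p * S.p * S.p := by rw [hap]; group
          _ = S.p := by rw [S.p_pow, one_mul]
      have := mul_mem h4 h5
      rwa [show (b : G) * a⁻¹ * (a * a) = (b : G) * a by group] at this
  have h : Nat.card ↥(C.subgroupOf N) * C.relIndex N = Nat.card ↥N := Subgroup.card_mul_index _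
  have he : Nat.card ↥(C.subgroupOf N) = Nat.card ↥(N.subgroupOf C) := by
    rw [← Subgroup.inf_subgroupOf_right N C, ← Subgroup.inf_subgroupOf_right C N,
      Nat.card_congr (Subgroup.subgroupOfEquivOfLe inf_le_right).toEquiv,
      Nat.card_congr (Subgroup.subgroupOfEquivOfLe inf_le_right).toEquiv, inf_comm]
  rw [he, h432, hidx2] at h
  omega

end Frame

end Cfsg.Agent.Spor.JFour
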