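import Cfsg.Agent.Lib.Spor.JFourType.ATwo

/-!
The Sylow two-subgroup of the centraliser is one of the whole group; its unique elementary abelian subgroup of
order 2¹¹.
-/

set_option autoImplicit false
set_option maxRecDepth 100000
set_option linter.style.haveILetI false

open Cfsg Cfsg.Agent.Spor.Golay
open scoped Pointwise

namespace Cfsg.Agent.Spor.JFour

variable {G : Type*} [Group G] {z : G} {P : Subgroup G}

namespace Full

variable {S : Setting z P} (F : Full S) [Finite G]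

/-- The centre. -/
theorem T_center {c : G} (hc : c ∈ F.T) (h : ∀ t ∈ F.T, t * c = c * t) : c = 1 ∨ c = z := by
  have hE : c ∈ twoCoreOfCentralizer z := S.ext.self c fun q hq => h q (F.E_le_T hq)
  exact S.ext.cen c hE fun q hq => h q (F.E_le_T hq)

/-- The normaliser fixes the involution. -/
theorem T_normalizer_le : Subgroup.normalizer (F.T : Set G) ≤ Subgroup.centralizer ({z} : Set G) := by
  intro n hn
  rw [Subgroup.mem_centralizer_singleton_iff]
  have hzT : z ∈ F.T := F.E_le_T S.ext.mem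
  have hm := (Subgroup.mem_normalizer_iff.1 hn z).1 hzT
  have hcent : ∀ t ∈ F.T, t * (n * z * n⁻¹) = n * z * n⁻¹ * t := fun t ht => by
    have ht' : n⁻¹ * t * n ∈ F.T := (Subgroup.mem_normalizer_iff''.1 hn t).1 ht
    have hcz := Subgroup.mem_centralizer_singleton_iff.1 (F.T_le ht')
    calc t * (n * z * n⁻¹) = n * ((n⁻¹ * t * n) * z) * n⁻¹ := by group
      _ = n * (z * (n⁻¹ * t * n)) * n⁻¹ := by rw [hcz]
      _ = _ := by group
  rcases F.T_center hm hcent with e | e
  · exact absurd (conj_eq_one_iff.1 e) S.ext.ne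
  · rw [mul_inv_eq_iff_eq_mul] at e; exact e

theorem T_isPGroup : IsPGroup 2 ↥F.T := IsPGroup.of_card F.card_T

/-- Larger two-groups do not exist. -/
theorem T_maximal {Q : Subgroup G} (hQ : IsPGroup 2 ↥Q) (hle : F.T ≤ Q) : Q = F.T := by
  haveI : Fact (Nat.Prime 2) := ⟨Nat.prime_two⟩
  by_contra hne
  haveI := hQ.isNilpotent
  have hlt : F.T.subgroupOf Q < ⊤ := lt_top_iff_ne_top.2 fun e => hne
    (le_antisymm (Subgroup.subgroupOf_eq_top.1 e) hle)
  obtain ⟨x, hx, hxn⟩ := SetLike.exists_of_lt (Group.normalizerCondition_of_isNilpotent (F.T.subgroupOf Q) hlt)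
  have hxN : (x : G) ∈ Subgroup.normalizer (F.T : Set G) := by
    rw [Subgroup.mem_normalizer_iff]
    intro y
    constructor
    · intro hy
      have := (Subgroup.mem_normalizer_iff.1 hx ⟨y, hle hy⟩).1 hy
      exact this
    · intro hy
      have hyQ : y ∈ Q := by
        have h1 := mul_mem (mul_mem (inv_mem x.2) (hle hy)) x.2
        simpa [mul_assoc] using h1
      exact (Subgroup.mem_normalizer_iff.1 hx ⟨y, hyQ⟩).2 hy
  set K := Q ⊓ Subgroup.centralizer ({z} : Set G) with hK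
  have hTK : F.T ≤ K := le_inf hle F.T_le
  have hxK : (x : G) ∈ K := ⟨x.2, F.T_normalizer_le hxN⟩
  have hxT : (x : G) ∉ F.T := hxn
  obtain ⟨n, hn⟩ := IsPGroup.iff_card.1 (hQ.to_le (inf_le_left : K ≤ Q))
  have hdvd := Subgroup.card_dvd_of_le (inf_le_right : K ≤ Subgroup.centralizer ({z} : Set G))
  rw [hn, S.card_H] at hdvd
  have hn21 : n ≤ 21 := (Nat.pow_dvd_pow_iff_le_right (by norm_num)).1
    (Nat.Coprime.dvd_of_dvd_mul_right (Nat.Coprime.pow_left _ (by norm_num)) hdvd)
  refine hxT ?_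
  rw [Subgroup.eq_of_le_of_card_ge hTK (by
    rw [hn, F.card_T]; exact Nat.pow_le_pow_right (by norm_num) hn21)]
  exact hxK

/-- It is a Sylow subgroup of the whole group. -/
def sylowT : Sylow 2 G where
  toSubgroup := F.T
  isPGroup' := F.T_isPGroup
  is_maximal' := fun hQ hle => F.T_maximal hQ hle

end Full

/-- In every Sylow two-subgroup exactly one elementary abelian subgroup of order 2¹¹. -/
theorem unique_elementary [Finite G] (hJ : IsOfJankoFourTypeWith z P) (T : Sylow 2 G) :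
    ∃! V : Subgroup G, V ≤ (T : Subgroup G) ∧ IsElementaryAbelian 2 V ∧ Nat.card ↥V = 2 ^ 11 := by
  haveI : Fact (Nat.Prime 2) := ⟨Nat.prime_two⟩
  obtain ⟨S⟩ := exists_setting hJ
  obtain ⟨Fr⟩ := exists_frameA S
  obtain ⟨g, hg⟩ := MulAction.exists_smul_eq G T Fr.F.sylowT
  have hTg : (T : Subgroup G).map (MulAut.conj g).toMonoidHom = Fr.F.T := by
    have h := congrArg (fun s : Sylow 2 G => (s : Subgroup G)) hg
    rw [Sylow.coe_subgroup_smul] at h
    exact h
  have inv : ∀ X : Subgroup G, (X.map (MulAut.conj g⁻¹).toMonoidHom).map (MulAut.conj g).toMonoidHom = X :=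
    fun X => by
      rw [Subgroup.map_map]
      convert Subgroup.map_id X using 2
      ext x
      simp [mul_assoc]
  have inj := Subgroup.map_injective (f := (MulAut.conj g).toMonoidHom) (MulAut.conj g).injective
  refine ⟨Fr.A.map (MulAut.conj g⁻¹).toMonoidHom, ⟨?_, ⟨⟨⟨?_⟩⟩, ?_⟩, ?_⟩, ?_⟩
  · rw [← Subgroup.map_le_map_iff_of_injective (f := (MulAut.conj g).toMonoidHom) (MulAut.conj g).injective, inv, hTg]
    exact Fr.A_le_T
  · rintro ⟨_, a, ha, rfl⟩ ⟨_, b, hb, rfl⟩
    refine Subtype.ext ?_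
    show (MulAut.conj g⁻¹).toMonoidHom a * (MulAut.conj g⁻¹).toMonoidHom b = _
    rw [← map_mul, Fr.A_comm a ha b hb, map_mul]
    rfl
  · rintro _ ⟨a, ha, rfl⟩
    rw [← map_pow, pow_two, Fr.A_sq a ha, map_one]
  · rw [Subgroup.card_map_of_injective (MulAut.conj g⁻¹).injective, Fr.card_A]
  · rintro V ⟨hVT, ⟨hVc, hV2⟩, hV⟩
    refine inj ?_
    rw [inv]
    refine Fr.unique_in_T (hTg ▸ Subgroup.map_mono hVT) ?_ ?_ ?_
    · rintro _ ⟨a, ha, rfl⟩ _ ⟨b, hb, rfl⟩
      rw [← map_mul, ← map_mul]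
      exact congrArg _ (congrArg Subtype.val (hVc.is_comm.comm ⟨a, ha⟩ ⟨b, hb⟩))
    · rintro _ ⟨a, ha, rfl⟩
      rw [← map_mul, ← pow_two, hV2 a ha, map_one]
    · rw [Subgroup.card_map_of_injective (MulAut.conj g).injective, hV]

end Cfsg.Agent.Spor.JFour
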