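import Cfsg.Agent.Lib.Spor.JFourType.SylowH

/-!
Canonical preimages of vectors in the core: the product over an orbit of the three-group is trivial.
-/

set_option autoImplicit false
set_option maxRecDepth 100000
set_option linter.style.haveILetI false

open Cfsg Cfsg.Agent.Spor.Golay
open Cfsg.Agent.Spor.Cos.J4Sub (app mm app_mm app_xor)

namespace Cfsg.Agent.Spor.JFour

variable {G : Type*} [Group G] {z : G} {P : Subgroup G}

theorem qv_low : ∀ n < 64, qv n = false := by decide +kernel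

theorem mT_low : ∀ n < 64, app mT n < 64 := by decide +kernel

namespace Setting

variable (S : Setting z P)

/-- The product over an orbit of the three-group. -/
def orb (m : G) : G := m * (S.p * m * S.p⁻¹) * (S.p * S.p * m * (S.p * S.p)⁻¹)

include S

theorem z_comm_p : S.p * z = z * S.p := S.pz

theorem pp_z : S.p * S.p * z = z * (S.p * S.p) := by rw [mul_assoc, S.pz, ← mul_assoc, S.pz, mul_assoc]

theorem mul_z_mem {m : G} (hm : m ∈ twoCoreOfCentralizer z) : m * z ∈ twoCoreOfCentralizer z :=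
  mul_mem hm S.ext.mem

theorem rep_mul_z {m : G} (hm : m ∈ twoCoreOfCentralizer z) : S.rep (m * z) = S.rep m := by
  rw [S.rep_mul m hm z S.ext.mem, (S.rep_zero z S.ext.mem).2 (Or.inr rfl), add_zero]

theorem rep_one : S.rep 1 = 0 := (S.rep_zero 1 (one_mem _)).2 (Or.inl rfl)

theorem rep_inv {m : G} (hm : m ∈ twoCoreOfCentralizer z) : S.rep m⁻¹ = S.rep m := by
  have h := S.rep_mul _ (inv_mem hm) m hm
  rw [inv_mul_cancel, S.rep_one] at h
  rw [eq_neg_of_add_eq_zero_left h.symm]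
  funext i
  exact ZMod.neg_eq_self_mod_two _

theorem eq_or_mul_z {m n : G} (hm : m ∈ twoCoreOfCentralizer z) (hn : n ∈ twoCoreOfCentralizer z)
    (h : S.rep m = S.rep n) : n = m ∨ n = m * z := by
  have h0 : S.rep (m⁻¹ * n) = 0 := by
    rw [S.rep_mul _ (inv_mem hm) n hn, S.rep_inv hm, h]
    funext i
    exact CharTwo.add_self_eq_zero _
  rcases (S.rep_zero _ (mul_mem (inv_mem hm) hn)).1 h0 with e | e
  · exact Or.inl (inv_mul_eq_one.1 e).symm
  · exact Or.inr (inv_mul_eq_iff_eq_mul.1 e)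

theorem orb_mem {m : G} (hm : m ∈ twoCoreOfCentralizer z) : S.orb m ∈ twoCoreOfCentralizer z :=
  mul_mem (mul_mem hm (S.ext.norm _ S.pz m hm)) (S.ext.norm _ S.pp_z m hm)

theorem orbit_sum (v : V12) [Finite G] : v + S.act S.p v + S.act S.p (S.act S.p v) = 0 := by
  refine S.p_fpf ?_
  rw [map_add, map_add]
  have h3 : S.act S.p (S.act S.p (S.act S.p v)) = v := by
    rw [← Module.End.mul_apply, ← Module.End.mul_apply, S.act_p_pow, Module.End.one_apply]
  rw [h3]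
  abel

theorem orb_cases [Finite G] {m : G} (hm : m ∈ twoCoreOfCentralizer z) : S.orb m = 1 ∨ S.orb m = z := by
  refine (S.rep_zero _ (S.orb_mem hm)).1 ?_
  have h1 := S.ext.norm _ S.pz m hm
  rw [orb, S.rep_mul _ (mul_mem hm h1) _ (S.ext.norm _ S.pp_z m hm), S.rep_mul _ hm _ h1,
    ← S.act_rep _ S.pz m hm, ← S.act_rep _ S.pp_z m hm, S.act_mul _ _ S.pz S.pz, Module.End.mul_apply]
  exact S.orbit_sum _

theorem orb_mul_z {m : G} (hm : m ∈ twoCoreOfCentralizer z) : S.orb (m * z) = S.orb m * z := by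
  have hzi : z⁻¹ = z := inv_eq_of_mul_eq_one_right S.zz
  have h1 := S.ext.norm _ S.pz m hm
  have h2 := S.ext.norm _ S.pp_z m hm
  have e1 : S.p * (m * z) * S.p⁻¹ = S.p * m * S.p⁻¹ * z := by
    rw [show S.p * (m * z) * S.p⁻¹ = S.p * m * S.p⁻¹ * (S.p * z * S.p⁻¹) by group, S.pz, mul_inv_cancel_right]
  have e2 : S.p * S.p * (m * z) * (S.p * S.p)⁻¹ = S.p * S.p * m * (S.p * S.p)⁻¹ * z := by
    rw [show S.p * S.p * (m * z) * (S.p * S.p)⁻¹ =
      S.p * S.p * m * (S.p * S.p)⁻¹ * (S.p * S.p * z * (S.p * S.p)⁻¹) by group, S.pp_z, mul_inv_cancel_right]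
  rw [orb, orb, e1, e2]
  calc m * z * (S.p * m * S.p⁻¹ * z) * (S.p * S.p * m * (S.p * S.p)⁻¹ * z)
      = m * (z * (S.p * m * S.p⁻¹)) * z * (S.p * S.p * m * (S.p * S.p)⁻¹) * z := by group
    _ = m * (S.p * m * S.p⁻¹) * (z * z) * (S.p * S.p * m * (S.p * S.p)⁻¹) * z := by
        rw [← S.ext.central _ h1]; group
    _ = _ := by rw [S.zz, mul_one]

theorem orb_conj {c : G} (hc : c ∈ CP z P) (m : G) : S.orb (c * m * c⁻¹) = c * S.orb m * c⁻¹ := by
  have hcp := (S.mem_iff.1 hc).2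
  have e : c * (S.p * S.p) = S.p * S.p * c := by rw [← mul_assoc, hcp, mul_assoc, hcp, ← mul_assoc]
  have k1 : S.p * (c * m * c⁻¹) * S.p⁻¹ = c * (S.p * m * S.p⁻¹) * c⁻¹ := by
    calc S.p * (c * m * c⁻¹) * S.p⁻¹ = (S.p * c) * m * (S.p * c)⁻¹ := by group
      _ = (c * S.p) * m * (c * S.p)⁻¹ := by rw [hcp]
      _ = _ := by group
  have k2 : S.p * S.p * (c * m * c⁻¹) * (S.p * S.p)⁻¹ = c * (S.p * S.p * m * (S.p * S.p)⁻¹) * c⁻¹ := by
    calc S.p * S.p * (c * m * c⁻¹) * (S.p * S.p)⁻¹ = (S.p * S.p * c) * m * (S.p * S.p * c)⁻¹ := by group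
      _ = (c * (S.p * S.p)) * m * (c * (S.p * S.p))⁻¹ := by rw [e]
      _ = _ := by group
  rw [orb, orb, k1, k2]
  group

variable [Finite G]

/-- An element of the centraliser of the three-group fixing a vector centralises its preimages. -/
theorem fix_exact {c m : G} (hc : c ∈ CP z P) (hm : m ∈ twoCoreOfCentralizer z)
    (h : S.act c (S.rep m) = S.rep m) : c * m * c⁻¹ = m := by
  rw [S.act_rep c (S.commz hc) m hm] at h
  have hm' := S.ext.norm c (S.commz hc) m hm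
  refine ((S.eq_or_mul_z hm hm' h.symm)).resolve_right fun e => S.ext.ne ?_
  have h1 := S.orb_conj hc m
  rw [e, S.orb_mul_z hm] at h1
  rcases S.orb_cases hm with g | g <;> rw [g] at h1
  · rwa [one_mul, mul_one, mul_inv_cancel] at h1
  · rw [S.zz, S.commz hc, mul_inv_cancel_right] at h1
    exact h1.symm

end Setting

namespace Coord

variable {S : Setting z P} (C : Coord S)

/-- The canonical preimage. -/
noncomputable def lh (n : ℕ) : G :=
  @dite G (∃ m ∈ twoCoreOfCentralizer z, S.rep m = C.Φ n ∧ S.orb m = 1) (_root_.Classical.propDecidable _)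
    (fun h => h.choose) fun _ => 1

variable [Finite G]

theorem lh_exists (n : ℕ) : ∃ m ∈ twoCoreOfCentralizer z, S.rep m = C.Φ n ∧ S.orb m = 1 := by
  obtain ⟨m, hm, he⟩ := S.rep_surj (C.Φ n)
  rcases S.orb_cases hm with e | e
  · exact ⟨m, hm, he, e⟩
  · exact ⟨m * z, S.mul_z_mem hm, by rw [S.rep_mul_z hm, he], by rw [S.orb_mul_z hm, e, S.zz]⟩

theorem lh_spec (n : ℕ) : C.lh n ∈ twoCoreOfCentralizer z ∧ S.rep (C.lh n) = C.Φ n ∧ S.orb (C.lh n) = 1 := by
  rw [lh, dif_pos (C.lh_exists n)]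
  exact (C.lh_exists n).choose_spec

theorem lh_unique {n : ℕ} {m : G} (hm : m ∈ twoCoreOfCentralizer z) (hr : S.rep m = C.Φ n) (ho : S.orb m = 1) :
    m = C.lh n := by
  obtain ⟨h1, h2, h3⟩ := C.lh_spec n
  refine (S.eq_or_mul_z h1 hm (h2.trans hr.symm)).resolve_right fun e => S.ext.ne ?_
  rwa [e, S.orb_mul_z h1, h3, one_mul] at ho

theorem lh_zero : C.lh 0 = 1 :=
  (C.lh_unique (one_mem _) (by rw [S.rep_one, C.zero']) (by simp [Setting.orb])).symm

theorem lh_cases {m : G} (hm : m ∈ twoCoreOfCentralizer z) {n : ℕ} (hr : S.rep m = C.Φ n) :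
    m = C.lh n ∨ m = C.lh n * z :=
  S.eq_or_mul_z (C.lh_spec n).1 hm ((C.lh_spec n).2.1.trans hr.symm)

theorem lh_conj {c : G} {M : List ℕ} (hc : c ∈ CP z P) (hM : C.Rep c M) {n : ℕ} (hn : n < 4096) :
    c * C.lh n * c⁻¹ = C.lh (app M n) := by
  obtain ⟨h1, h2, h3⟩ := C.lh_spec n
  refine C.lh_unique (S.ext.norm c hM.hz _ h1) ?_ (by rw [S.orb_conj hc, h3, mul_one, mul_inv_cancel])
  rw [← S.act_rep c hM.hz _ h1, h2, hM.eq n hn]

theorem form_low {n : ℕ} (hn : n < 64) : S.q (C.Φ n) = 0 := by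
  rw [C.form n (hn.trans (by norm_num)), qv_low n hn]
  rfl

theorem low_comm {m k : ℕ} (hm : m < 64) (hk : k < 64) {a b : G} (ha : a ∈ twoCoreOfCentralizer z)
    (hb : b ∈ twoCoreOfCentralizer z) (ea : S.rep a = C.Φ m) (eb : S.rep b = C.Φ k) : a * b = b * a := by
  have h := S.q_conj a ha b hb
  rw [ea, eb, QuadraticMap.polar, ← C.add, C.form_low hm, C.form_low hk,
    C.form_low (Nat.xor_lt_two_pow (n := 6) hm hk), sub_zero, sub_zero, ExtraOut.pw_zero, mul_one,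
    mul_inv_eq_iff_eq_mul] at h
  exact h

theorem lh_comm {m k : ℕ} (hm : m < 64) (hk : k < 64) : C.lh m * C.lh k = C.lh k * C.lh m :=
  C.low_comm hm hk (C.lh_spec m).1 (C.lh_spec k).1 (C.lh_spec m).2.1 (C.lh_spec k).2.1

theorem lh_sq {n : ℕ} (hn : n < 64) : C.lh n * C.lh n = 1 := by
  obtain ⟨h1, h2, -⟩ := C.lh_spec n
  rw [S.q_sq _ h1, h2, C.form_low hn, ExtraOut.pw_zero]

theorem p_low {n : ℕ} (hn : n < 64) : ∃ k < 64, S.act S.p (C.Φ n) = C.Φ k := by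
  obtain ⟨M, hM⟩ := C.exists_rep S.pz
  obtain ⟨i, hi, rfl⟩ := C.scalar_rep S.p_mem S.ψ_p hM
  refine ⟨app (mTp i) n, ?_, hM.eq n (hn.trans (by norm_num))⟩
  interval_cases i
  · show app mI n < 64
    rwa [app_mI (hn.trans (by norm_num))]
  · exact mT_low n hn
  · show app (mm mT mT) n < 64
    rw [app_mm]; exact mT_low _ (mT_low n hn)

theorem orb_mul_low {a b : G} (ha : a ∈ twoCoreOfCentralizer z) (hb : b ∈ twoCoreOfCentralizer z) {m k : ℕ}
    (hm : m < 64) (hk : k < 64) (ea : S.rep a = C.Φ m) (eb : S.rep b = C.Φ k) :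
    S.orb (a * b) = S.orb a * S.orb b := by
  obtain ⟨m', hm', em⟩ := C.p_low hm
  obtain ⟨k', hk', ek⟩ := C.p_low hk
  obtain ⟨m'', hm'', em'⟩ := C.p_low hm'
  have ha1 := S.ext.norm _ S.pz a ha
  have hb1 := S.ext.norm _ S.pz b hb
  have ha2 := S.ext.norm _ S.pp_z a ha
  have c1 : b * (S.p * a * S.p⁻¹) = S.p * a * S.p⁻¹ * b :=
    C.low_comm hk hm' hb ha1 eb (by rw [← S.act_rep _ S.pz a ha, ea, em])
  have r2 : S.rep (S.p * S.p * a * (S.p * S.p)⁻¹) = C.Φ m'' := by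
    rw [← S.act_rep _ S.pp_z a ha, ea, S.act_mul _ _ S.pz S.pz, Module.End.mul_apply, em, em']
  have c2 : b * (S.p * S.p * a * (S.p * S.p)⁻¹) = S.p * S.p * a * (S.p * S.p)⁻¹ * b :=
    C.low_comm hk hm'' hb ha2 eb r2
  have c3 : (S.p * b * S.p⁻¹) * (S.p * S.p * a * (S.p * S.p)⁻¹) =
      S.p * S.p * a * (S.p * S.p)⁻¹ * (S.p * b * S.p⁻¹) :=
    C.low_comm hk' hm'' hb1 ha2 (by rw [← S.act_rep _ S.pz b hb, eb, ek]) r2
  rw [Setting.orb, Setting.orb, Setting.orb]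
  calc a * b * (S.p * (a * b) * S.p⁻¹) * (S.p * S.p * (a * b) * (S.p * S.p)⁻¹)
      = a * (b * (S.p * a * S.p⁻¹)) * ((S.p * b * S.p⁻¹) * (S.p * S.p * a * (S.p * S.p)⁻¹)) *
          (S.p * S.p * b * (S.p * S.p)⁻¹) := by group
    _ = a * (S.p * a * S.p⁻¹) * (b * (S.p * S.p * a * (S.p * S.p)⁻¹)) * (S.p * b * S.p⁻¹) *
          (S.p * S.p * b * (S.p * S.p)⁻¹) := by rw [c1, c3]; group
    _ = _ := by rw [c2]; group

theorem lh_mul {m k : ℕ} (hm : m < 64) (hk : k < 64) : C.lh m * C.lh k = C.lh (m ^^^ k) := by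
  obtain ⟨a1, a2, a3⟩ := C.lh_spec m
  obtain ⟨b1, b2, b3⟩ := C.lh_spec k
  refine C.lh_unique (mul_mem a1 b1) (by rw [S.rep_mul _ a1 _ b1, a2, b2, C.add]) ?_
  rw [C.orb_mul_low a1 b1 hm hk a2 b2, a3, b3, one_mul]

end Coord

end Cfsg.Agent.Spor.JFour
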