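import Cfsg.Agent.Lib.Spor.JFourType.Vec

/-! The third involution and the changes of frame. -/

set_option autoImplicit false
set_option maxRecDepth 100000
set_option Elab.async false

namespace Cfsg.Agent.Spor.JFour

open Cfsg.Agent.Spor.Cos.J4Sub (app mm)

/-- The matrix attached to a first image. -/
def mkA (u : ℕ) : List ℕ :=
  let l := app (mA 1) u ^^^ u
  [l, app mT l, app mX l, app mT (app mX l), app mX (app mX l), app mT (app mX (app mX l)),
    u, app mT u, app mX u, app mT (app mX u), app mX (app mX u), app mT (app mX (app mX u))]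

/-- The three candidates. -/
def candA : List (List ℕ) := [[1, 2, 4, 8, 16, 32, 84, 168, 273, 546, 1029, 2058],
  [1, 2, 4, 8, 16, 32, 108, 180, 306, 531, 1035, 2061], [1, 2, 4, 8, 16, 32, 120, 156, 291, 561, 1038, 2055]]

/-- The conditions on the third involution. -/
def okA (M : List ℕ) : Bool :=
  (mm M (mA 0) == mm (mA 0) M) && (mm M (mA 1) == mm (mA 1) M) && (mm M M == mI) && (M != mI) &&
    ((List.range 12).all fun i => !(qv (M.getD i 0))) &&
    ((List.range 12).all fun i => (List.range i).all fun j =>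
      qv (M.getD i 0 ^^^ M.getD j 0) == qv (2 ^ i ^^^ 2 ^ j)) &&
    (mm M (mm (mm mY (mm M (mm mY mY))) (mm (mm mY mY) (mm M mY))) == mI)

theorem candA_complete : ((List.range 4096).all fun u =>
    !(okA (mkA u)) || candA.any fun M => M == mkA u) = true := by decide +kernel

/-- The diagonal changes of frame. -/
def mΔ : ℕ → List ℕ
  | 1 => [1, 2, 12, 4, 32, 48, 64, 128, 768, 256, 2048, 3072]
  | 2 => [1, 2, 8, 12, 48, 16, 64, 128, 512, 768, 3072, 1024]
  | _ => mI

/-- The power of the scalar correcting the first generator. -/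
def jΔ : ℕ → ℕ
  | 1 => 2
  | 2 => 1
  | _ => 0

/-- The power of the scalar. -/
def mTp : ℕ → List ℕ
  | 1 => mT
  | 2 => mT2
  | _ => mI

theorem delta_check : ((List.range 3).all fun k =>
    (mm (mm (mΔ ((3 - k) % 3)) mT) (mΔ k) == mT) && (mm (mm (mΔ ((3 - k) % 3)) (mm (mTp (jΔ k)) mX)) (mΔ k) == mX) &&
      (mm (mm (mΔ ((3 - k) % 3)) mY) (mΔ k) == mY) && (mm (mm (mΔ ((3 - k) % 3)) (mA 0)) (mΔ k) == mA 0) &&
      (mm (mm (mΔ ((3 - k) % 3)) (candA.getD k [])) (mΔ k) == mA 2) &&
      (mm (mΔ k) (mΔ ((3 - k) % 3)) == mI) && (mm (mΔ ((3 - k) % 3)) (mΔ k) == mI) && okMat (mΔ k) &&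
      ((List.range 4096).all fun n => qv (app (mΔ k) n) == qv n)) = true ∧
    mm (mm mX (mA 0)) (mm mX mX) = mA 1 ∧ mm (mm mY (mA 2)) (mm mY mY) = mA 3 ∧
    ((List.range 4).all fun i => okMat (mA i)) = true ∧ okMat mT = true ∧ okMat mX = true ∧ okMat mY = true := by
  decide +kernel

end Cfsg.Agent.Spor.JFour
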