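import Cfsg.Agent.Lib.Spor.Cos.J4Sub.BitMat

/-!
The hermitian space of dimension six over the field with four elements as numbers below `4096`: two bits for each
coordinate, three coordinates for each of two opposite maximal singular subspaces.
-/

set_option autoImplicit false
set_option maxRecDepth 100000

namespace Cfsg.Agent.Spor.JFour

open Cfsg.Agent.Spor.Cos.J4Sub (app mm idCols app_xor app_mm app_idCols app_lt app_zero)

/-- A bit. -/
def bit (n i : ℕ) : Bool := n.testBit i

/-- The form. -/
def qv (n : ℕ) : Bool :=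
  xor (xor (bit n 0 && bit n 7) (bit n 1 && bit n 6))
    (xor (xor (bit n 2 && bit n 9) (bit n 3 && bit n 8)) (xor (bit n 4 && bit n 11) (bit n 5 && bit n 10)))

/-- The bilinear form. -/
def bv (u v : ℕ) : Bool := xor (qv (u ^^^ v)) (xor (qv u) (qv v))

/-- The scalar. -/
def mT : List ℕ := [2, 3, 8, 12, 32, 48, 128, 192, 512, 768, 2048, 3072]

/-- The square of the scalar. -/
def mT2 : List ℕ := mm mT mT

/-- The identity. -/
def mI : List ℕ := idCols 12 0

/-- The first generator of the Sylow three-subgroup. -/
def mX : List ℕ := [4, 8, 16, 32, 1, 2, 256, 512, 1024, 2048, 64, 128]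

/-- The second generator of the Sylow three-subgroup. -/
def mY : List ℕ := [1, 2, 8, 12, 48, 16, 64, 128, 512, 768, 3072, 1024]

/-- The four transvection-like involutions. -/
def mA : ℕ → List ℕ
  | 0 => [1, 2, 4, 8, 16, 32, 64, 128, 260, 520, 1040, 2080]
  | 1 => [1, 2, 4, 8, 16, 32, 65, 130, 256, 512, 1040, 2080]
  | 2 => [1, 2, 4, 8, 16, 32, 84, 168, 273, 546, 1029, 2058]
  | 3 => [1, 2, 4, 8, 16, 32, 120, 156, 291, 561, 1038, 2055]
  | _ => mI

/-- Whether a list is a matrix of the space. -/
def okMat (M : List ℕ) : Bool := (M.length == 12) && M.all fun c => decide (c < 4096)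

theorem app_lt_of_ok {M : List ℕ} (h : okMat M = true) (v : ℕ) : app M v < 4096 := by
  simp only [okMat, Bool.and_eq_true, List.all_eq_true, decide_eq_true_eq] at h
  exact app_lt (n := 12) h.2 v

theorem app_mI {v : ℕ} (h : v < 4096) : app mI v = v := by
  rw [mI, app_idCols 12 0 v h, Nat.shiftLeft_zero]

theorem app_two_pow : ∀ {M : List ℕ} {i : ℕ}, i < M.length → app M (2 ^ i) = M.getD i 0
  | [], _, h => absurd h (Nat.not_lt_zero _)
  | c :: cs, 0, _ => by simp [app, app_zero, show Nat.beq 1 1 = true from rfl]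
  | c :: cs, i + 1, h => by
    rw [app, show 2 ^ (i + 1) % 2 = 0 by omega, show 2 ^ (i + 1) / 2 = 2 ^ i by omega]
    simpa [show Nat.beq 0 1 = false from rfl] using app_two_pow (M := cs) (by simpa using h)

/-- A number below a power of two is built from powers of two. -/
theorem xor_induction {p : ℕ → Prop} (h0 : p 0) : ∀ n, (∀ i < n, ∀ m, m < 2 ^ i → p m → p (2 ^ i ^^^ m)) →
    ∀ v < 2 ^ n, p v
  | 0, _, v, hv => by
    obtain rfl : v = 0 := by simpa using hv
    exact h0
  | n + 1, h, v, hv => by
    by_cases hb : v < 2 ^ n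
    · exact xor_induction h0 n (fun i hi => h i (by omega)) v hb
    have hlt : 2 ^ n ^^^ v < 2 ^ n := by
      refine Nat.lt_pow_two_of_testBit _ fun j hj => ?_
      rw [Nat.testBit_xor, Nat.testBit_two_pow]
      rcases eq_or_lt_of_le hj with rfl | hj
      · have : v.testBit n = true := by
          rw [Nat.testBit_eq_decide_div_mod_eq]
          have : v / 2 ^ n = 1 := Nat.div_eq_of_lt_le (by omega) (by rw [pow_succ] at hv; omega)
          simp [this]
        simp [this]
      · rw [Nat.testBit_lt_two_pow (lt_of_lt_of_le hv (Nat.pow_le_pow_right two_pos hj))]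
        simp [show ¬ n = j by omega]
    have := h n (by omega) _ hlt (xor_induction h0 n (fun i hi => h i (by omega)) _ hlt)
    rwa [← Nat.xor_assoc, Nat.xor_self, Nat.zero_xor] at this

end Cfsg.Agent.Spor.JFour
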