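import Mathlib
import Cfsg.Agent.Lib.Spor.JFourType.Vec

/-!
A twelve-dimensional binary quadratic space with an extraspecial group of order 27 acting and an involution
centralising one of its generators: coordinates.
-/

set_option autoImplicit false
set_option maxRecDepth 100000

namespace Cfsg.Agent.Spor.JFour

open Cfsg.Agent.Spor.Cos.J4Sub (app)

/-- Vectors. -/
abbrev W12 : Type := Fin 12 → ZMod 2

theorem add_self' (v : W12) : v + v = 0 := by
  funext i; exact (by decide : ∀ t : ZMod 2, t + t = 0) _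

theorem eq_of_add_eq_zero' {v w : W12} (h : v + w = 0) : v = w := by
  rw [← add_zero v, ← add_self' w, ← add_assoc, h, zero_add]

/-- The data. -/
structure Geo where
  /-- the form -/
  q : QuadraticForm (ZMod 2) W12
  nd : (QuadraticMap.polarBilin q).Nondegenerate
  /-- the scalar -/
  T : Module.End (ZMod 2) W12
  /-- first -/
  X : Module.End (ZMod 2) W12
  /-- second -/
  Y : Module.End (ZMod 2) W12
  hT : ∀ v, v + T v + T (T v) = 0
  qT : ∀ v, q (T v) = q v
  qX : ∀ v, q (X v) = q v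
  qY : ∀ v, q (Y v) = q v
  hXT : ∀ v, X (T v) = T (X v)
  hYT : ∀ v, Y (T v) = T (Y v)
  hYX : ∀ v, Y (X v) = T (X (Y v))
  X3 : ∀ v, X (X (X v)) = v
  Y3 : ∀ v, Y (Y (Y v)) = v

namespace Geo

variable (S : Geo)

/-- The bilinear form. -/
abbrev B (v w : W12) : ZMod 2 := QuadraticMap.polar S.q v w

theorem q_add (v w : W12) : S.q (v + w) = S.q v + S.q w + S.B v w := QuadraticMap.map_add _ v w

theorem T3 (v : W12) : S.T (S.T (S.T v)) = v := by
  have h1 := S.hT v
  have h2 := S.hT (S.T v)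
  have : v + S.T (S.T (S.T v)) = 0 := by
    have e : (v + S.T v + S.T (S.T v)) + (S.T v + S.T (S.T v) + S.T (S.T (S.T v))) = v + S.T (S.T (S.T v)) := by
      rw [show (v + S.T v + S.T (S.T v)) + (S.T v + S.T (S.T v) + S.T (S.T (S.T v))) =
        v + S.T (S.T (S.T v)) + (S.T v + S.T v) + (S.T (S.T v) + S.T (S.T v)) by abel, add_self', add_self',
        add_zero, add_zero]
    rw [← e, h1, h2, add_zero]
  exact (eq_of_add_eq_zero' this).symm

theorem T_fpf {v : W12} (h : S.T v = v) : v = 0 := by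
  have := S.hT v
  rwa [h, h, add_self', zero_add] at this

theorem B_T (v w : W12) : S.B (S.T v) (S.T w) = S.B v w := by
  simp only [B, QuadraticMap.polar, ← map_add, S.qT]

theorem B_sum (v w : W12) : S.B v w + S.B v (S.T w) + S.B v (S.T (S.T w)) = 0 := by
  have h : S.B v (w + S.T w + S.T (S.T w)) = 0 := by rw [S.hT]; simp [B, QuadraticMap.polar]
  rwa [B, QuadraticMap.polar_add_right, QuadraticMap.polar_add_right] at h

theorem B_self (v : W12) : S.B v v = 0 := by
  rw [B, QuadraticMap.polar_self, two_smul]; exact (by decide : ∀ t : ZMod 2, t + t = 0) _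

theorem B_vT (v : W12) : S.B v (S.T v) = S.q v := by
  have e : v + S.T v = S.T (S.T v) := by
    have := eq_of_add_eq_zero' (S.hT v)
    exact this
  have := S.q_add v (S.T v)
  rw [e, S.qT, S.qT] at this
  revert this; generalize S.B v (S.T v) = b; generalize S.q v = a; revert a b; decide

theorem Y_pow_T (k : ℕ) (v : W12) : S.Y ((S.T ^ k) v) = (S.T ^ k) (S.Y v) := by
  induction k with
  | zero => simp
  | succ k ih => rw [pow_succ', Module.End.mul_apply, Module.End.mul_apply, S.hYT, ih]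

theorem T_T (a b : ℕ) (v : W12) : (S.T ^ a) ((S.T ^ b) v) = (S.T ^ (a + b)) v := by
  rw [pow_add, Module.End.mul_apply]

theorem T_pow_mod (k : ℕ) (v : W12) : (S.T ^ k) v = (S.T ^ (k % 3)) v := by
  conv_lhs => rw [← Nat.div_add_mod k 3, pow_add, pow_mul, Module.End.mul_apply]
  have h : S.T ^ 3 = 1 := LinearMap.ext fun w => by
    simp only [pow_succ', pow_zero, Module.End.mul_apply, Module.End.one_apply]; exact S.T3 w
  rw [h, one_pow, Module.End.one_apply]

/-- The eigenspaces of the second generator. -/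
def E (i : ℕ) : AddSubgroup W12 where
  carrier := {v | S.Y v = (S.T ^ i) v}
  zero_mem' := by simp
  add_mem' := fun {a b} ha hb => by simp only [Set.mem_setOf_eq] at *; rw [map_add, map_add, ha, hb]
  neg_mem' := fun {a} ha => by simp only [Set.mem_setOf_eq] at *; rw [map_neg, map_neg, ha]

theorem mem_E {i : ℕ} {v : W12} : v ∈ S.E i ↔ S.Y v = (S.T ^ i) v := Iff.rfl

theorem T_mem {i : ℕ} {v : W12} (h : v ∈ S.E i) : S.T v ∈ S.E i := by
  rw [mem_E, S.hYT, S.mem_E.1 h, ← Module.End.mul_apply, ← Module.End.mul_apply, ← pow_succ', ← pow_succ]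

theorem X_mem {i : ℕ} {v : W12} (h : v ∈ S.E i) : S.X v ∈ S.E (i + 1) := by
  rw [mem_E, S.hYX, S.mem_E.1 h, pow_succ', Module.End.mul_apply]
  refine congrArg S.T ?_
  clear h
  induction i generalizing v with
  | zero => simp
  | succ i ih => rw [pow_succ', Module.End.mul_apply, Module.End.mul_apply, S.hXT, ih]

theorem E_mod {i : ℕ} {v : W12} : v ∈ S.E i ↔ v ∈ S.E (i % 3) := by
  rw [mem_E, mem_E, S.T_pow_mod]

/-- The projections. -/
def e (i : ℕ) (v : W12) : W12 := v + (S.T ^ (2 * i)) (S.Y v) + (S.T ^ i) (S.Y (S.Y v))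

theorem e_mem (i : ℕ) (v : W12) : S.e i v ∈ S.E i := by
  rw [mem_E, e]
  simp only [map_add, Y_pow_T, T_T, S.Y3]
  rw [show i + i = 2 * i from (two_mul i).symm]
  rw [show (S.T ^ (i + 2 * i)) (S.Y v) = S.Y v by
    rw [S.T_pow_mod, show (i + 2 * i) % 3 = 0 by omega, pow_zero, Module.End.one_apply]]
  abel

theorem sum_e (v : W12) : S.e 0 v + S.e 1 v + S.e 2 v = v := by
  have hpw : ∀ w, (S.T ^ 4) w = S.T w := fun w => by rw [S.T_pow_mod]; norm_num
  simp only [e, mul_zero, mul_one, pow_zero, pow_one, Module.End.one_apply, show 2 * 2 = 4 from rfl, hpw]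
  have h2 : ∀ w, (S.T ^ 2) w = S.T (S.T w) := fun w => by rw [pow_two, Module.End.mul_apply]
  simp only [h2]
  calc v + S.Y v + S.Y (S.Y v) + (v + S.T (S.T (S.Y v)) + S.T (S.Y (S.Y v))) +
        (v + S.T (S.Y v) + S.T (S.T (S.Y (S.Y v)))) =
      (v + (v + v)) + (S.Y v + S.T (S.Y v) + S.T (S.T (S.Y v))) +
        (S.Y (S.Y v) + S.T (S.Y (S.Y v)) + S.T (S.T (S.Y (S.Y v)))) := by abel
    _ = v := by rw [add_self', S.hT, S.hT, add_zero, add_zero, add_zero]

theorem e_of_mem {i j : ℕ} {v : W12} (hi : i < 3) (hj : j < 3) (h : v ∈ S.E j) :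
    S.e i v = if i = j then v else 0 := by
  rw [e, S.mem_E.1 h, S.Y_pow_T, S.mem_E.1 h]
  simp only [← Module.End.mul_apply, ← pow_add]
  rw [S.T_pow_mod (2 * i + j), S.T_pow_mod (i + (j + j))]
  have hT' := S.hT v
  have hT'' : v + S.T (S.T v) + S.T v = 0 := by rwa [add_right_comm]
  interval_cases i <;> interval_cases j <;> norm_num [pow_two, Module.End.mul_apply, hT', hT'', add_self']

theorem orth {i j : ℕ} (hi : i < 3) (hj : j < 3) (hne : i ≠ j) {v w : W12} (hv : v ∈ S.E i) (hw : w ∈ S.E j) :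
    S.B v w = 0 := by
  have key : ∀ {a b : ℕ} {v w : W12}, a < 3 → b < 3 → (a + 1) % 3 = b → v ∈ S.E a → w ∈ S.E b → S.B v w = 0 := by
    intro a b v w ha hb hab hv hw
    have hY : ∀ x y, S.B (S.Y x) (S.Y y) = S.B x y := fun x y => by
      simp only [B, QuadraticMap.polar, ← map_add, S.qY]
    have hTk : ∀ (k : ℕ) (x y : W12), S.B ((S.T ^ k) x) ((S.T ^ k) y) = S.B x y := by
      intro k
      induction k with
      | zero => simp
      | succ k ih => intro x y; rw [pow_succ', Module.End.mul_apply, Module.End.mul_apply, S.B_T, ih]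
    have h1 : ∀ v ∈ S.E a, ∀ w ∈ S.E b, S.B v (S.T w) = S.B v w := fun v hv w hw => by
      conv_rhs => rw [← hY v w, S.mem_E.1 hv, S.mem_E.1 hw]
      rw [S.T_pow_mod b]
      conv_lhs => rw [← hTk a v (S.T w)]
      rw [← Module.End.mul_apply, ← pow_succ, S.T_pow_mod (a + 1), hab, Nat.mod_eq_of_lt hb]
    have := S.B_sum v w
    rw [h1 v hv _ (S.T_mem hw), h1 v hv w hw] at this
    revert this; generalize S.B v w = t; revert t; decide
  rcases (show (i + 1) % 3 = j ∨ (j + 1) % 3 = i by omega) with h | h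
  · exact key hi hj h hv hw
  · rw [B, QuadraticMap.polar_comm]; exact key hj hi h hw hv

theorem card_E0 : Nat.card (S.E 0) = 16 := by
  have hX2 : ∀ {v}, v ∈ S.E 0 → S.X (S.X v) ∈ S.E 2 := fun h => S.X_mem (S.X_mem h)
  have hb1 : ∀ v, S.X (S.X (S.e 1 v)) ∈ S.E 0 := fun v => S.E_mod.1 (S.X_mem (S.X_mem (S.e_mem 1 v)))
  have hb2 : ∀ v, S.X (S.e 2 v) ∈ S.E 0 := fun v => S.E_mod.1 (S.X_mem (S.e_mem 2 v))
  have hea : ∀ i a b, S.e i (a + b) = S.e i a + S.e i b := fun i a b => by simp only [e, map_add]; abel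
  let eqv : W12 ≃ (S.E 0 × S.E 0) × S.E 0 :=
    { toFun := fun v => ((⟨S.e 0 v, S.e_mem 0 v⟩, ⟨_, hb1 v⟩), ⟨_, hb2 v⟩)
      invFun := fun u => (u.1.1 : W12) + S.X u.1.2 + S.X (S.X u.2)
      left_inv := fun v => by
        show S.e 0 v + S.X (S.X (S.X (S.e 1 v))) + S.X (S.X (S.X (S.e 2 v))) = v
        rw [S.X3, S.X3, S.sum_e]
      right_inv := fun u => by
        obtain ⟨⟨⟨a, ha⟩, ⟨b, hb⟩⟩, ⟨c, hc⟩⟩ := u
        have k : ∀ i < 3, S.e i (a + S.X b + S.X (S.X c)) =
            (if i = 0 then a else 0) + (if i = 1 then S.X b else 0) + (if i = 2 then S.X (S.X c) else 0) :=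
          fun i hi => by
            rw [hea, hea, S.e_of_mem hi (by norm_num) ha, S.e_of_mem hi (by norm_num) (S.X_mem hb),
              S.e_of_mem hi (by norm_num) (hX2 hc)]
        refine Prod.ext (Prod.ext (Subtype.ext ?_) (Subtype.ext ?_)) (Subtype.ext ?_)
        · show S.e 0 _ = a; rw [k 0 (by norm_num)]; simp
        · show S.X (S.X (S.e 1 _)) = b; rw [k 1 (by norm_num)]; simp [S.X3]
        · show S.X (S.e 2 _) = c; rw [k 2 (by norm_num)]; simp [S.X3] }
  have h := Nat.card_congr eqv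
  rw [Nat.card_prod, Nat.card_prod, Nat.card_fun, Nat.card_zmod, Nat.card_fin] at h
  have h4096 : Nat.card (S.E 0) * Nat.card (S.E 0) * Nat.card (S.E 0) = 16 * 16 * 16 := by rw [← h]; norm_num
  rcases Nat.lt_trichotomy (Nat.card (S.E 0)) 16 with hl | hl | hl
  · have := Nat.mul_lt_mul_of_lt_of_lt (Nat.mul_lt_mul_of_lt_of_lt hl hl) hl
    omega
  · exact hl
  · have := Nat.mul_lt_mul_of_lt_of_lt (Nat.mul_lt_mul_of_lt_of_lt hl hl) hl
    omega

/-- An involution of the centraliser of the second generator. -/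
structure Inv (A : Module.End (ZMod 2) W12) : Prop where
  sq : ∀ v, A (A v) = v
  qA : ∀ v, S.q (A v) = S.q v
  hT : ∀ v, A (S.T v) = S.T (A v)
  hY : ∀ v, A (S.Y v) = S.Y (A v)

theorem Inv.mem {A : Module.End (ZMod 2) W12} (hA : S.Inv A) {i : ℕ} {v : W12} (h : v ∈ S.E i) : A v ∈ S.E i := by
  rw [S.mem_E, ← hA.hY, S.mem_E.1 h]
  clear h
  induction i generalizing v with
  | zero => simp
  | succ i ih => rw [pow_succ', Module.End.mul_apply, Module.End.mul_apply, hA.hT, ih]

/-- The combination of four vectors. -/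
def comb (l m : W12) (a a' b b' : ZMod 2) : W12 := a • l + a' • S.T l + b • m + b' • S.T m

/-- A hyperbolic line with its form. -/
structure Hyp (l m : W12) : Prop where
  ql : S.q l = 0
  qm : S.q m = 0
  lm : S.B l m = 0
  lTm : S.B l (S.T m) = 1

variable {S}

theorem Hyp.Tlm {l m : W12} (h : S.Hyp l m) : S.B (S.T l) m = 1 := by
  have e1 : S.B (S.T l) m = S.B l (S.T (S.T m)) := by
    rw [← S.B_T l (S.T (S.T m)), S.T3]
  have := S.B_sum l m
  rw [h.lm, h.lTm, zero_add] at this
  rw [e1]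
  revert this; generalize S.B l (S.T (S.T m)) = t; revert t; decide

theorem Hyp.B_left {l m : W12} (h : S.Hyp l m) (a a' b b' : ZMod 2) :
    S.B l (S.comb l m a a' b b') = b' ∧ S.B (S.T l) (S.comb l m a a' b b') = b ∧
    S.B m (S.comb l m a a' b b') = a' ∧ S.B (S.T m) (S.comb l m a a' b b') = a := by
  have hs : ∀ x y, S.B x y = S.B y x := fun x y => QuadraticMap.polar_comm _ x y
  have hT : ∀ x, S.B (S.T x) x = S.B x (S.T x) := fun x => hs _ _
  simp only [comb, B, QuadraticMap.polar_add_right, QuadraticMap.polar_smul_right, smul_eq_mul]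
  change (a * S.B l l + a' * S.B l (S.T l) + b * S.B l m + b' * S.B l (S.T m) = b') ∧
    (a * S.B (S.T l) l + a' * S.B (S.T l) (S.T l) + b * S.B (S.T l) m + b' * S.B (S.T l) (S.T m) = b) ∧
    (a * S.B m l + a' * S.B m (S.T l) + b * S.B m m + b' * S.B m (S.T m) = a') ∧
    (a * S.B (S.T m) l + a' * S.B (S.T m) (S.T l) + b * S.B (S.T m) m + b' * S.B (S.T m) (S.T m) = a)
  rw [hT l, hT m, hs m l, hs m (S.T l), hs (S.T m) l, hs (S.T m) (S.T l), S.B_self, S.B_self, S.B_self, S.B_self,
    S.B_vT, S.B_vT, h.ql, h.qm, h.lm, h.lTm, h.Tlm, S.B_T, h.lm]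
  simp

theorem Hyp.q_comb {l m : W12} (h : S.Hyp l m) (a a' b b' : ZMod 2) :
    S.q (S.comb l m a a' b b') = a * b' + a' * b := by
  have q1 : ∀ (x : W12) (t : ZMod 2), S.q (t • x) = t * S.q x := fun x t => by
    rw [QuadraticMap.map_smul, smul_eq_mul, show t * t = t from (by decide : ∀ s : ZMod 2, s * s = s) t]
  have hadd : ∀ x y w : W12, S.B (x + y) w = S.B x w + S.B y w := fun x y w => QuadraticMap.polar_add_left _ x y w
  have hsmul : ∀ (t : ZMod 2) (x w : W12), S.B (t • x) w = t * S.B x w := fun t x w => by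
    rw [B, QuadraticMap.polar_smul_left, smul_eq_mul]
  have hsmul' : ∀ (t : ZMod 2) (x w : W12), S.B x (t • w) = t * S.B x w := fun t x w => by
    rw [B, QuadraticMap.polar_smul_right, smul_eq_mul]
  simp only [comb, S.q_add, q1, hadd, hsmul, hsmul']
  rw [S.B_vT, S.B_vT, S.qT, S.qT, h.ql, h.qm, h.lm, h.lTm, h.Tlm, S.B_T, h.lm]
  ring

theorem Hyp.span {l m : W12} (h : S.Hyp l m) (hl : l ∈ S.E 0) (hm : m ∈ S.E 0) {v : W12} (hv : v ∈ S.E 0) :
    ∃ a a' b b', v = S.comb l m a a' b b' := by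
  have hmem : ∀ a a' b b', S.comb l m a a' b b' ∈ S.E 0 := fun a a' b b' => by
    have hs : ∀ (t : ZMod 2) (x : W12), x ∈ S.E 0 → t • x ∈ S.E 0 := fun t x hx => by
      rcases (by decide : ∀ s : ZMod 2, s = 0 ∨ s = 1) t with rfl | rfl
      · rw [zero_smul]; exact zero_mem _
      · rw [one_smul]; exact hx
    exact add_mem (add_mem (add_mem (hs _ _ hl) (hs _ _ (S.T_mem hl))) (hs _ _ hm)) (hs _ _ (S.T_mem hm))
  let f : ZMod 2 × ZMod 2 × ZMod 2 × ZMod 2 → S.E 0 := fun u => ⟨_, hmem u.1 u.2.1 u.2.2.1 u.2.2.2⟩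
  have hf : Function.Injective f := by
    rintro ⟨a, a', b, b'⟩ ⟨c, c', d, d'⟩ he
    have he' : S.comb l m a a' b b' = S.comb l m c c' d d' := congrArg Subtype.val he
    obtain ⟨x1, x2, x3, x4⟩ := h.B_left a a' b b'
    obtain ⟨y1, y2, y3, y4⟩ := h.B_left c c' d d'
    rw [← he'] at y1 y2 y3 y4
    obtain rfl := x1.symm.trans y1
    obtain rfl := x2.symm.trans y2
    obtain rfl := x3.symm.trans y3
    obtain rfl := x4.symm.trans y4
    rfl
  obtain ⟨u, hu⟩ := (hf.bijective_of_nat_card_le (by rw [S.card_E0]; simp [Nat.card_prod])).surjective ⟨v, hv⟩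
  exact ⟨_, _, _, _, (congrArg Subtype.val hu).symm⟩

theorem T_eq (v : W12) : S.T (S.T v) = v + S.T v := (eq_of_add_eq_zero' (S.hT v)).symm

theorem Inv.map_comb {A : Module.End (ZMod 2) W12} (hA : S.Inv A) (l m : W12) (a a' b b' : ZMod 2) :
    A (S.comb l m a a' b b') = a • A l + a' • S.T (A l) + b • A m + b' • S.T (A m) := by
  simp only [comb, map_add, map_smul, hA.hT]

/-- A line on which an involution is non-trivial. -/
theorem exists_line {D : Module.End (ZMod 2) W12} (hD : S.Inv D) (hne : ∃ v ∈ S.E 0, D v ≠ v) :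
    ∃ l m, l ∈ S.E 0 ∧ m ∈ S.E 0 ∧ S.Hyp l m ∧ D l = l ∧ D m = m + l ∧
      ∀ D', S.Inv D' → (∀ v, D' (D v) = D (D' v)) → D' l = l ∧ (D' m = m ∨ D' m = m + l) := by
  obtain ⟨v0, hv0, hne⟩ := hne
  obtain ⟨l, hl⟩ : ∃ l, l = D v0 + v0 := ⟨_, rfl⟩
  have hlE : l ∈ S.E 0 := hl ▸ add_mem (hD.mem S hv0) hv0
  have hl0 : l ≠ 0 := fun e => hne (eq_of_add_eq_zero' (hl ▸ e))
  have hDl : D l = l := by rw [hl, map_add, hD.sq, add_comm]
  have hBD : ∀ x y, S.B (D x) (D y) = S.B x y := fun x y => by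
    simp only [B, QuadraticMap.polar, ← map_add, hD.qA]
  have himB : ∀ x y, S.B (D x + x) (D y + y) = 0 := fun x y => by
    have h : S.B (D x) y = S.B x (D y) := by rw [← hBD x (D y), hD.sq]
    simp only [B, QuadraticMap.polar_add_left, QuadraticMap.polar_add_right]
    change S.B (D x) (D y) + S.B x (D y) + (S.B (D x) y + S.B x y) = 0
    rw [hBD, h]
    generalize S.B x y = a; generalize S.B x (D y) = b; revert a b; decide
  have hTl : D (S.T v0) + S.T v0 = S.T l := by rw [hl, map_add, hD.hT]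
  have hql : S.q l = 0 := by
    rw [← S.B_vT, ← hTl, hl]; exact himB v0 (S.T v0)
  -- the second vector
  obtain ⟨m0, hm0, hm0B⟩ : ∃ m0 ∈ S.E 0, S.B l m0 = 0 ∧ S.B l (S.T m0) = 1 := by
    obtain ⟨w, hw⟩ : ∃ w, S.B l w ≠ 0 := by
      by_contra hcon
      simp only [not_exists, not_not] at hcon
      exact hl0 (S.nd.1 l fun w => by rw [QuadraticMap.polarBilin_apply_apply]; exact hcon w)
    have hw0 : S.B l (S.e 0 w) ≠ 0 := by
      have h12 : S.B l (S.e 1 w) = 0 ∧ S.B l (S.e 2 w) = 0 :=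
        ⟨S.orth (by norm_num) (by norm_num) (by norm_num) hlE (S.e_mem 1 w),
          S.orth (by norm_num) (by norm_num) (by norm_num) hlE (S.e_mem 2 w)⟩
      intro h
      refine hw ?_
      rw [← S.sum_e w]
      simp only [B, QuadraticMap.polar_add_right]
      change S.B l _ + S.B l _ + S.B l _ = 0
      rw [h, h12.1, h12.2]; rfl
    set u := S.e 0 w
    have hu : u ∈ S.E 0 := S.e_mem 0 w
    have hs := S.B_sum l u
    have h3 := S.T3 u
    rcases (by decide : ∀ t : ZMod 2, t = 0 ∨ t = 1) (S.B l (S.T u)) with h1 | h1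
    · refine ⟨S.T u, S.T_mem hu, h1, ?_⟩
      revert hs hw0; rw [h1]; generalize S.B l u = a; generalize S.B l (S.T (S.T u)) = b; revert a b; decide
    · refine ⟨S.T (S.T u), S.T_mem (S.T_mem hu), ?_, by
        rw [h3]; exact ((by decide : ∀ t : ZMod 2, t = 0 ∨ t = 1) _).resolve_left hw0⟩
      revert hs hw0; rw [h1]; generalize S.B l u = a; generalize S.B l (S.T (S.T u)) = b; revert a b; decide
  obtain ⟨m, hm, hH⟩ : ∃ m ∈ S.E 0, S.Hyp l m := by
    rcases (by decide : ∀ t : ZMod 2, t = 0 ∨ t = 1) (S.q m0) with h | h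
    · exact ⟨m0, hm0, hql, h, hm0B.1, hm0B.2⟩
    · have hsum := S.B_sum l m0
      rw [hm0B.1, hm0B.2, zero_add] at hsum
      have hm0T : S.B m0 (S.T l) = 1 := by
        have e : S.B m0 (S.T l) = S.B l (S.T (S.T m0)) := by
          rw [B, QuadraticMap.polar_comm]
          change S.B (S.T l) m0 = _
          rw [← S.B_T l (S.T (S.T m0)), S.T3]
        rw [e]
        revert hsum; generalize S.B l (S.T (S.T m0)) = t; revert t; decide
      refine ⟨m0 + S.T l, add_mem hm0 (S.T_mem hlE), hql, ?_, ?_, ?_⟩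
      · rw [S.q_add, S.qT, hql, h, hm0T]; decide
      · simp only [B, QuadraticMap.polar_add_right]
        change S.B l m0 + S.B l (S.T l) = 0
        rw [hm0B.1, S.B_vT, hql]; rfl
      · rw [map_add]
        simp only [B, QuadraticMap.polar_add_right]
        change S.B l (S.T m0) + S.B l (S.T (S.T l)) = 1
        have := S.B_sum l l
        rw [S.B_self, S.B_vT, hql, zero_add, zero_add] at this
        rw [hm0B.2, this]; rfl
  have hq0 : ∀ {x y}, S.q x = 0 → S.q y = 0 → S.q (x + y) = 0 → S.B x y = 0 := fun {x y} h1 h2 h3 => by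
    rwa [S.q_add, h1, h2, zero_add, zero_add] at h3
  have hDm : D m = m + l := by
    obtain ⟨a, a', b, b', e⟩ := hH.span hlE hm (add_mem (hD.mem S hm) hm)
    have e1 : S.B l (D m + m) = 0 := by rw [hl]; exact himB v0 m
    have e2 : S.B (S.T l) (D m + m) = 0 := by rw [← hTl]; exact himB _ m
    obtain ⟨x1, x2, x3, -⟩ := hH.B_left a a' b b'
    rw [← e] at x1 x2 x3
    obtain rfl := e1.symm.trans x1
    obtain rfl := e2.symm.trans x2
    have hDm' : D m = m + (D m + m) := by rw [add_comm (D m) m, ← add_assoc, add_self', zero_add]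
    have hq : S.B m (D m + m) = 0 := hq0 hH.qm (by rw [e, hH.q_comb]; simp) (by rw [← hDm', hD.qA, hH.qm])
    obtain rfl := hq.symm.trans x3
    rcases (by decide : ∀ t : ZMod 2, t = 0 ∨ t = 1) a with rfl | rfl
    · exfalso
      simp [comb] at e
      obtain ⟨c, c', d, d', ev⟩ := hH.span hlE hm hv0
      refine hne ?_
      rw [ev, hD.map_comb, hDl, eq_of_add_eq_zero' e]
      rfl
    · rw [hDm', e]; simp [comb]
  refine ⟨l, m, hlE, hm, hH, hDl, hDm, fun D' hD' hc => ?_⟩
  obtain ⟨a, a', b, b', e⟩ := hH.span hlE hm (hD'.mem S hm)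
  have hlim : D' l = b • l + b' • S.T l := by
    have h : D' l = D (D' m) + D' m := by
      rw [← hc, hDm, map_add, add_comm (D' m), add_assoc, add_self', add_zero]
    rw [h, e, hD.map_comb, hDl, hDm, map_add, smul_add, smul_add, comb]
    calc _ = (b • l + b' • S.T l) + ((a • l + a • l) + (a' • S.T l + a' • S.T l) + (b • m + b • m) +
          (b' • S.T m + b' • S.T m)) := by abel
      _ = _ := by simp only [add_self', add_zero]
  have hl2 : D' l = l := by
    have h2 := hD'.sq l
    rw [hlim, map_add, map_smul, map_smul, hD'.hT, hlim] at h2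
    rcases (by decide : ∀ t : ZMod 2, t = 0 ∨ t = 1) b with rfl | rfl <;>
      rcases (by decide : ∀ t : ZMod 2, t = 0 ∨ t = 1) b' with rfl | rfl <;>
      simp only [zero_smul, one_smul, zero_add, add_zero, map_add, map_zero] at h2 hlim ⊢
    · exact absurd h2.symm hl0
    · exfalso
      refine hl0 (S.T_fpf ?_)
      conv_lhs => rw [← h2]
      exact S.T3 l
    · exact hlim
    · exfalso
      refine hl0 (S.T_fpf ?_)
      have e' : l + S.T l + (S.T l + S.T (S.T l)) = S.T l := by
        rw [← add_assoc, add_assoc l (S.T l) (S.T l), add_self', add_zero]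
        exact (congrArg (l + ·) (T_eq (S := S) l)).trans (by rw [← add_assoc, add_self', zero_add])
      exact e'.symm.trans h2
  have hbb : b = 1 ∧ b' = 0 := by
    have e' : S.comb l m b b' 0 0 = S.comb l m 1 0 0 0 := by
      simp only [comb, zero_smul, one_smul, add_zero]
      rw [← hlim, hl2]
    obtain ⟨-, -, x3, x4⟩ := hH.B_left b b' 0 0
    obtain ⟨-, -, y3, y4⟩ := hH.B_left 1 0 0 0
    rw [e'] at x3 x4
    exact ⟨x4.symm.trans y4, x3.symm.trans y3⟩
  obtain ⟨rfl, rfl⟩ := hbb
  refine ⟨hl2, ?_⟩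
  have hq := congrArg S.q e
  rw [hD'.qA, hH.qm, hH.q_comb] at hq
  simp only [mul_zero, mul_one, zero_add] at hq
  subst hq
  rcases (by decide : ∀ t : ZMod 2, t = 0 ∨ t = 1) a with rfl | rfl
  · left; rw [e]; simp [comb]
  · right; rw [e]; simp [comb, add_comm]

theorem X_pow (i : ℕ) {v : W12} (h : v ∈ S.E 0) : (S.X ^ i) v ∈ S.E i := by
  induction i with
  | zero => simpa using h
  | succ i ih => rw [pow_succ', Module.End.mul_apply]; exact S.X_mem ih

variable (S)

/-- An involution transported to the first eigenspace. -/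
def conjX (i : ℕ) (A : Module.End (ZMod 2) W12) : Module.End (ZMod 2) W12 := S.X ^ (2 * i) * A * S.X ^ i

theorem conjX_inv {A : Module.End (ZMod 2) W12} (hA : S.Inv A) (i : ℕ) : S.Inv (S.conjX i A) := by
  have hXq : ∀ (k : ℕ) v, S.q ((S.X ^ k) v) = S.q v := fun k => by
    induction k with
    | zero => simp
    | succ k ih => intro v; rw [pow_succ', Module.End.mul_apply, S.qX, ih]
  have hXT : ∀ (k : ℕ) v, (S.X ^ k) (S.T v) = S.T ((S.X ^ k) v) := fun k => by
    induction k with
    | zero => simp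
    | succ k ih => intro v; rw [pow_succ', Module.End.mul_apply, Module.End.mul_apply, ih, S.hXT]
  have hX3 : ∀ (k : ℕ) v, (S.X ^ (3 * k)) v = v := fun k => by
    induction k with
    | zero => simp
    | succ k ih => intro v; rw [Nat.mul_succ, pow_add, Module.End.mul_apply, ih, pow_succ', pow_two]; exact S.X3 v
  have hYk : ∀ (k : ℕ) v, S.Y ((S.X ^ k) v) = (S.T ^ k) ((S.X ^ k) (S.Y v)) := fun k => by
    induction k with
    | zero => simp
    | succ k ih =>
      intro v
      rw [pow_succ', Module.End.mul_apply, S.hYX, ih]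
      have : ∀ (j : ℕ) w, S.X ((S.T ^ j) w) = (S.T ^ j) (S.X w) := fun j => by
        induction j with
        | zero => simp
        | succ j ihj => intro w; rw [pow_succ', Module.End.mul_apply, Module.End.mul_apply, S.hXT, ihj]
      rw [this, pow_succ', Module.End.mul_apply, Module.End.mul_apply]
  have hTA : ∀ (k : ℕ) v, A ((S.T ^ k) v) = (S.T ^ k) (A v) := fun k => by
    induction k with
    | zero => simp
    | succ k ih => intro v; rw [pow_succ', Module.End.mul_apply, Module.End.mul_apply, hA.hT, ih]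
  refine ⟨fun v => ?_, fun v => ?_, fun v => ?_, fun v => ?_⟩ <;> simp only [conjX, Module.End.mul_apply]
  · rw [← Module.End.mul_apply (S.X ^ i), ← pow_add, show i + 2 * i = 3 * i by ring, hX3, hA.sq,
      ← Module.End.mul_apply (S.X ^ (2 * i)), ← pow_add, show 2 * i + i = 3 * i by ring, hX3]
  · rw [hXq, hA.qA, hXq]
  · rw [hXT, hA.hT, hXT]
  · have h1 : (S.X ^ i) (S.Y v) = (S.T ^ (2 * i)) (S.Y ((S.X ^ i) v)) := by
      rw [hYk, S.T_T, S.T_pow_mod, show (2 * i + i) % 3 = 0 by omega, pow_zero, Module.End.one_apply]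
    rw [h1, hTA, hA.hY]
    have hXTk : ∀ (j : ℕ) w, (S.X ^ (2 * i)) ((S.T ^ j) w) = (S.T ^ j) ((S.X ^ (2 * i)) w) := fun j => by
      induction j with
      | zero => simp
      | succ j ihj => intro w; rw [pow_succ', Module.End.mul_apply, Module.End.mul_apply, hXT, ihj]
    rw [hXTk, hYk (2 * i)]

variable {S}

theorem X_pow3 (k : ℕ) (v : W12) : (S.X ^ k) v = (S.X ^ (k % 3)) v := by
  have h3 : S.X ^ 3 = 1 := LinearMap.ext fun w => by
    simp only [pow_succ', pow_zero, Module.End.mul_apply, Module.End.one_apply]; exact S.X3 w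
  conv_lhs => rw [← Nat.div_add_mod k 3, pow_add, pow_mul, h3, one_pow, one_mul]

theorem X_X (a b : ℕ) (v : W12) : (S.X ^ a) ((S.X ^ b) v) = (S.X ^ (a + b)) v := by
  rw [pow_add, Module.End.mul_apply]

theorem conjX_apply (A : Module.End (ZMod 2) W12) (i : ℕ) (v : W12) :
    (S.X ^ i) (S.conjX i A v) = A ((S.X ^ i) v) := by
  simp only [conjX, ← Module.End.mul_apply, ← mul_assoc, ← pow_add]
  rw [mul_assoc, Module.End.mul_apply, X_pow3, show (i + 2 * i) % 3 = 0 by omega, pow_zero,
    Module.End.one_apply, Module.End.mul_apply]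

/-- Two commuting involutions agree or one is trivial on a hyperbolic plane. -/
theorem agree {D D' : Module.End (ZMod 2) W12} (hD : S.Inv D) (hD' : S.Inv D') (hc : ∀ v, D' (D v) = D (D' v))
    (hne : ∃ v ∈ S.E 0, D v ≠ v) :
    (∀ v ∈ S.E 0, D' v = v) ∨ ∀ v ∈ S.E 0, D' v = D v := by
  obtain ⟨l, m, hl, hm, hH, hDl, hDm, h⟩ := exists_line hD hne
  obtain ⟨h1, h2 | h2⟩ := h D' hD' hc
  · left; intro v hv
    obtain ⟨a, a', b, b', rfl⟩ := hH.span hl hm hv
    rw [hD'.map_comb, h1, h2]; rfl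
  · right; intro v hv
    obtain ⟨a, a', b, b', rfl⟩ := hH.span hl hm hv
    rw [hD'.map_comb, hD.map_comb, h1, h2, hDl, hDm]

/-- The same space with the second generator multiplied by a scalar. -/
def shift (S : Geo) (j : ℕ) : Geo :=
  { S with
    Y := S.T ^ j * S.Y
    qY := fun v => by
      have h : ∀ k w, S.q ((S.T ^ k) w) = S.q w := fun k => by
        induction k with
        | zero => simp
        | succ k ih => intro w; rw [pow_succ', Module.End.mul_apply, S.qT, ih]
      rw [Module.End.mul_apply, h, S.qY]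
    hYT := fun v => by
      rw [Module.End.mul_apply, Module.End.mul_apply, S.hYT, ← Module.End.mul_apply, ← pow_succ, pow_succ',
        Module.End.mul_apply]
    hYX := fun v => by
      have hXk : ∀ k w, S.X ((S.T ^ k) w) = (S.T ^ k) (S.X w) := fun k => by
        induction k with
        | zero => simp
        | succ k ih => intro w; rw [pow_succ', Module.End.mul_apply, Module.End.mul_apply, S.hXT, ih]
      rw [Module.End.mul_apply, Module.End.mul_apply, S.hYX, hXk, ← Module.End.mul_apply, ← pow_succ, pow_succ',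
        Module.End.mul_apply]
    Y3 := fun v => by
      simp only [Module.End.mul_apply]
      rw [S.Y_pow_T, S.Y_pow_T, S.Y_pow_T, S.Y3, ← Module.End.mul_apply, ← pow_add, ← Module.End.mul_apply,
        ← pow_add, S.T_pow_mod, show (j + j + j) % 3 = 0 by omega, pow_zero, Module.End.one_apply] }

theorem shift_mem {j i : ℕ} {v : W12} : v ∈ (S.shift j).E i ↔ v ∈ S.E ((i + 2 * j) % 3) := by
  show (S.T ^ j * S.Y) v = (S.T ^ i) v ↔ S.Y v = (S.T ^ ((i + 2 * j) % 3)) v
  rw [← S.T_pow_mod, Module.End.mul_apply]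
  constructor
  · intro h
    have h2 := congrArg (fun w => (S.T ^ (2 * j)) w) h
    simp only [← Module.End.mul_apply, ← pow_add] at h2
    rw [← mul_assoc, ← pow_add, Module.End.mul_apply, S.T_pow_mod (2 * j + j), show (2 * j + j) % 3 = 0 by omega,
      pow_zero, Module.End.one_apply] at h2
    rw [h2, add_comm (2 * j)]
  · intro h
    rw [h, ← Module.End.mul_apply, ← pow_add, S.T_pow_mod, show (j + (i + 2 * j)) % 3 = i % 3 by omega,
      ← S.T_pow_mod]

/-- After a shift the involution is trivial exactly on the first eigenspace. -/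
theorem exists_shift {A g gi : Module.End (ZMod 2) W12} (hA : S.Inv A) (hne : ∃ v, A v ≠ v)
    (hcomm : ∀ v, A (S.X (A (S.X (S.X v)))) = S.X (A (S.X (S.X (A v)))))
    (hdiff : ∃ v, A v ≠ S.X (A (S.X (S.X v))))
    (hgi : ∀ v, g (gi v) = v) (hg : ∀ v, g (A v) = A (S.X (A (S.X (S.X (g v)))))) :
    ∃ j, j < 3 ∧ (∀ v ∈ (S.shift j).E 0, A v = v) ∧ (∃ v ∈ (S.shift j).E 1, A v ≠ v) ∧
      ∃ v ∈ (S.shift j).E 2, A v ≠ v := by
  set D := fun i => S.conjX i A with hD
  have hinv : ∀ i, S.Inv (D i) := fun i => S.conjX_inv hA i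
  have hA' : ∀ i v, (S.conjX i (S.X * A * (S.X * S.X))) v = D (i + 2) v := fun i v => by
    simp only [hD, conjX]
    rw [show S.X ^ (2 * i) * (S.X * A * (S.X * S.X)) * S.X ^ i = S.X ^ (2 * i + 1) * A * S.X ^ (i + 2) by
      rw [add_comm i 2, pow_add S.X 2 i, pow_succ, pow_two]
      simp only [mul_assoc]]
    simp only [Module.End.mul_apply]
    rw [X_pow3 (2 * i + 1), X_pow3 (2 * (i + 2)), show (2 * (i + 2)) % 3 = (2 * i + 1) % 3 by omega]
  have hDmod : ∀ i v, D i v = D (i % 3) v := fun i v => by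
    simp only [hD, conjX, Module.End.mul_apply]
    rw [X_pow3 (2 * i), X_pow3 i, X_pow3 (2 * (i % 3)), show (2 * (i % 3)) % 3 = (2 * i) % 3 by omega]
  have hcomm' : ∀ i v, D (i + 2) (D i v) = D i (D (i + 2) v) := fun i v => by
    rw [← hA', ← hA']
    simp only [hD, conjX, Module.End.mul_apply]
    have e : ∀ w, (S.X ^ i) ((S.X ^ (2 * i)) w) = w := fun w => by
      rw [← Module.End.mul_apply, ← pow_add, X_pow3, show (i + 2 * i) % 3 = 0 by omega, pow_zero,
        Module.End.one_apply]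
    rw [e, e, hcomm]
  set nz := fun i => ∃ v ∈ S.E 0, D i v ≠ v with hnz
  have triv : ∀ i, ¬ nz i → ∀ v ∈ S.E i, A v = v := fun i hi v hv => by
    simp only [hnz, not_exists, not_and, not_not] at hi
    have hv0 : (S.X ^ (2 * i)) v ∈ S.E 0 := by
      have hk : ∀ k, (S.X ^ k) v ∈ S.E (i + k) := fun k => by
        induction k with
        | zero => simpa using hv
        | succ k ih => rw [pow_succ', Module.End.mul_apply]; exact S.X_mem ih
      have := S.E_mod.1 (hk (2 * i))
      rwa [show (i + 2 * i) % 3 = 0 by omega] at this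
    have h := congrArg (fun w => (S.X ^ i) w) (hi _ hv0)
    simp only [hD, conjX_apply] at h
    rw [X_X, X_pow3, show (i + 2 * i) % 3 = 0 by omega, pow_zero, Module.End.one_apply] at h
    exact h
  have nzE : ∀ i, nz i → ∃ v ∈ S.E (i % 3), A v ≠ v := fun i ⟨v, hv, h⟩ => by
    refine ⟨(S.X ^ i) v, S.E_mod.1 (X_pow i hv), fun e => h ?_⟩
    rw [← conjX_apply] at e
    have e' := congrArg (fun w => (S.X ^ (2 * i)) w) e
    simp only [← Module.End.mul_apply, ← mul_assoc, ← pow_add] at e'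
    rw [Module.End.mul_apply, X_pow3, show (2 * i + i) % 3 = 0 by omega, pow_zero, Module.End.one_apply] at e'
    rw [X_pow3, show (2 * i + i) % 3 = 0 by omega, pow_zero, Module.End.one_apply] at e'
    exact e'
  have hnzmod : ∀ i, nz i ↔ nz (i % 3) := fun i => by simp only [hnz, ← hDmod]
  -- not everywhere
  have notall : ¬ (nz 0 ∧ nz 1 ∧ nz 2) := by
    rintro ⟨h0, h1, h2⟩
    obtain ⟨v, hv⟩ := hdiff
    refine hv ?_
    have key : ∀ i < 3, ∀ w ∈ S.E i, A w = S.X (A (S.X (S.X w))) := fun i hi w hw => by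
      have hn : nz i := by interval_cases i <;> assumption
      have hn' : nz (i + 2) := by rw [hnzmod]; interval_cases i <;> assumption
      rcases agree (hinv i) (hinv (i + 2)) (hcomm' i) hn with h | h
      · obtain ⟨u, hu, hu'⟩ := hn'
        exact absurd (h u hu) hu'
      have hw0 : (S.X ^ (2 * i)) w ∈ S.E 0 := by
        have hk : ∀ k, (S.X ^ k) w ∈ S.E (i + k) := fun k => by
          induction k with
          | zero => simpa using hw
          | succ k ih => rw [pow_succ', Module.End.mul_apply]; exact S.X_mem ih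
        have := S.E_mod.1 (hk (2 * i))
        rwa [show (i + 2 * i) % 3 = 0 by omega] at this
      have e := congrArg (fun u => (S.X ^ i) u) (h _ hw0)
      simp only [← hA'] at e
      simp only [hD, conjX_apply] at e
      rw [X_X, X_pow3, show (i + 2 * i) % 3 = 0 by omega, pow_zero,
        Module.End.one_apply] at e
      exact e.symm
    rw [← S.sum_e v]
    simp only [map_add]
    rw [key 0 (by norm_num) _ (S.e_mem 0 v), key 1 (by norm_num) _ (S.e_mem 1 v), key 2 (by norm_num) _ (S.e_mem 2 v)]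
  -- not once only
  have notone : ∀ i < 3, nz i → ¬ (¬ nz ((i + 1) % 3) ∧ ¬ nz ((i + 2) % 3)) := by
    rintro i hi hn ⟨h1, h2⟩
    obtain ⟨l, m, hl, hm, hH, hDl, hDm, -⟩ := exists_line (hinv i) hn
    have him : ∀ v, ∃ a a' : ZMod 2, A v + v = a • (S.X ^ i) l + a' • S.T ((S.X ^ i) l) := fun v => by
      have hXT : ∀ (k : ℕ) u, (S.X ^ k) (S.T u) = S.T ((S.X ^ k) u) := fun k => by
        induction k with
        | zero => simp
        | succ k ih => intro u; rw [pow_succ', Module.End.mul_apply, Module.End.mul_apply, ih, S.hXT]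
      have hfix : ∀ k < 3, k ≠ i → A (S.e k v) = S.e k v := fun k hk hki => triv k (by
        rcases (show k = (i + 1) % 3 ∨ k = (i + 2) % 3 by omega) with e | e <;> rw [e] <;> assumption) _ (S.e_mem k v)
      have e1 : A v + v = A (S.e i v) + S.e i v := by
        conv_lhs => rw [← S.sum_e v]
        simp only [map_add]
        interval_cases i
        · rw [hfix 1 (by norm_num) (by norm_num), hfix 2 (by norm_num) (by norm_num)]
          calc _ = A (S.e 0 v) + S.e 0 v + ((S.e 1 v + S.e 1 v) + (S.e 2 v + S.e 2 v)) := by abel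
            _ = _ := by rw [add_self', add_self', add_zero, add_zero]
        · rw [hfix 0 (by norm_num) (by norm_num), hfix 2 (by norm_num) (by norm_num)]
          calc _ = A (S.e 1 v) + S.e 1 v + ((S.e 0 v + S.e 0 v) + (S.e 2 v + S.e 2 v)) := by abel
            _ = _ := by rw [add_self', add_self', add_zero, add_zero]
        · rw [hfix 0 (by norm_num) (by norm_num), hfix 1 (by norm_num) (by norm_num)]
          calc _ = A (S.e 2 v) + S.e 2 v + ((S.e 0 v + S.e 0 v) + (S.e 1 v + S.e 1 v)) := by abel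
            _ = _ := by rw [add_self', add_self', add_zero, add_zero]
      have hu : (S.X ^ (2 * i)) (S.e i v) ∈ S.E 0 := by
        have hk : ∀ k, (S.X ^ k) (S.e i v) ∈ S.E (i + k) := fun k => by
          induction k with
          | zero => simpa using S.e_mem i v
          | succ k ih => rw [pow_succ', Module.End.mul_apply]; exact S.X_mem ih
        have := S.E_mod.1 (hk (2 * i))
        rwa [show (i + 2 * i) % 3 = 0 by omega] at this
      obtain ⟨a, a', b, b', hab⟩ := hH.span hl hm hu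
      refine ⟨b, b', ?_⟩
      have he : S.e i v = (S.X ^ i) (S.comb l m a a' b b') := by
        rw [← hab, X_X, X_pow3, show (i + 2 * i) % 3 = 0 by omega, pow_zero,
          Module.End.one_apply]
      rw [e1, he, ← conjX_apply, ← map_add, (hinv i).map_comb, hDl, hDm, ← hXT, ← map_smul (S.X ^ i),
        ← map_smul (S.X ^ i), ← map_add (S.X ^ i)]
      congr 1
      simp only [comb, map_add, smul_add]
      calc _ = b • l + b' • S.T l + ((a • l + a • l) + (a' • S.T l + a' • S.T l) + (b • m + b • m) +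
            (b' • S.T m + b' • S.T m)) := by abel
        _ = _ := by simp only [add_self', add_zero]
    -- five images
    set w1 := (S.X ^ i) m with hw1
    set L1 := (S.X ^ i) l with hL1
    have hAw : A w1 = w1 + L1 := by
      rw [hw1, hL1, ← conjX_apply, ← map_add]; exact congrArg _ hDm
    have hL1E : L1 ∈ S.E i := X_pow i hl
    have hw1E : w1 ∈ S.E i := X_pow i hm
    have hA1 : ∀ u ∈ S.E i, S.X (A (S.X (S.X u))) = u := fun u hu => by
      rw [triv ((i + 2) % 3) h2 _ (S.E_mod.1 (S.X_mem (S.X_mem hu))), S.X3]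
    have hXw : S.X w1 ∈ S.E ((i + 1) % 3) := S.E_mod.1 (S.X_mem hw1E)
    have hBim : ∀ u, ∃ a a' : ZMod 2, gi (A (S.X (A (S.X (S.X u)))) + u) = a • L1 + a' • S.T L1 := fun u => by
      obtain ⟨a, a', h⟩ := him (gi u)
      refine ⟨a, a', ?_⟩
      have hgA : ∀ x, gi (g x) = x := fun x => by
        have hinj : Function.Injective g := LinearMap.injective_iff_surjective.2 fun y => ⟨gi y, hgi y⟩
        exact hinj (hgi (g x))
      rw [← h, map_add]
      conv_lhs => rw [← hgi u, ← hg, hgA, hgA]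
    have hy1 : A (S.X (A (S.X (S.X w1)))) + w1 = L1 := by
      rw [hA1 w1 hw1E, hAw, add_right_comm, add_self', zero_add]
    have hy2 : A (S.X (A (S.X (S.X (S.X w1))))) + S.X w1 = S.X L1 := by
      rw [S.X3, hAw, map_add, map_add,
        triv _ h1 _ hXw, triv _ h1 _ (S.E_mod.1 (S.X_mem hL1E)), add_right_comm, add_self', zero_add]
    obtain ⟨a1, b1, c1⟩ := hBim w1
    obtain ⟨a2, b2, c2⟩ := hBim (S.X w1)
    obtain ⟨a3, b3, c3⟩ := hBim (S.T w1)
    have hy3 : A (S.X (A (S.X (S.X (S.T w1))))) + S.T w1 = S.T L1 := by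
      rw [hA1 _ (S.T_mem hw1E), hA.hT, ← map_add, hAw, add_right_comm, add_self', zero_add]
    rw [hy1] at c1; rw [hy2] at c2; rw [hy3] at c3
    have hB : ∀ a b c : ZMod 2, a • L1 + b • S.T L1 + c • S.X L1 = 0 → a = 0 ∧ b = 0 ∧ c = 0 := by
      intro a b c hz
      have hT1 := S.T_mem hL1E
      have hL0 : L1 ≠ 0 := fun e => by
        have hBl : S.B L1 (S.T ((S.X ^ i) m)) = S.B l (S.T m) := by
          have hXq : ∀ (k : ℕ) v, S.q ((S.X ^ k) v) = S.q v := fun k => by
            induction k with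
            | zero => simp
            | succ k ih => intro v; rw [pow_succ', Module.End.mul_apply, S.qX, ih]
          have hXT : ∀ (k : ℕ) u, (S.X ^ k) (S.T u) = S.T ((S.X ^ k) u) := fun k => by
            induction k with
            | zero => simp
            | succ k ih => intro u; rw [pow_succ', Module.End.mul_apply, Module.End.mul_apply, ih, S.hXT]
          rw [hL1, ← hXT]
          simp only [B, QuadraticMap.polar, ← map_add, hXq]
        rw [e, hH.lTm] at hBl
        simp [B, QuadraticMap.polar] at hBl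
      have hXL : S.X L1 ∈ S.E ((i + 1) % 3) := S.E_mod.1 (S.X_mem hL1E)
      have he : ∀ j, j < 3 → S.e j (a • L1 + b • S.T L1 + c • S.X L1) =
          a • S.e j L1 + b • S.e j (S.T L1) + c • S.e j (S.X L1) := fun j _ => by
        simp only [e, map_add, map_smul, smul_add]; abel
      have h0 := he i hi
      have h1' := he ((i + 1) % 3) (by omega)
      rw [hz, show S.e i 0 = 0 by simp [e], S.e_of_mem hi hi hL1E, S.e_of_mem hi hi hT1,
        S.e_of_mem hi (by omega) hXL, if_pos rfl, if_pos rfl, if_neg (by omega), smul_zero, add_zero] at h0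
      rw [hz, show S.e ((i + 1) % 3) 0 = 0 by simp [e], S.e_of_mem (by omega) hi hL1E, S.e_of_mem (by omega) hi hT1,
        S.e_of_mem (by omega) (by omega) hXL, if_pos rfl, if_neg (by omega), if_neg (by omega), smul_zero, smul_zero,
        zero_add, zero_add] at h1'
      have hc : c = 0 := by
        rcases (by decide : ∀ t : ZMod 2, t = 0 ∨ t = 1) c with rfl | rfl
        · rfl
        · rw [one_smul] at h1'
          have h := congrArg (fun w => S.X (S.X w)) h1'
          simp only [S.X3, map_zero] at h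
          exact absurd h.symm hL0
      refine ⟨?_, ?_, hc⟩ <;> rcases (by decide : ∀ t : ZMod 2, t = 0 ∨ t = 1) a with rfl | rfl <;>
        rcases (by decide : ∀ t : ZMod 2, t = 0 ∨ t = 1) b with rfl | rfl <;>
        simp only [zero_smul, one_smul, zero_add, add_zero] at h0 <;> try rfl
      all_goals first
        | exact absurd h0.symm hL0
        | exact absurd (show L1 = 0 by have h := congrArg (fun w => S.T (S.T w)) h0.symm; simpa [S.T3] using h) hL0
        | exact absurd (S.T_fpf (eq_of_add_eq_zero' h0.symm).symm) hL0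
    -- three independent vectors into a plane
    have hinj : Function.Injective gi := Function.LeftInverse.injective (g := g) hgi
    have dep : ∀ x1 y1 x2 y2 x3 y3 : ZMod 2, ∃ a b c : ZMod 2, ¬ (a = 0 ∧ b = 0 ∧ c = 0) ∧
        a * x1 + b * x3 + c * x2 = 0 ∧ a * y1 + b * y3 + c * y2 = 0 := by decide
    have := dep a1 b1 a2 b2 a3 b3
    obtain ⟨a, b, c, hne0, e1, e2⟩ := this
    refine hne0 (hB a b c (hinj ?_))
    rw [map_zero, map_add, map_add, map_smul, map_smul, map_smul, c1, c3, c2]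
    calc a • (a1 • L1 + b1 • S.T L1) + b • (a3 • L1 + b3 • S.T L1) + c • (a2 • L1 + b2 • S.T L1) =
          (a * a1 + b * a3 + c * a2) • L1 + (a * b1 + b * b3 + c * b2) • S.T L1 := by
            simp only [smul_add, smul_smul, add_smul]; abel
      _ = 0 := by rw [e1, e2, zero_smul, zero_smul, add_zero]
  obtain ⟨v, hv⟩ := hne
  have hsome : nz 0 ∨ nz 1 ∨ nz 2 := by
    by_contra hcon
    simp only [not_or] at hcon
    refine hv ?_
    rw [← S.sum_e v, map_add, map_add, triv 0 hcon.1 _ (S.e_mem 0 v), triv 1 hcon.2.1 _ (S.e_mem 1 v),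
      triv 2 hcon.2.2 _ (S.e_mem 2 v)]
  have hkill : ∃ k < 3, ¬ nz k ∧ nz ((k + 1) % 3) ∧ nz ((k + 2) % 3) := by
    have n0 := notone 0 (by norm_num)
    have n1 := notone 1 (by norm_num)
    have n2 := notone 2 (by norm_num)
    norm_num at n0 n1 n2
    by_cases h0 : nz 0
    · by_cases h1 : nz 1
      · exact ⟨2, by norm_num, fun h2 => notall ⟨h0, h1, h2⟩, h0, h1⟩
      · exact ⟨1, by norm_num, h1, n0 h0 h1, h0⟩
    · by_cases h1 : nz 1
      · by_cases h2 : nz 2
        · exact ⟨0, by norm_num, h0, h1, h2⟩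
        · exact absurd (n1 h1 h2) h0
      · rcases hsome with h | h | h
        · exact absurd h h0
        · exact absurd h h1
        · exact absurd (n2 h h0) h1
  obtain ⟨k, hk, h1, h2, h3⟩ := hkill
  refine ⟨(2 * k) % 3, Nat.mod_lt _ (by norm_num), fun w hw => triv k h1 w ?_, ?_, ?_⟩
  · have := shift_mem.1 hw
    rwa [show (0 + 2 * ((2 * k) % 3)) % 3 = k by omega] at this
  · obtain ⟨w, hw, hne⟩ := nzE _ h2
    exact ⟨w, shift_mem.2 (by rw [show (1 + 2 * ((2 * k) % 3)) % 3 = (k + 1) % 3 % 3 by omega]; exact hw), hne⟩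
  · obtain ⟨w, hw, hne⟩ := nzE _ h3
    exact ⟨w, shift_mem.2 (by rw [show (2 + 2 * ((2 * k) % 3)) % 3 = (k + 2) % 3 % 3 by omega]; exact hw), hne⟩

/-- A bit as a number modulo two. -/
def zb (b : Bool) : ZMod 2 := if b then 1 else 0

/-- Two commuting involutions and their frame. -/
structure IsFrame (S : Geo) (A : Module.End (ZMod 2) W12) (Φ : ℕ → W12) : Prop where
  add : ∀ m n, Φ (m ^^^ n) = Φ m + Φ n
  surj : ∀ v, ∃ n < 4096, Φ n = v
  inj : ∀ m < 4096, ∀ n < 4096, Φ m = Φ n → m = n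
  form : ∀ n < 4096, S.q (Φ n) = zb (qv n)
  T : ∀ n < 4096, S.T (Φ n) = Φ (app mT n)
  X : ∀ n < 4096, S.X (Φ n) = Φ (app mX n)
  Y : ∀ n < 4096, S.Y (Φ n) = Φ (app mY n)
  A0 : ∀ n < 4096, A (Φ n) = Φ (app (mA 0) n)

theorem qv_nondeg : ((List.range 4096).all fun n => qv n || (n == 0) ||
    (List.range 12).any fun i => qv (2 ^ i ^^^ n) != qv (2 ^ i)) = true := by decide +kernel

/-- The frame. -/
theorem exists_frame {A : Module.End (ZMod 2) W12} (hA : S.Inv A)
    (hcomm : ∀ v, A (S.X (A (S.X (S.X v)))) = S.X (A (S.X (S.X (A v)))))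
    (h0 : ∀ v ∈ S.E 0, A v = v) (h1 : ∃ v ∈ S.E 1, A v ≠ v) (h2 : ∃ v ∈ S.E 2, A v ≠ v) :
    ∃ Φ : ℕ → W12, IsFrame S A Φ := by
  have hne : ∀ i, (∃ v ∈ S.E i, A v ≠ v) → ∃ v ∈ S.E 0, S.conjX i A v ≠ v := fun i ⟨v, hv, h⟩ => by
    have hv0 : (S.X ^ (2 * i)) v ∈ S.E 0 := by
      have hk : ∀ k, (S.X ^ k) v ∈ S.E (i + k) := fun k => by
        induction k with
        | zero => simpa using hv
        | succ k ih => rw [pow_succ', Module.End.mul_apply]; exact S.X_mem ih
      have := S.E_mod.1 (hk (2 * i))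
      rwa [show (i + 2 * i) % 3 = 0 by omega] at this
    refine ⟨_, hv0, fun e => h ?_⟩
    have e' := congrArg (fun w => (S.X ^ i) w) e
    simp only [conjX_apply] at e'
    rwa [X_X, X_pow3, show (i + 2 * i) % 3 = 0 by omega, pow_zero, Module.End.one_apply] at e'
  have hi1 := S.conjX_inv hA 1
  have hi2 := S.conjX_inv hA 2
  have hc12 : ∀ v, S.conjX 2 A (S.conjX 1 A v) = S.conjX 1 A (S.conjX 2 A v) := fun v => by
    simp only [conjX, Module.End.mul_apply, pow_one, mul_one, show 2 * 2 = 4 from rfl, pow_succ, pow_zero, one_mul,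
      S.X3]
    have h := congrArg S.X (hcomm (S.X (S.X v)))
    simp only [S.X3] at h
    exact h
  obtain ⟨l, m, hl, hm, hH, hDl, hDm, -⟩ := exists_line hi1 (hne 1 h1)
  have hD2 : ∀ v ∈ S.E 0, S.conjX 2 A v = S.conjX 1 A v := by
    rcases agree hi1 hi2 hc12 (hne 1 h1) with h | h
    · obtain ⟨v, hv, hv'⟩ := hne 2 h2
      exact absurd (h v hv) hv'
    · exact h
  let b : Fin 12 → W12 := ![l, S.T l, S.X l, S.T (S.X l), S.X (S.X l), S.T (S.X (S.X l)),
    m, S.T m, S.X m, S.T (S.X m), S.X (S.X m), S.T (S.X (S.X m))]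
  let Φ : ℕ → W12 := fun n => ∑ i : Fin 12, if n.testBit i then b i else 0
  have hadd : ∀ m n, Φ (m ^^^ n) = Φ m + Φ n := fun m n => by
    simp only [Φ, ← Finset.sum_add_distrib]
    refine Finset.sum_congr rfl fun i _ => ?_
    rw [Nat.testBit_xor]
    cases m.testBit i <;> cases n.testBit i <;> simp [add_self']
  have hz : Φ 0 = 0 := by simp [Φ]
  have hbas : ∀ i : Fin 12, Φ (2 ^ (i : ℕ)) = b i := fun i => by
    simp only [Φ, Nat.testBit_two_pow]
    rw [Finset.sum_eq_single i (fun j _ hj => if_neg (by simp [Fin.val_inj, Ne.symm hj]))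
      (fun h => absurd (Finset.mem_univ i) h)]
    simp
  have hmap : ∀ (f : Module.End (ZMod 2) W12) (M : List ℕ), M.length = 12 →
      (∀ i : Fin 12, f (b i) = Φ (M.getD i 0)) → ∀ n < 4096, f (Φ n) = Φ (app M n) := by
    intro f M hM hf
    refine xor_induction (p := fun n => f (Φ n) = Φ (app M n)) ?_ 12 fun i hi k hk ih => ?_
    · rw [Cos.J4Sub.app_zero, hz, map_zero]
    · rw [hadd, map_add, ih, Cos.J4Sub.app_xor, hadd, app_two_pow (by omega), hbas ⟨i, hi⟩, hf ⟨i, hi⟩]
  have bval : ∀ k : ℕ, k < 12 → Φ (2 ^ k) = b ⟨k % 12, Nat.mod_lt _ (by norm_num)⟩ := fun k hk => by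
    rw [← hbas ⟨k % 12, Nat.mod_lt _ (by norm_num)⟩]
    show Φ (2 ^ k) = Φ (2 ^ (k % 12))
    rw [Nat.mod_eq_of_lt hk]
  have p1 : ∀ u, u ∈ S.E 0 → S.Y u = u := fun u hu => by
    rw [S.mem_E.1 hu, pow_zero, Module.End.one_apply]
  have pE1 : ∀ u, u ∈ S.E 0 → S.Y (S.X u) = S.T (S.X u) := fun u hu => by
    rw [S.mem_E.1 (S.X_mem hu), zero_add, pow_one]
  have pE2 : ∀ u, u ∈ S.E 0 → S.Y (S.X (S.X u)) = S.T (S.T (S.X (S.X u))) := fun u hu => by
    rw [S.mem_E.1 (S.X_mem (S.X_mem hu)), show 0 + 1 + 1 = 2 from rfl, pow_two, Module.End.mul_apply]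
  have A1 : ∀ u, A (S.X u) = S.X (S.conjX 1 A u) := fun u => by
    have := (S.conjX_apply A 1 u).symm
    simpa [pow_one] using this
  have A2 : ∀ u, A (S.X (S.X u)) = S.X (S.X (S.conjX 2 A u)) := fun u => by
    have := (S.conjX_apply A 2 u).symm
    simpa [pow_two, Module.End.mul_apply] using this
  have A12 : ∀ u, S.conjX 1 A (S.X u) = S.X (S.conjX 2 A u) := fun u => by
    have h := congrArg (fun w => S.X (S.X w)) ((A1 (S.X u)).symm.trans (A2 u))
    simpa only [S.X3] using h
  refine ⟨Φ, ?_⟩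
  have hdec : ∀ n, Φ n = S.comb l m (zb (n.testBit 0)) (zb (n.testBit 1)) (zb (n.testBit 6)) (zb (n.testBit 7)) +
      S.X (S.comb l m (zb (n.testBit 2)) (zb (n.testBit 3)) (zb (n.testBit 8)) (zb (n.testBit 9))) +
      S.X (S.X (S.comb l m (zb (n.testBit 4)) (zb (n.testBit 5)) (zb (n.testBit 10)) (zb (n.testBit 11)))) := by
    intro n
    simp only [comb, map_add, map_smul, S.hXT]
    have hsm : ∀ (t : Bool) (u : W12), (if t then u else 0) = zb t • u := fun t u => by cases t <;> simp [zb]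
    simp only [Φ, hsm, Fin.sum_univ_succ, Fin.sum_univ_zero, b]
    simp only [Matrix.cons_val_zero, Matrix.cons_val_succ, Fin.val_zero, Fin.val_succ, add_zero, zero_add]
    abel
  have cmem : ∀ a a' c c' : ZMod 2, S.comb l m a a' c c' ∈ S.E 0 := fun a a' c c' => by
    have hs : ∀ (t : ZMod 2) (x : W12), x ∈ S.E 0 → t • x ∈ S.E 0 := fun t x hx => by
      rcases (by decide : ∀ s : ZMod 2, s = 0 ∨ s = 1) t with rfl | rfl
      · rw [zero_smul]; exact zero_mem _
      · rw [one_smul]; exact hx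
    exact add_mem (add_mem (add_mem (hs _ _ hl) (hs _ _ (S.T_mem hl))) (hs _ _ hm)) (hs _ _ (S.T_mem hm))
  have hform : ∀ n, S.q (Φ n) = zb (qv n) := by
    intro n
    have hadd' : ∀ x y w : W12, S.B (x + y) w = S.B x w + S.B y w := fun x y w =>
      QuadraticMap.polar_add_left _ x y w
    rw [hdec, S.q_add, S.q_add, S.qX, S.qX, S.qX, hH.q_comb, hH.q_comb, hH.q_comb, hadd',
      S.orth (i := 0) (j := 1) (by norm_num) (by norm_num) (by norm_num) (cmem _ _ _ _) (S.X_mem (cmem _ _ _ _)),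
      S.orth (i := 0) (j := 2) (by norm_num) (by norm_num) (by norm_num) (cmem _ _ _ _)
        (S.X_mem (S.X_mem (cmem _ _ _ _))),
      S.orth (i := 1) (j := 2) (by norm_num) (by norm_num) (by norm_num) (S.X_mem (cmem _ _ _ _))
        (S.X_mem (S.X_mem (cmem _ _ _ _)))]
    simp only [qv, bit]
    generalize n.testBit 0 = u0; generalize n.testBit 1 = u1; generalize n.testBit 6 = u6
    generalize n.testBit 7 = u7; generalize n.testBit 2 = u2; generalize n.testBit 3 = u3
    generalize n.testBit 8 = u8; generalize n.testBit 9 = u9; generalize n.testBit 4 = u4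
    generalize n.testBit 5 = u5; generalize n.testBit 10 = v0; generalize n.testBit 11 = v1
    have pair : ∀ a a' c c' : Bool, zb a * zb c' + zb a' * zb c = zb (xor (a && c') (a' && c)) := by decide
    have sum3 : ∀ a c d : Bool, zb a + zb c + 0 + zb d + (0 + 0) = zb (xor a (xor c d)) := by decide
    rw [pair, pair, pair, sum3]
    try congr 1
  have hzb : ∀ a c : Bool, zb a = zb c → a = c := by decide
  have hker : ∀ n < 4096, Φ n = 0 → n = 0 := fun n hn h => by
    have h1 := List.all_eq_true.1 qv_nondeg n (List.mem_range.2 hn)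
    simp only [Bool.or_eq_true, beq_iff_eq, List.any_eq_true, bne_iff_ne, List.mem_range] at h1
    rcases h1 with (h1 | h1) | ⟨i, -, h1⟩
    · exfalso
      have := hform n
      rw [h, h1] at this
      simp [zb] at this
    · exact h1
    · exfalso
      refine h1 (hzb _ _ ?_)
      rw [← hform, ← hform, hadd, h, add_zero]
  have hinj : ∀ m < 4096, ∀ n < 4096, Φ m = Φ n → m = n := fun m hm n hn h => by
    have h0 := hker (m ^^^ n) (Nat.xor_lt_two_pow (n := 12) hm hn) (by rw [hadd, h, add_self'])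
    exact Nat.eq_of_testBit_eq fun i => by
      have := congrArg (fun x => Nat.testBit x i) h0
      simpa [Nat.testBit_xor] using this
  have v1 : Φ 1 = l := bval 0 (by norm_num)
  have v2 : Φ 2 = S.T l := bval 1 (by norm_num)
  have v4 : Φ 4 = S.X l := bval 2 (by norm_num)
  have v8 : Φ 8 = S.T (S.X l) := bval 3 (by norm_num)
  have v16 : Φ 16 = S.X (S.X l) := bval 4 (by norm_num)
  have v32 : Φ 32 = S.T (S.X (S.X l)) := bval 5 (by norm_num)
  have v64 : Φ 64 = m := bval 6 (by norm_num)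
  have v128 : Φ 128 = S.T m := bval 7 (by norm_num)
  have v256 : Φ 256 = S.X m := bval 8 (by norm_num)
  have v512 : Φ 512 = S.T (S.X m) := bval 9 (by norm_num)
  have v1024 : Φ 1024 = S.X (S.X m) := bval 10 (by norm_num)
  have v2048 : Φ 2048 = S.T (S.X (S.X m)) := bval 11 (by norm_num)
  have v3 : Φ 3 = l + S.T l := by
    exact (hadd 1 2).trans (by rw [v1, v2])
  have v12 : Φ 12 = S.X l + S.T (S.X l) := by
    exact (hadd 4 8).trans (by rw [v4, v8])
  have v48 : Φ 48 = S.X (S.X l) + S.T (S.X (S.X l)) := by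
    exact (hadd 16 32).trans (by rw [v16, v32])
  have v192 : Φ 192 = m + S.T m := by
    exact (hadd 64 128).trans (by rw [v64, v128])
  have v768 : Φ 768 = S.X m + S.T (S.X m) := by
    exact (hadd 256 512).trans (by rw [v256, v512])
  have v3072 : Φ 3072 = S.X (S.X m) + S.T (S.X (S.X m)) := by
    exact (hadd 1024 2048).trans (by rw [v1024, v2048])
  have v260 : Φ 260 = S.X l + S.X m := by
    exact (hadd 4 256).trans (by rw [v4, v256])
  have v520 : Φ 520 = S.T (S.X l) + S.T (S.X m) := by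
    exact (hadd 8 512).trans (by rw [v8, v512])
  have v1040 : Φ 1040 = S.X (S.X l) + S.X (S.X m) := by
    exact (hadd 16 1024).trans (by rw [v16, v1024])
  have v2080 : Φ 2080 = S.T (S.X (S.X l)) + S.T (S.X (S.X m)) := by
    exact (hadd 32 2048).trans (by rw [v32, v2048])
  refine ⟨hadd, fun v => ?_, hinj, fun n _ => hform n, hmap _ _ rfl ?_, hmap _ _ rfl ?_, hmap _ _ rfl ?_, hmap _ _ rfl ?_⟩
  · let f : Fin 4096 → W12 := fun n => Φ n
    have hf : Function.Bijective f := Function.Injective.bijective_of_nat_card_le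
      (fun a c h => Fin.ext (hinj _ a.2 _ c.2 h)) (by simp [Nat.card_eq_fintype_card])
    obtain ⟨n, hn⟩ := hf.surjective v
    exact ⟨n, n.2, hn⟩
  all_goals intro i; fin_cases i <;> simp [mT, mX, mY, mA, b, v1, v2, v4, v8, v16, v32, v64, v128, v256, v512, v1024, v2048, v3, v12, v48, v192, v768, v3072, v260, v520, v1040, v2080, T_eq, S.hXT, S.X3, S.hYT, p1 _ hl, p1 _ hm,
    pE1 _ hl, pE1 _ hm, pE2 _ hl, pE2 _ hm, hA.hT, h0 _ hl, h0 _ hm, A1, A12, hD2 _ hl, hD2 _ hm, hDl, hDm]
  all_goals abel_nf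
  all_goals simp only [two_nsmul, two_zsmul, add_self', zero_add]

end Geo

end Cfsg.Agent.Spor.JFour
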