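import Cfsg.Agent.Lib.Spor.JFourType.Basic
import Cfsg.Agent.Lib.Spor.JFourType.Geometry
import Cfsg.Agent.Lib.Spor.JFourType.CoordData

/-!
Coordinates for the action of the centraliser: the scalar, the Sylow three-subgroup and the elementary abelian
group of order 16 become explicit matrices.
-/

set_option autoImplicit false
set_option maxRecDepth 100000
set_option linter.style.haveILetI false

open Cfsg Cfsg.Agent.Spor.Golay
open Cfsg.Agent.Spor.Cos.J4Sub (app mm app_mm app_xor)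

namespace Cfsg.Agent.Spor.JFour

variable {G : Type*} [Group G] {z : G} {P : Subgroup G}

theorem wordπ_cons (k : ℕ) (w : List ℕ) : wordπ (k :: w) = permOf (pk k) * wordπ w := by simp [wordπ]

theorem wordπ_nil : wordπ [] = 1 := by simp [wordπ]

theorem wordπ_ne {u v : List ℕ} (h : ∃ i < 24, Golay.get (wordP u) i ≠ Golay.get (wordP v) i) : wordπ u ≠ wordπ v := by
  obtain ⟨i, hi, hne⟩ := h
  intro e
  rw [wordπ_eq, wordπ_eq] at e
  have h' := congrArg (fun σ : Equiv.Perm GolayPt => idx (σ (pt i))) e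
  simp only [idx_permOf (wordP_valid _), idx_pt hi] at h'
  exact hne h'

theorem perm_hex_facts :
    (∀ i < 4, permOf (pk i) * permOf (pk i) = 1) ∧ permOf (pk 4) * permOf (pk 0) = permOf (pk 1) * permOf (pk 4) ∧
    permOf (pk 5) * permOf (pk 2) = permOf (pk 3) * permOf (pk 5) ∧
    permOf (pk 5) * permOf (pk 0) = permOf (pk 0) * permOf (pk 5) ∧
    permOf (pk 5) * permOf (pk 1) = permOf (pk 1) * permOf (pk 5) ∧
    permOf (pk 4) * permOf (pk 2) = permOf (pk 2) * permOf (pk 4) ∧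
    permOf (pk 0) * permOf (pk 1) = permOf (pk 1) * permOf (pk 0) ∧
    permOf (pk 0) * permOf (pk 2) = permOf (pk 2) * permOf (pk 0) ∧
    permOf (pk 1) * permOf (pk 2) = permOf (pk 2) * permOf (pk 1) ∧
    permOf (pk 4) * permOf (pk 4) * permOf (pk 0) =
      permOf (pk 0) * permOf (pk 1) * (permOf (pk 4) * permOf (pk 4)) ∧
    permOf (pk 2) * (permOf (pk 3) * (permOf (pk 5) * (permOf (pk 3) * (permOf (pk 5) * permOf (pk 5))))) = 1 ∧
    permOf (pk 0) ≠ 1 ∧ permOf (pk 0) ≠ permOf (pk 1) ∧ permOf (pk 2) ≠ 1 := by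
  have e : ∀ u v : List ℕ, wordP u = wordP v → wordπ u = wordπ v := fun u v h => wordπ_congr h
  refine ⟨fun i hi => ?_, ?_, ?_, ?_, ?_, ?_, ?_, ?_, ?_, ?_, ?_, ?_, ?_, ?_⟩
  · interval_cases i
    · simpa [wordπ] using e [0, 0] [] (by decide +kernel)
    · simpa [wordπ] using e [1, 1] [] (by decide +kernel)
    · simpa [wordπ] using e [2, 2] [] (by decide +kernel)
    · simpa [wordπ] using e [3, 3] [] (by decide +kernel)
  · simpa [wordπ] using e [4, 0] [1, 4] (by decide +kernel)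
  · simpa [wordπ] using e [5, 2] [3, 5] (by decide +kernel)
  · simpa [wordπ] using e [5, 0] [0, 5] (by decide +kernel)
  · simpa [wordπ] using e [5, 1] [1, 5] (by decide +kernel)
  · simpa [wordπ] using e [4, 2] [2, 4] (by decide +kernel)
  · simpa [wordπ] using e [0, 1] [1, 0] (by decide +kernel)
  · simpa [wordπ] using e [0, 2] [2, 0] (by decide +kernel)
  · simpa [wordπ] using e [1, 2] [2, 1] (by decide +kernel)
  · simpa [wordπ, mul_assoc] using e [4, 4, 0] [0, 1, 4, 4] (by decide +kernel)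
  · simpa [wordπ] using e [2, 3, 5, 3, 5, 5] [] (by decide +kernel)
  · simpa [wordπ] using wordπ_ne (u := [0]) (v := []) (by decide +kernel)
  · simpa [wordπ] using wordπ_ne (u := [0]) (v := [1]) (by decide +kernel)
  · simpa [wordπ] using wordπ_ne (u := [2]) (v := []) (by decide +kernel)

namespace Setting

variable (S : Setting z P)
include S

/-- Scalars. -/
theorem act_scalar {c : G} (hc : c ∈ CP z P) (h : S.ψ c = 1) :
    S.act c = 1 ∨ S.act c = S.act S.p ∨ S.act c = S.act S.p * S.act S.p := by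
  have hz : ∀ u, u * z = z * u → S.act (z * u) = S.act u := fun u hu => by
    rw [S.act_mul _ _ rfl hu, S.act_z, one_mul]
  have hpp : S.p * S.p * z = z * (S.p * S.p) := by rw [mul_assoc, S.pz, ← mul_assoc, S.pz, mul_assoc]
  have h2 : S.act (S.p * S.p) = S.act S.p * S.act S.p := S.act_mul _ _ S.pz S.pz
  rcases S.ker_cases hc h with (e | e | e) | (e | e | e)
  · exact Or.inl (e ▸ S.act_one)
  · exact Or.inr (Or.inl (by rw [e]))
  · exact Or.inr (Or.inr (by rw [e, h2]))
  · exact Or.inl (e ▸ S.act_z)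
  · exact Or.inr (Or.inl (by rw [e, hz _ S.pz]))
  · exact Or.inr (Or.inr (by rw [e, hz _ hpp, h2]))

theorem act_commute_p {c : G} (hc : c ∈ CP z P) : S.act c * S.act S.p = S.act S.p * S.act c := by
  rw [← S.act_mul _ _ (S.commz hc) S.pz, ← S.act_mul _ _ S.pz (S.commz hc), (S.mem_iff.1 hc).2]

variable [Finite G]

/-- Two involution lifts of the same permutation act alike. -/
theorem inv_lift_unique {c d : G} (hc : c ∈ CP z P) (hd : d ∈ CP z P) (he : S.ψ c = S.ψ d)
    (hc2 : S.act c * S.act c = 1) (hd2 : S.act d * S.act d = 1) : S.act c = S.act d := by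
  have hk : S.ψ (c⁻¹ * d) = 1 := by rw [S.ψ_mul _ (inv_mem hc) _ hd, S.ψ_inv hc, he, inv_mul_cancel]
  have hd' : S.act d = S.act c * S.act (c⁻¹ * d) := by
    rw [← S.act_mul _ _ (S.commz hc) (S.commz (mul_mem (inv_mem hc) hd)), mul_inv_cancel_left]
  have hcomm := S.act_commute_p hc
  rcases S.act_scalar (mul_mem (inv_mem hc) hd) hk with e | e | e <;> rw [e] at hd'
  · rw [hd', mul_one]
  all_goals exfalso; rw [hd'] at hd2
  · rw [show S.act c * S.act S.p * (S.act c * S.act S.p) = S.act c * (S.act S.p * S.act c) * S.act S.p by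
      simp only [mul_assoc], ← hcomm, show S.act c * (S.act c * S.act S.p) * S.act S.p =
      (S.act c * S.act c) * (S.act S.p * S.act S.p) by simp only [mul_assoc], hc2, one_mul] at hd2
    have h3 := S.act_p_pow
    rw [hd2, one_mul] at h3
    obtain ⟨e0, he0⟩ : ∃ v : V12, v ≠ 0 := ⟨fun _ => 1, fun h => one_ne_zero (congrFun h 0)⟩
    exact he0 (S.p_fpf (by rw [h3]; rfl))
  · rw [show S.act c * (S.act S.p * S.act S.p) * (S.act c * (S.act S.p * S.act S.p)) =
      S.act c * S.act S.p * (S.act S.p * S.act c) * (S.act S.p * S.act S.p) by simp only [mul_assoc], ← hcomm,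
      show S.act c * S.act S.p * (S.act c * S.act S.p) * (S.act S.p * S.act S.p) =
      S.act c * (S.act S.p * S.act c) * (S.act S.p * S.act S.p * S.act S.p) by simp only [mul_assoc], ← hcomm,
      S.act_p_pow, mul_one, ← mul_assoc, hc2, one_mul] at hd2
    obtain ⟨e0, he0⟩ : ∃ v : V12, v ≠ 0 := ⟨fun _ => 1, fun h => one_ne_zero (congrFun h 0)⟩
    exact he0 (S.p_fpf (by rw [hd2]; rfl))

/-- An involution lift moved by an element. -/
theorem inv_lift_conj {c d h : G} (hc : c ∈ CP z P) (hd : d ∈ CP z P) (hh : h ∈ CP z P)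
    (he : S.ψ h * S.ψ c = S.ψ d * S.ψ h) (hc2 : S.act c * S.act c = 1) (hd2 : S.act d * S.act d = 1) :
    S.act h * S.act c = S.act d * S.act h := by
  have hm := mul_mem (mul_mem hh hc) (inv_mem hh)
  have hact : S.act (h * c * h⁻¹) = S.act h * S.act c * S.act h⁻¹ := by
    rw [S.act_mul _ _ (S.commz (mul_mem hh hc)) (S.commz (inv_mem hh)), S.act_mul _ _ (S.commz hh) (S.commz hc)]
  have h1 := S.inv_lift_unique hm hd (by rw [S.ψ_conj hh hc, he, mul_inv_cancel_right]) (by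
    rw [hact, show S.act h * S.act c * S.act h⁻¹ * (S.act h * S.act c * S.act h⁻¹) =
      S.act h * S.act c * (S.act h⁻¹ * S.act h) * (S.act c * S.act h⁻¹) by simp only [mul_assoc],
      S.act_inv_mul (S.commz hh), mul_one, show S.act h * S.act c * (S.act c * S.act h⁻¹) =
      S.act h * (S.act c * S.act c) * S.act h⁻¹ by simp only [mul_assoc], hc2, mul_one, S.act_mul_inv (S.commz hh)]) hd2
  rw [← h1, hact, mul_assoc, S.act_inv_mul (S.commz hh), mul_one]

theorem act_ne_one {c : G} (hc : c ∈ CP z P) (h : S.ψ c ≠ 1) : S.act c ≠ 1 := fun e => by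
  rcases S.act_ker_CP hc e with rfl | rfl
  · exact h S.ψ_one
  · exact h S.ψ_z

theorem ψ_eq_of_act {c d : G} (hc : c ∈ CP z P) (hd : d ∈ CP z P) (h : S.act c = S.act d) : S.ψ c = S.ψ d := by
  have e : S.act (c⁻¹ * d) = 1 := by
    rw [S.act_mul _ _ (S.commz (inv_mem hc)) (S.commz hd), ← h, S.act_inv_mul (S.commz hc)]
  have : S.ψ (c⁻¹ * d) = 1 := by
    rcases S.act_ker_CP (mul_mem (inv_mem hc) hd) e with e' | e' <;> rw [e']
    · exact S.ψ_one
    · exact S.ψ_z
  rw [S.ψ_mul _ (inv_mem hc) _ hd, S.ψ_inv hc, inv_mul_eq_one] at this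
  exact this

/-- The geometry of the three-group. -/
def geo (R : Three S) : Geo where
  q := S.q
  nd := S.q_nd
  T := S.act R.t
  X := S.act R.x
  Y := S.act R.y
  hT := fun v => by
    have ht3 : R.t * R.t * R.t = 1 := by
      rcases R.t_p with e | e <;> rw [e]
      · exact S.p_pow
      · rw [show S.p * S.p * (S.p * S.p) * (S.p * S.p) = (S.p * S.p * S.p) * (S.p * S.p * S.p) by group, S.p_pow,
          one_mul]
    have htz : R.t * z = z * R.t := by
      rcases R.t_p with e | e <;> rw [e]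
      · exact S.pz
      · rw [mul_assoc, S.pz, ← mul_assoc, S.pz, mul_assoc]
    have hfp : ∀ w, S.act R.t w = w → w = 0 := fun w hw => by
      refine S.p_fpf ?_
      rcases R.t_p with e | e <;> rw [e] at hw
      · exact hw
      · rw [S.act_mul _ _ S.pz S.pz, Module.End.mul_apply] at hw
        have h := LinearMap.congr_fun S.act_p_pow w
        rw [Module.End.mul_apply, Module.End.mul_apply, Module.End.one_apply] at h
        conv_lhs => rw [← hw]
        exact h
    refine hfp _ ?_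
    have h3 : S.act R.t (S.act R.t (S.act R.t v)) = v := by
      rw [← Module.End.mul_apply, ← Module.End.mul_apply, ← S.act_mul _ _ htz htz,
        ← S.act_mul _ _ (by rw [mul_assoc, htz, ← mul_assoc, htz, mul_assoc]) htz, ht3, S.act_one,
        Module.End.one_apply]
    rw [map_add, map_add, h3]
    abel
  qT := fun v => S.act_quad _ (by
    rcases R.t_p with e | e <;> rw [e]
    · exact S.pz
    · rw [mul_assoc, S.pz, ← mul_assoc, S.pz, mul_assoc]) v
  qX := fun v => S.act_quad _ (S.commz R.x_mem) v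
  qY := fun v => S.act_quad _ (S.commz R.y_mem) v
  hXT := fun v => by
    rcases R.t_p with e | e <;> rw [e]
    · exact LinearMap.congr_fun (S.act_commute_p R.x_mem) v
    · rw [S.act_mul _ _ S.pz S.pz]
      have h := S.act_commute_p R.x_mem
      exact LinearMap.congr_fun (show S.act R.x * (S.act S.p * S.act S.p) = S.act S.p * S.act S.p * S.act R.x by
        rw [← mul_assoc, h, mul_assoc, h, ← mul_assoc]) v
  hYT := fun v => by
    rcases R.t_p with e | e <;> rw [e]
    · exact LinearMap.congr_fun (S.act_commute_p R.y_mem) v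
    · rw [S.act_mul _ _ S.pz S.pz]
      have h := S.act_commute_p R.y_mem
      exact LinearMap.congr_fun (show S.act R.y * (S.act S.p * S.act S.p) = S.act S.p * S.act S.p * S.act R.y by
        rw [← mul_assoc, h, mul_assoc, h, ← mul_assoc]) v
  hYX := fun v => by
    have htz : R.t * z = z * R.t := by
      rcases R.t_p with e | e <;> rw [e]
      · exact S.pz
      · rw [mul_assoc, S.pz, ← mul_assoc, S.pz, mul_assoc]
    rw [← Module.End.mul_apply, ← S.act_mul _ _ (S.commz R.y_mem) (S.commz R.x_mem), R.t_eq,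
      S.act_mul _ _ htz (S.commz (mul_mem R.x_mem R.y_mem)), S.act_mul _ _ (S.commz R.x_mem) (S.commz R.y_mem)]
    rfl
  X3 := fun v => by
    rw [← Module.End.mul_apply, ← Module.End.mul_apply, ← S.act_mul _ _ (S.commz R.x_mem) (S.commz R.x_mem),
      ← S.act_mul _ _ (S.commz (mul_mem R.x_mem R.x_mem)) (S.commz R.x_mem), R.x3, S.act_one, Module.End.one_apply]
  Y3 := fun v => by
    rw [← Module.End.mul_apply, ← Module.End.mul_apply, ← S.act_mul _ _ (S.commz R.y_mem) (S.commz R.y_mem),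
      ← S.act_mul _ _ (S.commz (mul_mem R.y_mem R.y_mem)) (S.commz R.y_mem), R.y3, S.act_one, Module.End.one_apply]

end Setting

/-- Coordinates. -/
structure Coord (S : Setting z P) where
  /-- the three-group -/
  R : Three S
  /-- lifts of the four involutions -/
  a : ℕ → G
  a_mem : ∀ i < 4, a i ∈ CP z P
  a_ψ : ∀ i < 4, S.ψ (a i) = permOf (pk i)
  a_sq : ∀ i < 4, S.act (a i) * S.act (a i) = 1
  /-- coordinates -/
  Φ : ℕ → V12
  add : ∀ m n, Φ (m ^^^ n) = Φ m + Φ n
  surj : ∀ v, ∃ n < 4096, Φ n = v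
  inj : ∀ m < 4096, ∀ n < 4096, Φ m = Φ n → m = n
  form : ∀ n < 4096, S.q (Φ n) = Geo.zb (qv n)
  rT : ∀ n < 4096, S.act R.t (Φ n) = Φ (app mT n)
  rX : ∀ n < 4096, S.act R.x (Φ n) = Φ (app mX n)
  rY : ∀ n < 4096, S.act R.y (Φ n) = Φ (app mY n)
  rA : ∀ i < 4, ∀ n < 4096, S.act (a i) (Φ n) = Φ (app (mA i) n)

variable [Finite G]

set_option maxHeartbeats 2000000 in
theorem exists_coord (S : Setting z P) : Nonempty (Coord S) := by
  obtain ⟨R0⟩ := S.exists_three
  obtain ⟨hsq, h41, h53, h50, h51, h42, h01, h02, h12, h440, h235, hne0, hne01, hne2⟩ := perm_hex_facts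
  obtain ⟨c0, hc0, hc0ψ, hc0a, -⟩ := S.exists_inv_lift (pk_mem (k := 0) (by norm_num)) (hsq 0 (by norm_num))
  obtain ⟨c2, hc2, hc2ψ, hc2a, -⟩ := S.exists_inv_lift (pk_mem (k := 2) (by norm_num)) (hsq 2 (by norm_num))
  have hTc : ∀ {c} (R : Three S), c ∈ CP z P → ∀ v, S.act c (S.act R.t v) = S.act R.t (S.act c v) := fun {c} R hc v => by
    have h := S.act_commute_p hc
    rcases R.t_p with e | e <;> rw [e]
    · exact LinearMap.congr_fun h v
    · rw [S.act_mul _ _ S.pz S.pz]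
      exact LinearMap.congr_fun (show S.act c * (S.act S.p * S.act S.p) = S.act S.p * S.act S.p * S.act c by
        rw [← mul_assoc, h, mul_assoc, h, ← mul_assoc]) v
  have hinvG : ∀ (R : Three S) {c}, c ∈ CP z P → S.ψ c * permOf (pk 5) = permOf (pk 5) * S.ψ c →
      S.act c * S.act c = 1 → (S.geo R).Inv (S.act c) := fun R {c} hc hcm hc2 =>
    ⟨fun v => LinearMap.congr_fun hc2 v, fun v => S.act_quad c (S.commz hc) v, hTc R hc,
      fun v => (LinearMap.congr_fun (S.inv_lift_conj hc hc R.y_mem (by rw [R.y_ψ]; exact hcm.symm) hc2 hc2) v).symm⟩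
  -- the conjugate of the first involution
  set c1 := R0.x * c0 * R0.x⁻¹ with hc1d
  have hc1 : c1 ∈ CP z P := mul_mem (mul_mem R0.x_mem hc0) (inv_mem R0.x_mem)
  have hc1ψ : S.ψ c1 = permOf (pk 1) := by
    rw [S.ψ_conj R0.x_mem hc0, R0.x_ψ, hc0ψ, h41, mul_inv_cancel_right]
  have hxi : R0.x⁻¹ = R0.x * R0.x := inv_eq_of_mul_eq_one_right (by rw [← mul_assoc]; exact R0.x3)
  have hc1act : S.act c1 = S.act R0.x * S.act c0 * (S.act R0.x * S.act R0.x) := by
    rw [hc1d, hxi, S.act_mul _ _ (S.commz (mul_mem R0.x_mem hc0)) (S.commz (mul_mem R0.x_mem R0.x_mem)),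
      S.act_mul _ _ (S.commz R0.x_mem) (S.commz hc0), S.act_mul _ _ (S.commz R0.x_mem) (S.commz R0.x_mem)]
  have hc1a : S.act c1 * S.act c1 = 1 := by
    rw [← S.act_mul _ _ (S.commz hc1) (S.commz hc1), show c1 * c1 = R0.x * (c0 * c0) * R0.x⁻¹ by rw [hc1d]; group,
      S.act_mul _ _ (S.commz (mul_mem R0.x_mem (mul_mem hc0 hc0))) (S.commz (inv_mem R0.x_mem)),
      S.act_mul _ _ (S.commz R0.x_mem) (S.commz (mul_mem hc0 hc0)), S.act_mul _ _ (S.commz hc0) (S.commz hc0), hc0a,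
      mul_one, S.act_mul_inv (S.commz R0.x_mem)]
  -- the shift
  have hA0 := hinvG R0 hc0 (by rw [hc0ψ]; exact h50.symm) hc0a
  have hcomm : ∀ v, S.act c0 ((S.geo R0).X (S.act c0 ((S.geo R0).X ((S.geo R0).X v)))) =
      (S.geo R0).X (S.act c0 ((S.geo R0).X ((S.geo R0).X (S.act c0 v)))) := fun v => by
    have h := LinearMap.congr_fun (S.inv_lift_conj hc1 hc1 hc0 (by rw [hc1ψ, hc0ψ]; exact h01) hc1a hc1a) v
    rw [hc1act] at h
    exact h
  have hne : ∃ v, S.act c0 v ≠ v := by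
    by_contra hcon
    simp only [not_exists, not_not] at hcon
    exact S.act_ne_one hc0 (by rw [hc0ψ]; exact hne0) (LinearMap.ext hcon)
  have hdiff : ∃ v, S.act c0 v ≠ (S.geo R0).X (S.act c0 ((S.geo R0).X ((S.geo R0).X v))) := by
    by_contra hcon
    simp only [not_exists, not_not] at hcon
    refine hne01 ?_
    rw [← hc0ψ, ← hc1ψ]
    exact S.ψ_eq_of_act hc0 hc1 (by rw [hc1act]; exact LinearMap.ext hcon)
  have hx2 : R0.x * R0.x ∈ CP z P := mul_mem R0.x_mem R0.x_mem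
  obtain ⟨j, hj, hs0, hs1, hs2⟩ := Geo.exists_shift (S := S.geo R0) (g := S.act (R0.x * R0.x))
    (gi := S.act (R0.x * R0.x)⁻¹) hA0 hne hcomm hdiff (fun v => LinearMap.congr_fun (S.act_mul_inv (S.commz hx2)) v)
    (fun v => by
      have hc01 : S.act (c0 * c1) * S.act (c0 * c1) = 1 := by
        rw [S.act_mul _ _ (S.commz hc0) (S.commz hc1)]
        have h := S.inv_lift_conj hc1 hc1 hc0 (by rw [hc1ψ, hc0ψ]; exact h01) hc1a hc1a
        rw [show S.act c0 * S.act c1 * (S.act c0 * S.act c1) = S.act c0 * (S.act c1 * S.act c0) * S.act c1 by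
          simp only [mul_assoc], ← h, ← mul_assoc, hc0a, one_mul, hc1a]
      have h := LinearMap.congr_fun (S.inv_lift_conj hc0 (mul_mem hc0 hc1) hx2 (by
        rw [S.ψ_mul _ R0.x_mem _ R0.x_mem, R0.x_ψ, hc0ψ, S.ψ_mul _ hc0 _ hc1, hc0ψ, hc1ψ]; exact h440) hc0a hc01) v
      rw [S.act_mul _ _ (S.commz hc0) (S.commz hc1), hc1act] at h
      exact h)
  -- the new second generator
  obtain ⟨R1, hR1t, hR1x, hR1y⟩ : ∃ R1 : Three S, R1.t = R0.t ∧ R1.x = R0.x ∧
      S.act R1.y = S.act R0.t ^ j * S.act R0.y := by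
    have htm : R0.t ∈ CP z P := by
      rcases R0.t_p with e | e <;> rw [e]
      · exact S.p_mem
      · exact mul_mem S.p_mem S.p_mem
    have htψ : S.ψ R0.t = 1 := by
      rcases R0.t_p with e | e <;> rw [e]
      · exact S.ψ_p
      · rw [S.ψ_mul _ S.p_mem _ S.p_mem, S.ψ_p, one_mul]
    have ht3 : R0.t ^ 3 = 1 := by
      rcases R0.t_p with e | e <;> rw [e]
      · rw [pow_three']; exact S.p_pow
      · rw [(Commute.refl S.p).mul_pow, pow_three', S.p_pow, one_mul]
    have hty : Commute R0.t R0.y := S.ker_central htm htψ R0.y_mem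
    have htx : Commute R0.t R0.x := S.ker_central htm htψ R0.x_mem
    refine ⟨⟨R0.x, R0.t ^ j * R0.y, R0.t, R0.x_mem, mul_mem (pow_mem htm j) R0.y_mem, R0.x_ψ, ?_, R0.x3, ?_, ?_,
      R0.t_p⟩, rfl, rfl, ?_⟩
    · rw [S.ψ_mul _ (pow_mem htm j) _ R0.y_mem, S.ψ_pow htm, htψ, one_pow, one_mul, R0.y_ψ]
    · rw [← pow_three', (hty.pow_left j).mul_pow, ← pow_mul, mul_comm, pow_mul, ht3, one_pow, one_mul, pow_three']
      exact R0.y3
    · calc R0.t ^ j * R0.y * R0.x = R0.t ^ j * (R0.t * (R0.x * R0.y)) := by rw [mul_assoc, R0.t_eq]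
        _ = R0.t * (R0.t ^ j * R0.x * R0.y) := by
          rw [← mul_assoc, ← pow_succ, pow_succ', mul_assoc, mul_assoc]
        _ = _ := by rw [(htx.pow_left j).eq, mul_assoc R0.x]
    · rw [S.act_mul _ _ (S.commz (pow_mem htm j)) (S.commz R0.y_mem), S.act_pow (S.commz htm)]
  have hE : ∀ i v, v ∈ (S.geo R1).E i ↔ v ∈ ((S.geo R0).shift j).E i := fun i v => by
    show S.act R1.y v = (S.act R1.t ^ i) v ↔ (S.act R0.t ^ j * S.act R0.y) v = (S.act R0.t ^ i) v
    rw [hR1y, hR1t]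
  obtain ⟨Φ, hΦ⟩ := Geo.exists_frame (S := S.geo R1) (hinvG R1 hc0 (by rw [hc0ψ]; exact h50.symm) hc0a)
    (fun v => by
      show S.act c0 (S.act R1.x (S.act c0 (S.act R1.x (S.act R1.x v)))) =
        S.act R1.x (S.act c0 (S.act R1.x (S.act R1.x (S.act c0 v))))
      rw [hR1x]; exact hcomm v)
    (fun v hv => hs0 v ((hE 0 v).1 hv))
    (hs1.imp fun v h => ⟨(hE 1 v).2 h.1, h.2⟩) (hs2.imp fun v h => ⟨(hE 2 v).2 h.1, h.2⟩)
  have hA1 : ∀ n < 4096, S.act c1 (Φ n) = Φ (app (mA 1) n) := fun n hn => by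
    obtain ⟨-, hm1, -, hAok, -, hXok, -⟩ := delta_check
    have hA0ok : okMat (mA 0) = true := List.all_eq_true.1 hAok 0 (List.mem_range.2 (by norm_num))
    rw [hc1act, ← hR1x]
    show S.act R1.x (S.act c0 (S.act R1.x (S.act R1.x (Φ n)))) = _
    rw [show S.act R1.x = (S.geo R1).X from rfl, hΦ.X n hn, hΦ.X _ (app_lt_of_ok hXok _),
      hΦ.A0 _ (app_lt_of_ok hXok _), hΦ.X _ (app_lt_of_ok hA0ok _)]
    rw [← hm1, app_mm, app_mm, app_mm]
  -- the third involution
  obtain ⟨u, hu, hu'⟩ := hΦ.surj (S.act c2 (Φ 64))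
  have hTX : ∀ v, S.act c2 (S.act R1.x v) = S.act R1.x (S.act c2 v) := fun v =>
    (LinearMap.congr_fun (S.inv_lift_conj hc2 hc2 R1.x_mem (by rw [R1.x_ψ, hc2ψ]; exact h42) hc2a hc2a) v).symm
  have hAc : ∀ v, S.act c2 (S.act c1 v) = S.act c1 (S.act c2 v) := fun v =>
    (LinearMap.congr_fun (S.inv_lift_conj hc2 hc2 hc1 (by rw [hc1ψ, hc2ψ]; exact h12) hc2a hc2a) v).symm
  have hA0c : ∀ v, S.act c2 (S.act c0 v) = S.act c0 (S.act c2 v) := fun v =>
    (LinearMap.congr_fun (S.inv_lift_conj hc2 hc2 hc0 (by rw [hc0ψ, hc2ψ]; exact h02) hc2a hc2a) v).symm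
  obtain ⟨hΔ, hm1, hm3, hAok, hTok, hXok, hYok⟩ := delta_check
  have hA1ok : okMat (mA 1) = true := List.all_eq_true.1 hAok 1 (List.mem_range.2 (by norm_num))
  have hA0ok : okMat (mA 0) = true := List.all_eq_true.1 hAok 0 (List.mem_range.2 (by norm_num))
  have hz0 : Φ 0 = 0 := by
    have h := hΦ.add 0 0
    rw [Nat.xor_self] at h
    exact left_eq_add.1 h
  have hM : okMat (mkA u) = true := by
    have hl : app (mA 1) u ^^^ u < 4096 := Nat.xor_lt_two_pow (n := 12) (app_lt_of_ok hA1ok _) hu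
    simp only [okMat, mkA, List.length_cons, List.length_nil, Bool.and_eq_true, List.all_cons, List.all_nil,
      decide_eq_true_eq, beq_self_eq_true, true_and]
    exact ⟨hl, app_lt_of_ok hTok _, app_lt_of_ok hXok _, app_lt_of_ok hTok _, app_lt_of_ok hXok _, app_lt_of_ok hTok _,
      hu, app_lt_of_ok hTok _, app_lt_of_ok hXok _, app_lt_of_ok hTok _, app_lt_of_ok hXok _, app_lt_of_ok hTok _, trivial⟩
  have hMrep : ∀ n < 4096, S.act c2 (Φ n) = Φ (app (mkA u) n) := by
    have e1 : Φ 1 = S.act c1 (Φ 64) + Φ 64 := by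
      rw [hA1 64 (by norm_num), ← hΦ.add]; rfl
    have kl : S.act c2 (Φ 1) = Φ (app (mA 1) u ^^^ u) := by
      rw [e1, map_add, hAc, ← hu', hA1 u hu, hΦ.add]
    have kT : ∀ a b, a < 4096 → b < 4096 → S.act c2 (Φ a) = Φ b →
        S.act c2 (Φ (app mT a)) = Φ (app mT b) := fun a b ha hb e => by
      rw [← hΦ.T a ha, ← hΦ.T b hb, ← e]; exact hTc R1 hc2 _
    have kX : ∀ a b, a < 4096 → b < 4096 → S.act c2 (Φ a) = Φ b →
        S.act c2 (Φ (app mX a)) = Φ (app mX b) := fun a b ha hb e => by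
      rw [← hΦ.X a ha, ← hΦ.X b hb, ← e]; exact hTX _
    have hl : app (mA 1) u ^^^ u < 4096 := Nat.xor_lt_two_pow (n := 12) (app_lt_of_ok hA1ok _) hu
    have c0' := kl
    have c2' := kX _ _ (by norm_num) hl c0'
    have c4' := kX _ _ (by decide +kernel) (app_lt_of_ok hXok _) c2'
    have c6' : S.act c2 (Φ 64) = Φ u := hu'.symm
    have c8' := kX _ _ (by norm_num) hu c6'
    have c10' := kX _ _ (by decide +kernel) (app_lt_of_ok hXok _) c8'
    have c1' := kT _ _ (by norm_num) hl c0'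
    have c3' := kT _ _ (by decide +kernel) (app_lt_of_ok hXok _) c2'
    have c5' := kT _ _ (by decide +kernel) (app_lt_of_ok hXok _) c4'
    have c7' := kT _ _ (by norm_num) hu c6'
    have c9' := kT _ _ (by decide +kernel) (app_lt_of_ok hXok _) c8'
    have c11' := kT _ _ (by decide +kernel) (app_lt_of_ok hXok _) c10'
    refine xor_induction (p := fun n => S.act c2 (Φ n) = Φ (app (mkA u) n)) ?_ 12 fun i hi k hk ih => ?_
    · rw [Cos.J4Sub.app_zero, hz0, map_zero]
    rw [hΦ.add, map_add, ih, app_xor, hΦ.add, app_two_pow (by simpa [mkA] using hi)]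
    congr 1
    interval_cases i <;>
      first
        | exact c0' | exact c1' | exact c2' | exact c3' | exact c4' | exact c5' | exact c6' | exact c7'
        | exact c8' | exact c9' | exact c10' | exact c11'
  have hrepY : ∀ n < 4096, S.act R1.y (Φ n) = Φ (app mY n) := fun n hn => hΦ.Y n hn
  have eqM : ∀ {M N : List ℕ}, okMat M = true → okMat N = true →
      (∀ n < 4096, Φ (app M n) = Φ (app N n)) → M = N := fun {M N} hM hN h => by
    have lM : M.length = 12 := by simp only [okMat, Bool.and_eq_true, beq_iff_eq] at hM; exact hM.1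
    have lN : N.length = 12 := by simp only [okMat, Bool.and_eq_true, beq_iff_eq] at hN; exact hN.1
    refine List.ext_getElem (by omega) fun i h1 h2 => ?_
    have e := hΦ.inj _ (app_lt_of_ok hM _) _ (app_lt_of_ok hN _) (h (2 ^ i)
      (Nat.pow_lt_pow_right (by norm_num) (show i < 12 by omega)))
    rwa [app_two_pow h1, app_two_pow h2, List.getD_eq_getElem _ _ h1, List.getD_eq_getElem _ _ h2] at e
  have okmm : ∀ {M N : List ℕ}, okMat M = true → okMat N = true → okMat (mm M N) = true := fun {M N} hM hN => by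
    simp only [okMat, Bool.and_eq_true, beq_iff_eq, List.all_eq_true, decide_eq_true_eq] at hN ⊢
    refine ⟨by rw [mm, List.length_map]; exact hN.1, fun c hc => ?_⟩
    obtain ⟨d, -, rfl⟩ := List.mem_map.1 hc
    exact app_lt_of_ok hM d
  have hMc : okA (mkA u) = true := by
    have hIok : okMat mI = true := by decide +kernel
    have hq : ∀ n < 4096, qv (app (mkA u) n) = qv n := fun n hn => by
      have h := S.act_quad c2 (S.commz hc2) (Φ n)
      rw [hMrep n hn] at h
      have hf1 := hΦ.form _ (app_lt_of_ok hM n)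
      have hf2 := hΦ.form n hn
      exact (by decide : ∀ a b : Bool, Geo.zb a = Geo.zb b → a = b) _ _ (hf1.symm.trans (h.trans hf2))
    have hpow : ∀ i < 12, (2 : ℕ) ^ i < 4096 := fun i hi => Nat.pow_lt_pow_right (by norm_num) (show i < 12 from hi)
    have hlen : (mkA u).length = 12 := rfl
    simp only [okA, Bool.and_eq_true, List.all_eq_true, List.mem_range, beq_iff_eq, Bool.not_eq_true', bne_iff_ne]
    refine ⟨⟨⟨⟨⟨⟨?_, ?_⟩, ?_⟩, ?_⟩, ?_⟩, ?_⟩, ?_⟩
    · refine eqM (okmm hM hA0ok) (okmm hA0ok hM) fun n hn => ?_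
      rw [app_mm, app_mm, ← hMrep _ (app_lt_of_ok hA0ok _), ← hΦ.A0 n hn, hA0c, hMrep n hn,
        hΦ.A0 _ (app_lt_of_ok hM _)]
    · refine eqM (okmm hM hA1ok) (okmm hA1ok hM) fun n hn => ?_
      rw [app_mm, app_mm, ← hMrep _ (app_lt_of_ok hA1ok _), ← hA1 n hn, hAc, hMrep n hn,
        hA1 _ (app_lt_of_ok hM _)]
    · refine eqM (okmm hM hM) hIok fun n hn => ?_
      rw [app_mm, ← hMrep _ (app_lt_of_ok hM _), ← hMrep n hn, app_mI hn]
      exact LinearMap.congr_fun hc2a _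
    · intro e
      refine S.act_ne_one hc2 (by rw [hc2ψ]; exact hne2) (LinearMap.ext fun v => ?_)
      obtain ⟨n, hn, rfl⟩ := hΦ.surj v
      rw [hMrep n hn, e, app_mI hn]; rfl
    · intro i hi
      rw [← app_two_pow (hlen ▸ hi), hq _ (hpow i hi)]
      revert hi; revert i; decide +kernel
    · intro i hi j hj
      rw [← app_two_pow (hlen ▸ hi), ← app_two_pow (hlen ▸ (hj.trans hi)), ← app_xor,
        hq _ (Nat.xor_lt_two_pow (n := 12) (hpow i hi) (hpow j (hj.trans hi)))]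
    · refine eqM (okmm hM (okmm (okmm hYok (okmm hM (okmm hYok hYok))) (okmm (okmm hYok hYok) (okmm hM hYok)))) hIok
        fun n hn => ?_
      simp only [app_mm, app_mI hn]
      have hY := hrepY
      rw [← hMrep _ (app_lt_of_ok hYok _), ← hY _ (app_lt_of_ok hM _), ← hMrep _ (app_lt_of_ok hYok _),
        ← hY _ (app_lt_of_ok hYok _), ← hY _ (app_lt_of_ok hYok _), ← hY _ (app_lt_of_ok hYok _),
        ← hY _ (app_lt_of_ok hM _), ← hMrep _ (app_lt_of_ok hYok _), ← hY n hn]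
      -- the relation
      have hyi : S.act R1.y * (S.act R1.y * S.act R1.y) = 1 := by
        rw [← mul_assoc, ← S.act_mul _ _ (S.commz R1.y_mem) (S.commz R1.y_mem),
          ← S.act_mul _ _ (S.commz (mul_mem R1.y_mem R1.y_mem)) (S.commz R1.y_mem), R1.y3, S.act_one]
      set d3 := R1.y * c2 * R1.y⁻¹ with hd3
      have hy2m : R1.y * R1.y ∈ CP z P := mul_mem R1.y_mem R1.y_mem
      set d4 := R1.y * R1.y * c2 * (R1.y * R1.y)⁻¹ with hd4
      have hyi' : R1.y⁻¹ = R1.y * R1.y := inv_eq_of_mul_eq_one_right (by rw [← mul_assoc]; exact R1.y3)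
      have hy2i : (R1.y * R1.y)⁻¹ = R1.y := inv_eq_of_mul_eq_one_right R1.y3
      have hψ1 : S.ψ (c2 * (d3 * d4)) = 1 := by
        rw [S.ψ_mul _ hc2 _ (mul_mem (mul_mem (mul_mem R1.y_mem hc2) (inv_mem R1.y_mem))
          (mul_mem (mul_mem hy2m hc2) (inv_mem hy2m))), S.ψ_mul _ (mul_mem (mul_mem R1.y_mem hc2) (inv_mem R1.y_mem))
          _ (mul_mem (mul_mem hy2m hc2) (inv_mem hy2m)), S.ψ_conj R1.y_mem hc2, S.ψ_conj hy2m hc2,
          S.ψ_mul _ R1.y_mem _ R1.y_mem, R1.y_ψ, hc2ψ]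
        rw [show permOf (pk 5) * permOf (pk 2) * (permOf (pk 5))⁻¹ = permOf (pk 3) by rw [h53, mul_inv_cancel_right]]
        obtain ⟨-, y3', -⟩ := perm_three_facts
        rw [show (permOf (pk 5) * permOf (pk 5))⁻¹ = permOf (pk 5) from inv_eq_of_mul_eq_one_right y3']
        rw [show permOf (pk 5) * permOf (pk 5) * permOf (pk 2) * permOf (pk 5) =
          permOf (pk 5) * (permOf (pk 3) * (permOf (pk 5) * permOf (pk 5))) by
          calc permOf (pk 5) * permOf (pk 5) * permOf (pk 2) * permOf (pk 5) =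
                permOf (pk 5) * (permOf (pk 5) * permOf (pk 2)) * permOf (pk 5) := by group
            _ = _ := by rw [h53]; group]
        exact h235
      have hm : c2 * (d3 * d4) ∈ CP z P := mul_mem hc2 (mul_mem (mul_mem (mul_mem R1.y_mem hc2) (inv_mem R1.y_mem))
          (mul_mem (mul_mem hy2m hc2) (inv_mem hy2m)))
      have hd3a : S.act d3 = S.act R1.y * (S.act c2 * (S.act R1.y * S.act R1.y)) := by
        rw [hd3, hyi', S.act_mul _ _ (S.commz (mul_mem R1.y_mem hc2)) (S.commz hy2m),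
          S.act_mul _ _ (S.commz R1.y_mem) (S.commz hc2), S.act_mul _ _ (S.commz R1.y_mem) (S.commz R1.y_mem),
          mul_assoc]
      have hd4a : S.act d4 = S.act R1.y * S.act R1.y * (S.act c2 * S.act R1.y) := by
        rw [hd4, hy2i, S.act_mul _ _ (S.commz (mul_mem hy2m hc2)) (S.commz R1.y_mem),
          S.act_mul _ _ (S.commz hy2m) (S.commz hc2), S.act_mul _ _ (S.commz R1.y_mem) (S.commz R1.y_mem), mul_assoc]
      have hd34 : S.act (d3 * d4) = S.act d3 * S.act d4 :=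
        S.act_mul _ _ (S.commz (mul_mem (mul_mem R1.y_mem hc2) (inv_mem R1.y_mem)))
          (S.commz (mul_mem (mul_mem hy2m hc2) (inv_mem hy2m)))
      have hd3m : d3 ∈ CP z P := mul_mem (mul_mem R1.y_mem hc2) (inv_mem R1.y_mem)
      have hd4m : d4 ∈ CP z P := mul_mem (mul_mem hy2m hc2) (inv_mem hy2m)
      have hcj : ∀ g, g ∈ CP z P → S.act (g * c2 * g⁻¹) * S.act (g * c2 * g⁻¹) = 1 := fun g hg => by
        rw [← S.act_mul _ _ (S.commz (mul_mem (mul_mem hg hc2) (inv_mem hg)))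
          (S.commz (mul_mem (mul_mem hg hc2) (inv_mem hg))), show g * c2 * g⁻¹ * (g * c2 * g⁻¹) = g * (c2 * c2) * g⁻¹ by group,
          S.act_mul _ _ (S.commz (mul_mem hg (mul_mem hc2 hc2))) (S.commz (inv_mem hg)),
          S.act_mul _ _ (S.commz hg) (S.commz (mul_mem hc2 hc2)), S.act_mul _ _ (S.commz hc2) (S.commz hc2), hc2a, mul_one,
          S.act_mul_inv (S.commz hg)]
      have hd3sq : S.act d3 * S.act d3 = 1 := hcj _ R1.y_mem
      have hd4sq : S.act d4 * S.act d4 = 1 := hcj _ hy2m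
      have hcm : S.act (d3 * d4) = S.act c2 := by
        have hψe : S.ψ (d3 * d4) = S.ψ c2 := by
          rw [S.ψ_mul _ hc2 _ (mul_mem hd3m hd4m)] at hψ1
          have h := eq_inv_of_mul_eq_one_right hψ1
          rw [h, inv_eq_of_mul_eq_one_right (by rw [hc2ψ]; exact hsq 2 (by norm_num)), hc2ψ]
        refine S.inv_lift_unique (mul_mem hd3m hd4m) hc2 hψe ?_ hc2a
        have hpe : S.ψ d4 * S.ψ d3 = S.ψ d3 * S.ψ d4 := by
          have hinv : (S.ψ d3 * S.ψ d4) * (S.ψ d3 * S.ψ d4) = 1 := by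
            rw [← S.ψ_mul _ hd3m _ hd4m, hψe, hc2ψ]; exact hsq 2 (by norm_num)
          have s3 : S.ψ d3 * S.ψ d3 = 1 := by
            rw [← S.ψ_mul _ hd3m _ hd3m]
            exact (S.ψ_eq_of_act (mul_mem hd3m hd3m) (one_mem _)
              (by rw [S.act_mul _ _ (S.commz hd3m) (S.commz hd3m), hd3sq, S.act_one])).trans S.ψ_one
          have s4 : S.ψ d4 * S.ψ d4 = 1 := by
            rw [← S.ψ_mul _ hd4m _ hd4m]
            exact (S.ψ_eq_of_act (mul_mem hd4m hd4m) (one_mem _)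
              (by rw [S.act_mul _ _ (S.commz hd4m) (S.commz hd4m), hd4sq, S.act_one])).trans S.ψ_one
          have := inv_eq_of_mul_eq_one_right hinv
          rw [mul_inv_rev, inv_eq_of_mul_eq_one_right s4, inv_eq_of_mul_eq_one_right s3] at this
          exact this
        have hc := S.inv_lift_conj hd3m hd3m hd4m hpe hd3sq hd3sq
        rw [hd34, show S.act d3 * S.act d4 * (S.act d3 * S.act d4) = S.act d3 * (S.act d4 * S.act d3) * S.act d4 by
          simp only [mul_assoc], hc, ← mul_assoc, hd3sq, one_mul, hd4sq]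
      have key : S.act c2 * (S.act d3 * S.act d4) = 1 := by rw [← hd34, hcm, hc2a]
      have hv := LinearMap.congr_fun key (Φ n)
      rw [hd3a, hd4a] at hv
      simpa only [Module.End.mul_apply, Module.End.one_apply] using hv
  -- the correction
  have hc := List.all_eq_true.1 candA_complete u (List.mem_range.2 hu)
  rw [hMc] at hc
  simp only [Bool.not_true, Bool.false_or, List.any_eq_true, beq_iff_eq] at hc
  obtain ⟨M, hMmem, hMu⟩ := hc
  obtain ⟨k, hk, hkM⟩ := List.getElem_of_mem hMmem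
  have hk3 : k < 3 := by simpa [candA] using hk
  have hD := List.all_eq_true.1 hΔ k (List.mem_range.2 hk3)
  simp only [Bool.and_eq_true, beq_iff_eq, List.all_eq_true, List.mem_range] at hD
  obtain ⟨⟨⟨⟨⟨⟨⟨⟨dT, dX⟩, dY⟩, dA0⟩, dA2⟩, dI1⟩, dI2⟩, dok⟩, dq⟩ := hD
  rw [List.getD_eq_getElem _ _ hk, hkM, hMu] at dA2
  have dkok : okMat (mΔ ((3 - k) % 3)) = true := by interval_cases k <;> decide +kernel
  let Ψ : ℕ → V12 := fun n => Φ (app (mΔ k) n)
  have tr : ∀ (g : G) (N : List ℕ), okMat N = true → (∀ n < 4096, S.act g (Φ n) = Φ (app N n)) →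
      ∀ n < 4096, S.act g (Ψ n) = Ψ (app (mm (mm (mΔ ((3 - k) % 3)) N) (mΔ k)) n) := fun g N hN hg n hn => by
    simp only [Ψ]
    rw [hg _ (app_lt_of_ok dok _), app_mm, app_mm, ← app_mm (mΔ k), dI1, app_mI (app_lt_of_ok hN _)]
  have htm : R1.t ∈ CP z P := by
    rcases R1.t_p with e | e <;> rw [e]
    · exact S.p_mem
    · exact mul_mem S.p_mem S.p_mem
  have htψ : S.ψ R1.t = 1 := by
    rcases R1.t_p with e | e <;> rw [e]
    · exact S.ψ_p
    · rw [S.ψ_mul _ S.p_mem _ S.p_mem, S.ψ_p, one_mul]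
  have ht3 : R1.t ^ 3 = 1 := by
    rcases R1.t_p with e | e <;> rw [e]
    · rw [pow_three']; exact S.p_pow
    · rw [(Commute.refl S.p).mul_pow, pow_three', S.p_pow, one_mul]
  have hty : Commute R1.t R1.y := S.ker_central htm htψ R1.y_mem
  have htx : Commute R1.t R1.x := S.ker_central htm htψ R1.x_mem
  let R2 : Three S := ⟨R1.t ^ jΔ k * R1.x, R1.y, R1.t, mul_mem (pow_mem htm _) R1.x_mem, R1.y_mem,
    by rw [S.ψ_mul _ (pow_mem htm _) _ R1.x_mem, S.ψ_pow htm, htψ, one_pow, one_mul, R1.x_ψ], R1.y_ψ,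
    by rw [← pow_three', (htx.pow_left _).mul_pow, ← pow_mul, mul_comm, pow_mul, ht3, one_pow, one_mul, pow_three']
       exact R1.x3,
    R1.y3,
    by
      calc R1.y * (R1.t ^ jΔ k * R1.x) = R1.t ^ jΔ k * (R1.y * R1.x) := by
            rw [← mul_assoc, ← (hty.pow_left _).eq, mul_assoc]
        _ = R1.t ^ jΔ k * (R1.t * (R1.x * R1.y)) := by rw [R1.t_eq]
        _ = R1.t * (R1.t ^ jΔ k * R1.x * R1.y) := by
          rw [← mul_assoc, ← pow_succ, pow_succ', mul_assoc, mul_assoc],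
    R1.t_p⟩
  have hTrep : ∀ n < 4096, S.act R1.t (Φ n) = Φ (app mT n) := fun n hn => hΦ.T n hn
  have hX2 : ∀ n < 4096, S.act R2.x (Φ n) = Φ (app (mm (mTp (jΔ k)) mX) n) := fun n hn => by
    show S.act (R1.t ^ jΔ k * R1.x) (Φ n) = _
    rw [S.act_mul _ _ (S.commz (pow_mem htm _)) (S.commz R1.x_mem), S.act_pow (S.commz htm), app_mm,
      Module.End.mul_apply, show S.act R1.x (Φ n) = Φ (app mX n) from hΦ.X n hn]
    interval_cases k
    · simp only [jΔ, mTp, pow_zero, Module.End.one_apply]; rw [app_mI (app_lt_of_ok hXok _)]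
    · simp only [jΔ, mTp, pow_two, Module.End.mul_apply, mT2]
      rw [hTrep _ (app_lt_of_ok hXok _), hTrep _ (app_lt_of_ok hTok _), app_mm]
    · simp only [jΔ, mTp, pow_one]
      exact hTrep _ (app_lt_of_ok hXok _)
  have tTp : okMat (mm (mTp (jΔ k)) mX) = true := by interval_cases k <;> decide +kernel
  have rX : ∀ n < 4096, S.act R2.x (Ψ n) = Ψ (app mX n) := fun n hn => by rw [tr R2.x _ tTp hX2 n hn, dX]
  have rY : ∀ n < 4096, S.act R2.y (Ψ n) = Ψ (app mY n) := fun n hn => by rw [tr R1.y _ hYok hrepY n hn, dY]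
  have rA0 : ∀ n < 4096, S.act c0 (Ψ n) = Ψ (app (mA 0) n) := fun n hn => by rw [tr c0 _ hA0ok hΦ.A0 n hn, dA0]
  have rA2 : ∀ n < 4096, S.act c2 (Ψ n) = Ψ (app (mA 2) n) := fun n hn => by rw [tr c2 _ hM hMrep n hn, dA2]
  have hA2ok : okMat (mA 2) = true := List.all_eq_true.1 hAok 2 (List.mem_range.2 (by norm_num))
  have hmem2 : ∀ {g : G}, g ∈ CP z P → ∀ {c : G}, c ∈ CP z P → g * c * g⁻¹ ∈ CP z P := fun {g} hg {c} hc =>
    mul_mem (mul_mem hg hc) (inv_mem hg)
  refine ⟨⟨R2, fun i => if i = 0 then c0 else if i = 1 then R2.x * c0 * R2.x⁻¹ else if i = 2 then c2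
    else R2.y * c2 * R2.y⁻¹, ?_, ?_, ?_, Ψ, fun m n => ?_, fun v => ?_, fun m hm n hn h => ?_,
    fun n hn => ?_, ?_, rX, rY, ?_⟩⟩
  · intro i hi; interval_cases i <;> simp <;> first | exact hc0 | exact hc2 | exact hmem2 R2.x_mem hc0 |
      exact hmem2 R2.y_mem hc2
  · intro i hi; interval_cases i <;> simp
    · exact hc0ψ
    · rw [S.ψ_conj R2.x_mem hc0, R2.x_ψ, hc0ψ, h41, mul_inv_cancel_right]
    · exact hc2ψ
    · rw [S.ψ_conj R2.y_mem hc2, R2.y_ψ, hc2ψ, h53, mul_inv_cancel_right]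
  · intro i hi; interval_cases i <;> simp
    · exact hc0a
    · rw [← S.act_mul _ _ (S.commz (hmem2 R2.x_mem hc0)) (S.commz (hmem2 R2.x_mem hc0)),
        show R2.x * c0 * R2.x⁻¹ * (R2.x * c0 * R2.x⁻¹) = R2.x * (c0 * c0) * R2.x⁻¹ by group,
        S.act_mul _ _ (S.commz (mul_mem R2.x_mem (mul_mem hc0 hc0))) (S.commz (inv_mem R2.x_mem)),
        S.act_mul _ _ (S.commz R2.x_mem) (S.commz (mul_mem hc0 hc0)), S.act_mul _ _ (S.commz hc0) (S.commz hc0), hc0a,
        mul_one, S.act_mul_inv (S.commz R2.x_mem)]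
    · exact hc2a
    · rw [← S.act_mul _ _ (S.commz (hmem2 R2.y_mem hc2)) (S.commz (hmem2 R2.y_mem hc2)),
        show R2.y * c2 * R2.y⁻¹ * (R2.y * c2 * R2.y⁻¹) = R2.y * (c2 * c2) * R2.y⁻¹ by group,
        S.act_mul _ _ (S.commz (mul_mem R2.y_mem (mul_mem hc2 hc2))) (S.commz (inv_mem R2.y_mem)),
        S.act_mul _ _ (S.commz R2.y_mem) (S.commz (mul_mem hc2 hc2)), S.act_mul _ _ (S.commz hc2) (S.commz hc2), hc2a,
        mul_one, S.act_mul_inv (S.commz R2.y_mem)]
  · simp only [Ψ, app_xor, hΦ.add]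
  · obtain ⟨n, hn, rfl⟩ := hΦ.surj v
    exact ⟨app (mΔ ((3 - k) % 3)) n, app_lt_of_ok dkok _, by simp only [Ψ]; rw [← app_mm, dI1, app_mI hn]⟩
  · have e := hΦ.inj _ (app_lt_of_ok dok _) _ (app_lt_of_ok dok _) h
    have e' := congrArg (app (mΔ ((3 - k) % 3))) e
    rwa [← app_mm, ← app_mm, dI2, app_mI hm, app_mI hn] at e'
  · simp only [Ψ]
    rw [show S.q (Φ (app (mΔ k) n)) = Geo.zb (qv (app (mΔ k) n)) from hΦ.form _ (app_lt_of_ok dok _), dq n hn]
  · intro n hn; rw [tr R1.t _ hTok hTrep n hn, dT]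
  · intro i hi n hn; interval_cases i <;> simp
    · exact rA0 n hn
    · have hxi2 : R2.x⁻¹ = R2.x * R2.x := inv_eq_of_mul_eq_one_right (by rw [← mul_assoc]; exact R2.x3)
      rw [hxi2, S.act_mul _ _ (S.commz (mul_mem R2.x_mem hc0)) (S.commz (mul_mem R2.x_mem R2.x_mem)),
        S.act_mul _ _ (S.commz R2.x_mem) (S.commz hc0), S.act_mul _ _ (S.commz R2.x_mem) (S.commz R2.x_mem)]
      simp only [Module.End.mul_apply]
      rw [rX n hn, rX _ (app_lt_of_ok hXok _), rA0 _ (app_lt_of_ok hXok _), rX _ (app_lt_of_ok hA0ok _), ← hm1,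
        app_mm, app_mm, app_mm]
    · exact rA2 n hn
    · have hyi2 : R2.y⁻¹ = R2.y * R2.y := inv_eq_of_mul_eq_one_right (by rw [← mul_assoc]; exact R2.y3)
      rw [hyi2, S.act_mul _ _ (S.commz (mul_mem R2.y_mem hc2)) (S.commz (mul_mem R2.y_mem R2.y_mem)),
        S.act_mul _ _ (S.commz R2.y_mem) (S.commz hc2), S.act_mul _ _ (S.commz R2.y_mem) (S.commz R2.y_mem)]
      simp only [Module.End.mul_apply]
      rw [rY n hn, rY _ (app_lt_of_ok hYok _), rA2 _ (app_lt_of_ok hYok _), rY _ (app_lt_of_ok hA2ok _), ← hm3,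
        app_mm, app_mm, app_mm]

end Cfsg.Agent.Spor.JFour
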