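import Cfsg.Agent.Lib.Spor.JFourType.SylowG

/-!
Every elementary abelian subgroup of order 2¹¹ is a conjugate of the one in coordinates.
-/

set_option autoImplicit false
set_option linter.style.haveILetI false

open Cfsg
open scoped Pointwise

namespace Cfsg.Agent.Spor.JFour.Frame

variable {G : Type*} [Group G] {z : G} {P : Subgroup G} {S : Setting z P} (Fr : Frame S) [Finite G]

/-- Any two of them are conjugate. -/
theorem exists_conj_elem {V : Subgroup G} (hV : IsElementaryAbelian 2 V) (hc : Nat.card ↥V = 2 ^ 11) :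
    ∃ g : G, V = Fr.A.map (MulAut.conj g).toMonoidHom := by
  haveI : Fact (Nat.Prime 2) := ⟨Nat.prime_two⟩
  obtain ⟨hcm, h2⟩ := hV
  obtain ⟨Q, hQ⟩ := (IsPGroup.of_card hc).exists_le_sylow
  obtain ⟨g, hg⟩ := MulAction.exists_smul_eq G Q Fr.F.sylowT
  have hQg : (Q : Subgroup G).map (MulAut.conj g).toMonoidHom = Fr.F.T := by
    have h := congrArg (fun s : Sylow 2 G => (s : Subgroup G)) hg
    rw [Sylow.coe_subgroup_smul] at h
    exact h
  have hA : V.map (MulAut.conj g).toMonoidHom = Fr.A := by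
    refine Fr.unique_in_T (hQg ▸ Subgroup.map_mono hQ) ?_ ?_ ?_
    · rintro _ ⟨a, ha, rfl⟩ _ ⟨b, hb, rfl⟩
      rw [← map_mul, ← map_mul]
      exact congrArg _ (congrArg Subtype.val (hcm.is_comm.comm ⟨a, ha⟩ ⟨b, hb⟩))
    · rintro _ ⟨a, ha, rfl⟩
      rw [← map_mul, ← pow_two, h2 a ha, map_one]
    · rw [Subgroup.card_map_of_injective (MulAut.conj g).injective, hc]
  refine ⟨g⁻¹, ?_⟩
  rw [← hA, Subgroup.map_map]
  conv_lhs => rw [← Subgroup.map_id V]
  congr 1
  ext x
  simp [mul_assoc]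

end Cfsg.Agent.Spor.JFour.Frame
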