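import Cfsg.Agent.Lib.Spor.Golay.AutM22
import Cfsg.Agent.Lib.Spor.Golay.AutOut
import Cfsg.Agent.Lib.Fus.MathieuTwoGroups
import Cfsg.Agent.S2062
import Cfsg.Agent.Lib.Spor.Golay.Psl23Max

/-!
Explicit permutations in the automorphism group of the Mathieu group on 22 points: a hexad stabiliser, the
normaliser of a Sylow three-subgroup and an outer element.
-/

set_option autoImplicit false
set_option maxRecDepth 100000
set_option Elab.async false

open scoped Pointwise

namespace Cfsg.Agent.Spor.JFour

open Cfsg Cfsg.Agent.Spor.Golay Cfsg.Agent.Spor.Golay.Aut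

/-- The permutations `a₁, a₂, a₃, a₄, x, y, s, w, q` and the outer one. -/
def pk : ℕ → ℕ
  | 0 => 0xbd6ce8b2693d0725aa01798a468900
  | 1 => 0xbb2486d46f806765a8f4498a4889c0
  | 2 => 0xba613a3dd5945075aacd618a408860
  | 3 => 0xbd1d6486111d4e85aa6c698a478a40
  | 4 => 0xbb2c86ca697d235514ee8096619020
  | 5 => 0xba614b3eb11b9872ae686894691020
  | 6 => 0xbcd236d0f073d9630a32aac8a41420
  | 7 => 0xba64d4562f83a87312d362caa18820
  | 8 => 0xbd4ea4923631593a21ab849cf10c20
  | 9 => 0x42af3b996a49b12a9239996440837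
  | _ => idP

theorem pk_valid : ∀ k, valid (pk k) = true
  | 0 => by decide +kernel
  | 1 => by decide +kernel
  | 2 => by decide +kernel
  | 3 => by decide +kernel
  | 4 => by decide +kernel
  | 5 => by decide +kernel
  | 6 => by decide +kernel
  | 7 => by decide +kernel
  | 8 => by decide +kernel
  | 9 => by decide +kernel
  | n + 10 => valid_idP

/-- The packed product of a word. -/
def wordP : List ℕ → ℕ
  | [] => idP
  | k :: w => comp (pk k) (wordP w)

theorem wordP_valid : ∀ w, valid (wordP w) = true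
  | [] => valid_idP
  | k :: w => valid_comp (pk_valid k) (wordP_valid w)

/-- The product of a word. -/
noncomputable def wordπ (w : List ℕ) : Equiv.Perm GolayPt := (w.map fun k => permOf (pk k)).prod

theorem wordπ_eq : ∀ w, wordπ w = permOf (wordP w)
  | [] => by simp [wordπ, wordP, permOf_idP]
  | k :: w => by
    rw [wordP, permOf_comp (pk_valid k) (wordP_valid w), ← wordπ_eq w]
    simp [wordπ]

theorem wordπ_congr {u v : List ℕ} (h : wordP u = wordP v) : wordπ u = wordπ v := by
  rw [wordπ_eq, wordπ_eq, h]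

theorem M22_eq : Cfsg.Spor.M22 = c22.grp := Fus.Mathieu.fix22

theorem pk_mem_check : ((List.range 9).all fun k => inM24 (pk k) && preserves c22.M (pk k)) = true := by
  decide +kernel

theorem pk_mem {k : ℕ} (hk : k < 9) : permOf (pk k) ∈ Cfsg.Spor.M22 := by
  have h := List.all_eq_true.1 pk_mem_check k (List.mem_range.2 hk)
  rw [Bool.and_eq_true] at h
  rw [M22_eq]
  exact mem_Fix.2 ⟨permOf_mem_M24 h.1, (preserves_iff (pk_valid k) (by decide +kernel)).1 h.2, by simp⟩

/-- The nine permutations generate. -/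
theorem gen_words : wordP [7, 4, 8, 5, 6, 7, 8, 0, 3] = c22.A ∧ wordP [0, 4, 8, 1, 8, 0, 7, 6] = c22.C ∧
    wordP [0, 7, 6, 7, 8, 2, 8, 4] = c22.T := by decide +kernel

theorem exists_word {g : Equiv.Perm GolayPt} (hg : g ∈ Cfsg.Spor.M22) :
    g ∈ Subgroup.closure {h | ∃ k < 9, permOf (pk k) = h} := by
  rw [M22_eq] at hg
  refine (Subgroup.closure_le _).2 ?_ (gen22 hg)
  have hw : ∀ w : List ℕ, (∀ k ∈ w, k < 9) →
      permOf (wordP w) ∈ Subgroup.closure {h | ∃ k < 9, permOf (pk k) = h} := fun w hk => by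
    rw [← wordπ_eq]
    refine list_prod_mem fun a ha => ?_
    obtain ⟨k, hk', rfl⟩ := List.mem_map.1 ha
    exact Subgroup.subset_closure ⟨k, hk k hk', rfl⟩
  obtain ⟨h1, h2, h3⟩ := gen_words
  rintro x (rfl | rfl | rfl)
  · rw [← h1]; exact hw _ (by decide)
  · rw [← h2]; exact hw _ (by decide)
  · rw [← h3]; exact hw _ (by decide)

/-- The octad fixed pointwise by the hexad group. -/
def hexMask : ℕ := 8391797

/-- A program through the orbit of the octad. -/
def hexProg : List (ℕ × ℕ) := [(0, 8), (1, 0), (1, 1), (1, 2), (1, 3), (1, 7), (2, 1), (2, 2), (2, 3), (2, 8), (3, 3), (3, 6), (3, 8), (4, 8), (5, 8), (6, 0), (6, 3), (6, 6), (6, 8), (7, 3), (7, 8), (8, 8), (9, 8), (10, 0), (10, 1), (10, 2), (10, 6), (10, 7), (11, 6), (11, 8), (13, 0), (13, 1), (13, 3), (14, 0), (14, 1), (15, 0), (15, 1), (15, 2), (15, 7), (16, 8), (17, 8), (18, 8), (19, 0), (19, 3), (19, 5), (21, 0), (21, 1), (21, 7), (22, 1), (22, 2), (23, 0), (23, 3), (23, 4), (23, 7), (24, 6), (25, 4), (25, 6), (25, 7), (25, 8), (26, 6), (26,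 7), (26, 8), (27, 7), (28, 4), (28, 5), (28, 6), (31, 8), (33, 7), (33, 8), (36, 8), (38, 8), (39, 8), (41, 0), (43, 3), (43, 5), (51, 6)]

/-- The orbit of the octad along the program. -/
def hexOrbit : List ℕ :=
  hexProg.foldl (fun acc e => acc ++ [imgMask (get (pk e.2)) (acc.getD e.1 0)]) [hexMask]

theorem hexOrbit_check : hexOrbit.Nodup ∧ hexOrbit.length = 77 ∧ (hexProg.all fun e => decide (e.2 < 9)) = true ∧
    (hexOrbit.all fun m => decide (m < 2 ^ 24)) = true := by
  decide +kernel

/-- The outer permutation maps the simple group to itself and squares into it. -/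
theorem pk_outer_check : inM24 (pk 9) && ((List.range 9).all fun k =>
    let P := comp (comp (pk 9) (pk k)) (pk 9)
    inM24 P && preserves c22.M P) && (comp (pk 9) (pk 9) == idP) &&
    (get (pk 9) 23 == 0) && (get (pk 9) 0 == 23) = true := by decide +kernel

theorem pk_outer_sq : permOf (pk 9) * permOf (pk 9) = 1 := by
  have h := pk_outer_check
  simp only [Bool.and_eq_true, beq_iff_eq, decide_eq_true_eq] at h
  rw [← permOf_comp (pk_valid 9) (pk_valid 9), h.1.1.2, permOf_idP]

theorem pk_outer_inv : (permOf (pk 9))⁻¹ = permOf (pk 9) := inv_eq_of_mul_eq_one_right pk_outer_sq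

theorem pk_outer_conj {g : Equiv.Perm GolayPt} (hg : g ∈ Cfsg.Spor.M22) :
    permOf (pk 9) * g * (permOf (pk 9))⁻¹ ∈ Cfsg.Spor.M22 := by
  have hle : Subgroup.closure {h | ∃ k < 9, permOf (pk k) = h} ≤
      Cfsg.Spor.M22.comap (MulAut.conj (permOf (pk 9))).toMonoidHom := by
    rw [Subgroup.closure_le]
    rintro y ⟨k, hk, rfl⟩
    show permOf (pk 9) * permOf (pk k) * (permOf (pk 9))⁻¹ ∈ Cfsg.Spor.M22
    have h := pk_outer_check
    simp only [Bool.and_eq_true, List.all_eq_true, beq_iff_eq, decide_eq_true_eq] at h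
    obtain ⟨h1, h2⟩ := h.1.1.1.2 k (List.mem_range.2 hk)
    rw [pk_outer_inv, ← permOf_comp (pk_valid 9) (pk_valid k),
      ← permOf_comp (valid_comp (pk_valid 9) (pk_valid k)) (pk_valid 9), M22_eq]
    exact mem_Fix.2 ⟨permOf_mem_M24 h1,
      (preserves_iff (valid_comp (valid_comp (pk_valid 9) (pk_valid k)) (pk_valid 9)) (by decide +kernel)).1 h2,
      by simp⟩
  exact hle (exists_word hg)

/-- A program through the 22 points. -/
def ptProg : List (ℕ × ℕ × ℕ) := [(1, 0, 8), (1, 1, 14), (1, 2, 3), (1, 3, 18), (8, 1, 20), (8, 2, 13), (8, 3, 12), (8, 7, 19), (8, 8, 11), (14, 2, 17), (14, 3, 21), (14, 6, 15), (14, 8, 5), (3, 8, 2), (18, 8, 4), (20, 3, 22), (20, 8, 10), (13, 3, 7), (19, 3, 9), (11, 6, 6), (17, 3, 16)]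

theorem ptProg_check : (ptProg.all fun e => decide (e.2.1 < 9) && (get (pk e.2.1) e.1 == e.2.2)) = true ∧
    ((List.range 24).all fun j => j == 0 || j == 23 || j == 1 || ptProg.any fun e => e.2.2 == j) = true ∧
    ((List.range 24).all fun j => (get (pk 4) j == j && get (pk 5) j == j) == (j == 0 || j == 1 || j == 23)) = true ∧
    (ptProg.all fun e => (List.range 24).contains e.1) = true := by decide +kernel

/-- Every step of a point program starts at a known point. -/
def progPts : List (ℕ × ℕ × ℕ) → List ℕ → Bool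
  | [], _ => true
  | e :: L, known => known.contains e.1 && progPts L (e.2.2 :: known)

/-- The transposition of the two fixed points. -/
def swapP : ℕ := pack 24 fun i => if i = 0 then 23 else if i = 23 then 0 else i

theorem swapP_check : valid swapP = true ∧ inM24 swapP = false := by decide +kernel

theorem swapP_get (i : ℕ) (hi : i < 24) (h0 : i ≠ 0) (h23 : i ≠ 23) : get swapP i = i := by
  rw [swapP, get_pack 24 _ i hi (fun j hj => by split_ifs <;> omega), if_neg h0, if_neg h23]

theorem inM24_swap : permOf swapP ∉ M24 := fun h => by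
  have := Psl23Max.inM24_of_mem swapP_check.1 h
  rw [swapP_check.2] at this
  exact Bool.noConfusion this

theorem progPts_check : progPts ptProg [1] = true := by decide +kernel

/-- The outer permutation does not act as an element of the group. -/
theorem pk_outer_not_inner {h : Equiv.Perm GolayPt} (hh : h ∈ Cfsg.Spor.M22) :
    ∃ g ∈ Cfsg.Spor.M22, permOf (pk 9) * g * (permOf (pk 9))⁻¹ ≠ h * g * h⁻¹ := by
  by_contra hcon
  simp only [not_exists, not_and, ne_eq, not_not] at hcon
  set d := h⁻¹ * permOf (pk 9) with hd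
  have hcomm : ∀ k < 9, ∀ p, d (permOf (pk k) p) = permOf (pk k) (d p) := fun k hk p => by
    have e := hcon _ (pk_mem hk)
    have e' : d * permOf (pk k) = permOf (pk k) * d := by
      calc d * permOf (pk k) = h⁻¹ * (permOf (pk 9) * permOf (pk k) * (permOf (pk 9))⁻¹) * permOf (pk 9) := by
            rw [hd]; group
        _ = _ := by rw [e, hd]; group
    exact congrArg (fun σ : Equiv.Perm GolayPt => σ p) e'
  have hfix : ∀ i, i = 0 ∨ i = 23 → h (pt i) = pt i := fun i hi => by
    rw [M22_eq] at hh
    obtain ⟨-, hs, -⟩ := mem_Fix.1 hh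
    rcases hi with rfl | rfl
    · have := hs (2 ^ 0) (by decide +kernel)
      rwa [pts_two_pow (by norm_num), Finset.smul_finset_singleton, Finset.singleton_inj] at this
    · have := hs (2 ^ 23) (by decide +kernel)
      rwa [pts_two_pow (by norm_num), Finset.smul_finset_singleton, Finset.singleton_inj] at this
  have h9 := pk_outer_check
  simp only [Bool.and_eq_true, beq_iff_eq, decide_eq_true_eq] at h9
  have hswap : ∀ i j, i < 24 → get (pk 9) i = j → h (pt j) = pt j → d (pt i) = pt j := fun i j hi e e' => by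
    have : permOf (pk 9) (pt i) = pt j := by rw [permOf_apply (pk_valid 9), app, idx_pt hi, e]
    rw [hd, Equiv.Perm.mul_apply, this, Equiv.Perm.inv_eq_iff_eq]
    exact e'.symm
  have d23 := hswap 23 0 (by norm_num) h9.1.2 (hfix 0 (Or.inl rfl))
  have d0 := hswap 0 23 (by norm_num) h9.2 (hfix 23 (Or.inr rfl))
  obtain ⟨hp, hcov, hf, hlt⟩ := ptProg_check
  simp only [List.all_eq_true, List.any_eq_true, Bool.and_eq_true, Bool.or_eq_true, decide_eq_true_eq, beq_iff_eq,
    List.mem_range, List.contains_iff_mem] at hp hcov hf hlt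
  have d1 : d (pt 1) = pt 1 := by
    have hxy : ∀ k, k = 4 ∨ k = 5 → permOf (pk k) (d (pt 1)) = d (pt 1) := fun k hk => by
      rw [← hcomm k (by omega), permOf_apply (pk_valid k), app, idx_pt (by norm_num),
        show get (pk k) 1 = 1 by rcases hk with rfl | rfl <;> decide +kernel]
    have hval : ∀ k, k = 4 ∨ k = 5 → get (pk k) (idx (d (pt 1))) = idx (d (pt 1)) := fun k hk => by
      conv_rhs => rw [← hxy k hk]
      rw [idx_permOf (pk_valid k)]
    have h3 := hf (idx (d (pt 1))) (idx_lt _)
    have hne : ∀ i, i = 0 ∨ i = 23 → d (pt 1) ≠ pt i := fun i hi e => by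
      rcases hi with rfl | rfl
      · exact absurd (congrArg idx (d.injective (e.trans d23.symm))) (by decide +kernel)
      · exact absurd (congrArg idx (d.injective (e.trans d0.symm))) (by decide +kernel)
    rw [beq_iff_eq.2 (hval 4 (Or.inl rfl)), beq_iff_eq.2 (hval 5 (Or.inr rfl))] at h3
    simp only [Bool.and_self, eq_comm (a := true), Bool.or_eq_true, beq_iff_eq] at h3
    rcases h3 with (e | e) | e
    · exact absurd (by rw [← pt_idx (d (pt 1)), e]) (hne 0 (Or.inl rfl))
    · rw [← pt_idx (d (pt 1)), e]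
    · exact absurd (by rw [← pt_idx (d (pt 1)), e]) (hne 23 (Or.inr rfl))
  have hdM : d ∈ M24 := by
    rw [M22_eq] at hh
    exact mul_mem (inv_mem (mem_Fix.1 hh).1) (permOf_mem_M24 h9.1.1.1.1)
  have hall : ∀ j < 24, j ≠ 0 → j ≠ 23 → d (pt j) = pt j := by
    have step : ∀ L : List (ℕ × ℕ × ℕ), (∀ e ∈ L, e ∈ ptProg) → ∀ known : List ℕ,
        (∀ j ∈ known, d (pt j) = pt j) → progPts L known = true →
        ∀ e ∈ L, d (pt e.2.2) = pt e.2.2 := by
      intro L
      induction L with
      | nil => intro _ _ _ _ e he; cases he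
      | cons a L ih =>
        intro hL known hk hok e he
        rw [progPts, Bool.and_eq_true, List.contains_iff_mem] at hok
        obtain ⟨ha1, ha2⟩ := hp a (hL a (List.mem_cons_self ..))
        have hi : a.1 < 24 := hlt a (hL a (List.mem_cons_self ..))
        have hnew : d (pt a.2.2) = pt a.2.2 := by
          have e1 : permOf (pk a.2.1) (pt a.1) = pt a.2.2 := by
            rw [permOf_apply (pk_valid _), app, idx_pt hi, ha2]
          rw [← e1, hcomm _ ha1, hk _ hok.1, e1]
        rcases List.mem_cons.1 he with rfl | he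
        · exact hnew
        · exact ih (fun x hx => hL x (List.mem_cons_of_mem _ hx)) (a.2.2 :: known)
            (fun j hj => (List.mem_cons.1 hj).elim (fun e => e ▸ hnew) (hk j)) hok.2 e he
    intro j hj h0 h23
    rcases hcov j hj with ((e | e) | e) | ⟨e, he, hej⟩
    · exact absurd e h0
    · exact absurd e h23
    · exact e ▸ d1
    · exact hej ▸ step ptProg (fun _ h => h) [1] (fun j hj => by rw [List.mem_singleton.1 hj]; exact d1)
        progPts_check e he
  have heq : d = permOf swapP := eq_permOf swapP_check.1 fun i hi => by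
    rcases Nat.eq_zero_or_pos i with rfl | h0
    · rw [d0, idx_pt (by norm_num)]; decide +kernel
    rcases eq_or_ne i 23 with rfl | h23
    · rw [d23, idx_pt (by norm_num)]; decide +kernel
    rw [hall i hi (by omega) h23, idx_pt hi]
    exact (swapP_get i hi (by omega) h23).symm
  have := inM24_swap
  rw [heq] at hdM
  exact this hdM

end Cfsg.Agent.Spor.JFour
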