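import Cfsg.Agent.Lib.Spor.JFourType.SevenClass
import Cfsg.Agent.Lib.Spor.JFourType.SylowG
import Cfsg.Agent.Lib.Spor.JFourType.ElemConj

/-!
The involutions of the group: each is conjugate to the central one or to one of the duad classes.
-/

set_option autoImplicit false
set_option linter.style.haveILetI false

open Cfsg

namespace Cfsg.Agent.Spor.JFour.Frame

open Mathieu

variable {G : Type*} [Group G] {z : G} {P : Subgroup G} {S : Setting z P} (Fr : Frame S) [Finite G]

theorem T_le_normalizer : Fr.F.T ≤ Subgroup.normalizer (Fr.A : Set G) := by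
  intro x hx
  have heq : Fr.A.map (MulAut.conj x).toMonoidHom = Fr.A := by
    refine Fr.unique_in_T ?_ ?_ ?_ ?_
    · rintro _ ⟨a, ha, rfl⟩
      exact mul_mem (mul_mem hx (Fr.A_le_T ha)) (inv_mem hx)
    · rintro _ ⟨a, ha, rfl⟩ _ ⟨b, hb, rfl⟩
      rw [← map_mul, ← map_mul, Fr.A_comm a ha b hb]
    · rintro _ ⟨a, ha, rfl⟩
      rw [← map_mul, Fr.A_sq a ha, map_one]
    · rw [Subgroup.card_map_of_injective (MulAut.conj x).injective, Fr.card_A]
  refine Subgroup.mem_normalizer_iff.2 fun a => ⟨fun ha => ?_, fun ha => ?_⟩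
  · have h := Subgroup.mem_map_of_mem (MulAut.conj x).toMonoidHom ha
    rwa [heq] at h
  · rw [← heq] at ha
    obtain ⟨b, hb, e⟩ := ha
    exact (MulAut.conj x).injective e ▸ hb

variable [IsSimpleGroup G]

/-- An involution is conjugate to the central one or into the classes of the duads. -/
theorem invol_cases (hG : ¬ IsMulCommutative G) {x : G} (hx : x * x = 1) (hx1 : x ≠ 1) :
    IsConj z x ∨ ∃ v < 2048, tMask.testBit v = true ∧ ∃ h : G, h * x * h⁻¹ = Fr.Av v := by
  haveI : Fact (Nat.Prime 2) := ⟨Nat.prime_two⟩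
  obtain ⟨Q, hQ⟩ := (IsPGroup.of_card (p := 2) (n := 1)
    (by rw [Nat.card_zpowers, orderOf_eq_prime (by rw [pow_two, hx]) hx1, pow_one]) :
      IsPGroup 2 ↥(Subgroup.zpowers x)).exists_le_sylow
  obtain ⟨h, hh⟩ := MulAction.exists_smul_eq G Q Fr.F.sylowT
  have hxT : h * x * h⁻¹ ∈ Fr.F.T := by
    have := Subgroup.smul_mem_pointwise_smul _ (MulAut.conj h) _ (hQ (Subgroup.mem_zpowers x))
    change _ ∈ ((h • Q : Sylow 2 G) : Subgroup G) at this
    rw [hh] at this
    simpa [MulAut.smul_def, Full.sylowT] using this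
  obtain ⟨k, hk⟩ := Fr.invol_into (Fr.duadic hG) (Fr.T_le_normalizer hxT)
    (by rw [show h * x * h⁻¹ * (h * x * h⁻¹) = h * (x * x) * h⁻¹ by group, hx]; group)
  obtain ⟨v, hv, e⟩ := Fr.mem_A.1 hk
  have e' : k * h * x * (k * h)⁻¹ = Fr.Av v := by rw [e]; group
  have hv0 : v ≠ 0 := fun e0 => by
    rw [e0, Fr.Av_zero] at e'
    exact hx1 (conj_eq_one_iff.1 e')
  by_cases ht : tMask.testBit v = true
  · exact Or.inr ⟨v, hv, ht, k * h, e'⟩
  · exact Or.inl (((Fr.isConj_Av_iff hG hv).2 ⟨hv0, Bool.eq_false_iff.2 ht⟩).trans (isConj_iff.2 ⟨k * h, e'⟩).symm)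

end Cfsg.Agent.Spor.JFour.Frame
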