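import Cfsg.Agent.Lib.Spor.JFourType.FiveData
import Cfsg.Agent.Lib.Spor.JFourType.FiveClass
import Cfsg.Agent.Lib.Spor.JFourType.Mathieu.Final

/-!
An element of order five in the normaliser of the elementary abelian group of order 2¹¹ and its centraliser there.
-/

set_option autoImplicit false
set_option maxRecDepth 100000
set_option Elab.async false
set_option linter.style.haveILetI false

open Cfsg Cfsg.Agent.Spor.Golay
open Cfsg.Agent.Spor.Cos.J4Sub (app mm app_mm app_xor app_zero)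

namespace Cfsg.Agent.Spor.JFour.Frame

open Mathieu Five

variable {G : Type*} [Group G] {z : G} {P : Subgroup G} {S : Setting z P} (Fr : Frame S) [Finite G]

/-- The facts. -/
structure FiveA where
  /-- the element of order five -/
  n : G
  /-- an involution of the first class commuting with it -/
  q : G
  /-- an element squaring it -/
  m : G
  n_pow : n ^ 5 = 1
  n_ne : n ≠ 1
  n_W : ∀ v ∈ W8, n * Fr.Av v = Fr.Av v * n
  q_sq : q * q = 1
  q_comm : q * n = n * q
  q_z : IsConj z q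
  q_fix : ∀ v ∈ [326, 1602, 1796], q * Fr.Av v = Fr.Av v * q
  q_761 : q * Fr.Av 761 * q⁻¹ = Fr.Av 1533
  m_n : m * n * m⁻¹ = n * n
  m_pow : m ^ 4 = 1
  cent : ∀ g ∈ Subgroup.normalizer (Fr.A : Set G), g * n = n * g → g * Fr.Av 326 = Fr.Av 326 * g →
    ∃ v ∈ W8, ∃ (j : Bool) (l : ℕ), g = Fr.Av v * (if j then q else 1) * n ^ l
  move : ∀ v < 2048, tMask.testBit v = true → ∀ x ∈ Subgroup.normalizer (Fr.A : Set G), orderOf x = 5 →
    x * Fr.Av v = Fr.Av v * x → ∃ g, g * Fr.Av v * g⁻¹ = Fr.Av 326 ∧ g * x * g⁻¹ ∈ Subgroup.zpowers n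

variable [IsSimpleGroup G]

theorem class_u2 (hG : ¬ IsMulCommutative G) : IsConj z Fr.u2 := by
  obtain ⟨-, w2, m62, m63⟩ := class_two
  have hsp := Fr.F.toCoord.lh_spec
  have hmem : Fr.F.lh 128 * Fr.F.lh 256 ∈ twoCoreOfCentralizer z := mul_mem (hsp 128).1 (hsp 256).1
  have hr : S.rep Fr.u2 = Fr.F.Φ (128 ^^^ 256 ^^^ 1024) := by
    rw [u2, S.rep_mul _ hmem _ (hsp 1024).1, S.rep_mul _ (hsp 128).1 _ (hsp 256).1, (hsp 128).2.1, (hsp 256).2.1,
      (hsp 1024).2.1, Fr.F.add, Fr.F.add]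
  rcases Fr.core_walk [4, 7, 4] (mul_mem hmem (hsp 1024).1) (by decide) hr (by decide) w2 (by norm_num) with e | e
  · exact ((Fr.isConj_Av_iff hG (by norm_num)).2 ⟨by norm_num, m62⟩).trans e.symm
  · exact ((Fr.isConj_Av_iff hG (by norm_num)).2 ⟨by norm_num, m63⟩).trans e.symm

set_option maxHeartbeats 1000000 in
theorem exists_fiveA (hG : ¬ IsMulCommutative G) : Nonempty Fr.FiveA := by
  classical
  haveI : Fact (Nat.Prime 5) := ⟨by norm_num⟩
  have D := Fr.duadic hG
  obtain ⟨f, K, hKN, hKA, -, hf, e, he⟩ := Fr.exists_M24 D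
  have hker : ∀ x : ↥(Subgroup.normalizer (Fr.A : Set G)), f x = 1 → (x : G) ∈ Fr.A := fun x hx => by
    refine (Fr.actV_eq_one D x).1 (Equiv.ext fun w => ?_)
    obtain ⟨m, hm, rfl⟩ := exists_num w
    have hgen : ∀ a, a < 24 → a ≠ 0 → Fr.actV x (vb (cN 0 ^^^ cN a)) = vb (cN 0 ^^^ cN a) := by
      intro a ha hne
      have hne' : pt 0 ≠ pt a := fun e' => hne (by
        have := congrArg idx e'
        rw [idx_pt (by norm_num), idx_pt ha] at this
        exact this.symm)
      have h1 := hf x (pt 0) (pt a) hne'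
      rw [hx, OneMemClass.coe_one, Equiv.Perm.one_apply, Equiv.Perm.one_apply, ← duad_eq, idx_pt (by norm_num),
        idx_pt ha] at h1
      exact h1
    have hz : Fr.actV x (vb 0) = vb 0 :=
      Fr.actV_vb x (by norm_num) (by norm_num) (by rw [Fr.Av_zero, mul_one, mul_inv_cancel])
    rw [Equiv.Perm.one_apply]
    refine xor_induction (p := fun v => Fr.actV x (vb v) = vb v) hz 11 (fun i hi k _ ih => ?_) m hm
    have h := List.all_eq_true.1 unit_check i (List.mem_range.2 hi)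
    simp only [Bool.and_eq_true, List.all_eq_true, beq_iff_eq, bne_iff_ne, ne_eq, decide_eq_true_eq] at h
    have hfold : ∀ L : List ℕ, (∀ a ∈ L, a ≠ 0 ∧ a < 24) →
        Fr.actV x (vb (L.foldr (fun a s => cN 0 ^^^ cN a ^^^ s) 0)) =
          vb (L.foldr (fun a s => cN 0 ^^^ cN a ^^^ s) 0) := by
      intro L
      induction L with
      | nil => intro _; exact hz
      | cons a L ihL =>
        intro hL
        obtain ⟨ha0, ha⟩ := hL a (List.mem_cons_self ..)
        rw [List.foldr_cons, vb_xor, Fr.actV_add, hgen a ha ha0, ihL fun b hb => hL b (List.mem_cons_of_mem _ hb)]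
    have h1 := hfold _ fun a ha => h.1 a ha
    rw [h.2] at h1
    rw [vb_xor, Fr.actV_add, h1, ih]
  obtain ⟨hi5, -, h5M, hpM, hrM, hkM, him, h5lt, hplt, hrlt, hklt, h55, h5ne, cp5, cpp, cr5, cm5, cm4, ckp, -, -, -,
    gp0, gp23⟩ := s5_checks
  obtain ⟨hfix5, hW, p326, p1602, p1796, p761, hto, hab, ht326, -, k326⟩ := fixed_s5
  have hI : ∀ {M : List ℕ} {Q : ℕ}, permOK M Q = true → inM24 Q = true := fun {M Q} h => by
    simp only [permOK, Bool.and_eq_true] at h; exact h.1
  have hv : ∀ {Q : ℕ}, inM24 Q = true → valid Q = true := fun {Q} h => by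
    simp only [inM24, Bool.and_eq_true] at h; exact h.1
  let σ : {Q : ℕ} → inM24 Q = true → ↥Cfsg.M24 := fun {Q} h => ⟨permOf Q, permOf_mem_M24 h⟩
  let σ5 := σ hi5
  let σp := σ (hI hpM)
  let σr := σ (hI hrM)
  let σk := σ (hI hkM)
  let σm := σ him
  let σ2 := σ (hI class_checks.2.1)
  have comm : ∀ {A B : ℕ} (hA : inM24 A = true) (hB : inM24 B = true), comp A B = comp B A → σ hA * σ hB = σ hB * σ hA :=
    fun {A B} hA hB h => Subtype.ext (by
      show permOf A * permOf B = permOf B * permOf A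
      rw [← permOf_comp (hv hA) (hv hB), h, permOf_comp (hv hB) (hv hA)])
  have q5p : σp * σ5 = σ5 * σp := comm (hI hpM) hi5 cp5
  have q5r : σr * σ5 = σ5 * σr := comm (hI hrM) hi5 cr5
  have v55 := valid_comp (hv hi5) (hv hi5)
  have q55 : σ5 ^ 5 = 1 := Subtype.ext (by
    show permOf s5P ^ 5 = 1
    rw [← permOf_idP, ← h55, permOf_comp (valid_comp (valid_comp v55 (hv hi5)) (hv hi5)) (hv hi5),
      permOf_comp (valid_comp v55 (hv hi5)) (hv hi5), permOf_comp v55 (hv hi5), permOf_comp (hv hi5) (hv hi5)]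
    simp only [pow_succ, pow_zero, one_mul, mul_assoc])
  have qpp : σp * σp = 1 := Subtype.ext (by
    show permOf piP * permOf piP = 1
    rw [← permOf_comp (hv (hI hpM)) (hv (hI hpM)), cpp, permOf_idP])
  have qm5 : σm * σ5 = σ5 * σ5 * σm := Subtype.ext (by
    show permOf mu5P * permOf s5P = permOf s5P * permOf s5P * permOf mu5P
    rw [← permOf_comp (hv him) (hv hi5), cm5, permOf_comp v55 (hv him), permOf_comp (hv hi5) (hv hi5)])
  have qm4 : σm ^ 4 = 1 := Subtype.ext (by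
    show permOf mu5P ^ 4 = 1
    have vmm := valid_comp (hv him) (hv him)
    rw [← permOf_idP, ← cm4, permOf_comp (valid_comp vmm (hv him)) (hv him), permOf_comp vmm (hv him),
      permOf_comp (hv him) (hv him)]
    simp only [pow_succ, pow_zero, one_mul, mul_assoc])
  have qkp : σk * σp = σ2 * σk := Subtype.ext (by
    show permOf k5P * permOf piP = permOf u2P * permOf k5P
    rw [← permOf_comp (hv (hI hkM)) (hv (hI hpM)), ckp,
      permOf_comp (hv (hI class_checks.2.1)) (hv (hI hkM))])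
  let L : ↥Cfsg.M24 → G := fun s => ((e.symm s : ↥K) : G)
  have Lmul : ∀ a b, L a * L b = L (a * b) := fun a b => by simp [L]
  have Lpow : ∀ a (k : ℕ), L a ^ k = L (a ^ k) := fun a k => by simp [L]
  have Linv : ∀ a, (L a)⁻¹ = L a⁻¹ := fun a => by simp [L]
  have LN : ∀ a, L a ∈ Subgroup.normalizer (Fr.A : Set G) := fun a => hKN (e.symm a).2
  have Lf : ∀ a, f ⟨L a, LN a⟩ = a := fun a => by
    have h := he (e.symm a) (LN a)
    rw [e.apply_symm_apply] at h
    exact h.symm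
  have L1 : L 1 = 1 := by simp [L]
  simp only [List.all_eq_true, decide_eq_true_eq] at h5lt hplt hrlt hklt
  have act : ∀ {M : List ℕ} {Q : ℕ} (hQ : permOK M Q = true), (∀ c ∈ M, c < 2048) → Fr.Act (L (σ (hI hQ))) M :=
    fun {M Q} hQ hlt => Fr.act_of_toM24 hf ⟨_, LN _⟩ hlt hQ (congrArg Subtype.val (Lf _))
  have act5 : Fr.Act (L σ5) s5M11 := act h5M h5lt
  have actp : Fr.Act (L σp) piM := act hpM hplt
  have actr : Fr.Act (L σr) r5M := act hrM hrlt
  have actk : Fr.Act (L σk) k5M := act hkM hklt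
  obtain ⟨-, b2, bA, -⟩ := Fr.u_spec
  simp only [List.all_eq_true, List.mem_range, beq_iff_eq, Bool.or_eq_true, Bool.not_eq_true', Bool.and_eq_true,
    decide_eq_true_eq, beq_eq_false_iff_ne, List.contains_iff_mem] at hfix5 hW hto
  have hW8 : ∀ v ∈ W8, v < 2048 := by decide
  have hn_W : ∀ v ∈ W8, L σ5 * Fr.Av v = Fr.Av v * L σ5 := fun v hv =>
    mul_inv_eq_iff_eq_mul.1 (by rw [act5.eq v (hW8 v hv), hW v hv])
  have hn5 : L σ5 ^ 5 = 1 := by rw [Lpow, q55, L1]
  have hn1 : L σ5 ≠ 1 := fun h => h5ne (by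
    have h1 : e.symm σ5 = e.symm 1 := Subtype.ext (by rw [map_one]; exact h)
    have h2 := congrArg Subtype.val (e.symm.injective h1)
    have hp : pack 24 (Golay.get s5P) = s5P := by decide +kernel
    rw [← hp, idP]
    refine Census.pack_ext 24 _ _ fun i hi => ?_
    have h3 := idx_permOf (hv hi5) (pt i)
    rw [show permOf s5P = 1 from h2, Equiv.Perm.one_apply, idx_pt hi] at h3
    exact h3.symm)
  have hcp : L σp * L σ5 = L σ5 * L σp := by rw [Lmul, Lmul, q5p]
  have hpp : L σp * L σp = 1 := by rw [Lmul, qpp, L1]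
  have hp326 : L σp * Fr.Av 326 = Fr.Av 326 * L σp :=
    mul_inv_eq_iff_eq_mul.1 (by rw [actp.eq 326 (by norm_num), p326])
  -- the class of the involution
  obtain ⟨v, hv', hve⟩ : ∃ v < 2048, L σ2 = Fr.Av v * Fr.u2 := by
    have h := hker (⟨L σ2, LN σ2⟩ * ⟨Fr.u2, Fr.mem_normalizer_of_act bA⟩⁻¹) (by
      rw [map_mul, map_inv, Lf, mul_inv_eq_one]
      exact Subtype.ext (Fr.toM24_eq hf bA (Fr.mem_normalizer_of_act bA) class_checks.2.1).symm)
    obtain ⟨v, hv', e'⟩ := h
    refine ⟨v, hv', ?_⟩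
    rw [show Fr.Av v = L σ2 * Fr.u2⁻¹ from e', inv_mul_cancel_right]
  have hvfix : app u2M v = v := by
    have h22 : L σ2 * L σ2 = 1 := by
      rw [Lmul, show σ2 * σ2 = 1 from Subtype.ext (show permOf u2P * permOf u2P = 1 by
        rw [← permOf_comp (hv (hI class_checks.2.1)) (hv (hI class_checks.2.1)), class_checks.2.2.2.1, permOf_idP]), L1]
    have h : Fr.Av v * (Fr.u2 * Fr.Av v * Fr.u2⁻¹) = 1 := by
      rw [inv_eq_of_mul_eq_one_right b2, ← h22, hve]; group
    rw [bA.eq v hv', Fr.Av_mul hv' (bA.lt v), ← Fr.Av_zero] at h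
    exact (Nat.xor_eq_zero_iff.1 (Fr.Av_inj (Nat.xor_lt_two_pow (n := 11) hv' (bA.lt v)) (by norm_num) h)).symm
  have him : ∀ d < 2048, ∀ w < 2048, w ^^^ app u2M w = d → IsConj z (Fr.Av d * Fr.u2) := fun d _ w hw e' =>
    (Fr.class_u2 hG).trans (isConj_iff.2 ⟨Fr.Av w, by
      have h := Fr.coset_move bA (v := 0) (w := w) (by norm_num) hw
      rw [Nat.zero_xor, e', Fr.Av_zero, one_mul] at h
      exact h⟩)
  obtain ⟨c, hc, hcz⟩ : ∃ c : Bool, (L σk * ((if c then Fr.Av 326 else 1) * L σp) * (L σk)⁻¹ = Fr.Av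
      (if c then v ^^^ 54 else v) * Fr.u2) ∧ IsConj z (Fr.Av (if c then v ^^^ 54 else v) * Fr.u2) := by
    have hk2 : L σk * L σp * (L σk)⁻¹ = Fr.Av v * Fr.u2 := by
      rw [← hve, mul_inv_eq_iff_eq_mul, Lmul, Lmul, qkp]
    have h := List.all_eq_true.1 class_two.1 v (List.mem_range.2 hv')
    simp only [hvfix, beq_self_eq_true, Bool.not_true, Bool.false_or, List.any_eq_true, List.mem_range, beq_iff_eq,
      List.mem_cons, List.not_mem_nil, or_false] at h
    obtain ⟨d, hd | hd, w, hw, hwd⟩ := h <;> rw [hd] at hwd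
    · exact ⟨false, by simpa using hk2, by simpa using him v hv' w hw hwd⟩
    · have hlt : v ^^^ 54 < 2048 := Nat.xor_lt_two_pow (n := 11) hv' (by norm_num)
      refine ⟨true, ?_, by simpa using him _ hlt w hw hwd⟩
      simp only [if_true]
      rw [show L σk * (Fr.Av 326 * L σp) * (L σk)⁻¹ =
        L σk * Fr.Av 326 * (L σk)⁻¹ * (L σk * L σp * (L σk)⁻¹) by group, actk.eq 326 (by norm_num), k326, hk2,
        ← mul_assoc, Fr.Av_mul (by norm_num) hv', Nat.xor_comm]
  set a := (if c then Fr.Av 326 else 1) with ha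
  have hac : ∀ x, x * Fr.Av 326 = Fr.Av 326 * x → x * a = a * x := fun x hx => by
    rw [ha]; split
    · exact hx
    · rw [mul_one, one_mul]
  have haA : a ∈ Fr.A := by rw [ha]; split; exacts [Fr.Av_mem (by norm_num), one_mem _]
  have hqq : a * L σp * (a * L σp) = 1 := by
    rw [mul_assoc, ← mul_assoc (L σp), hac _ hp326, mul_assoc a (L σp), hpp, mul_one, Fr.A_sq a haA]
  have hqn : a * L σp * L σ5 = L σ5 * (a * L σp) := by
    rw [mul_assoc, hcp, ← mul_assoc, ← hac _ (hn_W 326 (by decide)), mul_assoc]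
  have hqfix : ∀ w < 2048, app piM w = w → a * L σp * Fr.Av w = Fr.Av w * (a * L σp) := fun w hw e' => by
    rw [mul_assoc, mul_inv_eq_iff_eq_mul.1 (show L σp * Fr.Av w * (L σp)⁻¹ = Fr.Av w by rw [actp.eq w hw, e']),
      ← mul_assoc, Fr.A_comm a haA _ (Fr.Av_mem hw), mul_assoc]
  refine ⟨⟨L σ5, a * L σp, L σm, hn5, hn1, hn_W, hqq, hqn, ?_, ?_, ?_, ?_, ?_, ?_, ?_⟩⟩
  · exact hcz.trans (isConj_iff.2 ⟨(L σk)⁻¹, by rw [← hc]; group⟩)
  · intro w hw
    simp only [List.mem_cons, List.not_mem_nil, or_false] at hw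
    rcases hw with rfl | rfl | rfl
    exacts [hqfix _ (by norm_num) p326, hqfix _ (by norm_num) p1602, hqfix _ (by norm_num) p1796]
  · rw [show a * L σp * Fr.Av 761 * (a * L σp)⁻¹ = a * (L σp * Fr.Av 761 * (L σp)⁻¹) * a⁻¹ by group,
      actp.eq 761 (by norm_num), p761, Fr.A_comm a haA _ (Fr.Av_mem (by norm_num)), mul_inv_cancel_right]
  · rw [Lmul, Lmul, qm5, Linv, Lmul, mul_inv_cancel_right]
  · rw [Lpow, qm4, L1]
  · intro g hg hgn hgt
    have hσa : ∀ {x : G} (hx : x ∈ Subgroup.normalizer (Fr.A : Set G)), x * Fr.Av 326 = Fr.Av 326 * x →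
        ((f ⟨x, hx⟩ : Equiv.Perm GolayPt) (pt 0) = pt 0 ∧ (f ⟨x, hx⟩ : Equiv.Perm GolayPt) (pt 23) = pt 23) ∨
          ((f ⟨x, hx⟩ : Equiv.Perm GolayPt) (pt 0) = pt 23 ∧ (f ⟨x, hx⟩ : Equiv.Perm GolayPt) (pt 23) = pt 0) := by
      intro x hx hxt
      set s := (f ⟨x, hx⟩ : Equiv.Perm GolayPt) with hs
      have hne : pt 0 ≠ pt 23 := by decide
      have h1 := hf ⟨x, hx⟩ (pt 0) (pt 23) hne
      rw [← hs, ← duad_eq, ← duad_eq, idx_pt (by norm_num), idx_pt (by norm_num), hab,
        Fr.actV_vb ⟨x, hx⟩ (v := 326) (w := 326) (by norm_num) (by norm_num)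
          (by rw [show (x : G) * Fr.Av 326 = Fr.Av 326 * x from hxt, mul_inv_cancel_right])] at h1
      have hne' : s (pt 0) ≠ s (pt 23) := fun h => hne (s.injective h)
      have h2 : ({s (pt 0), s (pt 23)} : Finset GolayPt) = {pt 0, pt 23} :=
        cocode.pair_inj (Finset.card_pair hne') (Finset.card_pair hne) (by
          rw [Finset.sum_pair hne', Finset.sum_pair hne, ← duad_eq, ← duad_eq, idx_pt (by norm_num) (i := 0),
            idx_pt (by norm_num) (i := 23), hab]
          exact h1.symm)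
      have a1 : s (pt 0) = pt 0 ∨ s (pt 0) = pt 23 := by
        have : s (pt 0) ∈ ({pt 0, pt 23} : Finset GolayPt) := h2 ▸ by simp
        simpa using this
      have b1 : s (pt 23) = pt 0 ∨ s (pt 23) = pt 23 := by
        have : s (pt 23) ∈ ({pt 0, pt 23} : Finset GolayPt) := h2 ▸ by simp
        simpa using this
      rcases a1 with a1 | a1 <;> rcases b1 with b1 | b1
      · exact absurd (a1.trans b1.symm) hne'
      · exact Or.inl ⟨a1, b1⟩
      · exact Or.inr ⟨a1, b1⟩
      · exact absurd (a1.trans b1.symm) hne'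
    obtain ⟨r5, rt, g0, g23⟩ := rigid_s5
    have key : ∀ {x : G} (hx : x ∈ Subgroup.normalizer (Fr.A : Set G)), x * L σ5 = L σ5 * x →
        (f ⟨x, hx⟩ : Equiv.Perm GolayPt) (pt 0) = pt 0 → (f ⟨x, hx⟩ : Equiv.Perm GolayPt) (pt 23) = pt 23 →
        ∃ w ∈ W8, ∃ k : ℕ, x = Fr.Av w * L σ5 ^ k := by
      intro x hx hxn e0 e23
      have hint : (f ⟨x, hx⟩ : Equiv.Perm GolayPt) * permOf s5P = permOf s5P * f ⟨x, hx⟩ := by
        have h := congrArg (fun y => ((f y : ↥Cfsg.M24) : Equiv.Perm GolayPt))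
          (show (⟨x, hx⟩ : ↥(Subgroup.normalizer (Fr.A : Set G))) * ⟨L σ5, LN σ5⟩ = ⟨L σ5, LN σ5⟩ * ⟨x, hx⟩ from
            Subtype.ext hxn)
        simp only [map_mul, Lf, Subgroup.coe_mul] at h
        exact h
      obtain ⟨k, hk⟩ := Five.rigid r5 rt (permOf_mem_M24 hi5) (f ⟨x, hx⟩).2 e0 e23 hint
      have hm := hker (⟨x, hx⟩ * (⟨L σ5, LN σ5⟩ ^ k)⁻¹) (by
        rw [map_mul, map_inv, map_pow, Lf, mul_inv_eq_one]
        exact Subtype.ext hk)
      obtain ⟨w, hw, ew⟩ := hm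
      have ew' : x = Fr.Av w * L σ5 ^ k := by
        rw [show Fr.Av w = x * (L σ5 ^ k)⁻¹ from ew, inv_mul_cancel_right]
      refine ⟨w, ?_, k, ew'⟩
      have hcw : app s5M11 w = w := by
        refine Fr.Av_inj (act5.lt w) hw ?_
        have hc : Commute (L σ5) (Fr.Av w) := by
          rw [show Fr.Av w = x * (L σ5 ^ k)⁻¹ from ew]
          exact (show Commute (L σ5) x from hxn.symm).mul_right ((Commute.refl _).pow_right k).inv_right
        rw [← act5.eq w hw, hc.eq, mul_inv_cancel_right]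
      exact (hfix5 w hw).resolve_left (by simp [hcw])
    rcases hσa hg hgt with ⟨e0, e23⟩ | ⟨e0, e23⟩
    · obtain ⟨w, hw, k, e'⟩ := key hg hgn e0 e23
      exact ⟨w, hw, false, k, by simpa using e'⟩
    · have hgu : g * (a * L σp) ∈ Subgroup.normalizer (Fr.A : Set G) :=
        mul_mem hg (mul_mem (Subgroup.le_normalizer haA) (LN σp))
      have hcn : g * (a * L σp) * L σ5 = L σ5 * (g * (a * L σp)) := by
        rw [mul_assoc, hqn, ← mul_assoc, hgn, mul_assoc]
      have hfa : f ⟨a, Subgroup.le_normalizer haA⟩ = 1 := by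
        have hA : Fr.Act a mI11 := ⟨Fr.act_one.lt, fun w hw => by
          rw [app_mI11 hw, Fr.A_comm a haA _ (Fr.Av_mem hw), mul_inv_cancel_right]⟩
        exact Subtype.ext ((Fr.toM24_eq hf hA (Subgroup.le_normalizer haA)
          (show permOK mI11 idP = true by decide +kernel)).trans permOf_idP)
      have hfu : ∀ p : GolayPt, (f ⟨g * (a * L σp), hgu⟩ : Equiv.Perm GolayPt) p =
          (f ⟨g, hg⟩ : Equiv.Perm GolayPt) (permOf piP p) := fun p => by
        rw [show (⟨g * (a * L σp), hgu⟩ : ↥(Subgroup.normalizer (Fr.A : Set G))) =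
            ⟨g, hg⟩ * (⟨a, Subgroup.le_normalizer haA⟩ * ⟨L σp, LN σp⟩) from rfl, map_mul, map_mul, Lf, hfa, one_mul,
          Subgroup.coe_mul, Equiv.Perm.mul_apply]
      have p0 : permOf piP (pt 0) = pt 23 := Census.apply_rep (hI hpM) (by norm_num) gp0 (by norm_num)
      have p23 : permOf piP (pt 23) = pt 0 := Census.apply_rep (hI hpM) (by norm_num) gp23 (by norm_num)
      obtain ⟨w, hw, k, e'⟩ := key hgu hcn (by rw [hfu, p0, e23]) (by rw [hfu, p23, e0])
      refine ⟨w, hw, true, k, ?_⟩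
      have hcq : Commute (L σ5) (a * L σp) := hqn.symm
      calc g = g * (a * L σp) * (a * L σp) := by rw [mul_assoc, hqq, mul_one]
        _ = Fr.Av w * (L σ5 ^ k * (a * L σp)) := by rw [e']; group
        _ = _ := by rw [(hcq.pow_left k).eq, if_pos rfl, mul_assoc (Fr.Av w)]
  · intro w hw ht x hx ho hxw
    set N := Subgroup.normalizer (Fr.A : Set G) with hN
    let x' : ↥N := ⟨x, hx⟩
    let n' : ↥N := ⟨L σ5, LN σ5⟩
    have hno : orderOf n' = 5 := by rw [← Subgroup.orderOf_coe]; exact orderOf_eq_prime hn5 hn1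
    have hfac : (Nat.card ↥N).factorization 5 = 1 := by
      rw [Fr.card_normalizer hG, show 2 ^ 11 * 244823040 = 5 * (2 ^ 11 * 48964608) by norm_num,
        Nat.factorization_mul (by norm_num) (by norm_num), Finsupp.add_apply,
        Nat.Prime.factorization_self (by norm_num), Nat.factorization_eq_zero_of_not_dvd (by norm_num)]
    let S1 : Sylow 5 ↥N := Sylow.ofCard (Subgroup.zpowers x') (by
      rw [hfac, pow_one, Nat.card_zpowers, ← Subgroup.orderOf_coe]; exact ho)
    let S2 : Sylow 5 ↥N := Sylow.ofCard (Subgroup.zpowers n') (by rw [hfac, pow_one, Nat.card_zpowers, hno])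
    obtain ⟨y, hy⟩ := MulAction.exists_smul_eq ↥N S1 S2
    have h1 := Subgroup.smul_mem_pointwise_smul _ (MulAut.conj y) (S1 : Subgroup ↥N)
      (show x' ∈ (S1 : Subgroup ↥N) by rw [Sylow.coe_ofCard]; exact Subgroup.mem_zpowers _)
    change _ ∈ ((y • S1 : Sylow 5 ↥N) : Subgroup ↥N) at h1
    rw [hy, Sylow.coe_ofCard, Subgroup.mem_zpowers_iff] at h1
    obtain ⟨i, hi⟩ := h1
    have h2 := congrArg (Subtype.val : ↥N → G) hi
    simp only [MulAut.smul_def, MulAut.conj_apply, Subgroup.coe_mul, Subgroup.coe_inv, SubgroupClass.coe_zpow] at h2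
    change (L σ5) ^ i = (y : G) * x * (y : G)⁻¹ at h2
    obtain ⟨u, hu, hut, eu⟩ := D.duad (y : G) y.2 w hw ht
    have hcu : Commute (L σ5) (Fr.Av u) := by
      have c : Commute ((y : G) * x * (y : G)⁻¹) (Fr.Av u) := by
        rw [← eu]; exact (show Commute x (Fr.Av w) from hxw).conj (y : G)
      rw [← h2] at c
      have hi5' : ¬ (5 : ℤ) ∣ i := fun ⟨j, hj⟩ => by
        rw [hj, zpow_mul, show (5 : ℤ) = ((5 : ℕ) : ℤ) from rfl, zpow_natCast, hn5, one_zpow, eq_comm,
          conj_eq_one_iff] at h2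
        rw [h2, orderOf_one] at ho
        norm_num at ho
      obtain ⟨p', q', hpq⟩ : IsCoprime (5 : ℤ) i :=
        (Int.prime_iff_natAbs_prime.2 (by norm_num)).coprime_iff_not_dvd.2 hi5'
      have hb : L σ5 = (L σ5 ^ i) ^ q' := by
        conv_lhs => rw [← zpow_one (L σ5), ← hpq, zpow_add, mul_comm p', zpow_mul, show (5 : ℤ) = ((5 : ℕ) : ℤ) from rfl,
          zpow_natCast, hn5, one_zpow, one_mul, mul_comm q', zpow_mul]
      rw [hb]
      exact c.zpow_left q'
    have hu8 : u ∈ W8 := (hfix5 u hu).resolve_left (by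
      have : app s5M11 u = u := Fr.Av_inj (act5.lt u) hu (by rw [← act5.eq u hu, hcu.eq, mul_inv_cancel_right])
      simp [this])
    obtain ⟨-, hrun⟩ := (hto u hu8).resolve_left (by simp [hut])
    have run : ∀ (W : List Bool) (u : ℕ), u < 2048 → ∃ g, g * L σ5 = L σ5 * g ∧
        g * Fr.Av u * g⁻¹ = Fr.Av (runT W u) := by
      intro W
      induction W with
      | nil => intro u _; exact ⟨1, by rw [one_mul, mul_one], by simp [runT]⟩
      | cons b W ih =>
        intro u hu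
        obtain ⟨g, hg, eg⟩ : ∃ g, g * L σ5 = L σ5 * g ∧ Fr.Act g (if b then piM else r5M) := by
          cases b
          · exact ⟨_, by rw [Lmul, Lmul, q5r], actr⟩
          · exact ⟨_, hcp, actp⟩
        obtain ⟨g', hg', e'⟩ := ih _ (eg.lt u)
        refine ⟨g' * g, ((show Commute g' (L σ5) from hg').mul_left hg).eq, ?_⟩
        rw [runT, ← e', ← eg.eq u hu]
        group
    obtain ⟨g, hg, eg⟩ := run (toT u) u hu
    refine ⟨g * y, ?_, ?_⟩
    · rw [hrun] at eg
      rw [← eg, ← eu]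
      group
    · rw [show g * (y : G) * x * (g * (y : G))⁻¹ = g * ((y : G) * x * (y : G)⁻¹) * g⁻¹ by group, ← h2]
      rw [((show Commute g (L σ5) from hg).zpow_right i).eq, mul_inv_cancel_right]
      exact Subgroup.zpow_mem_zpowers _ _

end Cfsg.Agent.Spor.JFour.Frame
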