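import Cfsg.Agent.Lib.Spor.JFourType.SevenRigid
import Cfsg.Agent.Lib.Spor.JFourType.Mathieu.Fusion

/-!
Data for the elements of order seven: permutations, matrices and the checks on them.
-/

set_option autoImplicit false
set_option maxRecDepth 100000
set_option Elab.async false

namespace Cfsg.Agent.Spor.JFour.Seven

open Cfsg Cfsg.Agent.Spor.Golay Cfsg.Agent.Spor.Golay.Aut Cfsg.Agent.Spor.JFour.Mathieu
open Cfsg.Agent.Spor.Cos.J4Sub (app mm)

/-- An element of order seven of the group on 22 points: the word 0, 8. -/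
def s0P : ℕ := 0xbd9ea81275316517046b4b28713500

/-- An outer element commuting with it is this one times the outer representative. -/
def c0P : ℕ := 0xb850b398b68c9b464d23539e4a8a00

/-- An element normalising it. -/
def n0P : ℕ := 0xbd9ee8a4d0628952d0eb94d021b420

/-- An element of order seven commuting with the first translation. -/
def s7P : ℕ := 0x942b19d0a27b6e601c23b21cc5a544

/-- Its matrix on eleven bits. -/
def s7M : List ℕ := [40, 115, 512, 240, 32, 128, 137, 184, 2043, 1227, 644]

/-- An element of order three permuting its fixed points. -/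
def t3P : ℕ := 0x51a7679e08aa432711716505728c0d

/-- Its matrix on eleven bits. -/
def t3M : List ℕ := [142, 398, 393, 1079, 1715, 1548, 1151, 1215, 259, 1947, 1136]

/-- The inverse of the element of order seven on 22 points. -/
def s0Inv : ℕ := comp (comp (comp s0P s0P) (comp s0P s0P)) (comp s0P s0P)

/-- The matrix of the lift of the element on 22 points. -/
def s0M : List ℕ := evM (asg mS mW mQ) [0, 8]

theorem s0_checks : wordP [0, 8] = s0P ∧ valid c0P = true ∧ valid n0P = true ∧
    inM24 c0P = true ∧ preserves c22.M c0P = true ∧ inM24 n0P = true ∧ preserves c22.M n0P = true ∧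
    inM24 s0P = true ∧
    comp (comp c0P (pk 9)) s0P = comp s0P (comp c0P (pk 9)) ∧ comp n0P s0P = comp (comp s0P s0P) n0P ∧
    comp s0P s0Inv = idP ∧ comp s0Inv s0P = idP ∧ comp s0P (comp s0Inv idP) = idP ∧ s0P ≠ idP ∧ s0P ≠ s0Inv ∧
    comp (comp (comp n0P n0P) n0P) idP = idP := by decide +kernel

theorem s0M_fix : ((List.range 4096).all fun n => !(app s0M n == n) || (n == 0)) = true ∧ okMat s0M = true := by
  decide +kernel

theorem rigid_s0 : rigidOK s0P s0P 0 23 22 1 5390753 = true ∧ rigidOK s0P s0Inv 0 23 22 1 13893731 = true ∧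
    trivOk [] ([0, 23, 22] ++ orb s0P 1) = true ∧ get s0P 0 = 0 ∧ get s0P 23 = 23 := by decide +kernel

theorem s7_checks : permOK s7M s7P = true ∧ permOK t3M t3P = true ∧
    (s7M.all fun c => decide (c < 2048)) = true ∧ (t3M.all fun c => decide (c < 2048)) = true ∧
    comp s7P u1P = comp u1P s7P ∧ comp s7P t3P = comp t3P s7P ∧
    comp (comp (comp (comp s7P s7P) (comp s7P s7P)) (comp s7P s7P)) s7P = idP ∧ s7P ≠ idP ∧
    comp (comp t3P t3P) t3P = idP ∧ get u1P 15 = 19 ∧ get u1P 19 = 15 ∧ get s7P 15 = 15 ∧ get s7P 19 = 19 := by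
  decide +kernel

theorem rigid_s7 : rigidOK s7P s7P 15 19 21 0 2634003 = true ∧
    trivOk [] ([15, 19, 21] ++ orb s7P 0) = true := by decide +kernel

theorem fixed_s7 : ((List.range 2048).all fun v => !(app s7M v == v) || [0, 43, 827, 784].contains v) = true ∧
    app s7M 43 = 43 ∧ app s7M 827 = 827 ∧ app s7M 784 = 784 ∧
    app u1M 43 = 43 ∧ app u1M 827 = 784 ∧ app u1M 784 = 827 ∧
    app t3M 43 = 827 ∧ app t3M 827 = 784 ∧ app t3M 784 = 43 ∧
    cN 15 ^^^ cN 19 = 43 ∧ tMask.testBit 43 = true ∧ tMask.testBit 827 = true ∧ tMask.testBit 784 = true := by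
  decide +kernel

/-- The commutators of the group with the first translation. -/
def imList : List ℕ := [0, 1, 2, 3, 40, 41, 42, 43, 88, 89, 90, 91, 112, 113, 114, 115]

/-- Iterates of the matrix. -/
def itM : ℕ → ℕ → ℕ
  | 0, v => v
  | k + 1, v => app s7M (itM k v)

theorem im_checks : (imList.all fun d => (List.range 2048).any fun w => w ^^^ app u1M w == d) = true ∧
    ((List.range 2048).all fun v => !(app u1M v == v) || imList.contains v ||
      [8, 16].any fun t => (List.range 7).any fun k => imList.contains (itM k v ^^^ (t ^^^ v))) = true := by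
  decide +kernel

/-- The matrices moving into the lower half. -/
def path : ℕ → List ℕ
  | 64 => [7, 4]
  | 68 => [0, 6, 4, 3, 4]
  | 72 => [5, 9, 4, 3, 4]
  | _ => []

/-- The vector reached. -/
def walk : List ℕ → ℕ → ℕ
  | [], n => n
  | i :: w, n => walk w (app (moveM.getD i []) n)

theorem walk_checks : walk (path 64) 64 = 31 ∧ walk (path 68) 68 = 45 ∧ walk (path 72) 72 = 3 ∧
    ([64, 68, 72].all fun n => (path n).all fun i => decide (i < moveM.length)) = true ∧
    tMask.testBit 62 = false ∧ tMask.testBit 63 = false ∧ tMask.testBit 90 = true ∧ tMask.testBit 91 = true ∧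
    tMask.testBit 6 = true ∧ tMask.testBit 7 = true := by
  decide +kernel

end Cfsg.Agent.Spor.JFour.Seven
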