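import Cfsg.Agent.Lib.Spor.JFourType.FiveRigid
import Cfsg.Agent.Lib.Spor.JFourType.SevenData

/-!
Data for the elements of order five: permutations, matrices and the checks on them.
-/

set_option autoImplicit false
set_option maxRecDepth 100000
set_option Elab.async false

namespace Cfsg.Agent.Spor.JFour.Five

open Cfsg Cfsg.Agent.Spor.Golay Cfsg.Agent.Spor.Golay.Aut Cfsg.Agent.Spor.JFour.Mathieu
open Cfsg.Agent.Spor.Cos.J4Sub (app mm)
open Cfsg.Agent.Spor.JFour.Seven (walk)

/-- The element of order five: the word 0, 7, 8. -/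
def s5P : ℕ := wordP [0, 7, 8]

/-- Its matrix on eleven bits. -/
def s5M11 : List ℕ := [857, 723, 398, 1281, 1579, 960, 897, 1387, 410, 1952, 176]

/-- A word for an element which, times the outer representative, commutes with it. -/
def c5W : List ℕ := [2, 8, 2, 8, 3, 6, 8, 7, 8]

/-- An involution without fixed points commuting with it. -/
def piP : ℕ := 0x4d8fb04c7a08b52206a845ab4ba57

/-- Its matrix on eleven bits. -/
def piM : List ℕ := [1889, 193, 96, 1636, 938, 1771, 1775, 396, 1800, 1754, 1718]

/-- An element of order three permuting three of its fixed points. -/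
def r5P : ℕ := 0x3d2af9ca37b08c46286e815ab0a120

/-- Its matrix on eleven bits. -/
def r5M : List ℕ := [1111, 1670, 723, 827, 1094, 1501, 354, 9, 396, 1754, 641]

/-- An element of order four squaring it. -/
def mu5P : ℕ := 0xb86239566748a862a968859ed23980

/-- An element taking the involution to the second representative. -/
def k5P : ℕ := 0x34465bb25673e81120f34b6a05408b

/-- Its matrix on eleven bits. -/
def k5M : List ℕ := [1111, 603, 1060, 256, 153, 1900, 810, 1375, 1379, 1211, 1533]

/-- The fixed vectors. -/
def W8 : List ℕ := [0, 326, 761, 959, 1211, 1533, 1602, 1796]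

/-- Words moving the six duads of fixed points to the first one. -/
def toT : ℕ → List Bool
  | 1602 => [false, false, true, false]
  | 761 => [false]
  | 959 => [false, true, false]
  | 1211 => [false, false]
  | 1533 => [true, false]
  | _ => []

/-- The vector reached. -/
def runT : List Bool → ℕ → ℕ
  | [], v => v
  | b :: w, v => runT w (app (if b then piM else r5M) v)

theorem s5_checks : inM24 s5P = true ∧ preserves c22.M s5P = true ∧ permOK s5M11 s5P = true ∧
    permOK piM piP = true ∧ permOK r5M r5P = true ∧ permOK k5M k5P = true ∧ inM24 mu5P = true ∧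
    (s5M11.all fun c => decide (c < 2048)) = true ∧ (piM.all fun c => decide (c < 2048)) = true ∧
    (r5M.all fun c => decide (c < 2048)) = true ∧ (k5M.all fun c => decide (c < 2048)) = true ∧
    comp (comp (comp (comp s5P s5P) s5P) s5P) s5P = idP ∧ s5P ≠ idP ∧
    comp piP s5P = comp s5P piP ∧ comp piP piP = idP ∧ comp r5P s5P = comp s5P r5P ∧
    comp mu5P s5P = comp (comp s5P s5P) mu5P ∧ comp (comp (comp mu5P mu5P) mu5P) mu5P = idP ∧
    comp k5P piP = comp u2P k5P ∧
    inM24 (wordP c5W) = true ∧ preserves c22.M (wordP c5W) = true ∧ comp (wordP c5W) (pk 9) = piP ∧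
    get piP 0 = 23 ∧ get piP 23 = 0 := by decide +kernel

theorem rigid_s5 : rigid5OK s5P 0 23 7 16 1 4264387 = true ∧ trivOk [] ([0, 23] ++ orb5 s5P 1) = true ∧
    get s5P 0 = 0 ∧ get s5P 23 = 23 := by decide +kernel

theorem fixed_s5 : ((List.range 2048).all fun v => !(app s5M11 v == v) || W8.contains v) = true ∧
    (W8.all fun v => app s5M11 v == v) = true ∧
    app piM 326 = 326 ∧ app piM 1602 = 1602 ∧ app piM 1796 = 1796 ∧ app piM 761 = 1533 ∧
    (W8.all fun v => !(tMask.testBit v) ||
      ((toT v).length < 5 && runT (toT v) v == 326)) = true ∧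
    cN 0 ^^^ cN 23 = 326 ∧ tMask.testBit 326 = true ∧ tMask.testBit 1796 = false ∧ app k5M 326 = 54 := by
  decide +kernel

theorem class_two : ((List.range 2048).all fun v => !(app u2M v == v) ||
      [v, v ^^^ 54].any fun d => (List.range 2048).any fun w => w ^^^ app u2M w == d) = true ∧
    walk [4, 7, 4] (128 ^^^ 256 ^^^ 1024) = 31 ∧ tMask.testBit 62 = false ∧ tMask.testBit 63 = false := by
  decide +kernel

/-- The matrix of the lift in the centraliser of the involution. -/
def s5M : List ℕ := [1528, 2652, 1635, 2993, 3450, 1695, 1492, 2664, 1624, 2988, 3444, 1688]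

/-- The matrix of an outer element commuting with it. -/
def o5M : List ℕ := [1055, 3130, 1050, 3125, 1374, 4089, 2770, 1457, 3804, 2488, 1365, 4095]

/-- The word for the lift. -/
def s5W : List ℕ := (List.replicate 36 [0, 7, 8]).flatten

/-- The fixed vectors of the core. -/
def FX : List ℕ := [0, 298, 575, 789, 1051, 1329, 1572, 1806, 2093, 2311, 2578, 2872, 3126, 3356, 3593, 3875]

/-- The fixed vectors with preimages in the group of order eight. -/
def L4 : List ℕ := [0, 1051, 2093, 3126]

/-- The words moving the singular fixed vectors into the lower half. -/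
def path5 : ℕ → List ℕ
  | 1051 => [1, 8, 4]
  | 2093 => [1, 8, 4]
  | 3126 => [1, 8, 4]
  | 1806 => [5, 9, 4, 3, 4]
  | 2311 => [5, 9, 4, 3, 4]
  | 3593 => [5, 9, 4, 3, 4]
  | _ => [8, 4, 1, 3, 4]

theorem word_checks : evM (asg mS mW mQ) s5W = s5M ∧ mm (evM (asg mS mW mQ) c5W) mO = o5M ∧
    wordP s5W = s5P ∧ okMat s5M = true ∧ okMat o5M = true ∧ (s5W.all fun i => decide (i < 9)) = true ∧
    evM (asg mS mW mQ) [] = mI := by
  decide +kernel

theorem fix_core : ((List.range 4096).all fun v => !(app s5M v == v) || FX.contains v) = true ∧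
    (FX.all fun v => decide (v < 4096) && app s5M v == v) = true ∧ FX.Nodup ∧
    (L4.all fun v => FX.contains v && !qv v && L4.all fun w => !bv v w && L4.contains (v ^^^ w)) = true ∧
    (FX.all fun v => (v == 0) || qv v || (decide (walk (path5 v) v < 64) &&
      ((path5 v).all fun i => decide (i < moveM.length)) &&
      (tMask.testBit (2 * walk (path5 v) v) == !L4.contains v) &&
      (tMask.testBit (2 * walk (path5 v) v + 1) == !L4.contains v))) = true ∧
    (FX.all fun v => (v == 0) || FX.any fun a => qv a && !bv v a) = true ∧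
    (L4.all fun v => (v == 0) || FX.any fun a => bv a v) = true ∧
    (FX.all fun v => L4.contains v || L4.any fun w => bv v w) = true := by
  decide +kernel

theorem outer_checks : app mT 1051 = 2093 ∧ app mT 2093 = 3126 ∧ app mT 3126 = 1051 ∧
    ((List.range 3).all fun j => mm (mm (mTp j) o5M) (mm (mTp j) o5M) == mI &&
      (List.range 3).any fun i => (List.range 3).any fun i' =>
        (mm (mTp i) (mTp i') == mI) && mm (mm (mTp i) (mm (mTp j) o5M)) (mTp i') == o5M) = true ∧
    (FX.all fun v => !(app o5M v == v) || FX.any fun w => (w ^^^ app o5M w == v)) = true ∧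
    app o5M 298 = 298 ∧ qv 298 = true ∧
    ((List.range 3).all fun j => (List.range 2).all fun k => ((j == 0) && (k == 0)) ||
      L4.any fun v => !(app (mm (mTp j) (if k == 0 then mI else o5M)) v == v)) = true := by
  decide +kernel

end Cfsg.Agent.Spor.JFour.Five
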