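import Cfsg.Agent.Lib.Spor.JFourType.SevenRigid

/-!
Elements of the Mathieu group of degree 24 commuting with an element of order five and fixing two of its fixed
points: rigidity from one cycle and one octad.
-/

set_option autoImplicit false
set_option maxRecDepth 100000

namespace Cfsg.Agent.Spor.JFour.Five

open Cfsg Cfsg.Agent.Spor.Golay Cfsg.Agent.Spor.JFour.Seven
open scoped Pointwise

/-- The orbit of a position. -/
def orb5 (P x : ℕ) : List ℕ := (List.range 5).map fun i => it P i x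

/-- No octad contains the images of the known points of the test octad. -/
def neg (dom img : List ℕ) (m : ℕ) : Bool := !(octList.any fun o => o &&& imM dom img m == imM dom img m)

/-- The image of a position lies in its orbit. -/
def rigid5OK (P a b c d x m : ℕ) : Bool :=
  decide (a < 24) && decide (b < 24) && decide (c < 24) && decide (d < 24) && decide (x < 24) && valid P &&
    (get P a == a) && (get P b == b) && (get P c == c) && (get P d == d) && !(get P x == x) &&
    [a, b, c, d].Nodup && ((List.range 24).all fun y => !(get P y == y) || [a, b, c, d].contains y) &&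
    octList.contains m &&
    ((List.range 24).all fun y => (get P y == y) || (orb5 P x).contains y ||
      (neg ([a, b, c, d] ++ orb5 P x) ([a, b, c, d] ++ orb5 P y) m &&
        neg ([a, b, c, d] ++ orb5 P x) ([a, b, d, c] ++ orb5 P y) m))

theorem mem_orb5 {P x j : ℕ} : j ∈ orb5 P x ↔ ∃ i < 5, it P i x = j := by
  simp only [orb5, List.mem_map, List.mem_range]

theorem neg_sound {dom img : List ℕ} {m : ℕ} (h : neg dom img m = true) (hm : m ∈ octList) {g : Equiv.Perm GolayPt}
    (hg : g ∈ Cfsg.M24) (hk : ∀ e ∈ dom.zip img, g (pt e.1) = pt e.2 ∧ e.1 < 24 ∧ e.2 < 24) : False := by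
  rw [neg, Bool.not_eq_true', List.any_eq_false] at h
  simp only [beq_iff_eq] at h
  have himg : g • pts m ∈ octads := smul_octad hg (mem_octads.2 ⟨m, hm, rfl⟩)
  obtain ⟨o, ho, heq⟩ := mem_octads.1 himg
  refine h o ho (Nat.eq_of_testBit_eq fun j => ?_)
  rw [Nat.testBit_and]
  cases hj : (imM dom img m).testBit j
  · simp
  · rw [imM, testBit_maskL, List.mem_map] at hj
    obtain ⟨⟨d, j'⟩, hd, rfl⟩ := hj
    rw [List.mem_filter] at hd
    obtain ⟨e1, l1, l2⟩ := hk _ hd.1
    have : g (pt d) ∈ g • pts m := Finset.smul_mem_smul_finset (by rw [mem_pts, idx_pt l1]; exact hd.2)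
    rw [heq, e1, mem_pts, idx_pt l2] at this
    simp [this]

/-- Such an element is a power. -/
theorem rigid {P a b c d x m : ℕ} (h : rigid5OK P a b c d x m = true) (ht : trivOk [] ([a, b] ++ orb5 P x) = true)
    (hPM : permOf P ∈ Cfsg.M24) {g : Equiv.Perm GolayPt} (hg : g ∈ Cfsg.M24) (hga : g (pt a) = pt a)
    (hgb : g (pt b) = pt b) (hint : g * permOf P = permOf P * g) : ∃ k : ℕ, g = permOf P ^ k := by
  simp only [rigid5OK, Bool.and_eq_true, decide_eq_true_eq, beq_iff_eq, Bool.not_eq_true', beq_eq_false_iff_ne,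
    List.all_eq_true, List.mem_range, Bool.or_eq_true, List.contains_iff_mem] at h
  obtain ⟨⟨⟨⟨⟨⟨⟨⟨⟨⟨⟨⟨⟨⟨ha, hb⟩, hc⟩, hd⟩, hx⟩, hP⟩, hPa⟩, hPb⟩, hPc⟩, hPd⟩, hPx⟩, hnd⟩, hfix⟩, hm⟩, hall⟩ := h
  simp only [List.nodup_cons, List.mem_cons, List.not_mem_nil, or_false, not_or] at hnd
  obtain ⟨⟨hab, hac, had⟩, ⟨hbc, hbd⟩, hcd, -⟩ := hnd
  have hinj : ∀ r < 24, ∀ r' < 24, g (pt r) = g (pt r') → r = r' := fun r hr r' hr' e => by
    simpa [idx_pt hr, idx_pt hr'] using congrArg idx (g.injective e)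
  have himg : ∀ r < 24, get P r = r → r ≠ a → r ≠ b → g (pt r) = pt c ∨ g (pt r) = pt d := by
    intro r hr hPr hra hrb
    have h1 : permOf P (g (pt r)) = g (pt r) := by
      rw [← Equiv.Perm.mul_apply, ← hint, Equiv.Perm.mul_apply, permOf_pt hP hr, hPr]
    have h2 := congrArg idx h1
    rw [idx_permOf hP] at h2
    rcases hfix _ (idx_lt (g (pt r))) with e | e
    · exact absurd h2 (by simpa using e)
    simp only [List.mem_cons, List.not_mem_nil, or_false] at e
    rcases e with e | e | e | e <;> have e' := congrArg pt e <;> rw [pt_idx] at e'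
    · exact absurd (hinj r hr a ha (e'.trans hga.symm)) hra
    · exact absurd (hinj r hr b hb (e'.trans hgb.symm)) hrb
    · exact Or.inl e'
    · exact Or.inr e'
  have hcd' : (g (pt c) = pt c ∧ g (pt d) = pt d) ∨ (g (pt c) = pt d ∧ g (pt d) = pt c) := by
    rcases himg c hc hPc (Ne.symm hac) (Ne.symm hbc) with e | e <;>
      rcases himg d hd hPd (Ne.symm had) (Ne.symm hbd) with e' | e'
    exacts [absurd (hinj c hc d hd (e.trans e'.symm)) hcd, Or.inl ⟨e, e'⟩, Or.inr ⟨e, e'⟩,
      absurd (hinj c hc d hd (e.trans e'.symm)) hcd]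
  set y := idx (g (pt x)) with hy
  have hgx : ∀ i, g (pt (it P i x)) = pt (it P i y) := intertwine_pt hP hP hint hx
  have hknown : ∀ c' d', g (pt c) = pt c' → g (pt d) = pt d' → c' < 24 → d' < 24 →
      ∀ e ∈ ([a, b, c, d] ++ orb5 P x).zip ([a, b, c', d'] ++ orb5 P y),
        g (pt e.1) = pt e.2 ∧ e.1 < 24 ∧ e.2 < 24 := by
    intro c' d' ec ed lc ld e he
    simp only [orb5, List.cons_append, List.nil_append, List.zip_cons_cons, List.mem_cons, List.zip_map',
      List.mem_map, List.mem_range] at he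
    rcases he with rfl | rfl | rfl | rfl | ⟨i, -, rfl⟩
    exacts [⟨hga, ha, ha⟩, ⟨hgb, hb, hb⟩, ⟨ec, hc, lc⟩, ⟨ed, hd, ld⟩,
      ⟨hgx i, it_lt hP hx i, it_lt hP (idx_lt _) i⟩]
  rcases hall y (idx_lt _) with (e | hmem) | ⟨e1, e2⟩
  · exfalso
    refine hPx ?_
    have h1 : g (permOf P (pt x)) = g (pt x) := by
      rw [← Equiv.Perm.mul_apply, hint, Equiv.Perm.mul_apply]
      refine idx_injective ?_
      rw [idx_permOf hP, ← hy, e]
    have := congrArg idx (g.injective h1)
    rwa [idx_permOf hP, idx_pt hx] at this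
  · obtain ⟨k, -, hk⟩ := mem_orb5.1 hmem
    refine ⟨k, ?_⟩
    have h1 : (permOf P ^ k)⁻¹ * g = 1 := by
      refine Census.eq_one_of_small (mul_mem (inv_mem (pow_mem hPM k)) hg) ht fun j hj => ?_
      rw [Equiv.Perm.mul_apply, Equiv.Perm.inv_eq_iff_eq]
      rw [List.mem_append, mem_orb5] at hj
      simp only [List.mem_cons, List.not_mem_nil, or_false] at hj
      rcases hj with (rfl | rfl) | ⟨i, -, rfl⟩
      · rw [hga]; exact ((pow_pt hP ha k).trans (congrArg pt (it_fix hPa k))).symm
      · rw [hgb]; exact ((pow_pt hP hb k).trans (congrArg pt (it_fix hPb k))).symm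
      · rw [hgx i, ← pow_pt hP hx i, ← Equiv.Perm.mul_apply (permOf P ^ k), ← pow_add, add_comm, pow_add,
          Equiv.Perm.mul_apply, pow_pt hP hx k, hk]
        exact (pow_pt hP (idx_lt _) i).symm
    exact (inv_mul_eq_one.1 h1).symm
  · exfalso
    rcases hcd' with ⟨ec, ed⟩ | ⟨ec, ed⟩
    · exact neg_sound e1 hm hg (hknown c d ec ed hc hd)
    · exact neg_sound e2 hm hg (hknown d c ec ed hd hc)

end Cfsg.Agent.Spor.JFour.Five
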