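import Cfsg.Agent.Lib.Spor.JFourType.FusionTools

/-!
The involution is conjugate to another element of the elementary abelian group of order 2¹¹.
-/

set_option autoImplicit false
set_option maxRecDepth 100000
set_option linter.style.haveILetI false

open Cfsg Cfsg.Agent.Spor.Golay
open Cfsg.Agent.Spor.Cos.J4Sub (app mm app_mm app_xor app_zero)
open scoped commutatorElement

namespace Cfsg.Agent.Spor.JFour

variable {G : Type*} [Group G] {z : G} {P : Subgroup G} {S : Setting z P}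

namespace Frame

variable (Fr : Frame S) [Finite G]

/-- The core at another conjugate of the involution. -/
abbrev coreAt (z : G) (g : G) : Subgroup G :=
  (twoCoreOfCentralizer z).map (MulAut.conj g).toMonoidHom

omit [Finite G] in
theorem mem_coreAt {g x : G} : x ∈ coreAt z g ↔ g⁻¹ * x * g ∈ twoCoreOfCentralizer z := by
  constructor
  · rintro ⟨q, hq, rfl⟩
    show g⁻¹ * (g * q * g⁻¹) * g ∈ _
    rw [show g⁻¹ * (g * q * g⁻¹) * g = q by group]
    exact hq
  · exact fun h => ⟨_, h, show g * (g⁻¹ * x * g) * g⁻¹ = x by group⟩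

include Fr in
/-- The involution lies in the core at a conjugate in its core. -/
theorem z_mem_coreAt {g : G} (hg : g * z * g⁻¹ ∈ twoCoreOfCentralizer z) (hne : g * z * g⁻¹ ≠ z) :
    z ∈ coreAt z g := by
  refine S.ext.mem_pair hg ?_
  set e := g * z * g⁻¹
  have hcard := S.ext.card_le_centralizing hg
  rw [S.cardE] at hcard
  set X := twoCoreOfCentralizer z ⊓ Subgroup.centralizer ({e} : Set G)
  by_contra hcon
  push Not at hcon
  have := S.card_comm_le (W := X) inf_le_left fun a ha b hb => hcon a ha.1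
    (Subgroup.mem_centralizer_singleton_iff.1 ha.2) b hb.1 (Subgroup.mem_centralizer_singleton_iff.1 hb.2)
  omega

/-- A conjugate in the core gives one in the group. -/
theorem conj_in_A_of_core {g : G} (hg : g * z * g⁻¹ ∈ twoCoreOfCentralizer z) (hne : g * z * g⁻¹ ≠ z) :
    ∃ k : G, k * z * k⁻¹ ∈ Fr.A ∧ k * z * k⁻¹ ≠ z := by
  have hz' := mem_coreAt.1 (Fr.z_mem_coreAt hg hne)
  have hne' : g⁻¹ * z * g ≠ z := fun e => hne (by
    conv_lhs => rw [← e]
    group)
  set e := g * z * g⁻¹ with he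
  set X0 := twoCoreOfCentralizer z ⊓ Subgroup.centralizer ({e} : Set G) with hX0
  have hcard := S.ext.card_le_centralizing hg
  rw [S.cardE] at hcard
  obtain ⟨n, -, hn⟩ := (Nat.dvd_prime_pow Nat.prime_two).1
    (S.cardE ▸ Subgroup.card_dvd_of_le (inf_le_left : X0 ≤ twoCoreOfCentralizer z))
  set X1 := X0.map (MulAut.conj g⁻¹).toMonoidHom with hX1
  have hX1H : X1 ≤ Subgroup.centralizer ({z} : Set G) := by
    rintro _ ⟨x, hx, rfl⟩
    rw [Subgroup.mem_centralizer_singleton_iff]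
    have hxe := Subgroup.mem_centralizer_singleton_iff.1 hx.2
    show g⁻¹ * x * g⁻¹⁻¹ * z = z * (g⁻¹ * x * g⁻¹⁻¹)
    calc g⁻¹ * x * g⁻¹⁻¹ * z = g⁻¹ * (x * e) * g := by rw [he]; group
      _ = g⁻¹ * (e * x) * g := by rw [hxe]
      _ = _ := by rw [he]; group
  have hc1 : Nat.card ↥X1 = 2 ^ n := by rw [Subgroup.card_map_of_injective (MulAut.conj g⁻¹).injective, hn]
  obtain ⟨h, hh, hle⟩ := Fr.F.exists_conj_le_T hX1H hc1
  set z2 := h * (g⁻¹ * z * g) * h⁻¹ with hz2
  have hz2E : z2 ∈ twoCoreOfCentralizer z := S.ext.norm h hh _ hz'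
  have hhz : h⁻¹ * z * h = z := by rw [mul_assoc, ← hh, inv_mul_cancel_left]
  have hz2ne : z2 ≠ z := fun e' => hne' (by
    calc g⁻¹ * z * g = h⁻¹ * z2 * h := by rw [hz2]; group
      _ = _ := by rw [e', hhz])
  set X := X1.map (MulAut.conj h).toMonoidHom with hX
  -- the commutators and squares
  have hpull : ∀ x ∈ X, ∃ q ∈ twoCoreOfCentralizer z, x = (h * g⁻¹) * q * (h * g⁻¹)⁻¹ := by
    rintro _ ⟨_, ⟨q, hq, rfl⟩, rfl⟩
    exact ⟨q, hq.1, by show h * (g⁻¹ * q * g⁻¹⁻¹) * h⁻¹ = _; group⟩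
  have hzc : (h * g⁻¹) * z * (h * g⁻¹)⁻¹ = z2 := by rw [hz2]; group
  have hcases : ∀ {q : G}, q = 1 ∨ q = z → (h * g⁻¹) * q * (h * g⁻¹)⁻¹ = 1 ∨ (h * g⁻¹) * q * (h * g⁻¹)⁻¹ = z2 := by
    rintro q (rfl | rfl)
    · exact Or.inl (by group)
    · exact Or.inr hzc
  have hcomm : ∀ a ∈ X, ∀ b ∈ X, ⁅a, b⁆ = 1 ∨ ⁅a, b⁆ = z2 := by
    intro a ha b hb
    obtain ⟨p, hp, rfl⟩ := hpull a ha
    obtain ⟨q, hq, rfl⟩ := hpull b hb
    have := hcases (S.ext.comm p hp q hq)
    convert this using 2 <;> simp [commutatorElement_def] <;> group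
  have hsq : ∀ a ∈ X, a * a = 1 ∨ a * a = z2 := by
    intro a ha
    obtain ⟨p, hp, rfl⟩ := hpull a ha
    have := hcases (S.ext.sq p hp)
    convert this using 2 <;> group
  have hE : ∀ {q : G}, q = 1 ∨ q = z2 → q ∈ twoCoreOfCentralizer z := by
    rintro q (rfl | rfl)
    exacts [one_mem _, hz2E]
  have hz2X : z2 ∈ X := ⟨g⁻¹ * z * g, ⟨z, ⟨S.ext.mem,
    Subgroup.mem_centralizer_singleton_iff.2 (S.ext.central e hg).symm⟩, by
      show g⁻¹ * z * g⁻¹⁻¹ = _; rw [inv_inv]⟩, rfl⟩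
  have hinf : Nat.card ↥(X ⊓ twoCoreOfCentralizer z) ≤ 2 ^ 7 := S.card_comm_le inf_le_right fun a ha b hb => by
    refine commutatorElement_eq_one_iff_mul_comm.1 ?_
    rcases hcomm a ha.1 b hb.1 with e1 | e1
    · exact e1
    · rcases S.ext.comm a ha.2 b hb.2 with e2 | e2
      · exact e2
      · exact absurd (e1.symm.trans e2) hz2ne
  have hprod := Fr.F.card_img hle
  rw [Subgroup.card_map_of_injective (MulAut.conj h).injective, hc1, ← hn] at hprod
  have h32 : 32 ≤ (Fr.F.img X).card := by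
    change Nat.card ↥X0 = (Fr.F.img X).card * Nat.card ↥(X ⊓ twoCoreOfCentralizer z) at hprod
    change 2 ^ 13 ≤ 2 * Nat.card ↥X0 at hcard
    nlinarith
  have hel : ElemSet (Fr.F.img X) := Fr.F.img_elem (fun a ha => hE (hsq a ha)) fun a ha b hb => by
    rw [show (a * b)⁻¹ * (b * a) = ⁅b⁻¹, a⁻¹⁆ by rw [commutatorElement_def]; group]
    exact hE (hcomm _ (inv_mem hb) _ (inv_mem ha))
  obtain ⟨V, hV, hsub⟩ := exists_level hel 5 le_rfl (by rw [show (2 : ℕ) ^ 5 = 32 by norm_num]; exact h32)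
  have hm := List.all_eq_true.1 (List.all_eq_true.1 lvl_masks 5 (List.mem_range.2 (by norm_num))) V hV
  simp only [Bool.and_eq_true, List.all_eq_true, decide_eq_true_eq] at hm
  obtain ⟨v, hv, erep⟩ := Fr.F.surj (S.rep z2)
  have hfix : v ∈ fixedBy V.1 := mem_fixedBy hv fun a ha => by
    obtain ⟨ha', c, hc', hr⟩ := Fr.F.mem_img.1 (hsub a (mem_elemsT V.1 a hm.2 ha))
    refine Fr.F.inj _ (app_lt_of_ok hr.ok _) _ hv ?_
    rw [← hr.eq v hv, erep, S.act_rep c hr.hz _ hz2E]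
    congr 1
    -- the group centralises the conjugate
    obtain ⟨q, hq, rfl⟩ := hpull c hc'
    rw [← hzc, show h * g⁻¹ * q * (h * g⁻¹)⁻¹ * (h * g⁻¹ * z * (h * g⁻¹)⁻¹) * (h * g⁻¹ * q * (h * g⁻¹)⁻¹)⁻¹ =
      h * g⁻¹ * (q * z * q⁻¹) * (h * g⁻¹)⁻¹ by group, S.ext.central q hq, mul_inv_cancel_right]
  have hlow : v < 64 := by
    have hf := List.all_eq_true.1 (List.all_eq_true.1 lvl_fix.2.1 V hV) v hfix
    simp only [Bool.or_eq_true, beq_iff_eq] at hf
    omega
  exact ⟨h * g⁻¹, hzc ▸ Fr.low_mem_A hz2E hlow erep.symm, hzc ▸ hz2ne⟩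

include Fr in
/-- Two-subgroups of the centraliser with a single non-trivial commutator meet the core in index less than 128. -/
theorem img_small {X : Subgroup G} (hX : X ≤ Fr.F.T) {w : G}
    (hcomm : ∀ a ∈ X, ∀ b ∈ X, ⁅a, b⁆ = 1 ∨ ⁅a, b⁆ = w) : (Fr.F.img X).card < 128 := by
  by_contra hcon
  obtain ⟨a, ha, b, hb, c, hc, d, hd, a', ha', b', hb', c', hc', d', hd', ea, eb, ec, ed, n1, n2, n3⟩ :=
    exists_two_comm (fun _ h => Fr.F.img_lt h) (Fr.F.img_zero X) (fun _ h _ h' => Fr.F.img_mul h h') (fun x hx => by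
      obtain ⟨hx', g, hg, hr⟩ := Fr.F.mem_img.1 hx
      obtain ⟨f, hf, hxf⟩ := bm_inv hx'
      obtain ⟨f', hf', hr'⟩ := hX (inv_mem hg)
      refine ⟨f', Fr.F.mem_img.2 ⟨hf', g⁻¹, inv_mem hg, hr'⟩, Fr.F.img_eq_of_mem (bm_lt hx' hf') (by norm_num)
        (g := g * g⁻¹) (by rw [← tbEl_mul hx' hf']; exact Fr.F.toCoord.rep_mul hr hr') (h := 1)
        (by rw [tbEl_check.2]; exact Fr.F.toCoord.rep_one) ?_⟩
      rw [mul_inv_cancel, inv_one, mul_one]; exact one_mem _) (not_lt.1 hcon)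
  have key : ∀ {a b a' b' : ℕ}, a ∈ Fr.F.img X → b ∈ Fr.F.img X → a' < 256 → b' < 256 → bm a a' = 0 → bm b b' = 0 →
      bm (bm a b) (bm a' b') ≠ 0 → Fr.F.Rep w (tbEl (bm (bm a b) (bm a' b'))) := by
    intro a b a' b' ha hb ha' hb' ea eb hne
    obtain ⟨la, g, hg, hgr⟩ := Fr.F.mem_img.1 ha
    obtain ⟨lb, k, hk, hkr⟩ := Fr.F.mem_img.1 hb
    have hinv : ∀ {x : G} {i j : ℕ}, i < 256 → j < 256 → x ∈ X → Fr.F.Rep x (tbEl i) → bm i j = 0 →
        Fr.F.Rep x⁻¹ (tbEl j) := by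
      intro x i j hi hj hx hxr hij
      obtain ⟨f', hf', hr'⟩ := hX (inv_mem hx)
      have e0 : bm i f' = 0 := Fr.F.img_eq_of_mem (bm_lt hi hf') (by norm_num)
        (g := x * x⁻¹) (by rw [← tbEl_mul hi hf']; exact Fr.F.toCoord.rep_mul hxr hr') (h := 1)
        (by rw [tbEl_check.2]; exact Fr.F.toCoord.rep_one)
        (by rw [mul_inv_cancel, inv_one, mul_one]; exact one_mem _)
      obtain ⟨i', hi', hii⟩ := bm_inv hj
      have e1 : i = i' := by
        rw [← (bm_zero hi).1, ← hii, ← bm_assoc hi hj hi', hij, (bm_zero hi').2]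
      have e2 : j = f' := by
        rw [← (bm_zero hj).1, ← e0, ← bm_assoc hj hi hf', e1, hii, (bm_zero hf').2]
      exact e2 ▸ hr'
    have hrep : Fr.F.Rep ⁅g, k⁆ (tbEl (bm (bm a b) (bm a' b'))) := by
      rw [commutatorElement_def, ← tbEl_mul (bm_lt la lb) (bm_lt ha' hb'), ← tbEl_mul la lb, ← tbEl_mul ha' hb',
        mul_assoc (g * k)]
      exact Fr.F.toCoord.rep_mul (Fr.F.toCoord.rep_mul hgr hkr)
        (Fr.F.toCoord.rep_mul (hinv la ha' hg hgr ea) (hinv lb hb' hk hkr eb))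
    rcases hcomm g hg k hk with e | e
    · rw [e] at hrep
      exact absurd (tbEl_eq_one (bm_lt (bm_lt la lb) (bm_lt ha' hb'))
        (Fr.F.toCoord.rep_unique hrep Fr.F.toCoord.rep_one)) hne
    · exact e ▸ hrep
  exact n3 (tbEl_inj (bm_lt (bm_lt (Fr.F.img_lt ha) (Fr.F.img_lt hb)) (bm_lt (Fr.F.img_lt ha') (Fr.F.img_lt hb')))
    (bm_lt (bm_lt (Fr.F.img_lt hc) (Fr.F.img_lt hd)) (bm_lt (Fr.F.img_lt hc') (Fr.F.img_lt hd')))
    (Fr.F.toCoord.rep_unique (key ha hb (Fr.F.img_lt ha') (Fr.F.img_lt hb') ea eb n1)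
      (key hc hd (Fr.F.img_lt hc') (Fr.F.img_lt hd') ec ed n2)))

set_option maxHeartbeats 1000000 in
/-- No conjugate of the involution acts as the first lift, if none lies in the core or in the group. -/
theorem no_inner (hE : ∀ g : G, g * z * g⁻¹ ∈ twoCoreOfCentralizer z → g * z * g⁻¹ = z)
    (hA : ∀ g : G, g * z * g⁻¹ ∈ Fr.A → g * z * g⁻¹ = z) {g : G} (hr : Fr.F.Rep (g * z * g⁻¹) (mA 0)) : False := by
  classical
  set v := g * z * g⁻¹ with hv
  have hvne : v ≠ z := fun e => by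
    have h1 := Fr.F.toCoord.rep_unique hr (show Fr.F.Rep v mI by rw [e]; exact Fr.F.toCoord.rep_E S.ext.mem)
    revert h1
    decide +kernel
  set b := Fr.X.b 1 with hb
  have hbC := Fr.X.mem 1 (by norm_num)
  have hbr : Fr.F.Rep b (mA 0) := by
    have := Fr.rep_b 1 (by norm_num)
    rwa [show akM.getD 1 [] = mA 0 by decide +kernel] at this
  have hb2 : b * b = 1 := Fr.X.sq (by norm_num)
  set m := b⁻¹ * v with hm
  have hmE : m ∈ twoCoreOfCentralizer z := Fr.F.toCoord.eq_of_rep hbr hr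
  have hvbm : v = b * m := by rw [hm, mul_inv_cancel_left]
  obtain ⟨n, hn, erep⟩ := Fr.F.surj (S.rep m)
  have hv2 : v * v = 1 := by rw [hv, show g * z * g⁻¹ * (g * z * g⁻¹) = g * (z * z) * g⁻¹ by group, S.zz]; group
  have hbmb : b * m * b⁻¹ = m⁻¹ := by
    have hbi : b⁻¹ = b := inv_eq_of_mul_eq_one_right hb2
    rw [hbi, eq_inv_iff_mul_eq_one, show b * m * b * m = b * m * (b * m) by group, ← hvbm, hv2]
  have hnfix : app (mA 0) n = n := by
    refine Fr.F.inj _ (app_lt_of_ok hbr.ok _) _ hn ?_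
    rw [← hbr.eq n hn, erep, S.act_rep b hbr.hz m hmE, hbmb, S.rep_inv hmE]
  have hmfix : b * m * b⁻¹ = m := S.fix_exact hbC hmE (by rw [← erep, hbr.eq n hn, hnfix])
  have hm2 : m * m = 1 := by rw [← eq_inv_iff_mul_eq_one, ← hbmb, hmfix]
  have hbm : b * m = m * b := mul_inv_eq_iff_eq_mul.1 hmfix
  have hlow : ¬ n < 64 := fun h => hvne (hA g (by
    rw [← hv, hvbm]
    exact mul_mem ⟨128 * 1, by norm_num, Fr.Av_high (by norm_num)⟩ (Fr.low_mem_A hmE h erep.symm)))
  -- conjugation by fixed elements of the core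
  have hconj : ∀ w ∈ twoCoreOfCentralizer z, ∀ u < 4096, S.rep w = Fr.F.Φ u → app (mA 0) u = u →
      v * w = w * v * zp z (bv n u) := by
    intro w hw u hu hru hfix
    have hbw : b * w * b⁻¹ = w := S.fix_exact hbC hw (by rw [hru, hbr.eq u hu, hfix])
    have hbw' : b * w = w * b := mul_inv_eq_iff_eq_mul.1 hbw
    have hmw := Fr.F.toCoord.core_comm hmE hw hn hu erep.symm hru
    calc v * w = b * (m * w) := by rw [hvbm, mul_assoc]
      _ = (b * w) * m * zp z (bv n u) := by rw [hmw]; group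
      _ = _ := by rw [hbw', hvbm]; group
  -- a fixed element anticommuting
  obtain ⟨w0, hw0, u0, hu0, hru0, hfix0, hbv0⟩ : ∃ w0 ∈ twoCoreOfCentralizer z, ∃ u0 < 4096,
      S.rep w0 = Fr.F.Φ u0 ∧ app (mA 0) u0 = u0 ∧ bv n u0 = true := by
    have h := List.all_eq_true.1 fix_check.2.2.2.2.2 n (List.mem_range.2 hn)
    simp only [hnfix, beq_self_eq_true, Bool.not_true, Bool.false_or, Bool.or_eq_true, List.any_eq_true,
      beq_iff_eq] at h
    rcases h with ⟨f, hf, hbf⟩ | ⟨p, hp, e⟩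
    · have hfc := List.all_eq_true.1 fix_check.2.2.2.1 f hf
      simp only [Bool.and_eq_true, decide_eq_true_eq, beq_iff_eq] at hfc
      obtain ⟨w, hw, hwr⟩ := S.rep_surj (Fr.F.Φ f)
      exact ⟨w, hw, f, hfc.1, hwr, hfc.2, hbf⟩
    · have hpc := List.all_eq_true.1 fix_check.2.2.2.2.1 p hp
      simp only [Bool.and_eq_true, decide_eq_true_eq] at hpc
      exact absurd (e ▸ hpc.2) hlow
  have hvw0 : v * w0 * v⁻¹ * w0⁻¹ = z := by
    rw [hconj w0 hw0 u0 hu0 hru0 hfix0, hbv0, zp, if_pos rfl]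
    have hvz : v * z = z * v := hr.hz
    have hwz := S.ext.central w0 hw0
    calc w0 * v * z * v⁻¹ * w0⁻¹ = w0 * (v * z) * v⁻¹ * w0⁻¹ := by group
      _ = (w0 * z) * w0⁻¹ := by rw [hvz]; group
      _ = z := by rw [hwz, mul_inv_cancel_right]
  set Fv := twoCoreOfCentralizer z ⊓ Subgroup.centralizer ({v} : Set G) with hFv
  set I := Fv ⊓ coreAt z g with hI
  have hzI : z ∉ coreAt z g := fun h => hvne (by
    have h1 := hE g⁻¹ (by rw [inv_inv]; exact mem_coreAt.1 h)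
    rw [inv_inv] at h1
    rw [hv]
    conv_lhs => rw [← h1]
    group)
  have hext := S.ext.map_conj g
  -- no commutator with v lies in I
  have hnoc : ∀ i ∈ I, ∀ w ∈ twoCoreOfCentralizer z, v * w * v⁻¹ * w⁻¹ = i → i = 1 := by
    intro i hi w _ hwi
    have hi' := inv_mem (mem_coreAt.1 hi.2)
    have hcv : g⁻¹ * (w * v * w⁻¹) * g = (g⁻¹ * i * g)⁻¹ * z := by rw [← hwi, hv]; group
    have h1 := hE (g⁻¹ * w * g) (by
      rw [show g⁻¹ * w * g * z * (g⁻¹ * w * g)⁻¹ = g⁻¹ * (w * v * w⁻¹) * g by rw [hv]; group, hcv]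
      exact mul_mem hi' S.ext.mem)
    rw [show g⁻¹ * w * g * z * (g⁻¹ * w * g)⁻¹ = g⁻¹ * (w * v * w⁻¹) * g by rw [hv]; group, hcv] at h1
    have h2 := mul_eq_right.1 h1
    rw [inv_eq_one] at h2
    calc i = g * (g⁻¹ * i * g) * g⁻¹ := by group
      _ = 1 := by rw [h2]; group
  -- I is central in the centraliser
  have hIcomm : ∀ i ∈ I, ∀ y ∈ Fv, i * y = y * i := by
    intro i hi y hy
    refine commutatorElement_eq_one_iff_mul_comm.1 ?_
    rcases S.ext.comm i hi.1.1 y hy.1 with e | e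
    · exact e
    · have h1 : ⁅i, y⁆ ∈ coreAt z g := by
        rw [commutatorElement_def, show i * y * i⁻¹ * y⁻¹ = i * (y * i⁻¹ * y⁻¹) by group]
        exact mul_mem hi.2 (hext.norm y (Subgroup.mem_centralizer_singleton_iff.1 hy.2) _ (inv_mem hi.2))
      rw [e] at h1
      exact absurd h1 hzI
  have hvfix : ∀ i ∈ Fv, ∀ u < 4096, S.rep i = Fr.F.Φ u → app (mA 0) u = u ∧ bv n u = false := by
    intro i hi u hu hru
    have hiv := Subgroup.mem_centralizer_singleton_iff.1 hi.2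
    have hf : app (mA 0) u = u := by
      refine Fr.F.inj _ (app_lt_of_ok hbr.ok _) _ hu ?_
      rw [← hr.eq u hu, ← hru, S.act_rep v hr.hz i hi.1, ← hiv, mul_inv_cancel_right]
    refine ⟨hf, ?_⟩
    have h := hconj i hi.1 u hu hru hf
    cases hb' : bv n u
    · rfl
    · rw [hb', zp, if_pos rfl, hiv] at h
      exact absurd (left_eq_mul.1 h.symm.symm) S.ext.ne
  -- membership of fixed elements
  have hFmem : ∀ w ∈ twoCoreOfCentralizer z, ∀ u < 4096, S.rep w = Fr.F.Φ u → app (mA 0) u = u →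
      bv n u = false → w ∈ Fv := by
    intro w hw u hu hru hf hbv
    refine ⟨hw, Subgroup.mem_centralizer_singleton_iff.2 ?_⟩
    rw [hconj w hw u hu hru hf, hbv, zp, if_neg (by simp), mul_one]
  -- the vectors of I
  have hI_img : ∀ i ∈ I, ∀ u < 4096, S.rep i = Fr.F.Φ u →
      ∃ p ∈ imgA, p.1 = u ∨ p.1 = u ^^^ n := by
    intro i hi u hu hru
    obtain ⟨hf, -⟩ := hvfix i hi.1 u hu hru
    have horth : ∀ f < 4096, app (mA 0) f = f → bv n f = false → bv u f = false := by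
      intro f hf' hff hbf
      obtain ⟨w, hw, hwr⟩ := S.rep_surj (Fr.F.Φ f)
      have h1 := hIcomm i hi w (hFmem w hw f hf' hwr hff hbf)
      have h2 := Fr.F.toCoord.core_comm hi.1.1 hw hu hf' hru hwr
      cases hbu : bv u f
      · rfl
      · rw [h1, hbu, zp, if_pos rfl] at h2
        exact absurd (left_eq_mul.1 h2) S.ext.ne
    set u' := if bv u u0 then u ^^^ n else u with hu'
    have hu'lt : u' < 4096 := by
      rw [hu']; split_ifs
      · exact Nat.xor_lt_two_pow (n := 12) hu hn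
      · exact hu
    have hu'fix : app (mA 0) u' = u' := by
      rw [hu']; split_ifs
      · rw [app_xor, hf, hnfix]
      · exact hf
    have hall : ∀ f < 4096, app (mA 0) f = f → bv u' f = false := by
      intro f hf' hff
      have hshift : bv n f = true → bv n (f ^^^ u0) = false ∧ app (mA 0) (f ^^^ u0) = f ^^^ u0 := fun hb' => by
        refine ⟨?_, by rw [app_xor, hff, hfix0]⟩
        rw [Fr.F.toCoord.bv_xor_right hf' hu0 hn, hb', hbv0]; rfl
      cases hbn : bv n f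
      · have h0 := horth f hf' hff hbn
        rw [hu']; split_ifs
        · rw [Fr.F.toCoord.bv_xor hu hn hf', h0, hbn]; rfl
        · exact h0
      · obtain ⟨h1, h2⟩ := hshift hbn
        have h0 := horth _ (Nat.xor_lt_two_pow (n := 12) hf' hu0) h2 h1
        rw [Fr.F.toCoord.bv_xor_right hf' hu0 hu] at h0
        rw [hu']; split_ifs with hc
        · rw [Fr.F.toCoord.bv_xor hu hn hf', hbn]
          cases hbu : bv u f
          · rw [hbu, hc] at h0; simp at h0
          · rfl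
        · rw [Bool.not_eq_true] at hc
          rw [hc, Bool.xor_false] at h0
          exact h0
    have h := List.all_eq_true.1 fix_check.2.2.2.2.2 u' (List.mem_range.2 hu'lt)
    simp only [hu'fix, beq_self_eq_true, Bool.not_true, Bool.false_or, Bool.or_eq_true, List.any_eq_true,
      beq_iff_eq] at h
    rcases h with ⟨f, hf', hbf⟩ | ⟨p, hp, e⟩
    · have hfc := List.all_eq_true.1 fix_check.2.2.2.1 f hf'
      simp only [Bool.and_eq_true, decide_eq_true_eq, beq_iff_eq] at hfc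
      rw [hall f hfc.1 hfc.2] at hbf
      exact absurd hbf (by simp)
    · refine ⟨p, hp, ?_⟩
      rw [e, hu']
      split_ifs
      · exact Or.inr rfl
      · exact Or.inl rfl
  have himg1 : ∀ i ∈ I, ∀ p ∈ imgA, S.rep i = Fr.F.Φ p.1 → i = 1 := by
    intro i hi p hp hri
    have hpc := List.all_eq_true.1 fix_check.2.2.2.2.1 p hp
    simp only [Bool.and_eq_true, decide_eq_true_eq, beq_iff_eq] at hpc
    obtain ⟨⟨hp2, hpe⟩, -⟩ := hpc
    obtain ⟨w, hw, hwr⟩ := S.rep_surj (Fr.F.Φ p.2)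
    have hc : v * w * v⁻¹ * w⁻¹ ∈ twoCoreOfCentralizer z := mul_mem (S.ext.norm v hr.hz w hw) (inv_mem hw)
    have hcr : S.rep (v * w * v⁻¹ * w⁻¹) = Fr.F.Φ p.1 := by
      rw [S.rep_mul _ (S.ext.norm v hr.hz w hw) _ (inv_mem hw), S.rep_inv hw, ← S.act_rep v hr.hz w hw, hwr,
        hr.eq _ hp2, ← Fr.F.add, hpe]
    rcases S.eq_or_mul_z hc hi.1.1 (hcr.trans hri.symm) with e | e
    · exact hnoc i hi w hw e.symm
    · refine hnoc i hi (w * w0) (mul_mem hw hw0) ?_
      rw [e]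
      have hwz : w * z = z * w := S.ext.central w hw
      calc v * (w * w0) * v⁻¹ * (w * w0)⁻¹ = (v * w * v⁻¹) * (v * w0 * v⁻¹ * w0⁻¹) * w⁻¹ := by group
        _ = (v * w * v⁻¹) * (z * w⁻¹) := by rw [hvw0, mul_assoc]
        _ = (v * w * v⁻¹) * (w⁻¹ * z) := by rw [S.ext.central _ (inv_mem hw)]
        _ = _ := by group
  have hI2 : Nat.card ↥I ≤ 2 := by
    have key : ∀ i ∈ I, ∀ j ∈ I, i ≠ 1 → j ≠ 1 → i = j := by
      intro i hi j hj hi1 hj1
      obtain ⟨u, hu, eu⟩ := Fr.F.surj (S.rep i)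
      obtain ⟨u', hu', eu'⟩ := Fr.F.surj (S.rep j)
      have hcase : ∀ k ∈ I, k ≠ 1 → ∀ x < 4096, S.rep k = Fr.F.Φ x → ∃ p ∈ imgA, p.1 = x ^^^ n := by
        intro k hk hk1 x hx ex
        obtain ⟨p, hp, e | e⟩ := hI_img k hk x hx ex
        · exact absurd (himg1 k hk p hp (e ▸ ex)) hk1
        · exact ⟨p, hp, e⟩
      obtain ⟨p, hp, ep⟩ := hcase i hi hi1 u hu eu.symm
      obtain ⟨p', hp', ep'⟩ := hcase j hj hj1 u' hu' eu'.symm
      have hij : i⁻¹ * j ∈ I := mul_mem (inv_mem hi) hj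
      have erij : S.rep (i⁻¹ * j) = Fr.F.Φ (u ^^^ u') := by
        rw [S.rep_mul _ (inv_mem hi.1.1) _ hj.1.1, S.rep_inv hi.1.1, ← eu, ← eu', Fr.F.add]
      by_contra hne
      have hij1 : i⁻¹ * j ≠ 1 := fun e => hne (inv_mul_eq_one.1 e)
      obtain ⟨q, hq, eq'⟩ := hcase _ hij hij1 _ (Nat.xor_lt_two_pow (n := 12) hu hu') erij
      have hb1 := fun (p : ℕ × ℕ) (hp : p ∈ imgA) => by
        have := List.all_eq_true.1 fix_check.2.2.2.2.1 p hp
        simp only [Bool.and_eq_true, decide_eq_true_eq] at this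
        exact this.2
      have hn' : n = p.1 ^^^ p'.1 ^^^ q.1 := by
        rw [ep, ep', eq']
        apply Nat.eq_of_testBit_eq
        intro k
        simp only [Nat.testBit_xor]
        cases u.testBit k <;> cases u'.testBit k <;> cases n.testBit k <;> rfl
      exact hlow (hn' ▸ Nat.xor_lt_two_pow (n := 6) (Nat.xor_lt_two_pow (n := 6) (hb1 p hp) (hb1 p' hp')) (hb1 q hq))
    by_cases hall : ∀ i ∈ I, i = 1
    · rw [(Subgroup.eq_bot_iff_forall _).2 hall, Subgroup.card_bot]; norm_num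
    push Not at hall
    obtain ⟨i, hi, hi1⟩ := hall
    refine le_trans (Nat.card_mono (Set.toFinite ({1, i} : Set G)) fun j hj => ?_)
      (by rw [Nat.card_coe_set_eq]; exact le_trans (Set.ncard_insert_le _ _) (by rw [Set.ncard_singleton]))
    by_cases hj1 : j = 1
    · exact Or.inl hj1
    · exact Or.inr (key j hj i hi hj1 hi1)
  -- the centraliser has order at least 2⁸
  have hF : 256 ≤ Nat.card ↥Fv := by
    choose lw hlwE hlwr using fun u : ℕ => S.rep_surj (Fr.F.Φ u)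
    let f : ℕ × Bool → G := fun q => lw q.1 * zp z q.2
    have hfr : ∀ q, f q ∈ twoCoreOfCentralizer z ∧ S.rep (f q) = Fr.F.Φ q.1 := fun q => by
      refine ⟨mul_mem (hlwE _) (S.zp_mem_E _), ?_⟩
      rw [S.rep_mul _ (hlwE _) _ (S.zp_mem_E _), hlwr, (S.rep_zero _ (S.zp_mem_E _)).2 (by
        cases q.2 <;> simp [zp]), add_zero]
    have hfix : ∀ u ∈ fixA, u < 4096 ∧ app (mA 0) u = u := fun u hu => by
      have := List.all_eq_true.1 fix_check.1 u hu
      simpa only [Bool.and_eq_true, decide_eq_true_eq, beq_iff_eq] using this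
    have hnd := fix_check.2.1
    have hlen := fix_check.2.2.1
    generalize fixA = L at hfix hnd hlen
    obtain ⟨D, hDdef⟩ : ∃ D, D = (L.toFinset ×ˢ (Finset.univ : Finset Bool)).image f := ⟨_, rfl⟩
    have hD : D.card = 512 := by
      rw [hDdef, Finset.card_image_of_injOn, Finset.card_product, List.toFinset_card_of_nodup hnd,
        hlen, Finset.card_univ, Fintype.card_bool]
      intro a ha b hb e
      simp only [Finset.coe_product, Set.mem_prod, List.coe_toFinset, Set.mem_ofPred_eq] at ha hb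
      have h1 : a.1 = b.1 := Fr.F.inj _ (hfix _ ha.1).1 _ (hfix _ hb.1).1 (by rw [← (hfr a).2, ← (hfr b).2, e])
      refine Prod.ext h1 ?_
      have h2 : lw a.1 * zp z a.2 = lw b.1 * zp z b.2 := e
      rw [h1] at h2
      have h3 := mul_left_cancel h2
      revert h3
      cases a.2 <;> cases b.2 <;> simp [zp, S.ext.ne, Ne.symm S.ext.ne]
    have hFs : (Fv : Set G).Finite := Set.toFinite _
    have hcov : D ⊆ hFs.toFinset ∪ hFs.toFinset.image (fun y => y * w0) := by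
      intro x hx
      rw [hDdef] at hx
      obtain ⟨q, hq, rfl⟩ := Finset.mem_image.1 hx
      simp only [Finset.mem_product, List.mem_toFinset] at hq
      obtain ⟨hu, hf⟩ := hfix _ hq.1
      obtain ⟨hxE, hxr⟩ := hfr q
      cases hb' : bv n q.1
      · exact Finset.mem_union_left _ (hFs.mem_toFinset.2 (hFmem _ hxE _ hu hxr hf hb'))
      · refine Finset.mem_union_right _ (Finset.mem_image.2 ⟨f q * w0⁻¹, hFs.mem_toFinset.2 ?_, by group⟩)
        refine hFmem _ (mul_mem hxE (inv_mem hw0)) (q.1 ^^^ u0) (Nat.xor_lt_two_pow (n := 12) hu hu0) ?_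
          (by rw [app_xor, hf, hfix0]) ?_
        · rw [S.rep_mul _ hxE _ (inv_mem hw0), S.rep_inv hw0, hxr, hru0, Fr.F.add]
        · rw [Fr.F.toCoord.bv_xor_right hu hu0 hn, hb', hbv0]; rfl
    have h1 := Finset.card_le_card hcov
    have h2 := Finset.card_union_le hFs.toFinset (hFs.toFinset.image (fun y => y * w0))
    have h3 := Finset.card_image_le (s := hFs.toFinset) (f := fun y => y * w0)
    have h4 : hFs.toFinset.card = Nat.card ↥Fv := by
      rw [← Set.ncard_eq_toFinset_card _ hFs]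
      exact (Nat.card_coe_set_eq _).symm
    omega
  -- the image in the other centraliser
  obtain ⟨k, -, hk⟩ := (Nat.dvd_prime_pow Nat.prime_two).1
    (S.cardE ▸ Subgroup.card_dvd_of_le (inf_le_left : Fv ≤ twoCoreOfCentralizer z))
  set X1 := Fv.map (MulAut.conj g⁻¹).toMonoidHom with hX1
  have hX1H : X1 ≤ Subgroup.centralizer ({z} : Set G) := by
    rintro _ ⟨x, hx, rfl⟩
    rw [Subgroup.mem_centralizer_singleton_iff]
    have hxe := Subgroup.mem_centralizer_singleton_iff.1 hx.2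
    show g⁻¹ * x * g⁻¹⁻¹ * z = z * (g⁻¹ * x * g⁻¹⁻¹)
    calc g⁻¹ * x * g⁻¹⁻¹ * z = g⁻¹ * (x * v) * g := by rw [hv]; group
      _ = g⁻¹ * (v * x) * g := by rw [hxe]
      _ = _ := by rw [hv]; group
  have hc1 : Nat.card ↥X1 = 2 ^ k := by rw [Subgroup.card_map_of_injective (MulAut.conj g⁻¹).injective, hk]
  obtain ⟨h, hh, hle⟩ := Fr.F.exists_conj_le_T hX1H hc1
  set X := X1.map (MulAut.conj h).toMonoidHom with hX
  have hcommX : ∀ a ∈ X, ∀ b ∈ X, ⁅a, b⁆ = 1 ∨ ⁅a, b⁆ = (h * g⁻¹) * z * (h * g⁻¹)⁻¹ := by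
    rintro _ ⟨_, ⟨p, hp, rfl⟩, rfl⟩ _ ⟨_, ⟨q, hq, rfl⟩, rfl⟩
    rw [← map_commutatorElement, ← map_commutatorElement]
    rcases S.ext.comm p hp.1 q hq.1 with e | e <;> rw [e]
    · exact Or.inl (by simp)
    · exact Or.inr (by show h * (g⁻¹ * z * g⁻¹⁻¹) * h⁻¹ = _; group)
  have hinf : Nat.card ↥(X ⊓ twoCoreOfCentralizer z) ≤ Nat.card ↥I := by
    refine Nat.card_le_card_of_injective (fun x : ↥(X ⊓ twoCoreOfCentralizer z) =>
      (⟨(h * g⁻¹)⁻¹ * x * (h * g⁻¹), ?_, ?_⟩ : ↥I)) fun x y e => Subtype.ext ?_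
    · obtain ⟨_, ⟨p, hp, rfl⟩, e⟩ := x.2.1
      have : (h * g⁻¹)⁻¹ * (x : G) * (h * g⁻¹) = p := by
        rw [← e]
        show (h * g⁻¹)⁻¹ * (h * (g⁻¹ * p * g⁻¹⁻¹) * h⁻¹) * (h * g⁻¹) = p
        group
      rw [this]; exact hp
    · refine mem_coreAt.2 ?_
      rw [show g⁻¹ * ((h * g⁻¹)⁻¹ * (x : G) * (h * g⁻¹)) * g = h⁻¹ * x * h⁻¹⁻¹ by group]
      exact S.ext.norm h⁻¹ (conj_inv_comm hh) _ x.2.2
    · have e' := congrArg Subtype.val e
      simpa using e'
  have hprod := Fr.F.card_img hle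
  rw [Subgroup.card_map_of_injective (MulAut.conj h).injective, hc1, ← hk] at hprod
  have hsmall := Fr.img_small hle hcommX
  change Nat.card ↥Fv = (Fr.F.img X).card * Nat.card ↥(X ⊓ twoCoreOfCentralizer z) at hprod
  change 256 ≤ Nat.card ↥Fv at hF
  nlinarith

end Frame

end Cfsg.Agent.Spor.JFour
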