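import Cfsg.Agent.Lib.Spor.JFourType.FusionData
import Cfsg.Agent.Lib.Invol.ZStar

/-!
Tools for the fusion of the involution: large two-groups in the quotient of the centraliser have two different
non-trivial commutators, and a simple group has a conjugate of the involution commuting with it.
-/

set_option autoImplicit false
set_option maxRecDepth 100000
set_option linter.style.haveILetI false

open Cfsg Cfsg.Agent.Spor.Golay
open Cfsg.Agent.Spor.Cos.J4Sub (app mm app_mm app_xor app_zero)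

namespace Cfsg.Agent.Spor.JFour

variable {G : Type*} [Group G] {z : G} {P : Subgroup G}

theorem fix_check : (fixA.all fun v => decide (v < 4096) && (app (mA 0) v == v)) = true ∧
    fixA.Nodup ∧ fixA.length = 256 ∧
    (fixBasis.all fun f => decide (f < 4096) && (app (mA 0) f == f)) = true ∧
    (imgA.all fun p => decide (p.2 < 4096) && (app (mA 0) p.2 ^^^ p.2 == p.1) && decide (p.1 < 64)) = true ∧
    ((List.range 4096).all fun u => !(app (mA 0) u == u) || (fixBasis.any fun f => bv u f) ||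
      imgA.any fun p => p.1 == u) = true := by decide +kernel

theorem bm_assoc {a b c : ℕ} (ha : a < 256) (hb : b < 256) (hc : c < 256) : bm (bm a b) c = bm a (bm b c) :=
  tbEl_inj (bm_lt (bm_lt ha hb) hc) (bm_lt ha (bm_lt hb hc)) (by
    rw [← tbEl_mul (bm_lt ha hb) hc, ← tbEl_mul ha hb, ← tbEl_mul ha (bm_lt hb hc), ← tbEl_mul hb hc, mm_assoc])

theorem bm_id : ((List.range 256).all fun a => bm a 0 == a && bm 0 a == a) = true ∧
    ((List.range 7).all fun i => decide (tbGen i < 256)) = true := by decide +kernel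

theorem bm_zero {a : ℕ} (ha : a < 256) : bm a 0 = a ∧ bm 0 a = a := by
  have h := List.all_eq_true.1 bm_id.1 a (List.mem_range.2 ha)
  simpa only [Bool.and_eq_true, beq_iff_eq] using h

theorem tbProd_lt : ∀ {w : List ℕ}, (∀ i ∈ w, i < 7) → tbProd w < 256
  | [], _ => by norm_num [tbProd]
  | i :: w, h => bm_lt (of_decide_eq_true (List.all_eq_true.1 bm_id.2 i (List.mem_range.2 (h i (List.mem_cons_self ..)))))
      (tbProd_lt fun j hj => h j (List.mem_cons_of_mem _ hj))

/-- A set of indices of size at least half, closed under products, has two pairs with different commutators. -/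
theorem exists_two_comm {X : Finset ℕ} (hlt : ∀ a ∈ X, a < 256) (h0 : 0 ∈ X)
    (hmul : ∀ a ∈ X, ∀ b ∈ X, bm a b ∈ X) (hinv : ∀ a ∈ X, ∃ b ∈ X, bm a b = 0) (hcard : 128 ≤ X.card) :
    ∃ a ∈ X, ∃ b ∈ X, ∃ c ∈ X, ∃ d ∈ X, ∃ a' ∈ X, ∃ b' ∈ X, ∃ c' ∈ X, ∃ d' ∈ X,
      bm a a' = 0 ∧ bm b b' = 0 ∧ bm c c' = 0 ∧ bm d d' = 0 ∧
      bm (bm a b) (bm a' b') ≠ 0 ∧ bm (bm c d) (bm c' d') ≠ 0 ∧
      bm (bm a b) (bm a' b') ≠ bm (bm c d) (bm c' d') := by
  classical
  have huniq : ∀ a < 256, ∀ b < 256, ∀ c < 256, bm a b = 0 → bm a c = 0 → b = c := by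
    intro a ha b hb c hc h1 h2
    obtain ⟨f, hf, hbf⟩ := bm_inv hb
    have e1 : a = f := by rw [← (bm_zero ha).1, ← hbf, ← bm_assoc ha hb hf, h1, (bm_zero hf).2]
    have hba : bm b a = 0 := e1 ▸ hbf
    rw [← (bm_zero hb).1, ← h2, ← bm_assoc hb ha hc, hba, (bm_zero hc).2]
  have hcancel : ∀ e < 256, ∀ a < 256, ∀ b < 256, bm e a = bm e b → a = b := by
    intro e he a ha b hb h
    obtain ⟨f, hf, hef⟩ := bm_inv he
    obtain ⟨f', hf', hff⟩ := bm_inv hf
    have e1 : e = f' := by rw [← (bm_zero he).1, ← hff, ← bm_assoc he hf hf', hef, (bm_zero hf').2]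
    have hfe : bm f e = 0 := e1 ▸ hff
    rw [← (bm_zero ha).2, ← hfe, bm_assoc hf he ha, h, ← bm_assoc hf he hb, hfe, (bm_zero hb).2]
  have hmulX : ∀ e ∈ X, ∀ f < 256, f ∉ X → bm e f ∉ X := by
    intro e he f hf hfX hm
    obtain ⟨e', he', hee⟩ := hinv e he
    obtain ⟨e'', he'', h''⟩ := hinv e' he'
    have e1 : e = e'' := by
      rw [← (bm_zero (hlt e he)).1, ← h'', ← bm_assoc (hlt e he) (hlt e' he') (hlt e'' he''), hee,
        (bm_zero (hlt e'' he'')).2]
    have h1 := hmul e' he' _ hm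
    rw [← bm_assoc (hlt e' he') (hlt e he) hf, e1, h'', (bm_zero hf).2] at h1
    exact hfX h1
  -- the other coset
  have hxor : ∀ e < 256, ∀ f < 256, e ∉ X → f ∉ X → bm e f ∈ X := by
    intro e he f hf heX hfX
    obtain ⟨e', he', hee'⟩ := bm_inv he
    have he'X : e' ∉ X := fun h => by
      obtain ⟨g, hg, hg'⟩ := hinv e' h
      obtain ⟨g', hg1, hgg'⟩ := bm_inv (hlt g hg)
      have e1 : e = g := by
        rw [← (bm_zero he).1, ← hg', ← bm_assoc he he' (hlt g hg), hee', (bm_zero (hlt g hg)).2]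
      exact heX (e1 ▸ hg)
    set Y := X.image fun x => bm e' x with hY
    have hYc : Y.card = X.card := Finset.card_image_of_injOn fun a ha b hb h => hcancel e' he' a (hlt a ha) b (hlt b hb) h
    have hdis : Disjoint X Y := Finset.disjoint_left.2 fun a ha haY => by
      obtain ⟨x, hx, rfl⟩ := Finset.mem_image.1 haY
      obtain ⟨x', hx', hxx⟩ := hinv x hx
      have := hmul _ ha x' hx'
      rw [bm_assoc he' (hlt x hx) (hlt x' hx'), hxx, (bm_zero he').1] at this
      exact he'X this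
    have hall : X ∪ Y = Finset.range 256 := by
      refine Finset.eq_of_subset_of_card_le (fun a ha => Finset.mem_range.2 ?_) ?_
      · rcases Finset.mem_union.1 ha with ha | ha
        · exact hlt a ha
        · obtain ⟨x, hx, rfl⟩ := Finset.mem_image.1 ha
          exact bm_lt he' (hlt x hx)
      · rw [Finset.card_union_of_disjoint hdis, hYc, Finset.card_range]; omega
    have hfY : f ∈ Y := by
      have : f ∈ X ∪ Y := hall ▸ Finset.mem_range.2 hf
      exact (Finset.mem_union.1 this).resolve_left hfX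
    obtain ⟨x, hx, rfl⟩ := Finset.mem_image.1 hfY
    rwa [← bm_assoc he he' (hlt x hx), hee', (bm_zero (hlt x hx)).2]
  obtain ⟨msk, hmsk, hbits⟩ : ∃ msk < 2 ^ 7, ∀ i < 7, (msk.testBit i = true ↔ tbGen i ∉ X) := by
    refine ⟨Nat.ofBits (fun i : Fin 7 => decide (tbGen i ∉ X)), Nat.ofBits_lt_two_pow _, fun i hi => ?_⟩
    rw [Nat.testBit_ofBits_lt _ i hi, decide_eq_true_iff]
  have hpar : ∀ w : List ℕ, (∀ i ∈ w, i < 7) → (par msk w = false ↔ tbProd w ∈ X) := by
    intro w
    induction w with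
    | nil => exact fun _ => by simp [par, tbProd, h0]
    | cons i w ih =>
      intro hw
      have hi := hw i (List.mem_cons_self ..)
      have hg : tbGen i < 256 := of_decide_eq_true (List.all_eq_true.1 bm_id.2 i (List.mem_range.2 hi))
      have hw' := fun j hj => hw j (List.mem_cons_of_mem _ hj)
      have hp := tbProd_lt hw'
      rw [par, tbProd]
      by_cases h1 : tbGen i ∈ X
      · have hb : msk.testBit i = false := by
          rw [← Bool.not_eq_true, hbits i hi, not_not]; exact h1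
        rw [hb, Bool.false_xor, ih hw']
        exact ⟨fun h => hmul _ h1 _ h, fun h => by_contra fun h' => hmulX _ h1 _ hp h' h⟩
      · have hb : msk.testBit i = true := (hbits i hi).2 h1
        rw [hb, Bool.true_xor, Bool.not_eq_false', ← Bool.not_eq_false, ih hw']
        refine ⟨fun h => hxor _ hg _ hp h1 h, fun h h' => ?_⟩
        obtain ⟨p', hp', hpp⟩ := hinv _ h'
        have := hmul _ h p' hp'
        rw [bm_assoc hg hp (hlt p' hp'), hpp, (bm_zero hg).1] at this
        exact h1 this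
  have h := List.all_eq_true.1 wit_check msk (List.mem_range.2 hmsk)
  simp only [Bool.and_eq_true, decide_eq_true_eq, Bool.not_eq_true', bne_iff_ne, beq_iff_eq] at h
  set w := tbWit.getD msk []
  obtain ⟨⟨⟨⟨⟨⟨⟨⟨⟨⟨⟨⟨⟨⟨la, lb⟩, lc⟩, ld⟩, pa⟩, pb⟩, pc⟩, pd⟩, n1⟩, n2⟩, n3⟩, ia⟩, ib⟩, ic⟩, id'⟩ := h
  have hmem : ∀ e, e < 256 → par msk (tbWord e) = false → e ∈ X ∧ (bm e (binv e) = 0 → binv e ∈ X) := by
    intro e he hp
    have hc := List.all_eq_true.1 tbWord_check e (List.mem_range.2 he)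
    simp only [Bool.and_eq_true, beq_iff_eq, List.all_eq_true, decide_eq_true_eq] at hc
    have heX : e ∈ X := hc.1 ▸ (hpar _ hc.2).1 hp
    refine ⟨heX, fun hinv' => ?_⟩
    obtain ⟨b, hb, hbb⟩ := hinv e heX
    have hbl : binv e < 256 := by
      unfold binv
      cases hf : (List.range 256).find? fun f => bm e f == 0 with
      | none => simp
      | some f => simpa using List.mem_range.1 (List.mem_of_find?_eq_some hf)
    rw [huniq e he _ hbl b (hlt b hb) hinv' hbb]
    exact hb
  obtain ⟨aX, aI⟩ := hmem _ la pa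
  obtain ⟨bX, bI⟩ := hmem _ lb pb
  obtain ⟨cX, cI⟩ := hmem _ lc pc
  obtain ⟨dX, dI⟩ := hmem _ ld pd
  exact ⟨_, aX, _, bX, _, cX, _, dX, _, aI ia, _, bI ib, _, cI ic, _, dI id', ia, ib, ic, id', n1, n2, n3⟩

/-- A simple group has another conjugate commuting with the involution. -/
theorem exists_comm_conj [Finite G] [IsSimpleGroup G] (hG : ¬ IsMulCommutative G) (S : Setting z P) :
    ∃ g : G, g * z * g⁻¹ ≠ z ∧ g * z * g⁻¹ * z = z * (g * z * g⁻¹) := by
  by_contra hcon
  push Not at hcon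
  have hord : orderOf z = 2 := orderOf_eq_prime (by rw [pow_two, S.zz]) S.ext.ne
  have hiso : IsIsolatedInvolution z := ⟨hord, fun g hg => by_contra fun hne => hcon g hne hg.eq.symm⟩
  obtain ⟨N, hN, hodd, hcomm⟩ := ZStar.exists_odd_normal hiso
  rcases hN.eq_bot_or_eq_top with e | e
  · refine hG ?_
    have hz : z ∈ Subgroup.center G := Subgroup.mem_center_iff.2 fun g => by
      have := hcomm g
      rw [e, Subgroup.mem_bot, mul_inv_eq_one, mul_inv_eq_iff_eq_mul] at this
      exact this.symm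
    rcases (inferInstance : (Subgroup.center G).Normal).eq_bot_or_eq_top with e' | e'
    · exact absurd (by rwa [e', Subgroup.mem_bot] at hz) S.ext.ne
    · exact ⟨⟨fun a b => Subgroup.mem_center_iff.1 (e' ▸ Subgroup.mem_top b : b ∈ Subgroup.center G) a⟩⟩
  · rw [e, Subgroup.card_top] at hodd
    exact (Nat.not_even_iff_odd.2 hodd) (even_iff_two_dvd.2 (hord ▸ orderOf_dvd_natCard z))

theorem bv_comm (a b : ℕ) : bv a b = bv b a := by
  rw [bv, bv, Nat.xor_comm a b, Bool.xor_comm (qv a) (qv b)]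

namespace Coord

variable {S : Setting z P} (C : Coord S) [Finite G]
include C

theorem bv_xor {a b c : ℕ} (ha : a < 4096) (hb : b < 4096) (hc : c < 4096) :
    bv (a ^^^ b) c = xor (bv a c) (bv b c) := by
  have hinj : ∀ u v w : Bool, Geo.zb u = Geo.zb v + Geo.zb w → u = xor v w := by decide
  refine hinj _ _ _ ?_
  rw [← C.polar_eq (Nat.xor_lt_two_pow (n := 12) ha hb) hc, ← C.polar_eq ha hc, ← C.polar_eq hb hc, C.add,
    QuadraticMap.polar_add_left]

theorem bv_self {a : ℕ} : bv a a = false := by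
  rw [bv, Nat.xor_self, Bool.xor_self, Bool.xor_false]
  rfl

theorem bv_xor_right {a b c : ℕ} (ha : a < 4096) (hb : b < 4096) (hc : c < 4096) :
    bv c (a ^^^ b) = xor (bv c a) (bv c b) := by
  rw [bv_comm, C.bv_xor ha hb hc, bv_comm a, bv_comm b]

theorem bv_iso {g : G} {M : List ℕ} (hg : C.Rep g M) {a b : ℕ} (ha : a < 4096) (hb : b < 4096) :
    bv (app M a) (app M b) = bv a b := by
  rw [bv, bv, ← app_xor, C.rep_qv hg (Nat.xor_lt_two_pow (n := 12) ha hb), C.rep_qv hg ha, C.rep_qv hg hb]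

end Coord

end Cfsg.Agent.Spor.JFour
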