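import Cfsg.Agent.Lib.Spor.JFourType.Rep

/-! Candidates for the matrices of the further generators. -/

set_option autoImplicit false
set_option maxRecDepth 100000
set_option Elab.async false

namespace Cfsg.Agent.Spor.JFour

open Cfsg.Agent.Spor.Cos.J4Sub (app mm)

/-- A matrix from the images of the six basic vectors. -/
def bld (τ : List ℕ) (l0 l1 l2 u0 u1 u2 : ℕ) : List ℕ :=
  [l0, app τ l0, l1, app τ l1, l2, app τ l2, u0, app τ u0, u1, app τ u1, u2, app τ u2]

/-- A matrix from two images and the image of the first generator. -/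
def bldR (τ X' : List ℕ) (l u : ℕ) : List ℕ :=
  bld τ l (app X' l) (app X' (app X' l)) u (app X' u) (app X' (app X' u))

/-- The matrices of the elementary abelian group. -/
def hA : ℕ → List ℕ
  | 1 => [1, 2, 4, 8, 16, 32, 64, 128, 260, 520, 1040, 2080]
  | 2 => [1, 2, 4, 8, 16, 32, 65, 130, 256, 512, 1040, 2080]
  | 3 => [1, 2, 4, 8, 16, 32, 65, 130, 260, 520, 1024, 2048]
  | 4 => [1, 2, 4, 8, 16, 32, 84, 168, 273, 546, 1029, 2058]
  | 7 => [1, 2, 4, 8, 16, 32, 85, 170, 277, 554, 1029, 2058]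
  | 8 => [1, 2, 4, 8, 16, 32, 120, 156, 291, 561, 1038, 2055]
  | 10 => [1, 2, 4, 8, 16, 32, 121, 158, 291, 561, 1054, 2087]
  | 12 => [1, 2, 4, 8, 16, 32, 108, 180, 306, 531, 1035, 2061]
  | _ => mI

theorem hA_check : evM mBase [0] = hA 1 ∧ evM mBase [1] = hA 2 ∧ evM mBase [0, 1] = hA 3 ∧
    evM mBase [2] = hA 4 ∧ evM mBase [0, 1, 2] = hA 7 ∧ evM mBase [3] = hA 8 ∧ evM mBase [1, 3] = hA 10 ∧
    evM mBase [2, 3] = hA 12 := by decide +kernel

/-- An isometry. -/
def isoOK (M : List ℕ) : Bool :=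
  ((List.range 12).all fun i => !(qv (M.getD i 0))) &&
    ((List.range 12).all fun i => (List.range i).all fun j =>
      qv (M.getD i 0 ^^^ M.getD j 0) == qv (2 ^ i ^^^ 2 ^ j))

/-- The action on the elementary abelian group. -/
def conjOK (M : List ℕ) (a b c d : ℕ) : Bool :=
  (mm M (mA 0) == mm (hA a) M) && (mm M (mA 1) == mm (hA b) M) && (mm M (mA 2) == mm (hA c) M) &&
    (mm M (mA 3) == mm (hA d) M)

/-- The assignment with three further matrices. -/
def asg (s w q : List ℕ) : ℕ → List ℕ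
  | 6 => s
  | 7 => w
  | 8 => q
  | n => mBase n

/-- Membership up to a scalar. -/
def inUpto (M : List ℕ) (L : List (List ℕ)) : Bool := L.any fun N => upto M N

/-- Candidate for the element normalising both groups. -/
def mkS (i u : ℕ) : List ℕ := bldR mT (mm (mTp i) mY) (app (hA 12) u ^^^ u) u

/-- Its conditions. -/
def okS (i : ℕ) (M : List ℕ) : Bool :=
  conjOK M 8 12 1 3 && (mm M mX == mm (mm (mTp i) mY) M) && (mm M mT == mm mT M) && isoOK M &&
    upto (evM (asg M mI mI) [6, 4]) (evM (asg M mI mI) [5, 6]) &&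
    upto (evM (asg M mI mI) [4, 6, 5]) (evM (asg M mI mI) [6])

/-- The two candidates. -/
def listS : List (List ℕ) := [[30, 39, 54, 27, 42, 63, 1920, 2496, 3456, 1728, 2688, 4032],
  [30, 39, 54, 27, 42, 63, 1950, 2535, 3510, 1755, 2730, 4095]]

/-- The candidates for the element of the hexad group. -/
def listW : List (List ℕ) := [[1, 2, 21, 42, 16, 32, 320, 640, 256, 512, 1280, 2560],
  [1, 2, 21, 42, 16, 32, 320, 640, 256, 512, 1296, 2592],
  [1, 2, 21, 42, 16, 32, 321, 642, 256, 512, 1280, 2560],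
  [1, 2, 21, 42, 16, 32, 321, 642, 256, 512, 1296, 2592],
  [1, 2, 21, 42, 16, 32, 324, 648, 273, 546, 1284, 2568],
  [1, 2, 21, 42, 16, 32, 324, 648, 273, 546, 1300, 2600],
  [1, 2, 21, 42, 16, 32, 325, 650, 273, 546, 1284, 2568],
  [1, 2, 21, 42, 16, 32, 325, 650, 273, 546, 1300, 2600],
  [1, 2, 21, 42, 16, 32, 336, 672, 256, 512, 1281, 2562],
  [1, 2, 21, 42, 16, 32, 336, 672, 256, 512, 1297, 2594],
  [1, 2, 21, 42, 16, 32, 337, 674, 256, 512, 1281, 2562],
  [1, 2, 21, 42, 16, 32, 337, 674, 256, 512, 1297, 2594],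
  [1, 2, 21, 42, 16, 32, 340, 680, 273, 546, 1285, 2570],
  [1, 2, 21, 42, 16, 32, 340, 680, 273, 546, 1301, 2602],
  [1, 2, 21, 42, 16, 32, 341, 682, 273, 546, 1285, 2570],
  [1, 2, 21, 42, 16, 32, 341, 682, 273, 546, 1301, 2602],
  [1, 2, 21, 42, 16, 32, 352, 688, 256, 512, 1283, 2561],
  [1, 2, 21, 42, 16, 32, 352, 688, 256, 512, 1299, 2593],
  [1, 2, 21, 42, 16, 32, 353, 690, 256, 512, 1283, 2561],
  [1, 2, 21, 42, 16, 32, 353, 690, 256, 512, 1299, 2593],
  [1, 2, 21, 42, 16, 32, 356, 696, 273, 546, 1287, 2569],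
  [1, 2, 21, 42, 16, 32, 356, 696, 273, 546, 1303, 2601],
  [1, 2, 21, 42, 16, 32, 357, 698, 273, 546, 1287, 2569],
  [1, 2, 21, 42, 16, 32, 357, 698, 273, 546, 1303, 2601],
  [1, 2, 21, 42, 16, 32, 368, 656, 256, 512, 1282, 2563],
  [1, 2, 21, 42, 16, 32, 368, 656, 256, 512, 1298, 2595],
  [1, 2, 21, 42, 16, 32, 369, 658, 256, 512, 1282, 2563],
  [1, 2, 21, 42, 16, 32, 369, 658, 256, 512, 1298, 2595],
  [1, 2, 21, 42, 16, 32, 372, 664, 273, 546, 1286, 2571],
  [1, 2, 21, 42, 16, 32, 372, 664, 273, 546, 1302, 2603],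
  [1, 2, 21, 42, 16, 32, 373, 666, 273, 546, 1286, 2571],
  [1, 2, 21, 42, 16, 32, 373, 666, 273, 546, 1302, 2603]]

/-- The pairs. -/
def listSW : List (List ℕ × List ℕ) :=
  [([30, 39, 54, 27, 42, 63, 1920, 2496, 3456, 1728, 2688, 4032], [1, 2, 21, 42, 16, 32, 320, 640, 256, 512, 1280, 2560]),
  ([30, 39, 54, 27, 42, 63, 1920, 2496, 3456, 1728, 2688, 4032], [1, 2, 21, 42, 16, 32, 324, 648, 273, 546, 1284, 2568]),
  ([30, 39, 54, 27, 42, 63, 1950, 2535, 3510, 1755, 2730, 4095], [1, 2, 21, 42, 16, 32, 336, 672, 256, 512, 1281, 2562]),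
  ([30, 39, 54, 27, 42, 63, 1950, 2535, 3510, 1755, 2730, 4095], [1, 2, 21, 42, 16, 32, 340, 680, 273, 546, 1285, 2570])]

/-- The candidates for the element normalising the three-group. -/
def listQ : List (List ℕ) := [[25, 46, 22, 43, 58, 31, 1600, 2944, 1408, 2752, 3712, 1984],
  [25, 46, 22, 43, 58, 31, 1625, 2990, 1430, 2795, 3770, 2015],
  [1600, 2944, 1408, 2752, 3712, 1984, 25, 46, 22, 43, 58, 31],
  [1600, 2944, 1408, 2752, 3712, 1984, 1625, 2990, 1430, 2795, 3770, 2015],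
  [1625, 2990, 1430, 2795, 3770, 2015, 25, 46, 22, 43, 58, 31],
  [1625, 2990, 1430, 2795, 3770, 2015, 1600, 2944, 1408, 2752, 3712, 1984],
  [31, 37, 46, 55, 43, 61, 1984, 2368, 2944, 3520, 2752, 3904],
  [31, 37, 46, 55, 43, 61, 2015, 2405, 2990, 3575, 2795, 3965],
  [1984, 2368, 2944, 3520, 2752, 3904, 31, 37, 46, 55, 43, 61],
  [1984, 2368, 2944, 3520, 2752, 3904, 2015, 2405, 2990, 3575, 2795, 3965],
  [2015, 2405, 2990, 3575, 2795, 3965, 31, 37, 46, 55, 43, 61],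
  [2015, 2405, 2990, 3575, 2795, 3965, 1984, 2368, 2944, 3520, 2752, 3904],
  [22, 43, 58, 31, 25, 46, 1408, 2752, 3712, 1984, 1600, 2944],
  [22, 43, 58, 31, 25, 46, 1430, 2795, 3770, 2015, 1625, 2990],
  [1408, 2752, 3712, 1984, 1600, 2944, 22, 43, 58, 31, 25, 46],
  [1408, 2752, 3712, 1984, 1600, 2944, 1430, 2795, 3770, 2015, 1625, 2990],
  [1430, 2795, 3770, 2015, 1625, 2990, 22, 43, 58, 31, 25, 46],
  [1430, 2795, 3770, 2015, 1625, 2990, 1408, 2752, 3712, 1984, 1600, 2944],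
  [25, 46, 43, 61, 37, 58, 1600, 2944, 2752, 3904, 2368, 3712],
  [25, 46, 43, 61, 37, 58, 1625, 2990, 2795, 3965, 2405, 3770],
  [1600, 2944, 2752, 3904, 2368, 3712, 25, 46, 43, 61, 37, 58],
  [1600, 2944, 2752, 3904, 2368, 3712, 1625, 2990, 2795, 3965, 2405, 3770],
  [1625, 2990, 2795, 3965, 2405, 3770, 25, 46, 43, 61, 37, 58],
  [1625, 2990, 2795, 3965, 2405, 3770, 1600, 2944, 2752, 3904, 2368, 3712],
  [31, 37, 55, 25, 22, 43, 1984, 2368, 3520, 1600, 1408, 2752],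
  [31, 37, 55, 25, 22, 43, 2015, 2405, 3575, 1625, 1430, 2795],
  [1984, 2368, 3520, 1600, 1408, 2752, 31, 37, 55, 25, 22, 43],
  [1984, 2368, 3520, 1600, 1408, 2752, 2015, 2405, 3575, 1625, 1430, 2795],
  [2015, 2405, 3575, 1625, 1430, 2795, 31, 37, 55, 25, 22, 43],
  [2015, 2405, 3575, 1625, 1430, 2795, 1984, 2368, 3520, 1600, 1408, 2752],
  [22, 43, 31, 37, 55, 25, 1408, 2752, 1984, 2368, 3520, 1600],
  [22, 43, 31, 37, 55, 25, 1430, 2795, 2015, 2405, 3575, 1625],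
  [1408, 2752, 1984, 2368, 3520, 1600, 22, 43, 31, 37, 55, 25],
  [1408, 2752, 1984, 2368, 3520, 1600, 1430, 2795, 2015, 2405, 3575, 1625],
  [1430, 2795, 2015, 2405, 3575, 1625, 22, 43, 31, 37, 55, 25],
  [1430, 2795, 2015, 2405, 3575, 1625, 1408, 2752, 1984, 2368, 3520, 1600],
  [25, 46, 61, 22, 31, 37, 1600, 2944, 3904, 1408, 1984, 2368],
  [25, 46, 61, 22, 31, 37, 1625, 2990, 3965, 1430, 2015, 2405],
  [1600, 2944, 3904, 1408, 1984, 2368, 25, 46, 61, 22, 31, 37],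
  [1600, 2944, 3904, 1408, 1984, 2368, 1625, 2990, 3965, 1430, 2015, 2405],
  [1625, 2990, 3965, 1430, 2015, 2405, 25, 46, 61, 22, 31, 37],
  [1625, 2990, 3965, 1430, 2015, 2405, 1600, 2944, 3904, 1408, 1984, 2368],
  [31, 37, 25, 46, 61, 22, 1984, 2368, 1600, 2944, 3904, 1408],
  [31, 37, 25, 46, 61, 22, 2015, 2405, 1625, 2990, 3965, 1430],
  [1984, 2368, 1600, 2944, 3904, 1408, 31, 37, 25, 46, 61, 22],
  [1984, 2368, 1600, 2944, 3904, 1408, 2015, 2405, 1625, 2990, 3965, 1430],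
  [2015, 2405, 1625, 2990, 3965, 1430, 31, 37, 25, 46, 61, 22],
  [2015, 2405, 1625, 2990, 3965, 1430, 1984, 2368, 1600, 2944, 3904, 1408],
  [22, 43, 37, 58, 46, 55, 1408, 2752, 2368, 3712, 2944, 3520],
  [22, 43, 37, 58, 46, 55, 1430, 2795, 2405, 3770, 2990, 3575],
  [1408, 2752, 2368, 3712, 2944, 3520, 22, 43, 37, 58, 46, 55],
  [1408, 2752, 2368, 3712, 2944, 3520, 1430, 2795, 2405, 3770, 2990, 3575],
  [1430, 2795, 2405, 3770, 2990, 3575, 22, 43, 37, 58, 46, 55],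
  [1430, 2795, 2405, 3770, 2990, 3575, 1408, 2752, 2368, 3712, 2944, 3520]]

/-- The element normalising both groups. -/
def mS : List ℕ := [57, 30, 45, 54, 21, 42, 3648, 1920, 2880, 3456, 1344, 2688]

/-- The element of the hexad group. -/
def mW : List ℕ := [1, 2, 21, 42, 16, 32, 320, 640, 256, 512, 1280, 2560]

/-- The element normalising the three-group. -/
def mQ : List ℕ := [2015, 2405, 1625, 2990, 3965, 1430, 1984, 2368, 1600, 2944, 3904, 1408]

/-- The outer element. -/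
def mO : List ℕ := [21, 63, 57, 39, 45, 27, 1344, 4032, 3648, 2496, 2880, 1728]

/-- The change of frame. -/
def mU : List ℕ := [1, 2, 4, 8, 16, 32, 65, 130, 260, 520, 1040, 2080]

/-- Candidate for the element normalising the three-group. -/
def mkQ (i l u : ℕ) : List ℕ := bldR mT (mm (mTp i) (mm mX (mm mY mY))) l u

/-- Its conditions. -/
def okQ (i j : ℕ) (M : List ℕ) : Bool :=
  (mm M mX == mm (mm (mTp i) (mm mX (mm mY mY))) M) &&
    (mm M mY == mm (mm (mTp j) (mm mX (mm mX (mm mY mY)))) M) && (mm M mT == mm mT M) && isoOK M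

/-- Candidate for the outer element. -/
def mkO (i u : ℕ) : List ℕ := bldR mT2 (mm (mTp i) mY) (app (hA 8) u ^^^ u) u

/-- Its conditions. -/
def okO (i : ℕ) (M : List ℕ) : Bool :=
  conjOK M 4 8 1 2 && (mm M mX == mm (mm (mTp i) mY) M) && (mm M mT == mm mT2 M) && isoOK M &&
    upto (mm M mS) (mm (evM (asg mS mW mI) [4, 4, 6, 6, 6]) M) &&
    upto (mm M (evM (asg mS mW mI) [7, 6])) (mm (evM (asg mS mW mI) [4, 4, 5, 7, 6]) M)

theorem solveS : ((List.range 3).all fun i => (List.range 4096).all fun u => qv u || !(app (hA 8) u == u) ||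
    let M := mkS i u
    !(okS i M) || inUpto M listS) = true := by decide +kernel

theorem solveO : ((List.range 3).all fun i => (List.range 4096).all fun u => qv u || !(app (hA 4) u == u) ||
    let M := mkO i u
    !(okO i M) || upto M mO) = true := by decide +kernel

/-- The relation of the pair. -/
def relSW (s w : List ℕ) : Bool :=
  upto (evM (asg s w mI) [5, 7, 6, 7]) (evM (asg s w mI) [4, 7, 4, 5])

theorem solveSW : (listS.all fun s => listW.all fun w => !(relSW s w) || listSW.contains (s, w)) = true := by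
  decide +kernel

/-- The relation of the triple. -/
def relQ (s w q : List ℕ) : Bool :=
  upto (evM (asg s w q) [6, 4, 5, 0, 4, 8, 7, 6, 4, 5, 0, 4, 8, 7, 6, 4, 5, 0, 4, 8, 7, 6, 4, 5, 0, 4, 8, 7]) mI

/-- The conjugate by the change of frame. -/
def gauge (M : List ℕ) : List ℕ := mm (mm mU M) mU

theorem solveSWQ : (listSW.all fun sw => listQ.all fun q => !(relQ sw.1 sw.2 q) ||
    (upto sw.1 mS && upto sw.2 mW && upto q mQ) ||
    (upto (gauge sw.1) mS && upto (gauge sw.2) mW && upto (gauge q) mQ)) = true := by decide +kernel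

theorem gauge_check : (gauge mX == mX) && (gauge mY == mY) && (gauge mT == mT) && (gauge (mA 0) == mA 0) &&
    (gauge (mA 1) == mA 1) && (gauge (mA 2) == mA 2) && (gauge (mA 3) == mA 3) && (mm mU mU == mI) && okMat mU &&
    ((List.range 4096).all fun n => qv (app mU n) == qv n) = true := by decide +kernel

end Cfsg.Agent.Spor.JFour
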