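import Cfsg.Agent.Lib.Spor.JFourType.GenData

/-! The candidates for the element normalising the three-group. -/

set_option autoImplicit false
set_option maxRecDepth 100000
set_option Elab.async false

namespace Cfsg.Agent.Spor.JFour

open Cfsg.Agent.Spor.Cos.J4Sub (app mm)

theorem solveQ : ((List.range 3).all fun i => (List.range 3).all fun j =>
    let F := (List.range 4096).filter fun u =>
      !(qv u) && (app (mm (mTp j) (mm mX (mm mX (mm mY mY)))) u == u)
    F.all fun l => F.all fun u =>
      let M := mkQ i l u
      !(okQ i j M) || inUpto M listQ) = true := by decide +kernel

end Cfsg.Agent.Spor.JFour
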