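import Cfsg.Agent.Lib.Spor.JFourType.GenData

/-! The candidates for the element of the hexad group. -/

set_option autoImplicit false
set_option maxRecDepth 100000
set_option Elab.async false

namespace Cfsg.Agent.Spor.JFour

open Cfsg.Agent.Spor.Cos.J4Sub (app mm)

/-- The first images, normalised. -/
def candW0 : List ℕ := [320, 321, 324, 325, 330, 331, 334, 335, 336, 337, 340, 341, 346, 347, 350, 351, 352, 353, 356, 357, 362, 363, 366, 367, 368, 369, 372, 373, 378, 379, 382, 383]

/-- The second images. -/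
def candW1 : List ℕ := [0, 1, 2, 3, 4, 5, 6, 7, 8, 9, 10, 11, 12, 13, 14, 15, 16, 17, 18, 19, 20, 21, 22, 23, 24, 25, 26, 27, 28, 29, 30, 31, 32, 33, 34, 35, 36, 37, 38, 39, 40, 41, 42, 43, 44, 45, 46, 47, 48, 49, 50, 51, 52, 53, 54, 55, 56, 57, 58, 59, 60, 61, 62, 63, 256, 257, 258, 259, 260, 261, 262, 263, 272, 273, 274, 275, 276, 277, 278, 279, 288, 289, 290, 291, 292, 293, 294, 295, 304, 305, 306, 307, 308, 309, 310, 311, 512, 513, 514, 515, 520, 521, 522, 523, 528, 529, 530, 531, 536, 537, 538, 539, 544, 545, 546, 547, 552, 553, 554, 555, 560, 561, 562, 563, 568, 569, 570, 571, 768, 769, 770, 771, 780, 781, 782, 783, 784, 785, 786, 787, 796, 797, 798, 799, 800, 801, 802, 803, 812, 813, 814, 815, 816, 817, 818, 819, 828, 829, 830, 831]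

/-- The third images. -/
def candW2 : List ℕ := [0, 1, 2, 3, 4, 5, 6, 7, 8, 9, 10, 11, 12, 13, 14, 15, 16, 17, 18, 19, 20, 21, 22, 23, 24, 25, 26, 27, 28, 29, 30, 31, 32, 33, 34, 35, 36, 37, 38, 39, 40, 41, 42, 43, 44, 45, 46, 47, 48, 49, 50, 51, 52, 53, 54, 55, 56, 57, 58, 59, 60, 61, 62, 63, 1280, 1281, 1282, 1283, 1284, 1285, 1286, 1287, 1296, 1297, 1298, 1299, 1300, 1301, 1302, 1303, 1320, 1321, 1322, 1323, 1324, 1325, 1326, 1327, 1336, 1337, 1338, 1339, 1340, 1341, 1342, 1343, 2560, 2561, 2562, 2563, 2568, 2569, 2570, 2571, 2580, 2581, 2582, 2583, 2588, 2589, 2590, 2591, 2592, 2593, 2594, 2595, 2600, 2601, 2602, 2603, 2612, 2613, 2614, 2615, 2620, 2621, 2622, 2623, 3840, 3841, 3842, 3843, 3852, 3853, 3854, 3855, 3860, 3861, 3862, 3863, 3864, 3865, 3866, 3867, 3876, 3877, 3878, 3879, 3880, 3881, 3882, 3883, 3888, 3889, 3890, 3891, 3900, 3901, 3902, 3903]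

theorem candW0_check : ((List.range 4096).all fun u =>
    qv u || !(app (hA 7) u == u) || !(app (hA 2) u ^^^ u == 1) || candW0.contains u) = true := by decide +kernel

theorem candW1_check : ((List.range 4096).all fun u =>
    qv u || !(app (hA 2) u == u) || candW1.contains u) = true := by decide +kernel

theorem candW2_check : ((List.range 4096).all fun u =>
    qv u || !(app (hA 7) u == app (hA 2) u) || candW2.contains u) = true := by decide +kernel

/-- Its conditions. -/
def okW (M : List ℕ) : Bool :=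
  upto (mm M M) mI && conjOK M 7 2 4 10 && (mm M mT == mm mT M) && isoOK M

/-- The pair conditions. -/
def pairW (u0 l0 u1 l1 : ℕ) : Bool :=
  !(qv (u0 ^^^ u1)) && !(qv (u0 ^^^ app mT u1)) && !(qv (l0 ^^^ u1)) && !(qv (l0 ^^^ app mT u1)) &&
    !(qv (u0 ^^^ l1)) && !(qv (u0 ^^^ app mT l1))

/-- The search from a first image. -/
def searchW (u0 : ℕ) : Bool :=
  let r := app (hA 4) u0 ^^^ u0
  candW1.all fun u1 =>
    let l1 := app (hA 7) u1 ^^^ u1
    !(pairW u0 1 u1 l1) ||
      let t := r ^^^ l1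
      candW2.all fun u2 => !(app (hA 7) u2 ^^^ u2 == t) || !(pairW u0 1 u2 t) || !(pairW u1 l1 u2 t) ||
        let M := bld mT 1 l1 t u0 u1 u2
        !(okW M) || inUpto M listW

theorem searchW_0 : (([320, 321, 324, 325, 330, 331, 334, 335] : List ℕ).all searchW) = true := by decide +kernel

theorem searchW_1 : (([336, 337, 340, 341, 346, 347, 350, 351] : List ℕ).all searchW) = true := by decide +kernel

theorem searchW_2 : (([352, 353, 356, 357, 362, 363, 366, 367] : List ℕ).all searchW) = true := by decide +kernel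

theorem searchW_3 : (([368, 369, 372, 373, 378, 379, 382, 383] : List ℕ).all searchW) = true := by decide +kernel

theorem solveW : candW0.all searchW = true := by
  rw [show candW0 = ([320, 321, 324, 325, 330, 331, 334, 335] ++ [336, 337, 340, 341, 346, 347, 350, 351] ++ [352, 353, 356, 357, 362, 363, 366, 367] ++ [368, 369, 372, 373, 378, 379, 382, 383] : List ℕ) from rfl]
  simp only [List.all_append, Bool.and_eq_true]
  exact ⟨⟨⟨searchW_0, searchW_1⟩, searchW_2⟩, searchW_3⟩

end Cfsg.Agent.Spor.JFour
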