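import Cfsg.Agent.Lib.Spor.JFourType.GenData
import Cfsg.Agent.Lib.Spor.JFourType.GenDataW
import Cfsg.Agent.Lib.Spor.JFourType.GenDataQ

/-!
The matrices of all the generators: after a change of coordinates they are the explicit ones.
-/

set_option autoImplicit false
set_option maxRecDepth 100000
set_option linter.style.haveILetI false

open Cfsg Cfsg.Agent.Spor.Golay
open Cfsg.Agent.Spor.Cos.J4Sub (app mm app_mm app_xor)

namespace Cfsg.Agent.Spor.JFour

variable {G : Type*} [Group G] {z : G} {P : Subgroup G}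

theorem wordπ_append (u v : List ℕ) : wordπ (u ++ v) = wordπ u * wordπ v := by simp [wordπ]

theorem wordπ_single (k : ℕ) : wordπ [k] = permOf (pk k) := by simp [wordπ]

theorem getD_app {M : List ℕ} (h : okMat M = true) {i : ℕ} (hi : i < 12) : M.getD i 0 = app M (2 ^ i) :=
  (app_two_pow (by rw [okMat_length h]; exact hi)).symm

/-- A matrix is determined by six columns and the image of the scalar. -/
theorem bld_eq {M τ : List ℕ} (hM : okMat M = true) (hT : mm M mT = mm τ M) :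
    M = bld τ (app M 1) (app M 4) (app M 16) (app M 64) (app M 256) (app M 1024) := by
  have hc : ∀ v, app M (app mT v) = app τ (app M v) := fun v => by rw [← app_mm, hT, app_mm]
  have h1 := hc 1; have h4 := hc 4; have h16 := hc 16; have h64 := hc 64; have h256 := hc 256; have h1024 := hc 1024
  rw [show app mT 1 = 2 from rfl] at h1
  rw [show app mT 4 = 8 from rfl] at h4
  rw [show app mT 16 = 32 from rfl] at h16
  rw [show app mT 64 = 128 from rfl] at h64
  rw [show app mT 256 = 512 from rfl] at h256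
  rw [show app mT 1024 = 2048 from rfl] at h1024
  refine List.ext_getElem (by rw [okMat_length hM]; rfl) fun i h _ => ?_
  rw [← List.getD_eq_getElem M 0 h, getD_app hM (by rwa [okMat_length hM] at h)]
  have hi : i < 12 := by rwa [okMat_length hM] at h
  interval_cases i <;> simp [bld, h1, h4, h16, h64, h256, h1024]

/-- With the image of the first generator two columns suffice. -/
theorem bldR_eq {M τ X' : List ℕ} (hM : okMat M = true) (hT : mm M mT = mm τ M) (hX : mm M mX = mm X' M) :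
    M = bldR τ X' (app M 1) (app M 64) := by
  have hc : ∀ v, app M (app mX v) = app X' (app M v) := fun v => by rw [← app_mm, hX, app_mm]
  have h1 := hc 1; have h4 := hc 4; have h64 := hc 64; have h256 := hc 256
  rw [show app mX 1 = 4 from rfl] at h1
  rw [show app mX 4 = 16 from rfl] at h4
  rw [show app mX 64 = 256 from rfl] at h64
  rw [show app mX 256 = 1024 from rfl] at h256
  conv_lhs => rw [bld_eq hM hT]
  rw [bldR, ← h1, ← h4, ← h64, ← h256]

theorem upto_iff {M N : List ℕ} : upto M N = true ↔ ∃ k < 3, M = mm (mTp k) N := by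
  simp [upto, List.any_eq_true]

namespace Coord

variable {S : Setting z P} (C : Coord S)
include C

theorem iso_of_rep {g : G} {M : List ℕ} (hg : C.Rep g M) : isoOK M = true := by
  have hp : ∀ i < 12, (2 : ℕ) ^ i < 4096 := fun i hi => Nat.pow_lt_pow_right (by norm_num) (show i < 12 from hi)
  simp only [isoOK, Bool.and_eq_true, List.all_eq_true, List.mem_range, Bool.not_eq_true', beq_iff_eq]
  refine ⟨fun i hi => ?_, fun i hi j hj => ?_⟩
  · rw [getD_app hg.ok hi, C.rep_qv hg (hp i hi)]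
    revert hi; revert i; decide +kernel
  · rw [getD_app hg.ok hi, getD_app hg.ok (hj.trans hi), ← app_xor,
      C.rep_qv hg (Nat.xor_lt_two_pow (n := 12) (hp i hi) (hp j (hj.trans hi)))]

/-- The words with given matrix in the elementary abelian group. -/
theorem lift_word (w : List ℕ) (hw : ∀ k ∈ w, k < 6) :
    ∃ d ∈ CP z P, S.ψ d = wordπ w ∧ C.Rep d (evM mBase w) :=
  ⟨_, C.rep_word C.lift mBase 6 (fun _ hk => C.lift_spec hk) w hw⟩

variable [Finite G]

theorem conjA {g : G} {M : List ℕ} {m : ℕ} (hg : Norm (S := S) g (permOf (pk m))) (hM : C.Rep g M) {j : ℕ}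
    (hj : j < 4) (w : List ℕ) (hw : ∀ k ∈ w, k < 6) (hp : wordP [m, j] = wordP (w ++ [m]))
    (h2 : mm (evM mBase w) (evM mBase w) = mI) : mm M (mA j) = mm (evM mBase w) M := by
  obtain ⟨d, hd, hdψ, hdR⟩ := C.lift_word w hw
  refine C.conj_exact hg hM (C.a_mem j hj) hd ?_ (C.rep_a hj) hdR ?_ h2
  · rw [C.a_ψ j hj, hdψ, ← wordπ_single m, ← wordπ_single j, ← wordπ_append, ← wordπ_append]
    exact wordπ_congr hp
  · interval_cases j <;> decide +kernel

theorem conjW {g c : G} {M N : List ℕ} {m : ℕ} {u : List ℕ} (hg : Norm (S := S) g (permOf (pk m))) (hM : C.Rep g M)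
    (hc : c ∈ CP z P) (hcψ : S.ψ c = wordπ u) (hN : C.Rep c N) {d : G} {N' : List ℕ} {v : List ℕ}
    (hd : d ∈ CP z P) (hdψ : S.ψ d = wordπ v) (hN' : C.Rep d N') (hp : wordP (m :: u) = wordP (v ++ [m])) :
    ∃ k < 3, mm M N = mm (mm (mTp k) N') M := by
  refine C.conj_upto hg hM hc hd ?_ hN hN'
  rw [hcψ, hdψ, ← wordπ_single m, ← wordπ_append, ← wordπ_append]
  exact wordπ_congr hp

/-- A scalar adjustment. -/
theorem adjust {g : G} {M N : List ℕ} (hM : C.Rep g M) (hN : okMat N = true) (h : upto M N = true) :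
    ∃ k < 3, C.Rep (C.R.t ^ k * g) N := by
  obtain ⟨k, hk, rfl⟩ := upto_iff.1 h
  refine ⟨(3 - k) % 3, Nat.mod_lt _ (by norm_num), ?_⟩
  have hr := C.rep_mul (C.rep_tpow (Nat.mod_lt (3 - k) (by norm_num : 3 > 0))) hM
  refine ⟨hr.hz, hN, fun n hn => ?_⟩
  rw [hr.eq n hn, app_mm, app_mm, ← app_mm (mTp ((3 - k) % 3)),
    show mm (mTp ((3 - k) % 3)) (mTp k) = mI by interval_cases k <;> decide +kernel, app_mI (app_lt_of_ok hN _)]

theorem adjust_mem {g : G} {M N : List ℕ} (hg : g ∈ CP z P) (hM : C.Rep g M) (hN : okMat N = true)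
    (h : upto M N = true) : ∃ g' ∈ CP z P, S.ψ g' = S.ψ g ∧ C.Rep g' N := by
  obtain ⟨k, -, hk⟩ := C.adjust hM hN h
  exact ⟨_, mul_mem (pow_mem C.t_mem k) hg,
    by rw [S.ψ_mul _ (pow_mem C.t_mem k) _ hg, S.ψ_pow C.t_mem, C.t_ψ, one_pow, one_mul], hk⟩

theorem rel_word {ls lw lq : G} {Ms Mw Mq : List ℕ}
    (hs : ls ∈ CP z P ∧ S.ψ ls = permOf (pk 6) ∧ C.Rep ls Ms)
    (hw : lw ∈ CP z P ∧ S.ψ lw = permOf (pk 7) ∧ C.Rep lw Mw)
    (hq : lq ∈ CP z P ∧ S.ψ lq = permOf (pk 8) ∧ C.Rep lq Mq) {u v : List ℕ}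
    (hu : ∀ k ∈ u, k < 9) (hv : ∀ k ∈ v, k < 9) (h : wordP u = wordP v) :
    upto (evM (asg Ms Mw Mq) u) (evM (asg Ms Mw Mq) v) = true := by
  refine C.upto_of_word (fun k => if k = 6 then ls else if k = 7 then lw else if k = 8 then lq else C.lift k)
    _ 9 (fun k hk => ?_) hu hv h
  interval_cases k
  all_goals first
    | exact hs
    | exact hw
    | exact hq
    | exact C.lift_spec (k := 0) (by norm_num) | exact C.lift_spec (k := 1) (by norm_num) | exact C.lift_spec (k := 2) (by norm_num) | exact C.lift_spec (k := 3) (by norm_num) | exact C.lift_spec (k := 4) (by norm_num) | exact C.lift_spec (k := 5) (by norm_num)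

omit C in
theorem words_perm :
    wordP [6, 0] = wordP ([3] ++ [6]) ∧ wordP [6, 1] = wordP ([2, 3] ++ [6]) ∧
    wordP [6, 2] = wordP ([0] ++ [6]) ∧ wordP [6, 3] = wordP ([0, 1] ++ [6]) ∧
    wordP [7, 0] = wordP ([0, 1, 2] ++ [7]) ∧ wordP [7, 1] = wordP ([1] ++ [7]) ∧
    wordP [7, 2] = wordP ([2] ++ [7]) ∧ wordP [7, 3] = wordP ([1, 3] ++ [7]) ∧
    wordP [9, 0] = wordP ([2] ++ [9]) ∧ wordP [9, 1] = wordP ([3] ++ [9]) ∧
    wordP [9, 2] = wordP ([0] ++ [9]) ∧ wordP [9, 3] = wordP ([1] ++ [9]) ∧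
    wordP [6, 4] = wordP ([5] ++ [6]) ∧ wordP [8, 4] = wordP ([4, 5, 5] ++ [8]) ∧
    wordP [8, 5] = wordP ([4, 4, 5, 5] ++ [8]) ∧ wordP [9, 4] = wordP ([5] ++ [9]) := by decide +kernel

theorem exists_s : ∃ M ∈ listS, ∃ g ∈ CP z P, S.ψ g = permOf (pk 6) ∧ C.Rep g M := by
  obtain ⟨p0, p1, p2, p3, -, -, -, -, -, -, -, -, pX, -, -, -⟩ := words_perm
  obtain ⟨g, hg, hgψ⟩ := S.ψ_surj _ (pk_mem (k := 6) (by norm_num))
  obtain ⟨M, hM⟩ := C.exists_rep (S.commz hg)
  have hN : Norm (S := S) g (permOf (pk 6)) := hgψ ▸ C.norm_of_mem hg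
  obtain ⟨e1, e2, e3, e4, -, e8, -, e12⟩ := hA_check
  have a0 := C.conjA hN hM (j := 0) (by norm_num) [3] (by decide) p0 (by decide +kernel)
  have a1 := C.conjA hN hM (j := 1) (by norm_num) [2, 3] (by decide) p1 (by decide +kernel)
  have a2 := C.conjA hN hM (j := 2) (by norm_num) [0] (by decide) p2 (by decide +kernel)
  have a3 := C.conjA hN hM (j := 3) (by norm_num) [0, 1] (by decide) p3 (by decide +kernel)
  rw [e8] at a0; rw [e12] at a1; rw [e1] at a2; rw [e3] at a3
  obtain ⟨d, hd, hdψ, hdR⟩ := C.lift_word [5] (by decide)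
  obtain ⟨i, hi, hX⟩ := C.conjW hN hM C.R.x_mem (u := [4]) (by rw [C.R.x_ψ, wordπ_single]) (C.lift_spec (k := 4) (by norm_num)).2.2 hd hdψ hdR pX
  rw [show evM mBase [5] = mY by decide +kernel] at hX
  change mm M mX = _ at hX
  have hT := C.comm_T hg hM
  have hcol : app M 1 = app (hA 12) (app M 64) ^^^ app M 64 := by
    rw [← app_mm, ← a1, app_mm, ← app_xor]; rfl
  have hbld : M = mkS i (app M 64) := by rw [mkS, ← hcol]; exact bldR_eq hM.ok hT hX
  have hq0 : qv (app M 64) = false := by rw [C.rep_qv hM (by norm_num)]; rfl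
  have hfix : app (hA 8) (app M 64) = app M 64 := by rw [← app_mm, ← a0, app_mm]; rfl
  have hok : okS i M = true := by
    simp only [okS, conjOK, Bool.and_eq_true, beq_iff_eq]
    refine ⟨⟨⟨⟨⟨⟨⟨⟨a0, a1⟩, a2⟩, a3⟩, hX⟩, hT⟩, C.iso_of_rep hM⟩, ?_⟩, ?_⟩
    · refine C.upto_of_word (fun k => if k = 6 then g else C.lift k) _ 7 (fun k hk => ?_) (by decide) (by decide)
        (by decide +kernel)
      interval_cases k
      all_goals first | exact ⟨hg, hgψ, hM⟩ | exact C.lift_spec (k := 0) (by norm_num) | exact C.lift_spec (k := 1) (by norm_num) | exact C.lift_spec (k := 2) (by norm_num) | exact C.lift_spec (k := 3) (by norm_num) | exact C.lift_spec (k := 4) (by norm_num) | exact C.lift_spec (k := 5) (by norm_num)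
    · refine C.upto_of_word (fun k => if k = 6 then g else C.lift k) _ 7 (fun k hk => ?_) (by decide) (by decide)
        (by decide +kernel)
      interval_cases k
      all_goals first | exact ⟨hg, hgψ, hM⟩ | exact C.lift_spec (k := 0) (by norm_num) | exact C.lift_spec (k := 1) (by norm_num) | exact C.lift_spec (k := 2) (by norm_num) | exact C.lift_spec (k := 3) (by norm_num) | exact C.lift_spec (k := 4) (by norm_num) | exact C.lift_spec (k := 5) (by norm_num)
  have h := List.all_eq_true.1 (List.all_eq_true.1 solveS i (List.mem_range.2 hi)) (app M 64)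
    (List.mem_range.2 (app_lt_of_ok hM.ok _))
  simp only [hq0, hfix, beq_self_eq_true, Bool.not_true, Bool.false_or, ← hbld, hok, inUpto, List.any_eq_true] at h
  obtain ⟨N, hN', hu⟩ := h
  have hNok : okMat N = true := (by decide +kernel : ∀ N ∈ listS, okMat N = true) N hN'
  obtain ⟨g', hg', hψ', hR'⟩ := C.adjust_mem hg hM hNok hu
  exact ⟨N, hN', g', hg', hψ'.trans hgψ, hR'⟩

theorem exists_w : ∃ M ∈ listW, ∃ g ∈ CP z P, S.ψ g = permOf (pk 7) ∧ C.Rep g M := by
  obtain ⟨-, -, -, -, p0, p1, p2, p3, -, -, -, -, -, -, -, -⟩ := words_perm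
  obtain ⟨g0, hg0, hgψ0⟩ := S.ψ_surj _ (pk_mem (k := 7) (by norm_num))
  obtain ⟨M0, hM0⟩ := C.exists_rep (S.commz hg0)
  obtain ⟨e1, e2, e3, e4, e7, e8, e10, e12⟩ := hA_check
  have facts : ∀ {g M}, g ∈ CP z P → S.ψ g = permOf (pk 7) → C.Rep g M →
      mm M (mA 0) = mm (hA 7) M ∧ mm M (mA 1) = mm (hA 2) M ∧ mm M (mA 2) = mm (hA 4) M ∧
      mm M (mA 3) = mm (hA 10) M := fun {g M} hg hgψ hM => by
    have hN : Norm (S := S) g (permOf (pk 7)) := hgψ ▸ C.norm_of_mem hg
    refine ⟨?_, ?_, ?_, ?_⟩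
    · rw [← e7]; exact C.conjA hN hM (j := 0) (by norm_num) [0, 1, 2] (by decide) p0 (by decide +kernel)
    · rw [← e2]; exact C.conjA hN hM (j := 1) (by norm_num) [1] (by decide) p1 (by decide +kernel)
    · rw [← e4]; exact C.conjA hN hM (j := 2) (by norm_num) [2] (by decide) p2 (by decide +kernel)
    · rw [← e10]; exact C.conjA hN hM (j := 3) (by norm_num) [1, 3] (by decide) p3 (by decide +kernel)
  -- normalise
  have hl0 : app M0 1 = 1 ∨ app M0 1 = 2 ∨ app M0 1 = 3 := by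
    obtain ⟨a0, a1, -, -⟩ := facts hg0 hgψ0 hM0
    have hu : app (hA 2) (app M0 64) ^^^ app M0 64 = app M0 1 := by rw [← app_mm, ← a1, app_mm, ← app_xor]; rfl
    have hf : app (hA 7) (app M0 64) = app M0 64 := by rw [← app_mm, ← a0, app_mm]; rfl
    have hne : app M0 1 ≠ 0 := fun e => by
      have h := hM0.eq 1 (by norm_num)
      rw [e, C.zero'] at h
      have h1 := congrArg (S.act g0⁻¹) h
      rw [map_zero, ← Module.End.mul_apply, S.act_inv_mul (S.commz hg0), Module.End.one_apply] at h1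
      exact absurd (C.inj 1 (by norm_num) 0 (by norm_num) (h1.trans C.zero'.symm)) (by norm_num)
    have hall : ((List.range 4096).all fun u => qv u || !(app (hA 7) u == u) ||
        decide (app (hA 2) u ^^^ u < 4)) = true := by decide +kernel
    have h := List.all_eq_true.1 hall (app M0 64) (List.mem_range.2 (app_lt_of_ok hM0.ok _))
    rw [C.rep_qv hM0 (by norm_num)] at h
    simp only [show qv 64 = false from rfl, hf, beq_self_eq_true, Bool.not_true, Bool.false_or, decide_eq_true_eq,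
      hu] at h
    omega
  obtain ⟨g, hg, hgψ, M, hM, hcol1⟩ : ∃ g ∈ CP z P, S.ψ g = permOf (pk 7) ∧ ∃ M, C.Rep g M ∧ app M 1 = 1 := by
    have adj : ∀ k < 3, app (mTp k) (app M0 1) = 1 →
        ∃ g ∈ CP z P, S.ψ g = permOf (pk 7) ∧ ∃ M, C.Rep g M ∧ app M 1 = 1 := fun k hk e =>
      ⟨_, mul_mem (pow_mem C.t_mem k) hg0,
        by rw [S.ψ_mul _ (pow_mem C.t_mem k) _ hg0, S.ψ_pow C.t_mem, C.t_ψ, one_pow, one_mul, hgψ0],
        _, C.rep_mul (C.rep_tpow hk) hM0, by rw [app_mm, e]⟩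
    rcases hl0 with e | e | e
    · exact adj 0 (by norm_num) (by rw [e]; decide +kernel)
    · exact adj 2 (by norm_num) (by rw [e]; decide +kernel)
    · exact adj 1 (by norm_num) (by rw [e]; decide +kernel)
  obtain ⟨a0, a1, a2, a3⟩ := facts hg hgψ hM
  have hT := C.comm_T hg hM
  have hw2 : upto (mm M M) mI = true := by
    obtain ⟨Ms, -, gs, hgs, hsψ, hsR⟩ := C.exists_s
    have h := C.upto_of_word (fun k => if k = 7 then g else if k = 6 then gs else C.lift k)
      (fun k => if k = 7 then M else if k = 6 then Ms else mBase k) 8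
      (fun k hk => by
        interval_cases k
        all_goals first | exact ⟨hg, hgψ, hM⟩ | exact ⟨hgs, hsψ, hsR⟩ | exact C.lift_spec (k := 0) (by norm_num) | exact C.lift_spec (k := 1) (by norm_num) | exact C.lift_spec (k := 2) (by norm_num) | exact C.lift_spec (k := 3) (by norm_num) | exact C.lift_spec (k := 4) (by norm_num) | exact C.lift_spec (k := 5) (by norm_num))
      (u := [7, 7]) (v := []) (by decide) (by decide) (by decide +kernel)
    simp only [evM, if_pos] at h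
    have e : mm M mI = M := by
      refine List.ext_getElem (by rw [okMat_length (okMat_mm hM.ok okMat_mI), okMat_length hM.ok]) fun i h1 h2 => ?_
      have hi : i < 12 := by rwa [okMat_length hM.ok] at h2
      rw [← List.getD_eq_getElem _ 0 h1, ← List.getD_eq_getElem _ 0 h2, getD_app (okMat_mm hM.ok okMat_mI) hi,
        getD_app hM.ok hi, app_mm, app_mI (Nat.pow_lt_pow_right (by norm_num) hi)]
    rwa [e] at h
  set u0 := app M 64 with hu0
  set u1 := app M 256 with hu1
  set u2 := app M 1024 with hu2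
  have lt : ∀ v, app M v < 4096 := app_lt_of_ok hM.ok
  have q0 : ∀ v < 4096, qv (app M v) = qv v := fun v hv => C.rep_qv hM hv
  have f0 : app (hA 7) u0 = u0 := by rw [hu0, ← app_mm, ← a0, app_mm]; rfl
  have n0 : app (hA 2) u0 ^^^ u0 = 1 := by rw [hu0, ← app_mm, ← a1, app_mm, ← app_xor]; exact hcol1
  have f1 : app (hA 2) u1 = u1 := by rw [hu1, ← app_mm, ← a1, app_mm]; rfl
  have f2 : app (hA 7) u2 = app (hA 2) u2 := by
    rw [hu2, ← app_mm, ← app_mm, ← a0, ← a1, app_mm, app_mm]; rfl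
  have n1 : app (hA 7) u1 ^^^ u1 = app M 4 := by rw [hu1, ← app_mm, ← a0, app_mm, ← app_xor]; rfl
  have n2 : app (hA 7) u2 ^^^ u2 = app M 16 := by rw [hu2, ← app_mm, ← a0, app_mm, ← app_xor]; rfl
  have n3 : app (hA 4) u0 ^^^ u0 = app M 4 ^^^ app M 16 := by
    rw [hu0, ← app_mm, ← a2, app_mm, ← app_xor, ← app_xor]; rfl
  have m0 : u0 ∈ candW0 := by
    have h := List.all_eq_true.1 candW0_check u0 (List.mem_range.2 (lt _))
    rw [q0 64 (by norm_num)] at h
    simpa [show qv 64 = false from rfl, f0, n0] using h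
  have m1 : u1 ∈ candW1 := by
    have h := List.all_eq_true.1 candW1_check u1 (List.mem_range.2 (lt _))
    rw [q0 256 (by norm_num)] at h
    simpa [show qv 256 = false from rfl, f1] using h
  have m2 : u2 ∈ candW2 := by
    have h := List.all_eq_true.1 candW2_check u2 (List.mem_range.2 (lt _))
    rw [q0 1024 (by norm_num)] at h
    simpa [show qv 1024 = false from rfl, f2] using h
  have hTc : ∀ v, app mT (app M v) = app M (app mT v) := fun v => by rw [← app_mm, ← hT, app_mm]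
  have hp : ∀ a b a' b', a < 4096 → b < 4096 → a' < 4096 → b' < 4096 →
      (qv (a ^^^ b) = false ∧ qv (a ^^^ app mT b) = false ∧ qv (a' ^^^ b) = false ∧ qv (a' ^^^ app mT b) = false ∧
        qv (a ^^^ b') = false ∧ qv (a ^^^ app mT b') = false) →
      pairW (app M a) (app M a') (app M b) (app M b') = true := by
    intro a b a' b' ha hb ha' hb' hh
    have hTok : okMat mT = true := by decide +kernel
    have x : ∀ c d, c < 4096 → d < 4096 → qv (app M c ^^^ app M d) = qv (c ^^^ d) := fun c d hc hd => by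
      rw [← app_xor, q0 _ (Nat.xor_lt_two_pow (n := 12) hc hd)]
    simp only [pairW, hTc, x _ _ ha hb, x _ _ ha (app_lt_of_ok hTok b), x _ _ ha' hb, x _ _ ha' (app_lt_of_ok hTok b),
      x _ _ ha hb', x _ _ ha (app_lt_of_ok hTok b'), hh.1, hh.2.1, hh.2.2.1, hh.2.2.2.1, hh.2.2.2.2.1, hh.2.2.2.2.2]
    rfl
  have p01 : pairW u0 1 u1 (app M 4) = true := by
    have h := hp 64 256 1 4 (by norm_num) (by norm_num) (by norm_num) (by norm_num) (by decide +kernel)
    rwa [hcol1] at h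
  have p02 : pairW u0 1 u2 (app M 16) = true := by
    have h := hp 64 1024 1 16 (by norm_num) (by norm_num) (by norm_num) (by norm_num) (by decide +kernel)
    rwa [hcol1] at h
  have p12 : pairW u1 (app M 4) u2 (app M 16) = true :=
    hp 256 1024 4 16 (by norm_num) (by norm_num) (by norm_num) (by norm_num) (by decide +kernel)
  have hbld : M = bld mT 1 (app M 4) (app M 16) u0 u1 u2 := by
    rw [← hcol1]; exact bld_eq hM.ok hT
  have hok : okW M = true := by
    simp only [okW, conjOK, Bool.and_eq_true, beq_iff_eq]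
    exact ⟨⟨⟨hw2, ⟨⟨a0, a1⟩, a2⟩, a3⟩, hT⟩, C.iso_of_rep hM⟩
  have h := List.all_eq_true.1 solveW u0 m0
  simp only [searchW, List.all_eq_true] at h
  have h := h u1 m1
  rw [n1, p01, n3] at h
  simp only [Bool.not_true, Bool.false_or, List.all_eq_true] at h
  have h := h u2 m2
  rw [show app M 4 ^^^ app M 16 ^^^ app M 4 = app M 16 by
    rw [Nat.xor_comm (app M 4), Nat.xor_assoc, Nat.xor_self, Nat.xor_zero], n2, p02, p12] at h
  simp only [beq_self_eq_true, Bool.not_true, Bool.false_or, ← hbld, hok, inUpto, List.any_eq_true] at h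
  obtain ⟨N, hN', hu⟩ := h
  have hNok : okMat N = true := (by decide +kernel : ∀ N ∈ listW, okMat N = true) N hN'
  obtain ⟨g', hg', hψ', hR'⟩ := C.adjust_mem hg hM hNok hu
  exact ⟨N, hN', g', hg', hψ'.trans hgψ, hR'⟩

theorem exists_q : ∃ M ∈ listQ, ∃ g ∈ CP z P, S.ψ g = permOf (pk 8) ∧ C.Rep g M := by
  obtain ⟨-, -, -, -, -, -, -, -, -, -, -, -, -, pX, pY, -⟩ := words_perm
  obtain ⟨g, hg, hgψ⟩ := S.ψ_surj _ (pk_mem (k := 8) (by norm_num))
  obtain ⟨M, hM⟩ := C.exists_rep (S.commz hg)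
  have hN : Norm (S := S) g (permOf (pk 8)) := hgψ ▸ C.norm_of_mem hg
  obtain ⟨d, hd, hdψ, hdR⟩ := C.lift_word [4, 5, 5] (by decide)
  obtain ⟨i, hi, hX⟩ := C.conjW hN hM C.R.x_mem (u := [4]) (by rw [C.R.x_ψ, wordπ_single]) (C.lift_spec (k := 4) (by norm_num)).2.2 hd hdψ hdR pX
  rw [show evM mBase [4, 5, 5] = mm mX (mm mY mY) by decide +kernel] at hX
  change mm M mX = _ at hX
  obtain ⟨d', hd', hdψ', hdR'⟩ := C.lift_word [4, 4, 5, 5] (by decide)
  obtain ⟨j, hj, hY⟩ := C.conjW hN hM C.R.y_mem (u := [5]) (by rw [C.R.y_ψ, wordπ_single]) (C.lift_spec (k := 5) (by norm_num)).2.2 hd' hdψ' hdR' pY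
  rw [show evM mBase [4, 4, 5, 5] = mm mX (mm mX (mm mY mY)) by decide +kernel] at hY
  change mm M mY = _ at hY
  have hT := C.comm_T hg hM
  have hbld : M = mkQ i (app M 1) (app M 64) := bldR_eq hM.ok hT hX
  have mem : ∀ v, app mY v = v → v < 4096 → qv v = false → app M v ∈ (List.range 4096).filter fun u =>
      !(qv u) && (app (mm (mTp j) (mm mX (mm mX (mm mY mY)))) u == u) := fun v hv hvlt hq => by
    refine List.mem_filter.2 ⟨List.mem_range.2 (app_lt_of_ok hM.ok _), ?_⟩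
    rw [C.rep_qv hM hvlt, hq, ← app_mm, ← hY, app_mm, hv]
    simp
  have hok : okQ i j M = true := by
    simp only [okQ, Bool.and_eq_true, beq_iff_eq]
    exact ⟨⟨⟨hX, hY⟩, hT⟩, C.iso_of_rep hM⟩
  have h := List.all_eq_true.1 (List.all_eq_true.1 (List.all_eq_true.1 (List.all_eq_true.1 solveQ i
    (List.mem_range.2 hi)) j (List.mem_range.2 hj)) _ (mem 1 rfl (by norm_num) rfl)) _ (mem 64 rfl (by norm_num) rfl)
  simp only [← hbld, hok, Bool.not_true, Bool.false_or, inUpto, List.any_eq_true] at h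
  obtain ⟨N, hN', hu⟩ := h
  have hNok : okMat N = true := (by decide +kernel : ∀ N ∈ listQ, okMat N = true) N hN'
  obtain ⟨g', hg', hψ', hR'⟩ := C.adjust_mem hg hM hNok hu
  exact ⟨N, hN', g', hg', hψ'.trans hgψ, hR'⟩

end Coord

/-- Coordinates with all the generators. -/
structure Full (S : Setting z P) extends Coord S where
  /-- normalising both -/
  s : G
  /-- in the hexad group -/
  w : G
  /-- normalising the three-group -/
  q : G
  /-- outer -/
  o : G
  s_mem : s ∈ CP z P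
  w_mem : w ∈ CP z P
  q_mem : q ∈ CP z P
  s_ψ : S.ψ s = permOf (pk 6)
  w_ψ : S.ψ w = permOf (pk 7)
  q_ψ : S.ψ q = permOf (pk 8)
  rs : toCoord.Rep s mS
  rw' : toCoord.Rep w mW
  rq : toCoord.Rep q mQ
  ro : toCoord.Rep o mO
  o_p : o * S.p * o⁻¹ = S.p * S.p
  o_norm : Coord.Norm (S := S) o (permOf (pk 9))

/-- The coordinates moved by the change of frame. -/
def Coord.regauge {S : Setting z P} (C : Coord S) : Coord S :=
  have hU : okMat mU = true ∧ mm mU mU = mI ∧ ∀ n < 4096, qv (app mU n) = qv n := by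
    have h := gauge_check
    simp only [Bool.and_eq_true, beq_iff_eq, List.all_eq_true, List.mem_range] at h
    exact ⟨h.1.2, h.1.1.2, of_decide_eq_true h.2⟩
  have hg : ∀ (g : G) (M : List ℕ), okMat M = true → gauge M = M →
      (∀ n < 4096, S.act g (C.Φ n) = C.Φ (app M n)) →
      ∀ n < 4096, S.act g (C.Φ (app mU n)) = C.Φ (app mU (app M n)) := fun g M hM hG h n hn => by
    rw [h _ (app_lt_of_ok hU.1 _)]
    conv_rhs => rw [← hG, gauge, app_mm, app_mm, ← app_mm mU mU, hU.2.1, app_mI (app_lt_of_ok hM _)]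
  { R := C.R
    a := C.a
    a_mem := C.a_mem
    a_ψ := C.a_ψ
    a_sq := C.a_sq
    Φ := fun n => C.Φ (app mU n)
    add := fun m n => by rw [app_xor, C.add]
    surj := fun v => by
      obtain ⟨n, hn, rfl⟩ := C.surj v
      exact ⟨app mU n, app_lt_of_ok hU.1 _, by rw [← app_mm, hU.2.1, app_mI hn]⟩
    inj := fun m hm n hn h => by
      have e := congrArg (app mU) (C.inj _ (app_lt_of_ok hU.1 _) _ (app_lt_of_ok hU.1 _) h)
      rwa [← app_mm, ← app_mm, hU.2.1, app_mI hm, app_mI hn] at e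
    form := fun n hn => by rw [C.form _ (app_lt_of_ok hU.1 _), hU.2.2 n hn]
    rT := hg _ _ (by decide +kernel) (by
      have h := gauge_check; simp only [Bool.and_eq_true, beq_iff_eq] at h; exact h.1.1.1.1.1.1.1.2) C.rT
    rX := hg _ _ (by decide +kernel) (by
      have h := gauge_check; simp only [Bool.and_eq_true, beq_iff_eq] at h; exact h.1.1.1.1.1.1.1.1.1) C.rX
    rY := hg _ _ (by decide +kernel) (by
      have h := gauge_check; simp only [Bool.and_eq_true, beq_iff_eq] at h; exact h.1.1.1.1.1.1.1.1.2) C.rY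
    rA := fun i hi => hg _ _ (by interval_cases i <;> decide +kernel) (by
      have h := gauge_check; simp only [Bool.and_eq_true, beq_iff_eq] at h
      interval_cases i
      · exact h.1.1.1.1.1.1.2
      · exact h.1.1.1.1.1.2
      · exact h.1.1.1.1.2
      · exact h.1.1.1.2) (C.rA i hi) }

theorem Coord.rep_regauge {S : Setting z P} {C : Coord S} {g : G} {M : List ℕ} (h : C.Rep g M) :
    C.regauge.Rep g (gauge M) := by
  have hh := gauge_check
  simp only [Bool.and_eq_true, beq_iff_eq] at hh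
  have hU : okMat mU = true := hh.1.2
  refine ⟨h.hz, okMat_mm (okMat_mm hU h.ok) hU, fun n hn => ?_⟩
  show S.act g (C.Φ (app mU n)) = C.Φ (app mU (app (gauge M) n))
  rw [h.eq _ (app_lt_of_ok hU _), gauge, app_mm, app_mm, ← app_mm mU mU, hh.1.1.2, app_mI (app_lt_of_ok h.ok _)]

variable [Finite G]

theorem Coord.exists_o {S : Setting z P} (C : Coord S) {gs gw : G} (hgs : gs ∈ CP z P) (hgw : gw ∈ CP z P)
    (hsψ : S.ψ gs = permOf (pk 6)) (hwψ : S.ψ gw = permOf (pk 7)) (hsR : C.Rep gs mS) (hwR : C.Rep gw mW) :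
    ∃ o, o * S.p * o⁻¹ = S.p * S.p ∧ C.Rep o mO ∧ Coord.Norm (S := S) o (permOf (pk 9)) := by
  obtain ⟨-, -, -, -, -, -, -, -, p0, p1, p2, p3, -, -, -, pX⟩ := Coord.words_perm
  obtain ⟨M, hM⟩ := C.exists_rep S.oz
  have hN := C.norm_o
  obtain ⟨e1, e2, e3, e4, -, e8, -, e12⟩ := hA_check
  have a0 := C.conjA hN hM (j := 0) (by norm_num) [2] (by decide) p0 (by decide +kernel)
  have a1 := C.conjA hN hM (j := 1) (by norm_num) [3] (by decide) p1 (by decide +kernel)
  have a2 := C.conjA hN hM (j := 2) (by norm_num) [0] (by decide) p2 (by decide +kernel)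
  have a3 := C.conjA hN hM (j := 3) (by norm_num) [1] (by decide) p3 (by decide +kernel)
  rw [e4] at a0; rw [e8] at a1; rw [e1] at a2; rw [e2] at a3
  obtain ⟨d, hd, hdψ, hdR⟩ := C.lift_word [5] (by decide)
  obtain ⟨i, hi, hX⟩ := C.conjW hN hM C.R.x_mem (u := [4]) (by rw [C.R.x_ψ, wordπ_single]) (C.lift_spec (k := 4) (by norm_num)).2.2 hd hdψ hdR pX
  rw [show evM mBase [5] = mY by decide +kernel] at hX
  change mm M mX = _ at hX
  have hT := C.o_T hM
  have hcol : app M 1 = app (hA 8) (app M 64) ^^^ app M 64 := by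
    rw [← app_mm, ← a1, app_mm, ← app_xor]; rfl
  have hbld : M = mkO i (app M 64) := by rw [mkO, ← hcol]; exact bldR_eq hM.ok hT hX
  have hq0 : qv (app M 64) = false := by rw [C.rep_qv hM (by norm_num)]; rfl
  have hfix : app (hA 4) (app M 64) = app M 64 := by rw [← app_mm, ← a0, app_mm]; rfl
  let gl : ℕ → G := fun k => if k = 6 then gs else if k = 7 then gw else C.lift k
  have hgl : ∀ k < 8, gl k ∈ CP z P ∧ S.ψ (gl k) = permOf (pk k) ∧ C.Rep (gl k) (asg mS mW mI k) := fun k hk => by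
    interval_cases k
    all_goals first | exact ⟨hgs, hsψ, hsR⟩ | exact ⟨hgw, hwψ, hwR⟩ | exact C.lift_spec (k := 0) (by norm_num) | exact C.lift_spec (k := 1) (by norm_num) | exact C.lift_spec (k := 2) (by norm_num) | exact C.lift_spec (k := 3) (by norm_num) | exact C.lift_spec (k := 4) (by norm_num) | exact C.lift_spec (k := 5) (by norm_num)
  obtain ⟨u1, u1ψ, u1R⟩ := C.rep_word gl _ 8 hgl [4, 4, 6, 6, 6] (by decide)
  obtain ⟨u2, u2ψ, u2R⟩ := C.rep_word gl _ 8 hgl [4, 4, 5, 7, 6] (by decide)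
  obtain ⟨v2, v2ψ, v2R⟩ := C.rep_word gl _ 8 hgl [7, 6] (by decide)
  obtain ⟨k1, hk1, r1⟩ := C.conjW hN hM hgs (u := [6]) (by rw [hsψ, wordπ_single]) hsR u1 u1ψ u1R (by decide +kernel)
  obtain ⟨k2, hk2, r2⟩ := C.conjW hN hM v2 v2ψ v2R u2 u2ψ u2R (by decide +kernel)
  have hassoc : ∀ {A B D : List ℕ}, okMat D = true → mm (mm A B) D = mm A (mm B D) := fun {A B D} _ => by
    simp only [mm, List.map_map]
    exact List.map_congr_left fun c _ => app_mm A B c
  have hok : okO i M = true := by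
    simp only [okO, conjOK, Bool.and_eq_true, beq_iff_eq]
    refine ⟨⟨⟨⟨⟨⟨⟨⟨a0, a1⟩, a2⟩, a3⟩, hX⟩, hT⟩, C.iso_of_rep hM⟩, ?_⟩, ?_⟩
    · exact upto_iff.2 ⟨k1, hk1, by rw [r1, hassoc hM.ok]⟩
    · exact upto_iff.2 ⟨k2, hk2, by rw [r2, hassoc hM.ok]⟩
  have h := List.all_eq_true.1 (List.all_eq_true.1 solveO i (List.mem_range.2 hi)) (app M 64)
    (List.mem_range.2 (app_lt_of_ok hM.ok _))
  simp only [hq0, hfix, beq_self_eq_true, Bool.not_true, Bool.false_or, ← hbld, hok] at h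
  obtain ⟨k, -, hk⟩ := C.adjust hM (by decide +kernel) h
  have htc : ∀ c ∈ CP z P, C.R.t ^ k * c = c * C.R.t ^ k := fun c hc =>
    ((show Commute C.R.t c from S.ker_central C.t_mem C.t_ψ hc).pow_left k).eq
  refine ⟨C.R.t ^ k * S.o, ?_, hk, ⟨hk.hz, fun c hc => ?_, fun c hc => ?_⟩⟩
  · calc C.R.t ^ k * S.o * S.p * (C.R.t ^ k * S.o)⁻¹ = C.R.t ^ k * (S.o * S.p * S.o⁻¹) * (C.R.t ^ k)⁻¹ := by group
      _ = _ := by rw [S.op, htc _ (mul_mem S.p_mem S.p_mem), mul_inv_cancel_right]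
  all_goals
    have e : C.R.t ^ k * S.o * c * (C.R.t ^ k * S.o)⁻¹ = S.o * c * S.o⁻¹ := by
      rw [show C.R.t ^ k * S.o * c * (C.R.t ^ k * S.o)⁻¹ = C.R.t ^ k * (S.o * c * S.o⁻¹) * (C.R.t ^ k)⁻¹ by group,
        htc _ (C.o_conj_mem hc), mul_inv_cancel_right]
    rw [e]
  · exact C.o_conj_mem hc
  · exact S.ψ_o c hc

set_option maxHeartbeats 1000000 in
theorem exists_full (S : Setting z P) : Nonempty (Full S) := by
  obtain ⟨C⟩ := exists_coord S
  obtain ⟨Ms, hMs, gs, hgs, hsψ, hsR⟩ := C.exists_s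
  obtain ⟨Mw, hMw, gw, hgw, hwψ, hwR⟩ := C.exists_w
  obtain ⟨Mq, hMq, gq, hgq, hqψ, hqR⟩ := C.exists_q
  have h2 : relSW Ms Mw = true := C.upto_of_word (fun k => if k = 6 then gs else if k = 7 then gw else C.lift k)
    (asg Ms Mw mI) 8 (fun k hk => by
      interval_cases k
      all_goals first | exact ⟨hgs, hsψ, hsR⟩ | exact ⟨hgw, hwψ, hwR⟩ | exact C.lift_spec (k := 0) (by norm_num) | exact C.lift_spec (k := 1) (by norm_num) | exact C.lift_spec (k := 2) (by norm_num) | exact C.lift_spec (k := 3) (by norm_num) | exact C.lift_spec (k := 4) (by norm_num) | exact C.lift_spec (k := 5) (by norm_num))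
    (by decide) (by decide) (by decide +kernel)
  have hmem := List.all_eq_true.1 (List.all_eq_true.1 solveSW Ms hMs) Mw hMw
  rw [h2] at hmem
  simp only [Bool.not_true, Bool.false_or, List.contains_iff_mem] at hmem
  have h3 : relQ Ms Mw Mq = true :=
    C.rel_word (u := [6, 4, 5, 0, 4, 8, 7, 6, 4, 5, 0, 4, 8, 7, 6, 4, 5, 0, 4, 8, 7, 6, 4, 5, 0, 4, 8, 7]) (v := [])
      ⟨hgs, hsψ, hsR⟩ ⟨hgw, hwψ, hwR⟩ ⟨hgq, hqψ, hqR⟩ (by decide) (by decide) (by decide +kernel)
  have h := List.all_eq_true.1 (List.all_eq_true.1 solveSWQ _ hmem) Mq hMq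
  simp only [h3, Bool.not_true, Bool.false_or, Bool.or_eq_true, Bool.and_eq_true] at h
  have finish : ∀ (D : Coord S) (Ns Nw Nq : List ℕ), D.Rep gs Ns → D.Rep gw Nw → D.Rep gq Nq →
      upto Ns mS = true → upto Nw mW = true → upto Nq mQ = true → Nonempty (Full S) := by
    intro D Ns Nw Nq r1 r2 r3 u1 u2 u3
    obtain ⟨s, hs, hs', hsr⟩ := D.adjust_mem hgs r1 (by decide +kernel) u1
    obtain ⟨w, hw, hw', hwr⟩ := D.adjust_mem hgw r2 (by decide +kernel) u2
    obtain ⟨q, hq, hq', hqr⟩ := D.adjust_mem hgq r3 (by decide +kernel) u3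
    obtain ⟨o, ho, hor, hon⟩ := D.exists_o hs hw (hs'.trans hsψ) (hw'.trans hwψ) hsr hwr
    exact ⟨{ toCoord := D, s := s, w := w, q := q, o := o, s_mem := hs, w_mem := hw, q_mem := hq,
             s_ψ := hs'.trans hsψ, w_ψ := hw'.trans hwψ, q_ψ := hq'.trans hqψ, rs := hsr, rw' := hwr, rq := hqr,
             ro := hor, o_p := ho, o_norm := hon }⟩
  rcases h with ⟨⟨u1, u2⟩, u3⟩ | ⟨⟨u1, u2⟩, u3⟩
  · exact finish C _ _ _ hsR hwR hqR u1 u2 u3
  · exact finish C.regauge _ _ _ (Coord.rep_regauge hsR) (Coord.rep_regauge hwR) (Coord.rep_regauge hqR) u1 u2 u3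

end Cfsg.Agent.Spor.JFour
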