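import Cfsg.Agent.Lib.Spor.JFourType.OrbitExcl
import Cfsg.Agent.Lib.Spor.JFourType.FusionMain

/-!
Involutions of the centraliser of the three-group fix many elements of the core; the involution is isolated in the
centraliser of the three-group; the map of the inner part of the centraliser onto the simple group.
-/

set_option autoImplicit false
set_option maxRecDepth 100000
set_option linter.style.haveILetI false

open Cfsg Cfsg.Agent.Spor.Golay
open Cfsg.Agent.Spor.Cos.J4Sub (app mm app_mm app_xor app_zero)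
open scoped commutatorElement

namespace Cfsg.Agent.Spor.JFour

variable {G : Type*} [Group G] {z : G} {P : Subgroup G} [Finite G]

namespace Setting

variable (S : Setting z P)
include S

/-- Conjugation in the centraliser acts on the scalars. -/
theorem p_in_P : S.p ∈ P := (SetLike.ext_iff.1 S.hP S.p).2 (Subgroup.mem_zpowers _)

omit [Finite G] in
theorem mem_P {x : G} : x ∈ P ↔ x ∈ Subgroup.zpowers S.p := SetLike.ext_iff.1 S.hP x

/-- Conjugation in the centraliser acts on the scalars. -/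
theorem act_conj_p {h : G} (hh : h * z = z * h) :
    S.act h * S.act S.p = S.act S.p * S.act h ∨ S.act h * S.act S.p = S.act S.p * S.act S.p * S.act h := by
  rcases S.inner_cases hh with hi | hi
  · exact Or.inl (S.act_inner hi)
  · refine Or.inr ?_
    have hiz := Subgroup.mem_centralizer_singleton_iff.1 (S.inner_le hi)
    have e : S.o * S.p = S.p * S.p * S.o := by rw [← S.op, inv_mul_cancel_right]
    have hopp : S.act S.o * S.act S.p = S.act S.p * S.act S.p * S.act S.o := by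
      rw [← S.act_mul _ _ S.oz S.pz, e, S.act_mul _ _ S.pp_z S.oz, S.act_mul _ _ S.pz S.pz]
    have h1 := S.act_inner hi
    rw [show S.act h = S.act (h * S.o⁻¹) * S.act S.o by rw [← S.act_mul _ _ hiz S.oz, inv_mul_cancel_right],
      mul_assoc, hopp]
    simp only [← mul_assoc]
    rw [h1, mul_assoc (S.act S.p), h1, ← mul_assoc]

/-- An element acting as a scalar with trivial fourth power lies in the core. -/
theorem mem_E_of_scalar {c : G} (hc : c * z = z * c)
    (ha : S.act c = 1 ∨ S.act c = S.act S.p ∨ S.act c = S.act S.p * S.act S.p) (h4 : c * c * (c * c) = 1) :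
    c ∈ twoCoreOfCentralizer z := by
  refine (S.act_ker c hc).1 ?_
  have hcc : c * c * z = z * (c * c) := ((show Commute c z from hc).mul_left hc).eq
  have h := congrArg S.act h4
  rw [S.act_mul _ _ hcc hcc, S.act_mul _ _ hc hc, S.act_one] at h
  have hp := S.act_p_pow
  rcases ha with e | e | e
  · exact e
  · rw [e, show S.act S.p * S.act S.p * (S.act S.p * S.act S.p) = S.act S.p * S.act S.p * S.act S.p * S.act S.p by
      simp only [mul_assoc], hp, one_mul] at h
    exact absurd h S.act_p_ne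
  · rw [e] at h
    simp only [← mul_assoc] at h
    rw [hp, one_mul, hp, one_mul] at h
    rw [e, h]

/-- An element of the core is a commutator with the three-element up to the centre. -/
theorem comm_surj {m : G} (hm : m ∈ twoCoreOfCentralizer z) (ho : S.orb m = 1) :
    ∃ e ∈ twoCoreOfCentralizer z, e * (S.p * e⁻¹ * S.p⁻¹) = m := by
  have hinj : Function.Injective fun v : V12 => v + S.act S.p v := fun a b e => by
    have h0 : S.act S.p (a + b) = a + b := by
      rw [map_add]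
      funext i
      have hi := congrFun e i
      simp only [Pi.add_apply] at hi ⊢
      generalize S.act S.p a i = u at hi ⊢
      generalize S.act S.p b i = v at hi ⊢
      generalize a i = s at hi ⊢
      generalize b i = t at hi ⊢
      revert hi u v s t
      decide
    have h1 := S.p_fpf h0
    funext i
    have hi := congrFun h1 i
    simp only [Pi.add_apply, Pi.zero_apply] at hi
    generalize a i = s at hi ⊢
    generalize b i = t at hi ⊢
    revert hi s t
    decide
  obtain ⟨v, hv⟩ := (Finite.injective_iff_surjective.1 hinj) (S.rep m)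
  obtain ⟨e, he, er⟩ := S.rep_surj v
  have hpe : S.p * e⁻¹ * S.p⁻¹ ∈ twoCoreOfCentralizer z := S.ext.norm _ S.pz _ (inv_mem he)
  have hfe := mul_mem he hpe
  have hr : S.rep (e * (S.p * e⁻¹ * S.p⁻¹)) = S.rep m := by
    rw [S.rep_mul _ he _ hpe, ← S.act_rep _ S.pz _ (inv_mem he), S.rep_inv he, er]
    exact hv
  refine ⟨e, he, (S.eq_or_mul_z hm hfe hr.symm).resolve_right fun h => ?_⟩
  have h1 : S.orb (e * (S.p * e⁻¹ * S.p⁻¹)) = 1 := by
    rw [orb]
    calc _ = e * (S.p * S.p * S.p) * e⁻¹ * (S.p * S.p * S.p)⁻¹ := by group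
      _ = 1 := by rw [S.p_pow]; group
  rw [h, S.orb_mul_z hm, ho, one_mul] at h1
  exact S.ext.ne h1

/-- An element of order three acting as the generator is conjugate to it by the core. -/
theorem conj_of_act_eq {g : G} (hg : g * z = z * g) (h3 : g * g * g = 1) (ha : S.act g = S.act S.p) :
    ∃ e ∈ twoCoreOfCentralizer z, e * S.p * e⁻¹ = g := by
  have hpi : S.p⁻¹ * z = z * S.p⁻¹ := conj_inv_comm S.pz
  have hm : g * S.p⁻¹ ∈ twoCoreOfCentralizer z :=
    (S.act_ker _ ((show Commute g z from hg).mul_left (show Commute S.p⁻¹ z from hpi)).eq).1 (by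
      rw [S.act_mul _ _ hg hpi, ha, S.act_mul_inv S.pz])
  have hp2 : (S.p * S.p)⁻¹ = S.p := inv_eq_of_mul_eq_one_right S.p_pow
  obtain ⟨e, he, ee⟩ := S.comm_surj hm (by
    rw [orb, hp2]
    calc g * S.p⁻¹ * (S.p * (g * S.p⁻¹) * S.p⁻¹) * (S.p * S.p * (g * S.p⁻¹) * S.p)
        = g * g * g := by group
      _ = 1 := h3)
  refine ⟨e, he, ?_⟩
  calc e * S.p * e⁻¹ = e * (S.p * e⁻¹ * S.p⁻¹) * S.p := by group
    _ = g := by rw [ee, inv_mul_cancel_right]

/-- An element of order three acting as a scalar is conjugate into the three-group by the core. -/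
theorem conj_to_P {g : G} (hg : g * z = z * g) (h3 : g * g * g = 1)
    (ha : S.act g = S.act S.p ∨ S.act g = S.act S.p * S.act S.p) :
    ∃ e ∈ twoCoreOfCentralizer z, e⁻¹ * g * e ∈ P := by
  rcases ha with ha | ha
  · obtain ⟨e, he, ee⟩ := S.conj_of_act_eq hg h3 ha
    refine ⟨e, he, ?_⟩
    rw [← ee, show e⁻¹ * (e * S.p * e⁻¹) * e = S.p by group]
    exact S.p_in_P
  · have hgg : g * g * z = z * (g * g) := ((show Commute g z from hg).mul_left hg).eq
    obtain ⟨e, he, ee⟩ := S.conj_of_act_eq hgg (by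
      rw [show g * g * (g * g) * (g * g) = g * g * g * (g * g * g) by group, h3, one_mul]) (by
      rw [S.act_mul _ _ hg hg, ha]
      simp only [← mul_assoc]
      rw [S.act_p_pow, one_mul])
    refine ⟨e, he, ?_⟩
    have hge : g = e * (S.p * S.p) * e⁻¹ := by
      calc g = g * g * (g * g) := by rw [show g * g * (g * g) = g * g * g * g by group, h3, one_mul]
        _ = e * S.p * e⁻¹ * (e * S.p * e⁻¹) := by rw [ee]
        _ = _ := by group
    rw [hge, show e⁻¹ * (e * (S.p * S.p) * e⁻¹) * e = S.p * S.p by group]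
    exact mul_mem S.p_in_P S.p_in_P

/-- A lift into the centraliser of the three-group. -/
def Lift (_S : Setting z P) (g c : G) : Prop := c ∈ CP z P ∧ c⁻¹ * g ∈ twoCoreOfCentralizer z

/-- The map of the inner part onto the simple group. -/
noncomputable def θ (g : G) : Equiv.Perm GolayPt :=
  @dite _ (∃ c, S.Lift g c) (_root_.Classical.propDecidable _) (fun h => S.ψ h.choose) fun _ => 1

omit [Finite G] in
theorem exists_lift {g : G} (hg : g ∈ innerH z P) : ∃ c, S.Lift g c := by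
  obtain ⟨c, hc, m, hm, rfl⟩ := S.mem_inner.1 hg
  exact ⟨c, hc, by rwa [inv_mul_cancel_left]⟩

omit [Finite G] in
theorem θ_eq {g c : G} (hc : S.Lift g c) : S.θ g = S.ψ c := by
  have h : ∃ d, S.Lift g d := ⟨c, hc⟩
  rw [θ, dif_pos h]
  obtain ⟨hd, hdm⟩ := h.choose_spec
  set d := h.choose
  have hm : d⁻¹ * c ∈ twoCoreOfCentralizer z := by
    have := mul_mem hdm (inv_mem hc.2)
    rwa [show d⁻¹ * g * (c⁻¹ * g)⁻¹ = d⁻¹ * c by group] at this
  have hdc : d⁻¹ * c ∈ CP z P := mul_mem (inv_mem hd) hc.1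
  have h1 : S.ψ (d⁻¹ * c) = 1 := by
    rcases S.fix _ hm (S.mem_iff.1 hdc).2.symm with e | e <;> rw [e]
    exacts [S.ψ_one, S.ψ_z]
  rw [S.ψ_mul _ (inv_mem hd) _ hc.1, S.ψ_inv hd, inv_mul_eq_one] at h1
  exact h1

omit [Finite G] in
theorem θ_of_mem {c : G} (hc : c ∈ CP z P) : S.θ c = S.ψ c :=
  S.θ_eq ⟨hc, by rw [inv_mul_cancel]; exact one_mem _⟩

omit [Finite G] in
theorem θ_mem {g : G} (hg : g ∈ innerH z P) : S.θ g ∈ Cfsg.Spor.M22 := by
  obtain ⟨c, hc⟩ := S.exists_lift hg
  rw [S.θ_eq hc]; exact S.ψ_mem c hc.1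

omit [Finite G] in
theorem θ_mul {g h : G} (hg : g ∈ innerH z P) (hh : h ∈ innerH z P) : S.θ (g * h) = S.θ g * S.θ h := by
  obtain ⟨c, hc, hcm⟩ := S.exists_lift hg
  obtain ⟨d, hd, hdm⟩ := S.exists_lift hh
  rw [S.θ_eq ⟨hc, hcm⟩, S.θ_eq ⟨hd, hdm⟩, ← S.ψ_mul _ hc _ hd]
  refine S.θ_eq ⟨mul_mem hc hd, ?_⟩
  rw [show (c * d)⁻¹ * (g * h) = (d⁻¹ * (c⁻¹ * g) * d) * (d⁻¹ * h) by group]
  refine mul_mem ?_ hdm
  have := S.ext.norm d⁻¹ (conj_inv_comm (S.commz hd)) _ hcm
  rwa [inv_inv] at this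

omit [Finite G] in
theorem θ_one : S.θ 1 = 1 := by rw [S.θ_of_mem (one_mem _), S.ψ_one]

omit [Finite G] in
theorem θ_inv {g : G} (hg : g ∈ innerH z P) : S.θ g⁻¹ = (S.θ g)⁻¹ :=
  eq_inv_of_mul_eq_one_left (by rw [← S.θ_mul (inv_mem hg) hg, inv_mul_cancel, S.θ_one])

omit [Finite G] in
theorem θ_conj {g h : G} (hg : g ∈ innerH z P) (hh : h ∈ innerH z P) :
    S.θ (h * g * h⁻¹) = S.θ h * S.θ g * (S.θ h)⁻¹ := by
  rw [S.θ_mul (mul_mem hh hg) (inv_mem hh), S.θ_mul hh hg, S.θ_inv hh]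

omit [Finite G] in
theorem θ_core {m : G} (hm : m ∈ twoCoreOfCentralizer z) : S.θ m = 1 := by
  rw [S.θ_eq (c := 1) ⟨one_mem _, by rwa [inv_one, one_mul]⟩, S.ψ_one]

/-- The kernel acts as scalars. -/
theorem scalar_of_θ {g : G} (hg : g ∈ innerH z P) (h : S.θ g = 1) :
    S.act g = 1 ∨ S.act g = S.act S.p ∨ S.act g = S.act S.p * S.act S.p := by
  obtain ⟨c, hc, hcm⟩ := S.exists_lift hg
  rw [S.θ_eq ⟨hc, hcm⟩] at h
  have hmz := S.ext.central _ hcm
  rw [show g = c * (c⁻¹ * g) by group, S.act_mul _ _ (S.commz hc) hmz, S.act_eq_one hmz hcm, mul_one]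
  exact S.act_scalar hc h

omit [Finite G] in
/-- An element outside the core with trivial square is not in the kernel. -/
theorem θ_ne {g : G} (hg : g ∈ innerH z P) (h2 : g * g = 1) (hE : g ∉ twoCoreOfCentralizer z) [Finite G] :
    S.θ g ≠ 1 := fun h =>
  hE (S.mem_E_of_scalar (Subgroup.mem_centralizer_singleton_iff.1 (S.inner_le hg)) (S.scalar_of_θ hg h)
    (by rw [h2, one_mul]))

end Setting

namespace Frame

variable {S : Setting z P} (Fr : Frame S)

/-- Inner involutions outside the core are conjugate to elements acting as the first lift. -/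
theorem exists_conj_a0 {v : G} (hv : v ∈ innerH z P) (hv2 : v * v = 1) (hvE : v ∉ twoCoreOfCentralizer z) :
    ∃ k, k * z = z * k ∧ Fr.F.Rep (k * v * k⁻¹) (mA 0) := by
  have hvz := Subgroup.mem_centralizer_singleton_iff.1 (S.inner_le hv)
  obtain ⟨h, hh, hT⟩ := Fr.F.exists_conj_mem_T hvz hv2
  set w := h * v * h⁻¹ with hw
  have hwi : w ∈ innerH z P := inner_conj S hh hv
  have hwz := Subgroup.mem_centralizer_singleton_iff.1 (S.inner_le hwi)
  have hwE : w ∉ twoCoreOfCentralizer z := fun hm => hvE (by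
    have := S.ext.norm h⁻¹ (conj_inv_comm hh) _ hm
    rwa [show h⁻¹ * (h * v * h⁻¹) * h⁻¹⁻¹ = v by group] at this)
  obtain ⟨e, he, hr⟩ := hT
  have he0 : e ≠ 0 := fun e0 => hwE ((Fr.F.toCoord.rep_mI_iff).1 (tbEl_check.2 ▸ e0 ▸ hr))
  have hee : bm e e = 0 := tbEl_inj (bm_lt he he) (by norm_num) (by
    rw [← tbEl_mul he he, tbEl_check.2]
    exact Fr.F.toCoord.rep_sq_one hr (by
      rw [hw, show h * v * h⁻¹ * (h * v * h⁻¹) = h * (v * v) * h⁻¹ by group, hv2]; group))
  have hcT : mm (tbEl e) mT = mm mT (tbEl e) := by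
    have htz := S.commz Fr.F.toCoord.t_mem
    obtain ⟨c, hc, m, hm, ev⟩ := S.mem_inner.1 hwi
    refine Fr.F.toCoord.rep_unique (Fr.F.toCoord.rep_mul hr Fr.F.toCoord.rep_t) ?_
    refine ⟨((show Commute w z from hwz).mul_left htz).eq, okMat_mm (by decide +kernel) hr.ok, fun n hn => ?_⟩
    rw [app_mm, ← Fr.F.toCoord.rep_t.eq _ (app_lt_of_ok hr.ok _), ← hr.eq n hn, ← Module.End.mul_apply,
      ← S.act_mul _ _ htz hr.hz, ev]
    have hmz := S.ext.central m hm
    have hct : c * Fr.F.R.t = Fr.F.R.t * c := (S.ker_central Fr.F.toCoord.t_mem Fr.F.toCoord.t_ψ hc).symm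
    rw [S.act_mul _ _ (((show Commute c z from S.commz hc).mul_left hmz).eq) htz,
      S.act_mul _ _ (S.commz hc) hmz, S.act_eq_one hmz hm, mul_one, ← S.act_mul _ _ (S.commz hc) htz, hct,
      show Fr.F.R.t * (c * m) = (Fr.F.R.t * c) * m by group, S.act_mul _ _
      (((show Commute Fr.F.R.t z from htz).mul_left (S.commz hc)).eq) hmz, S.act_eq_one hmz hm, mul_one]
  have hch := List.all_eq_true.1 conj_check e (List.mem_range.2 he)
  simp only [hee, hcT, beq_self_eq_true, Bool.not_true, Bool.false_or, Bool.or_eq_true, beq_iff_eq, he0,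
    Bool.false_eq_true, false_or, List.any_eq_true, Bool.and_eq_true, List.all_eq_true, decide_eq_true_eq] at hch
  obtain ⟨p, -, ⟨-, hp⟩, hmat⟩ := hch
  let gl : ℕ → G := fun k => if k = 6 then Fr.F.s else if k = 7 then Fr.F.w else if k = 8 then Fr.F.q else Fr.F.toCoord.lift k
  obtain ⟨cC, -, hcr⟩ := Fr.F.toCoord.rep_word gl (asg mS mW mQ) 9 (fun k hk => by
    interval_cases k
    exacts [Fr.F.toCoord.lift_spec (k := 0) (by norm_num), Fr.F.toCoord.lift_spec (k := 1) (by norm_num),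
      Fr.F.toCoord.lift_spec (k := 2) (by norm_num), Fr.F.toCoord.lift_spec (k := 3) (by norm_num),
      Fr.F.toCoord.lift_spec (k := 4) (by norm_num), Fr.F.toCoord.lift_spec (k := 5) (by norm_num),
      ⟨Fr.F.s_mem, Fr.F.s_ψ, Fr.F.rs⟩, ⟨Fr.F.w_mem, Fr.F.w_ψ, Fr.F.rw'⟩, ⟨Fr.F.q_mem, Fr.F.q_ψ, Fr.F.rq⟩]) p.2 hp
  set c := (p.2.map gl).prod
  have hci := conj_inv_comm (S.commz cC)
  obtain ⟨N, hN⟩ := Fr.F.toCoord.exists_rep (S.commz (inv_mem cC))
  have hNM : mm N (evM (asg mS mW mQ) p.2) = mI :=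
    Fr.F.toCoord.rep_unique (Fr.F.toCoord.rep_mul hN hcr) (by rw [inv_mul_cancel]; exact Fr.F.toCoord.rep_one)
  refine ⟨c⁻¹ * h, ((show Commute c⁻¹ z from hci).mul_left hh).eq, ?_⟩
  rw [show c⁻¹ * h * v * (c⁻¹ * h)⁻¹ = c⁻¹ * w * c by rw [hw]; group]
  have h3 := Fr.F.toCoord.rep_mul (Fr.F.toCoord.rep_mul hN hr) hcr
  rw [mm_assoc, ← hmat, ← mm_assoc, hNM] at h3
  rwa [show mm mI (mA 0) = mA 0 by decide +kernel] at h3

include Fr in
/-- Involutions of the centraliser of the three-group centralise 2⁹ elements of the core. -/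
theorem card_centE {v : G} (hv : v ∈ CP z P) (hv2 : v * v = 1) (hne : v ≠ 1) (hvz : v ≠ z) :
    2 ^ 9 ≤ Nat.card ↥(twoCoreOfCentralizer z ⊓ Subgroup.centralizer ({v} : Set G)) := by
  classical
  have hvE : v ∉ twoCoreOfCentralizer z := fun hm => by
    rcases S.fix v hm (S.mem_iff.1 hv).2.symm with e | e
    exacts [hne e, hvz e]
  obtain ⟨k, hk, hr⟩ := Fr.exists_conj_a0 (Subgroup.mem_sup_left hv) hv2 hvE
  have hki := conj_inv_comm hk
  have hkl : ∀ n, k⁻¹ * Fr.F.lh n * k ∈ twoCoreOfCentralizer z := fun n => by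
    have := S.ext.norm k⁻¹ hki _ (Fr.F.toCoord.lh_spec n).1
    rwa [inv_inv] at this
  have hmem : ∀ n ∈ fixA, ∀ e : Bool,
      k⁻¹ * (Fr.F.lh n * zp z e) * k ∈ twoCoreOfCentralizer z ⊓ Subgroup.centralizer ({v} : Set G) := by
    intro n hn e
    have hn' := List.all_eq_true.1 fix_check.1 n hn
    simp only [Bool.and_eq_true, decide_eq_true_eq, beq_iff_eq] at hn'
    obtain ⟨hlE, hlr, -⟩ := Fr.F.toCoord.lh_spec n
    have hkz : k⁻¹ * zp z e * k = zp z e := by
      rw [S.zp_comm hki, mul_assoc, inv_mul_cancel, mul_one]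
    have hx : k⁻¹ * Fr.F.lh n * k ∈ twoCoreOfCentralizer z := hkl n
    have hfix : v * (k⁻¹ * Fr.F.lh n * k) * v⁻¹ = k⁻¹ * Fr.F.lh n * k := by
      refine S.fix_exact hv hx ?_
      have hvz' := S.commz hv
      have h1 : S.rep (k⁻¹ * Fr.F.lh n * k) = S.act k⁻¹ (Fr.F.Φ n) := by
        rw [← hlr, S.act_rep _ hki _ hlE, inv_inv]
      rw [h1]
      have hkv : k * v * z = z * (k * v) := ((show Commute k z from hk).mul_left hvz').eq
      have h2 : S.act v = S.act k⁻¹ * S.act (k * v * k⁻¹) * S.act k := by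
        rw [← S.act_mul _ _ hki hr.hz, ← S.act_mul _ _ ((show Commute k⁻¹ z from hki).mul_left hr.hz).eq hk]
        congr 1
        group
      rw [h2, Module.End.mul_apply, ← Module.End.mul_apply (S.act k), S.act_mul_inv hk, Module.End.one_apply,
        Module.End.mul_apply, hr.eq n hn'.1, hn'.2]
    refine ⟨?_, Subgroup.mem_centralizer_singleton_iff.2 ?_⟩
    · rw [show k⁻¹ * (Fr.F.lh n * zp z e) * k = k⁻¹ * Fr.F.lh n * k * (k⁻¹ * zp z e * k) by group, hkz]
      exact mul_mem hx (S.zp_mem_E e)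
    · rw [show k⁻¹ * (Fr.F.lh n * zp z e) * k = k⁻¹ * Fr.F.lh n * k * (k⁻¹ * zp z e * k) by group, hkz]
      rw [mul_inv_eq_iff_eq_mul] at hfix
      rw [mul_assoc, ← S.zp_comm (S.commz hv), ← mul_assoc, ← hfix, mul_assoc]
  let f : {n // n ∈ fixA.toFinset} × Bool → ↥(twoCoreOfCentralizer z ⊓ Subgroup.centralizer ({v} : Set G)) :=
    fun u => ⟨_, hmem u.1.1 (List.mem_toFinset.1 u.1.2) u.2⟩
  have hcard : Nat.card ({n // n ∈ fixA.toFinset} × Bool) = 2 ^ 9 := by
    rw [Nat.card_prod, Nat.card_eq_finsetCard, List.toFinset_card_of_nodup fix_check.2.1, fix_check.2.2.1,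
      Nat.card_eq_fintype_card, Fintype.card_bool]
    norm_num
  rw [← hcard]
  refine Nat.card_le_card_of_injective f ?_
  rintro ⟨⟨m, hm⟩, a⟩ ⟨⟨n, hn⟩, b⟩ e
  have e' : Fr.F.lh m * zp z a = Fr.F.lh n * zp z b :=
    mul_left_cancel (mul_right_cancel (congrArg Subtype.val e))
  have hlt : ∀ {u}, u ∈ fixA.toFinset → u < 4096 := fun h => by
    have := List.all_eq_true.1 fix_check.1 _ (List.mem_toFinset.1 h)
    simp only [Bool.and_eq_true, decide_eq_true_eq] at this
    exact this.1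
  have hr' := congrArg S.rep e'
  rw [S.rep_mul _ (Fr.F.toCoord.lh_spec m).1 _ (S.zp_mem_E a), S.rep_mul _ (Fr.F.toCoord.lh_spec n).1 _ (S.zp_mem_E b),
    (S.rep_zero _ (S.zp_mem_E a)).2 (by cases a <;> simp [zp]),
    (S.rep_zero _ (S.zp_mem_E b)).2 (by cases b <;> simp [zp]), add_zero, add_zero, (Fr.F.toCoord.lh_spec m).2.1,
    (Fr.F.toCoord.lh_spec n).2.1] at hr'
  have hmn := Fr.F.inj m (hlt hm) n (hlt hn) hr'
  subst hmn
  have hab := mul_left_cancel e'
  have : a = b := by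
    cases a <;> cases b <;> simp [zp] at hab ⊢
    · exact S.ext.ne hab.symm
    · exact S.ext.ne hab
  rw [this]

include Fr in
/-- The involution is isolated in the centraliser of the three-group. -/
theorem isolated {g : G} (hg : g ∈ Subgroup.normalizer (P : Set G))
    (hc : g * z * g⁻¹ * z = z * (g * z * g⁻¹)) : g * z * g⁻¹ = z := by
  classical
  haveI := Fintype.ofFinite G
  by_contra hne
  set v := g⁻¹ * z * g with hv
  have hvz : v * z = z * v := by
    calc g⁻¹ * z * g * z = g⁻¹ * (z * (g * z * g⁻¹)) * g := by group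
      _ = g⁻¹ * ((g * z * g⁻¹) * z) * g := by rw [hc]
      _ = _ := by rw [hv]; group
  have hgp : g * S.p * g⁻¹ ∈ P := (Subgroup.mem_normalizer_iff.1 hg S.p).1 S.p_in_P
  have hpz : ∀ q ∈ P, q * z = z * q := fun q hq => by
    obtain ⟨i, rfl⟩ := Subgroup.mem_zpowers_iff.1 (S.mem_P.1 hq)
    exact ((show Commute S.p z from S.pz).zpow_left i).eq
  have hvC : v ∈ CP z P := S.mem_iff.2 ⟨hvz, by
    calc g⁻¹ * z * g * S.p = g⁻¹ * (z * (g * S.p * g⁻¹)) * g := by group
      _ = g⁻¹ * ((g * S.p * g⁻¹) * z) * g := by rw [hpz _ hgp]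
      _ = _ := by rw [hv]; group⟩
  have hv2 : v * v = 1 := by rw [hv, show g⁻¹ * z * g * (g⁻¹ * z * g) = g⁻¹ * (z * z) * g by group, S.zz]; group
  have hv1 : v ≠ 1 := fun e => S.ext.ne (by
    calc z = g * v * g⁻¹ := by rw [hv]; group
      _ = 1 := by rw [e]; group)
  have hvne : v ≠ z := fun e => hne (by
    calc g * z * g⁻¹ = g * v * g⁻¹ := by rw [e]
      _ = z := by rw [hv]; group)
  set X := twoCoreOfCentralizer z ⊓ Subgroup.centralizer ({v} : Set G) with hX
  have h9 := Fr.card_centE hvC hv2 hv1 hvne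
  -- the commutators lie in both cores
  set W := twoCoreOfCentralizer z ⊓ coreAt z g⁻¹ with hW
  have hmap : ∀ x ∈ X, S.p * x * S.p⁻¹ * x⁻¹ ∈ W := by
    rintro x ⟨hxE, hxv⟩
    have hcE : S.p * x * S.p⁻¹ * x⁻¹ ∈ twoCoreOfCentralizer z := mul_mem (S.ext.norm _ S.pz x hxE) (inv_mem hxE)
    refine ⟨hcE, mem_coreAt.2 ?_⟩
    rw [inv_inv]
    set q := g * S.p * g⁻¹ with hq
    set y := g * x * g⁻¹ with hy
    have hyz : y * z = z * y := by
      have hxv' := Subgroup.mem_centralizer_singleton_iff.1 hxv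
      calc g * x * g⁻¹ * z = g * (x * v) * g⁻¹ := by rw [hv]; group
        _ = g * (v * x) * g⁻¹ := by rw [hxv']
        _ = _ := by rw [hv, hy]; group
    rw [show g * (S.p * x * S.p⁻¹ * x⁻¹) * g⁻¹ = q * y * q⁻¹ * y⁻¹ by rw [hq, hy]; group]
    have hqz := hpz q hgp
    have hqi := conj_inv_comm hqz
    have hyi := conj_inv_comm hyz
    have hqy : q * y * z = z * (q * y) := ((show Commute q z from hqz).mul_left hyz).eq
    have hqyq : q * y * q⁻¹ * z = z * (q * y * q⁻¹) := ((show Commute (q * y) z from hqy).mul_left hqi).eq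
    have hcz : q * y * q⁻¹ * y⁻¹ * z = z * (q * y * q⁻¹ * y⁻¹) :=
      ((show Commute (q * y * q⁻¹) z from hqyq).mul_left hyi).eq
    refine S.mem_E_of_scalar hcz ?_ ?_
    · rw [S.act_mul _ _ hqyq hyi, S.act_mul _ _ hqy hqi, S.act_mul _ _ hqz hyz]
      set a := S.act S.p
      have ha3 : a * a * a = 1 := S.act_p_pow
      have hai : S.act S.p⁻¹ = a * a := by
        calc S.act S.p⁻¹ = a * a * a * S.act S.p⁻¹ := by rw [ha3, one_mul]
          _ = a * a * (a * S.act S.p⁻¹) := by simp only [mul_assoc]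
          _ = a * a := by rw [S.act_mul_inv S.pz, mul_one]
      have hqq : (S.act q = 1 ∧ S.act q⁻¹ = 1) ∨ (S.act q = a ∧ S.act q⁻¹ = a * a) ∨
          (S.act q = a * a ∧ S.act q⁻¹ = a) := by
        have hqP := S.mem_P.1 hgp
        obtain ⟨j, hj⟩ := (isOfFinOrder_of_finite S.p).mem_powers_iff_mem_zpowers.2 hqP
        rcases pow_three_cases S.p_pow j with e | e | e
        · have hq1 : q = 1 := hj.symm.trans e
          exact Or.inl ⟨by rw [hq1, S.act_one], by rw [hq1, inv_one, S.act_one]⟩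
        · have hq1 : q = S.p := hj.symm.trans e
          exact Or.inr (Or.inl ⟨by rw [hq1], by rw [hq1, hai]⟩)
        · have hq1 : q = S.p * S.p := hj.symm.trans e
          refine Or.inr (Or.inr ⟨by rw [hq1, S.act_mul _ _ S.pz S.pz], ?_⟩)
          rw [hq1, inv_eq_of_mul_eq_one_right S.p_pow]
      have hyy : S.act y * S.act y⁻¹ = 1 := S.act_mul_inv hyz
      have hconj : S.act y * a * S.act y⁻¹ = a ∨ S.act y * a * S.act y⁻¹ = a * a := by
        rcases S.act_conj_p hyz with e | e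
        · exact Or.inl (by rw [e, mul_assoc, hyy, mul_one])
        · exact Or.inr (by rw [e, mul_assoc, hyy, mul_one])
      have hconj2 : S.act y * (a * a) * S.act y⁻¹ =
          (S.act y * a * S.act y⁻¹) * (S.act y * a * S.act y⁻¹) := by
        calc S.act y * (a * a) * S.act y⁻¹ = S.act y * a * 1 * (a * S.act y⁻¹) := by
              rw [mul_one]; simp only [mul_assoc]
          _ = S.act y * a * (S.act y⁻¹ * S.act y) * (a * S.act y⁻¹) := by rw [S.act_inv_mul hyz]
          _ = _ := by simp only [mul_assoc]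
      have e4 : a * (a * (a * a)) = a := by
        simp only [← mul_assoc]; rw [ha3, one_mul]
      have e5 : a * (a * a) = 1 := by rw [← mul_assoc, ha3]
      rcases hqq with ⟨e1, e2⟩ | ⟨e1, e2⟩ | ⟨e1, e2⟩ <;> rw [e1, e2]
      · left; rw [mul_one, one_mul, hyy]
      · rw [mul_assoc (a * S.act y), mul_assoc a, ← mul_assoc (S.act y), hconj2]
        rcases hconj with e | e <;> rw [e]
        · left; exact e5
        · right; right
          rw [← mul_assoc (a * a) a a, ha3, one_mul]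
      · rw [mul_assoc (a * a * S.act y), mul_assoc (a * a), ← mul_assoc (S.act y)]
        rcases hconj with e | e <;> rw [e]
        · left; exact ha3
        · right; left
          rw [← mul_assoc (a * a) a a, ha3, one_mul]
    · have hconjE : ∃ m ∈ twoCoreOfCentralizer z, q * y * q⁻¹ * y⁻¹ = g * m * g⁻¹ :=
        ⟨_, hcE, by rw [hq, hy]; group⟩
      obtain ⟨m, hm, em⟩ := hconjE
      rw [em, show g * m * g⁻¹ * (g * m * g⁻¹) * (g * m * g⁻¹ * (g * m * g⁻¹)) = g * (m * m * (m * m)) * g⁻¹ by group]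
      rcases S.ext.sq m hm with e | e <;> rw [e]
      · group
      · rw [S.zz]; group
  have hcomm : ∀ a ∈ W, ∀ b ∈ W, a * b = b * a := by
    rintro a ⟨haE, ha⟩ b ⟨hbE, hb⟩
    replace ha : g * a * g⁻¹ ∈ twoCoreOfCentralizer z := by simpa using mem_coreAt.1 ha
    replace hb : g * b * g⁻¹ ∈ twoCoreOfCentralizer z := by simpa using mem_coreAt.1 hb
    rcases S.ext.comm a haE b hbE with e | e
    · exact commutatorElement_eq_one_iff_mul_comm.1 e
    · exfalso
      rcases S.ext.comm _ ha _ hb with e' | e'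
      · refine S.ext.ne ?_
        calc z = g⁻¹ * (g * ⁅a, b⁆ * g⁻¹) * g := by rw [e]; group
          _ = 1 := by
            rw [show g * ⁅a, b⁆ * g⁻¹ = ⁅g * a * g⁻¹, g * b * g⁻¹⁆ by
              simp only [commutatorElement_def]; group, e']
            group
      · refine hne ?_
        calc g * z * g⁻¹ = g * ⁅a, b⁆ * g⁻¹ := by rw [e]
          _ = ⁅g * a * g⁻¹, g * b * g⁻¹⁆ := by simp only [commutatorElement_def]; group
          _ = z := e'
  have h7 := S.card_comm_le (W := W) inf_le_left hcomm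
  -- the fibres have two elements
  haveI := Fintype.ofFinite ↥X
  let f : ↥X → ↥W := fun x => ⟨_, hmap x.1 x.2⟩
  have hfib : ∀ w ∈ (Finset.univ : Finset ↥X).image f,
      ((Finset.univ : Finset ↥X).filter fun x => f x = w).card ≤ 2 := by
    intro w hw
    obtain ⟨x, -, rfl⟩ := Finset.mem_image.1 hw
    refine le_trans (Finset.card_le_card_of_injOn (fun y : ↥X => (y.1 : G)) (t := {x.1, x.1 * z}) ?_
      (fun a _ b _ e => Subtype.ext e)) (Finset.card_le_two)
    intro y hy
    rw [Finset.coe_filter] at hy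
    have e : S.p * y.1 * S.p⁻¹ * y.1⁻¹ = S.p * x.1 * S.p⁻¹ * x.1⁻¹ := congrArg Subtype.val hy.2
    have hd : x.1⁻¹ * y.1 ∈ twoCoreOfCentralizer z := mul_mem (inv_mem x.2.1) y.2.1
    have hpd : S.p * (x.1⁻¹ * y.1) = x.1⁻¹ * y.1 * S.p := by
      calc S.p * (x.1⁻¹ * y.1) = S.p * x.1⁻¹ * S.p⁻¹ * (S.p * y.1 * S.p⁻¹ * y.1⁻¹) * y.1 * S.p := by group
        _ = S.p * x.1⁻¹ * S.p⁻¹ * (S.p * x.1 * S.p⁻¹ * x.1⁻¹) * y.1 * S.p := by rw [e]
        _ = _ := by group
    rcases S.fix _ hd hpd with h | h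
    · simp [inv_mul_eq_one.1 h]
    · simp [inv_mul_eq_iff_eq_mul.1 h]
  have hc1 := Finset.card_le_mul_card_image (f := f) (Finset.univ : Finset ↥X) 2 hfib
  have hc2 : ((Finset.univ : Finset ↥X).image f).card ≤ Nat.card ↥W := by
    haveI := Fintype.ofFinite ↥W
    rw [Nat.card_eq_fintype_card]
    exact Finset.card_le_univ _
  rw [Finset.card_univ, ← Nat.card_eq_fintype_card] at hc1
  change 2 ^ 9 ≤ Nat.card ↥X at h9
  omega

end Frame

end Cfsg.Agent.Spor.JFour
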