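import Cfsg.Agent.Lib.Spor.JFourType.NormA
import Cfsg.Agent.Lib.Spor.JFourType.Mathieu.Cocode11

/-!
An element of the second class in the elementary abelian group has its centraliser in the centraliser of the
involution inside the normaliser of the group.
-/

set_option autoImplicit false
set_option maxRecDepth 100000
set_option linter.style.haveILetI false
set_option Elab.async false

open Cfsg Cfsg.Agent.Spor.Golay
open scoped Pointwise
open Cfsg.Agent.Spor.Cos.J4Sub (app mm app_zero)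

namespace Cfsg.Agent.Spor.JFour

/-- The orbit of the octad with matrices moving the low vectors. -/
def hexPairs : List (ℕ × List ℕ) :=
  hexProg.foldl (fun acc e => acc ++ [(imgMask (Golay.get (pk e.2)) (acc.getD e.1 (0, [])).1,
    mm (asg mS mW mQ e.2) (acc.getD e.1 (0, [])).2)]) [(hexMask, mI)]

theorem hexPairs_check : hexPairs.map Prod.fst = hexOrbit ∧
    (hexPairs.all fun p => (p.1 == hexMask) || (List.range 64).all fun n =>
      decide (64 ≤ app p.2 n) || !(Mathieu.tMask.testBit (2 * app p.2 n))) = true ∧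
    ((List.range 9).all fun k => hexOrbit.all fun m => hexOrbit.contains (imgMask (Golay.get (pk k)) m)) = true ∧
    ((List.range 16).all fun k => (k == 0) || (List.range 24).all fun i =>
      hexMask.testBit i || Golay.get (wordP (kw k)) i != i) = true ∧
    ((List.range 128).all fun v => !(Mathieu.tMask.testBit v) || Mathieu.tMask.testBit (2 * (v / 2))) = true := by
  decide +kernel

theorem kw_moves {k i : ℕ} (hk : k < 16) (h0 : k ≠ 0) (hi : i < 24) (h : wordπ (kw k) (pt i) = pt i) :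
    hexMask.testBit i = true := by
  have e := List.all_eq_true.1 hexPairs_check.2.2.2.1 k (List.mem_range.2 hk)
  simp only [Bool.or_eq_true, beq_iff_eq, h0, false_or, List.all_eq_true, bne_iff_ne, ne_eq, List.mem_range] at e
  refine (e i hi).resolve_right fun hne => hne ?_
  rw [wordπ_pt _ hi] at h
  have := congrArg idx h
  rwa [idx_pt ((valid_iff.1 (wordP_valid _)).2 i hi), idx_pt hi] at this

/-- A permutation moving one non-trivial translation onto another stabilises the octad. -/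
theorem smul_hex_of_conj {g : Equiv.Perm GolayPt} {j k : ℕ} (hj : j < 16) (hk : k < 16) (hk0 : k ≠ 0)
    (h : g * wordπ (kw j) = wordπ (kw k) * g) : g • pts hexMask = pts hexMask := by
  refine Finset.eq_of_subset_of_card_le (fun q hq => ?_) (by rw [Finset.card_smul_finset])
  obtain ⟨p, hp, rfl⟩ := Finset.mem_smul_finset.1 hq
  rw [mem_pts] at hp ⊢
  refine kw_moves hk hk0 (idx_lt _) ?_
  rw [pt_idx, Equiv.Perm.smul_def, ← Equiv.Perm.mul_apply, ← h, Equiv.Perm.mul_apply]
  conv_lhs => rw [← pt_idx p]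
  rw [kw_fix hj (idx_lt p) hp, pt_idx]

/-- The orbit is closed. -/
theorem smul_hex_mem {g : Equiv.Perm GolayPt} (hg : g ∈ Cfsg.Spor.M22) :
    ∃ m ∈ hexOrbit, g • pts hexMask = pts m := by
  classical
  set O : Finset (Finset GolayPt) := hexOrbit.toFinset.image pts with hO
  have hle : Subgroup.closure {h | ∃ k < 9, permOf (pk k) = h} ≤ MulAction.stabilizer (Equiv.Perm GolayPt) O := by
    rw [Subgroup.closure_le]
    rintro x ⟨k, hk, rfl⟩
    rw [SetLike.mem_coe, MulAction.mem_stabilizer_iff]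
    refine Finset.eq_of_subset_of_card_le (fun q hq => ?_) (by rw [Finset.card_smul_finset])
    obtain ⟨s, hs, rfl⟩ := Finset.mem_smul_finset.1 hq
    obtain ⟨m, hm, rfl⟩ := Finset.mem_image.1 hs
    rw [smul_pts (permOf (pk k)) (Golay.get (pk k)) (fun p => idx_permOf (pk_valid _) p)]
    refine Finset.mem_image.2 ⟨_, List.mem_toFinset.2 ?_, rfl⟩
    have := List.all_eq_true.1 (List.all_eq_true.1 hexPairs_check.2.2.1 k (List.mem_range.2 hk)) m
      (List.mem_toFinset.1 hm)
    simpa using this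
  have h0 : hexMask ∈ hexOrbit := by decide +kernel
  have h1 : g • pts hexMask ∈ g • O :=
    Finset.smul_mem_smul_finset (Finset.mem_image.2 ⟨_, List.mem_toFinset.2 h0, rfl⟩)
  rw [MulAction.mem_stabilizer_iff.1 (hle (exists_word hg))] at h1
  obtain ⟨m, hm, e⟩ := Finset.mem_image.1 h1
  exact ⟨m, List.mem_toFinset.1 hm, e.symm⟩

namespace Frame

variable {G : Type*} [Group G] {z : G} {P : Subgroup G} {S : Setting z P} (Fr : Frame S) [Finite G]

/-- Stabilising the octad means normalising. -/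
theorem mem_normalizer_of_smul_hex {c : G} (hc : c ∈ CP z P) (h : S.ψ c • pts hexMask = pts hexMask) :
    c ∈ Subgroup.normalizer (Fr.A : Set G) := by
  set N := (Subgroup.normalizer (Fr.A : Set G)).subgroupOf (CP z P) with hN
  have hLs : N.map (Frame.ψH (S := S)) = MulAction.stabilizer ↥Cfsg.Spor.M22 (pts hexMask) := by
    refine Subgroup.eq_of_le_of_card_ge ?_ (le_trans card_hexStab_le (le_of_eq Fr.card_image_normalizer.symm))
    rintro _ ⟨d, hd, rfl⟩
    exact MulAction.mem_stabilizer_iff.2 (Fr.ψ_smul_hex d.2 (Subgroup.mem_subgroupOf.1 hd))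
  have hm : Frame.ψH (S := S) ⟨c, hc⟩ ∈ N.map (Frame.ψH (S := S)) := by
    rw [hLs]; exact MulAction.mem_stabilizer_iff.2 h
  obtain ⟨d, hd, e⟩ := hm
  have hk : d⁻¹ * ⟨c, hc⟩ ∈ (Frame.ψH (S := S)).ker := by
    rw [MonoidHom.mem_ker, map_mul, map_inv, e, inv_mul_cancel]
  have := mul_mem hd (Fr.ker_le_normalizer hk)
  rwa [mul_inv_cancel_left] at this

theorem rep_gen {k : ℕ} (hk : k < 9) :
    ∃ g ∈ CP z P, S.ψ g = permOf (pk k) ∧ Fr.F.Rep g (asg mS mW mQ k) := by
  interval_cases k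
  all_goals first
    | exact ⟨_, Fr.F.s_mem, Fr.F.s_ψ, Fr.F.rs⟩
    | exact ⟨_, Fr.F.w_mem, Fr.F.w_ψ, Fr.F.rw'⟩
    | exact ⟨_, Fr.F.q_mem, Fr.F.q_ψ, Fr.F.rq⟩
    | exact ⟨_, Fr.F.toCoord.lift_spec (by norm_num)⟩

/-- Elements reaching the orbit with their matrices. -/
theorem exists_reach : ∀ p ∈ hexPairs, ∃ r ∈ CP z P, S.ψ r • pts hexMask = pts p.1 ∧ Fr.F.Rep r p.2 := by
  unfold hexPairs
  suffices H : ∀ (L : List (ℕ × ℕ)) (acc : List (ℕ × List ℕ)), (∀ e ∈ L, e.2 < 9) → progFit L acc.length = true →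
      (∀ p ∈ acc, ∃ r ∈ CP z P, S.ψ r • pts hexMask = pts p.1 ∧ Fr.F.Rep r p.2) →
      ∀ p ∈ L.foldl (fun acc e => acc ++ [(imgMask (Golay.get (pk e.2)) (acc.getD e.1 (0, [])).1,
          mm (asg mS mW mQ e.2) (acc.getD e.1 (0, [])).2)]) acc,
        ∃ r ∈ CP z P, S.ψ r • pts hexMask = pts p.1 ∧ Fr.F.Rep r p.2 from
    H hexProg _ (fun e he => of_decide_eq_true (List.all_eq_true.1 hexOrbit_check.2.2.1 e he)) progFit_check
      fun p hp => by
        rw [List.mem_singleton.1 hp]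
        exact ⟨1, one_mem _, by rw [S.ψ_one, one_smul], Fr.F.toCoord.rep_one⟩
  intro L
  induction L with
  | nil => exact fun acc _ _ h => h
  | cons e L ih =>
    intro acc hg hfit h
    rw [progFit, Bool.and_eq_true, decide_eq_true_eq] at hfit
    rw [List.foldl_cons]
    refine ih _ (fun x hx => hg x (List.mem_cons_of_mem _ hx)) (by simpa using hfit.2) fun p hp => ?_
    rcases List.mem_append.1 hp with hp | hp
    · exact h p hp
    · rw [List.mem_singleton.1 hp]
      obtain ⟨r, hr, hrψ, hrR⟩ := h (acc.getD e.1 (0, [])) (by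
        rw [List.getD_eq_getElem _ _ hfit.1]; exact List.getElem_mem _)
      obtain ⟨g, hg1, hg2, hg3⟩ := Fr.rep_gen (hg e (List.mem_cons_self ..))
      refine ⟨g * r, mul_mem hg1 hr, ?_, Fr.F.toCoord.rep_mul hg3 hrR⟩
      rw [S.ψ_mul _ hg1 _ hr, mul_smul, hrψ, hg2,
        smul_pts (permOf (pk e.2)) (Golay.get (pk e.2)) (fun p => idx_permOf (pk_valid _) p)]

/-- The coordinates of an element in the core. -/
theorem rep_Av {v : ℕ} (hv : v < 2048) (hE : Fr.Av v ∈ twoCoreOfCentralizer z) :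
    v < 128 ∧ S.rep (Fr.Av v) = Fr.F.Φ (v / 2) := by
  have hb := Fr.X.mem (v / 128) (by omega)
  have hzl : zp z (v.testBit 0) * Fr.F.lh (v / 2 % 64) ∈ twoCoreOfCentralizer z :=
    mul_mem (S.zp_mem_E _) (Fr.F.toCoord.lh_spec _).1
  have hbE : Fr.X.b (v / 128) ∈ twoCoreOfCentralizer z := by
    have := mul_mem (inv_mem hzl) hE
    rwa [Frame.Av, inv_mul_cancel_left] at this
  have hk0 : v / 128 = 0 := Fr.X.b_inj (by omega) (by norm_num) (by
    rw [Fr.X.b_zero, one_mul]
    exact S.fix _ hbE (S.mem_iff.1 hb).2.symm)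
  refine ⟨by omega, ?_⟩
  rw [Frame.Av, hk0, Fr.X.b_zero, mul_one, S.rep_mul _ (S.zp_mem_E _) _ (Fr.F.toCoord.lh_spec _).1,
    (Fr.F.toCoord.lh_spec _).2.1, (S.rep_zero _ (S.zp_mem_E _)).2 (by cases v.testBit 0 <;> simp [zp]), zero_add,
    show v / 2 % 64 = v / 2 by omega]

/-- The centraliser in the centraliser of the involution of an element of the second class. -/
theorem centralizer_H_le (hduad : ∀ n ∈ Subgroup.normalizer (Fr.A : Set G), ∀ v < 2048,
      Mathieu.tMask.testBit v = true → ∃ w < 2048, Mathieu.tMask.testBit w = true ∧ n * Fr.Av v * n⁻¹ = Fr.Av w)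
    {v : ℕ} (hv : v < 2048) (hT : Mathieu.tMask.testBit v = true) {h : G} (hz : h * z = z * h)
    (ht : h * Fr.Av v = Fr.Av v * h) : h ∈ Subgroup.normalizer (Fr.A : Set G) := by
  obtain ⟨c, hc, hn⟩ := Fr.exists_CP_mul hz
  suffices hcN : c ∈ Subgroup.normalizer (Fr.A : Set G) by
    have := mul_mem hcN hn
    rwa [mul_inv_cancel_left] at this
  obtain ⟨w, hw, hwT, ew⟩ := hduad _ hn v hv hT
  have hcw : c * Fr.Av w * c⁻¹ = Fr.Av v := by
    rw [← ew, show c * (c⁻¹ * h * Fr.Av v * (c⁻¹ * h)⁻¹) * c⁻¹ = h * Fr.Av v * h⁻¹ by group, ht, mul_inv_cancel_right]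
  refine Fr.mem_normalizer_of_smul_hex hc ?_
  have hcz := S.commz hc
  by_cases hE : Fr.Av v ∈ twoCoreOfCentralizer z
  · -- both inside the core
    have hwE : Fr.Av w ∈ twoCoreOfCentralizer z := by
      have := S.ext.norm c⁻¹ (conj_inv_comm hcz) _ hE
      rwa [← hcw, show c⁻¹ * (c * Fr.Av w * c⁻¹) * c⁻¹⁻¹ = Fr.Av w by group] at this
    obtain ⟨hw128, hwr⟩ := Fr.rep_Av hw hwE
    obtain ⟨hv128, hvr⟩ := Fr.rep_Av hv hE
    obtain ⟨m, hm, em⟩ := smul_hex_mem (S.ψ_mem c hc)
    rw [← hexPairs_check.1] at hm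
    obtain ⟨p, hp, rfl⟩ := List.mem_map.1 hm
    obtain ⟨r, hr, hrψ, hrR⟩ := Fr.exists_reach p hp
    have hc0 : r⁻¹ * c ∈ Subgroup.normalizer (Fr.A : Set G) := by
      refine Fr.mem_normalizer_of_smul_hex (mul_mem (inv_mem hr) hc) ?_
      rw [S.ψ_mul _ (inv_mem hr) _ hc, S.ψ_inv hr, mul_smul, em, ← hrψ, inv_smul_smul]
    obtain ⟨u, hu, huT, eu⟩ := hduad _ hc0 w hw hwT
    have hrz := S.commz (inv_mem hr)
    have hc0z := S.commz (mul_mem (inv_mem hr) hc)
    have huE : Fr.Av u ∈ twoCoreOfCentralizer z := by rw [← eu]; exact S.ext.norm _ hc0z _ hwE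
    obtain ⟨hu128, hur⟩ := Fr.rep_Av hu huE
    have hru : r * Fr.Av u * r⁻¹ = Fr.Av v := by rw [← eu, ← hcw]; group
    have e1 : Fr.F.Φ (app p.2 (u / 2)) = Fr.F.Φ (v / 2) := by
      rw [← hrR.eq _ (by omega), ← hur, S.act_rep r (S.commz hr) _ huE, hru, hvr]
    have e2 := Fr.F.toCoord.inj _ (app_lt_of_ok hrR.ok _) _ (by omega) e1
    have hk := List.all_eq_true.1 hexPairs_check.2.1 p hp
    simp only [Bool.or_eq_true, beq_iff_eq, List.all_eq_true, List.mem_range, decide_eq_true_eq,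
      Bool.not_eq_true'] at hk
    rcases hk with hk | hk
    · rw [em, hk]
    · exfalso
      rcases hk (u / 2) (by omega) with h1 | h1
      · omega
      · have hd := List.all_eq_true.1 hexPairs_check.2.2.2.2 v (List.mem_range.2 hv128)
        rw [hT, e2] at *
        simp [h1] at hd
  · -- both outside
    have hk : v / 128 < 16 := by omega
    have hk' : w / 128 < 16 := by omega
    have hb := Fr.X.mem _ hk
    have hb' := Fr.X.mem _ hk'
    set m := zp z (v.testBit 0) * Fr.F.lh (v / 2 % 64) with hm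
    set m' := zp z (w.testBit 0) * Fr.F.lh (w / 2 % 64) with hm'
    have hmE : m ∈ twoCoreOfCentralizer z := mul_mem (S.zp_mem_E _) (Fr.F.toCoord.lh_spec _).1
    have hm'E : m' ∈ twoCoreOfCentralizer z := mul_mem (S.zp_mem_E _) (Fr.F.toCoord.lh_spec _).1
    have hcm := S.ext.norm c hcz _ hm'E
    set d := c * Fr.X.b (w / 128) * c⁻¹ * (Fr.X.b (v / 128))⁻¹ with hd
    have hdCP : d ∈ CP z P := mul_mem (mul_mem (mul_mem hc hb') (inv_mem hc)) (inv_mem hb)
    have hde : d = (c * m' * c⁻¹)⁻¹ * m := by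
      have e : c * m' * c⁻¹ * (c * Fr.X.b (w / 128) * c⁻¹) = m * Fr.X.b (v / 128) := by
        show c * m' * c⁻¹ * (c * Fr.X.b (w / 128) * c⁻¹) = Fr.Av v
        rw [← hcw, Frame.Av, hm']
        group
      rw [hd, eq_inv_mul_iff_mul_eq, ← mul_assoc, e, mul_inv_cancel_right]
    have hdE : d ∈ twoCoreOfCentralizer z := by rw [hde]; exact mul_mem (inv_mem hcm) hmE
    have hd1 : S.ψ d = 1 := by
      rcases S.fix _ hdE (S.mem_iff.1 hdCP).2.symm with e | e <;> rw [e]
      · exact S.ψ_one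
      · exact S.ψ_z
    rw [hd, S.ψ_mul _ (mul_mem (mul_mem hc hb') (inv_mem hc)) _ (inv_mem hb), S.ψ_conj hc hb', S.ψ_inv hb,
      Fr.X.ψ_b _ hk', Fr.X.ψ_b _ hk, mul_inv_eq_one, mul_inv_eq_iff_eq_mul] at hd1
    refine smul_hex_of_conj hk' hk (fun e0 => hE ?_) hd1
    rw [Frame.Av, e0, Fr.X.b_zero, mul_one]
    exact hmE

end Frame

end Cfsg.Agent.Spor.JFour
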