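import Cfsg.Agent.Lib.Spor.JFourType.Coord

/-!
Matrices of elements of the centraliser in the coordinates, and conjugation identities between them.
-/

set_option autoImplicit false
set_option maxRecDepth 100000
set_option linter.style.haveILetI false

open Cfsg Cfsg.Agent.Spor.Golay
open Cfsg.Agent.Spor.Cos.J4Sub (app mm app_mm app_xor)

namespace Cfsg.Agent.Spor.JFour

variable {G : Type*} [Group G] {z : G} {P : Subgroup G}

theorem okMat_mI : okMat mI = true := by decide +kernel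

theorem okMat_mTp : ∀ k, okMat (mTp k) = true
  | 0 => by decide +kernel
  | 1 => by decide +kernel
  | 2 => by decide +kernel
  | _ + 3 => okMat_mI

theorem okMat_mm {M N : List ℕ} (hM : okMat M = true) (hN : okMat N = true) : okMat (mm M N) = true := by
  simp only [okMat, Bool.and_eq_true, beq_iff_eq, List.all_eq_true, decide_eq_true_eq] at hN ⊢
  refine ⟨by rw [mm, List.length_map]; exact hN.1, fun c hc => ?_⟩
  obtain ⟨d, -, rfl⟩ := List.mem_map.1 hc
  exact app_lt_of_ok hM d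

theorem okMat_length {M : List ℕ} (h : okMat M = true) : M.length = 12 := by
  simp only [okMat, Bool.and_eq_true, beq_iff_eq] at h; exact h.1

/-- The matrices of the hexad group and the Sylow three-subgroup, indexed as the permutations. -/
def mBase : ℕ → List ℕ
  | 4 => mX
  | 5 => mY
  | n => mA n

theorem okMat_mBase : ∀ k, okMat (mBase k) = true
  | 0 => by decide +kernel
  | 1 => by decide +kernel
  | 2 => by decide +kernel
  | 3 => by decide +kernel
  | 4 => by decide +kernel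
  | 5 => by decide +kernel
  | _ + 6 => okMat_mI

/-- The product of a word of matrices. -/
def evM (f : ℕ → List ℕ) : List ℕ → List ℕ
  | [] => mI
  | k :: w => mm (f k) (evM f w)

theorem okMat_evM {f : ℕ → List ℕ} : ∀ {w : List ℕ}, (∀ k ∈ w, okMat (f k) = true) → okMat (evM f w) = true
  | [], _ => okMat_mI
  | k :: w, h => okMat_mm (h k (List.mem_cons_self ..)) (okMat_evM fun j hj => h j (List.mem_cons_of_mem _ hj))

/-- Equality up to a scalar. -/
def upto (M N : List ℕ) : Bool := (List.range 3).any fun k => M == mm (mTp k) N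

namespace Coord

variable {S : Setting z P} (C : Coord S)

/-- A matrix of an element. -/
structure Rep (g : G) (M : List ℕ) : Prop where
  hz : g * z = z * g
  ok : okMat M = true
  eq : ∀ n < 4096, S.act g (C.Φ n) = C.Φ (app M n)

/-- An element normalising the centraliser of the three-group with its permutation. -/
structure Norm (g : G) (π : Equiv.Perm GolayPt) : Prop where
  hz : g * z = z * g
  mem : ∀ c ∈ CP z P, g * c * g⁻¹ ∈ CP z P
  ψ : ∀ c ∈ CP z P, S.ψ (g * c * g⁻¹) = π * S.ψ c * π⁻¹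

include C

theorem norm_of_mem {g : G} (h : g ∈ CP z P) : Norm (S := S) g (S.ψ g) :=
  ⟨S.commz h, fun _ hc => mul_mem (mul_mem h hc) (inv_mem h), fun _ hc => S.ψ_conj h hc⟩

theorem o_conj_mem {c : G} (hc : c ∈ CP z P) : S.o * c * S.o⁻¹ ∈ CP z P := by
  obtain ⟨h1, h2⟩ := S.mem_iff.1 hc
  refine S.mem_iff.2 ⟨?_, ?_⟩
  · exact (((show Commute S.o z from S.oz).mul_left (show Commute c z from h1)).mul_left
      (show Commute S.o z from S.oz).inv_left).eq
  · have hinv : S.o * (S.p * S.p) * S.o⁻¹ = S.p := by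
      rw [show S.o * (S.p * S.p) * S.o⁻¹ = (S.o * S.p * S.o⁻¹) * (S.o * S.p * S.o⁻¹) by group, S.op,
        show S.p * S.p * (S.p * S.p) = S.p * S.p * S.p * S.p by group, S.p_pow, one_mul]
    have hcc : c * (S.p * S.p) = S.p * S.p * c := by rw [← mul_assoc, h2, mul_assoc, h2, ← mul_assoc]
    calc S.o * c * S.o⁻¹ * S.p = S.o * c * S.o⁻¹ * (S.o * (S.p * S.p) * S.o⁻¹) := by rw [hinv]
      _ = S.o * (c * (S.p * S.p)) * S.o⁻¹ := by group
      _ = S.o * (S.p * S.p * c) * S.o⁻¹ := by rw [hcc]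
      _ = (S.o * (S.p * S.p) * S.o⁻¹) * (S.o * c * S.o⁻¹) := by group
      _ = _ := by rw [hinv]

theorem norm_o : Norm (S := S) S.o (permOf (pk 9)) := ⟨S.oz, fun _ hc => C.o_conj_mem hc, S.ψ_o⟩

theorem rep_unique {g : G} {M N : List ℕ} (hM : C.Rep g M) (hN : C.Rep g N) : M = N := by
  refine List.ext_getElem (by rw [okMat_length hM.ok, okMat_length hN.ok]) fun i h1 h2 => ?_
  have hi : (2 : ℕ) ^ i < 4096 := Nat.pow_lt_pow_right (by norm_num) (show i < 12 by rwa [okMat_length hM.ok] at h1)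
  have e := C.inj _ (app_lt_of_ok hM.ok _) _ (app_lt_of_ok hN.ok _) ((hM.eq _ hi).symm.trans (hN.eq _ hi))
  rwa [app_two_pow h1, app_two_pow h2, List.getD_eq_getElem _ _ h1, List.getD_eq_getElem _ _ h2] at e

theorem rep_mul {g h : G} {M N : List ℕ} (hg : C.Rep g M) (hh : C.Rep h N) : C.Rep (g * h) (mm M N) :=
  ⟨by rw [mul_assoc, hh.hz, ← mul_assoc, hg.hz, mul_assoc], okMat_mm hg.ok hh.ok, fun n hn => by
    rw [S.act_mul _ _ hg.hz hh.hz, Module.End.mul_apply, hh.eq n hn, hg.eq _ (app_lt_of_ok hh.ok _), app_mm]⟩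

theorem rep_one : C.Rep 1 mI :=
  ⟨by rw [one_mul, mul_one], okMat_mI, fun n hn => by rw [S.act_one, Module.End.one_apply, app_mI hn]⟩

theorem zero' : C.Φ 0 = 0 := by
  have h := C.add 0 0
  rw [Nat.xor_self] at h
  exact left_eq_add.1 h

theorem exists_rep {g : G} (hg : g * z = z * g) : ∃ M, C.Rep g M := by
  choose f hf hf' using fun v => C.surj v
  refine ⟨(List.range 12).map fun i => f (S.act g (C.Φ (2 ^ i))), hg, ?_, ?_⟩
  · simp only [okMat, List.length_map, List.length_range, beq_self_eq_true, Bool.true_and, List.all_eq_true,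
      List.mem_map, decide_eq_true_eq]
    rintro c ⟨i, -, rfl⟩
    exact hf _
  · refine xor_induction (p := fun n => S.act g (C.Φ n) = C.Φ (app _ n)) ?_ 12 fun i hi k hk ih => ?_
    · rw [Cos.J4Sub.app_zero, C.zero', map_zero]
    rw [C.add, map_add, ih, app_xor, C.add, app_two_pow (by simpa using hi)]
    congr 1
    rw [List.getD_eq_getElem _ _ (by simpa using hi), List.getElem_map, List.getElem_range]
    exact (hf' _).symm

theorem rep_qv {g : G} {M : List ℕ} (hg : C.Rep g M) {n : ℕ} (hn : n < 4096) : qv (app M n) = qv n := by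
  have h := S.act_quad g hg.hz (C.Φ n)
  rw [hg.eq n hn] at h
  exact (by decide : ∀ a b : Bool, Geo.zb a = Geo.zb b → a = b) _ _
    ((C.form _ (app_lt_of_ok hg.ok n)).symm.trans (h.trans (C.form n hn)))

theorem rep_a {i : ℕ} (hi : i < 4) : C.Rep (C.a i) (mA i) :=
  ⟨S.commz (C.a_mem i hi), by interval_cases i <;> decide +kernel, C.rA i hi⟩

/-- The lifts of the six basic permutations. -/
noncomputable def lift (k : ℕ) : G := if k < 4 then C.a k else if k = 4 then C.R.x else if k = 5 then C.R.y else 1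

theorem lift_spec {k : ℕ} (hk : k < 6) :
    C.lift k ∈ CP z P ∧ S.ψ (C.lift k) = permOf (pk k) ∧ C.Rep (C.lift k) (mBase k) := by
  interval_cases k
  · exact ⟨C.a_mem 0 (by norm_num), C.a_ψ 0 (by norm_num), C.rep_a (by norm_num)⟩
  · exact ⟨C.a_mem 1 (by norm_num), C.a_ψ 1 (by norm_num), C.rep_a (by norm_num)⟩
  · exact ⟨C.a_mem 2 (by norm_num), C.a_ψ 2 (by norm_num), C.rep_a (by norm_num)⟩
  · exact ⟨C.a_mem 3 (by norm_num), C.a_ψ 3 (by norm_num), C.rep_a (by norm_num)⟩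
  · exact ⟨C.R.x_mem, C.R.x_ψ, S.commz C.R.x_mem, okMat_mBase 4, C.rX⟩
  · exact ⟨C.R.y_mem, C.R.y_ψ, S.commz C.R.y_mem, okMat_mBase 5, C.rY⟩

theorem t_mem : C.R.t ∈ CP z P := by
  rcases C.R.t_p with e | e <;> rw [e]
  · exact S.p_mem
  · exact mul_mem S.p_mem S.p_mem

theorem t_ψ : S.ψ C.R.t = 1 := by
  rcases C.R.t_p with e | e <;> rw [e]
  · exact S.ψ_p
  · rw [S.ψ_mul _ S.p_mem _ S.p_mem, S.ψ_p, one_mul]

theorem rep_t : C.Rep C.R.t mT := ⟨S.commz C.t_mem, by decide +kernel, C.rT⟩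

theorem rep_tpow : ∀ {k : ℕ}, k < 3 → C.Rep (C.R.t ^ k) (mTp k) := by
  intro k hk
  interval_cases k
  · rw [pow_zero]; exact C.rep_one
  · rw [pow_one]; exact C.rep_t
  · rw [pow_two]; exact C.rep_mul C.rep_t C.rep_t

theorem rep_word (gl : ℕ → G) (f : ℕ → List ℕ) (n : ℕ)
    (h : ∀ k < n, gl k ∈ CP z P ∧ S.ψ (gl k) = permOf (pk k) ∧ C.Rep (gl k) (f k)) :
    ∀ w : List ℕ, (∀ k ∈ w, k < n) →
      (w.map gl).prod ∈ CP z P ∧ S.ψ (w.map gl).prod = wordπ w ∧ C.Rep (w.map gl).prod (evM f w)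
  | [], _ => ⟨one_mem _, by rw [List.map_nil, List.prod_nil, S.ψ_one, wordπ_nil], C.rep_one⟩
  | k :: w, hw => by
    obtain ⟨h1, h2, h3⟩ := rep_word gl f n h w fun j hj => hw j (List.mem_cons_of_mem _ hj)
    obtain ⟨k1, k2, k3⟩ := h k (hw k (List.mem_cons_self ..))
    rw [List.map_cons, List.prod_cons]
    exact ⟨mul_mem k1 h1, by rw [S.ψ_mul _ k1 _ h1, k2, h2, wordπ_cons], C.rep_mul k3 h3⟩

variable [Finite G]

/-- The scalars. -/
theorem scalar_rep {c : G} {M : List ℕ} (hc : c ∈ CP z P) (h : S.ψ c = 1) (hM : C.Rep c M) :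
    ∃ k < 3, M = mTp k := by
  have hcase : S.act c = S.act (C.R.t ^ 0) ∨ S.act c = S.act (C.R.t ^ 1) ∨ S.act c = S.act (C.R.t ^ 2) := by
    have hpp : S.act (S.p * S.p) = S.act S.p * S.act S.p := S.act_mul _ _ S.pz S.pz
    have h4 : S.act (S.p * S.p * (S.p * S.p)) = S.act S.p := by
      rw [show S.p * S.p * (S.p * S.p) = S.p * S.p * S.p * S.p by group, S.p_pow, one_mul]
    rw [pow_zero, pow_one, pow_two, S.act_one]
    rcases S.act_scalar hc h with e | e | e
    · exact Or.inl e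
    all_goals
      rcases C.R.t_p with f | f
      · rw [f, e, hpp]; tauto
      · rw [f, e, h4, hpp]; tauto
  have key : ∀ k < 3, S.act c = S.act (C.R.t ^ k) → M = mTp k := fun k hk e =>
    C.rep_unique ⟨hM.hz, hM.ok, fun n hn => by rw [← hM.eq n hn]⟩ ⟨hM.hz, okMat_mTp k, fun n hn => by
      rw [e]; exact (C.rep_tpow hk).eq n hn⟩
  rcases hcase with e | e | e
  · exact ⟨0, by norm_num, key 0 (by norm_num) e⟩
  · exact ⟨1, by norm_num, key 1 (by norm_num) e⟩
  · exact ⟨2, by norm_num, key 2 (by norm_num) e⟩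

/-- Elements with the same permutation differ by a scalar. -/
theorem rep_upto {c d : G} {M N : List ℕ} (hc : c ∈ CP z P) (hd : d ∈ CP z P) (h : S.ψ c = S.ψ d)
    (hM : C.Rep c M) (hN : C.Rep d N) : ∃ k < 3, M = mm (mTp k) N := by
  have hm : c * d⁻¹ ∈ CP z P := mul_mem hc (inv_mem hd)
  obtain ⟨K, hK⟩ := C.exists_rep (S.commz hm)
  obtain ⟨k, hk, rfl⟩ := C.scalar_rep hm (by rw [S.ψ_mul _ hc _ (inv_mem hd), S.ψ_inv hd, h, mul_inv_cancel]) hK
  exact ⟨k, hk, C.rep_unique hM (by simpa using C.rep_mul hK hN)⟩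

theorem upto_of_word (gl : ℕ → G) (f : ℕ → List ℕ) (n : ℕ)
    (h : ∀ k < n, gl k ∈ CP z P ∧ S.ψ (gl k) = permOf (pk k) ∧ C.Rep (gl k) (f k)) {u v : List ℕ}
    (hu : ∀ k ∈ u, k < n) (hv : ∀ k ∈ v, k < n) (huv : wordP u = wordP v) :
    upto (evM f u) (evM f v) = true := by
  obtain ⟨u1, u2, u3⟩ := C.rep_word gl f n h u hu
  obtain ⟨v1, v2, v3⟩ := C.rep_word gl f n h v hv
  obtain ⟨k, hk, e⟩ := C.rep_upto u1 v1 (by rw [u2, v2]; exact wordπ_congr huv) u3 v3
  exact List.any_eq_true.2 ⟨k, List.mem_range.2 hk, by rw [← e]; exact beq_self_eq_true _⟩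

/-- Conjugation up to a scalar. -/
theorem conj_upto {g c d : G} {π : Equiv.Perm GolayPt} {M N N' : List ℕ} (hg : Norm (S := S) g π) (hM : C.Rep g M)
    (hc : c ∈ CP z P) (hd : d ∈ CP z P) (h : π * S.ψ c = S.ψ d * π) (hN : C.Rep c N) (hN' : C.Rep d N') :
    ∃ k < 3, mm M N = mm (mm (mTp k) N') M := by
  obtain ⟨K, hK⟩ := C.exists_rep (S.commz (hg.mem c hc))
  obtain ⟨k, hk, e⟩ := C.rep_upto (hg.mem c hc) hd (by rw [hg.ψ c hc, h, mul_inv_cancel_right]) hK hN'
  refine ⟨k, hk, C.rep_unique (C.rep_mul hM hN) ?_⟩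
  have := C.rep_mul hK hM
  rw [inv_mul_cancel_right, e] at this
  exact this

/-- Conjugation of involutions is exact. -/
theorem conj_exact {g c d : G} {π : Equiv.Perm GolayPt} {M N N' : List ℕ} (hg : Norm (S := S) g π) (hM : C.Rep g M)
    (hc : c ∈ CP z P) (hd : d ∈ CP z P) (h : π * S.ψ c = S.ψ d * π) (hN : C.Rep c N) (hN' : C.Rep d N')
    (h1 : mm N N = mI) (h2 : mm N' N' = mI) : mm M N = mm N' M := by
  have sq : ∀ {u : G} {U : List ℕ}, C.Rep u U → mm U U = mI → S.act u * S.act u = 1 := fun {u U} hu e =>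
    LinearMap.ext fun v => by
      obtain ⟨n, hn, rfl⟩ := C.surj v
      rw [Module.End.mul_apply, hu.eq n hn, hu.eq _ (app_lt_of_ok hu.ok _), ← app_mm, e, app_mI hn]; rfl
  have hm := hg.mem c hc
  have hu : S.act (g * c * g⁻¹) * S.act (g * c * g⁻¹) = 1 := by
    rw [← S.act_mul _ _ (S.commz hm) (S.commz hm), show g * c * g⁻¹ * (g * c * g⁻¹) = g * (c * c) * g⁻¹ by group]
    have hcc := S.commz (mul_mem hc hc)
    rw [S.act_mul _ _ (by rw [mul_assoc, hcc, ← mul_assoc, hg.hz, mul_assoc]) (conj_inv_comm hg.hz),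
      S.act_mul _ _ hg.hz hcc, S.act_mul _ _ (S.commz hc) (S.commz hc), sq hN h1, mul_one, S.act_mul_inv hg.hz]
  have e := S.inv_lift_unique hm hd (by rw [hg.ψ c hc, h, mul_inv_cancel_right]) hu (sq hN' h2)
  refine C.rep_unique (C.rep_mul hM hN) ⟨(C.rep_mul hM hN).hz, okMat_mm hN'.ok hM.ok, fun n hn => ?_⟩
  rw [app_mm, ← hN'.eq _ (app_lt_of_ok hM.ok _), ← hM.eq n hn, ← e, ← Module.End.mul_apply,
    ← S.act_mul _ _ (S.commz hm) hg.hz, inv_mul_cancel_right]

theorem comm_T {g : G} {M : List ℕ} (hg : g ∈ CP z P) (hM : C.Rep g M) : mm M mT = mm mT M := by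
  refine C.rep_unique (C.rep_mul hM C.rep_t) ?_
  rw [← S.ker_central C.t_mem C.t_ψ hg]
  exact C.rep_mul C.rep_t hM

theorem o_T {M : List ℕ} (hM : C.Rep S.o M) : mm M mT = mm mT2 M := by
  have h : S.o * C.R.t = C.R.t * C.R.t * S.o := by
    rw [← mul_inv_eq_iff_eq_mul]
    rcases C.R.t_p with e | e <;> rw [e]
    · exact S.op
    · rw [show S.o * (S.p * S.p) * S.o⁻¹ = (S.o * S.p * S.o⁻¹) * (S.o * S.p * S.o⁻¹) by group, S.op]
  refine C.rep_unique (C.rep_mul hM C.rep_t) ?_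
  rw [h]
  exact C.rep_mul (C.rep_mul C.rep_t C.rep_t) hM

end Coord

end Cfsg.Agent.Spor.JFour
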