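import Cfsg.Agent.Lib.Spor.JFourType.Canon
import Cfsg.Agent.Lib.Spor.JFourType.Mathieu.Lifts

/-!
The section over the elementary abelian group of the hexad stabiliser: involution lifts closed under products and
invariant under the Sylow three-subgroup, with the action of the normalising elements on it.
-/

set_option autoImplicit false
set_option maxRecDepth 100000
set_option linter.style.haveILetI false

open Cfsg Cfsg.Agent.Spor.Golay
open Cfsg.Agent.Spor.Cos.J4Sub (app mm app_mm app_xor app_zero)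

namespace Cfsg.Agent.Spor.JFour

variable {G : Type*} [Group G] {z : G} {P : Subgroup G}

/-- The word of an element of the four-dimensional group. -/
def kw (k : ℕ) : List ℕ :=
  (if k.testBit 0 then [0] else []) ++ (if k.testBit 1 then [1] else []) ++ (if k.testBit 2 then [2] else []) ++
    (if k.testBit 3 then [3] else [])

/-- The images of the basis under the generators. -/
def sg : ℕ → List ℕ
  | 4 => [2, 3, 4, 8]
  | 5 => [1, 2, 8, 12]
  | 6 => [8, 12, 1, 3]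
  | 7 => [7, 2, 4, 10]
  | 9 => [4, 8, 1, 2]
  | _ => [1, 2, 4, 8]

/-- The conjugation action of the generators. -/
def sA (g k : ℕ) : ℕ := app (sg g) k

/-- The action of the fixed-point-free element. -/
def su (k : ℕ) : ℕ := sA 4 (sA 5 k)

theorem sA_lt_check : ((List.range 16).all fun k => [4, 5, 6, 7, 9].all fun g => decide (sA g k < 16)) = true := by
  decide +kernel

theorem sect_check : ((List.range 16).all fun k => [4, 5, 6, 7, 9].all fun g =>
      wordP (g :: kw k) == wordP (kw (sA g k) ++ [g])) = true ∧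
    ((List.range 16).all fun a => (List.range 16).all fun b =>
      (wordP (kw a ++ kw b) == wordP (kw (a ^^^ b))) && ((a == b) || (List.range 24).any fun i => Golay.get (wordP (kw a)) i != Golay.get (wordP (kw b)) i)) = true ∧
    ((List.range 16).all fun k => (k == 0) || tbConj.any fun p => (p.2.all fun i => decide (i < 9)) &&
      wordP (p.2 ++ [0]) == wordP (kw k ++ p.2)) = true ∧
    ((List.range 16).all fun k => (k ^^^ su k ^^^ su (su k) == 0) &&
      (k ^^^ sA 4 (sA 4 (sA 5 k)) ^^^ sA 4 (sA 4 (sA 5 (sA 4 (sA 4 (sA 5 k))))) == 0)) = true := by decide +kernel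

theorem sA_lt {g k : ℕ} (hg : g ∈ [4, 5, 6, 7, 9]) (hk : k < 16) : sA g k < 16 :=
  of_decide_eq_true (List.all_eq_true.1 (List.all_eq_true.1 sA_lt_check k (List.mem_range.2 hk)) g hg)

theorem su_lt {k : ℕ} (hk : k < 16) : su k < 16 := sA_lt (by simp) (sA_lt (by simp) hk)

theorem sA_xor (g a b : ℕ) : sA g (a ^^^ b) = sA g a ^^^ sA g b := app_xor _ a b

theorem perm_sA {g k : ℕ} (hg : g ∈ [4, 5, 6, 7, 9]) (hk : k < 16) :
    permOf (pk g) * wordπ (kw k) * (permOf (pk g))⁻¹ = wordπ (kw (sA g k)) := by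
  have h := wordπ_congr (beq_iff_eq.1 (List.all_eq_true.1 (List.all_eq_true.1 sect_check.1 k (List.mem_range.2 hk)) g hg))
  rw [wordπ_cons, wordπ_append, wordπ_single] at h
  rw [h, mul_inv_cancel_right]

theorem wordπ_kw_mul {a b : ℕ} (ha : a < 16) (hb : b < 16) : wordπ (kw a) * wordπ (kw b) = wordπ (kw (a ^^^ b)) := by
  have h := List.all_eq_true.1 (List.all_eq_true.1 sect_check.2.1 a (List.mem_range.2 ha)) b (List.mem_range.2 hb)
  simp only [Bool.and_eq_true, beq_iff_eq] at h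
  rw [← wordπ_append]
  exact wordπ_congr h.1

theorem wordπ_kw_zero : wordπ (kw 0) = 1 := by
  rw [show kw 0 = [] from rfl, wordπ_nil]

theorem wordπ_kw_two_pow {i : ℕ} (hi : i < 4) : wordπ (kw (2 ^ i)) = permOf (pk i) := by
  interval_cases i <;> exact wordπ_single _

theorem wordπ_kw_inj {a b : ℕ} (ha : a < 16) (hb : b < 16) (h : wordπ (kw a) = wordπ (kw b)) : a = b := by
  have hc := List.all_eq_true.1 (List.all_eq_true.1 sect_check.2.1 a (List.mem_range.2 ha)) b (List.mem_range.2 hb)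
  simp only [Bool.and_eq_true, beq_iff_eq, Bool.or_eq_true, bne_iff_ne, ne_eq, List.any_eq_true, List.mem_range] at hc
  refine hc.2.resolve_right fun ⟨i, hi, hne⟩ => hne ?_
  rw [wordπ_eq, wordπ_eq] at h
  have h' := congrArg (fun σ : Equiv.Perm GolayPt => idx (σ (pt i))) h
  simpa only [idx_permOf (wordP_valid _), idx_pt hi] using h'

namespace Setting

variable (S : Setting z P)
include S

/-- Involution lifts of the same permutation differ by the central involution. -/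
theorem lift_diff {c d : G} (hc : c ∈ CP z P) (hd : d ∈ CP z P) (hc2 : c * c = 1) (hd2 : d * d = 1)
    (h : S.ψ c = S.ψ d) : c = d ∨ c = d * z := by
  have hu : d⁻¹ * c ∈ CP z P := mul_mem (inv_mem hd) hc
  have huψ : S.ψ (d⁻¹ * c) = 1 := by rw [S.ψ_mul _ (inv_mem hd) _ hc, S.ψ_inv hd, h, inv_mul_cancel]
  have hcd : d * c = c * d := by
    have e := S.ker_central hu huψ hd
    rw [inv_eq_of_mul_eq_one_right hd2] at e
    calc d * c = d * c * (d * d) := by rw [hd2, mul_one]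
      _ = (d * c * d) * d := by group
      _ = d * (d * c) * d := by rw [e]
      _ = _ := by rw [← mul_assoc, hd2, one_mul]
  have hu2 : d⁻¹ * c * (d⁻¹ * c) = 1 := by
    rw [inv_eq_of_mul_eq_one_right hd2, show d * c * (d * c) = d * (c * d) * c by group, ← hcd,
      show d * (d * c) * c = (d * d) * (c * c) by group, hd2, hc2, mul_one]
  have hne : S.p * S.p ≠ 1 := fun e => S.p_ne (by have := S.p_pow; rwa [e, one_mul] at this)
  have h4 : S.p * S.p * (S.p * S.p) = S.p := by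
    rw [show S.p * S.p * (S.p * S.p) = S.p * S.p * S.p * S.p by group, S.p_pow, one_mul]
  have hz2 : ∀ u, u * z = z * u → z * u * (z * u) = u * u := fun u hu => by
    rw [show z * u * (z * u) = z * (u * z) * u by group, hu, ← mul_assoc, S.zz, one_mul]
  rcases S.ker_cases hu huψ with (e | e | e) | (e | e | e)
  · exact Or.inl (inv_mul_eq_one.1 e).symm
  · exact absurd (e ▸ hu2) hne
  · rw [e, h4] at hu2; exact absurd hu2 S.p_ne
  · exact Or.inr (inv_mul_eq_iff_eq_mul.1 e)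
  · rw [e, hz2 _ S.pz] at hu2; exact absurd hu2 hne
  · rw [e, hz2 _ S.pp_z, h4] at hu2; exact absurd hu2 S.p_ne

variable [Finite G]

theorem good_kw {k : ℕ} (hk : k < 16) : S.Good (wordπ (kw k)) := by
  by_cases h0 : k = 0
  · exact ⟨1, one_mem _, by rw [h0, wordπ_kw_zero, S.ψ_one], one_mul 1⟩
  have h := List.all_eq_true.1 sect_check.2.2.1 k (List.mem_range.2 hk)
  simp only [Bool.or_eq_true, beq_iff_eq, h0, false_or, List.any_eq_true, Bool.and_eq_true, List.all_eq_true,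
    decide_eq_true_eq] at h
  obtain ⟨p, -, hp, hpe⟩ := h
  have hm : wordπ p.2 ∈ Cfsg.Spor.M22 := by
    refine list_prod_mem fun a ha => ?_
    obtain ⟨j, hj, rfl⟩ := List.mem_map.1 ha
    exact pk_mem (hp j hj)
  have e := wordπ_congr hpe
  rw [wordπ_append, wordπ_append, wordπ_single] at e
  have h1 := S.good_conj S.good_zero hm
  rwa [e, mul_inv_cancel_right] at h1

theorem good_pk {i : ℕ} (hi : i < 4) : S.Good (permOf (pk i)) := by
  rw [← wordπ_kw_two_pow hi]
  exact S.good_kw (by interval_cases i <;> norm_num)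

end Setting

/-- Lifts of the four-dimensional group closed under products. -/
structure Sect {S : Setting z P} (C : Coord S) where
  /-- the lifts -/
  b : ℕ → G
  mem : ∀ k < 16, b k ∈ CP z P
  ψ_b : ∀ k < 16, S.ψ (b k) = wordπ (kw k)
  mul : ∀ j < 16, ∀ k < 16, b j * b k = b (j ^^^ k)
  conj_u : ∀ k < 16, C.R.x * C.R.y * b k * (C.R.x * C.R.y)⁻¹ = b (su k)

/-- A product from a bit vector. -/
def bp (v : ℕ → G) (k : ℕ) : G :=
  (if k.testBit 0 then v 0 else 1) * (if k.testBit 1 then v 1 else 1) *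
    ((if k.testBit 2 then v 2 else 1) * (if k.testBit 3 then v 3 else 1))

theorem bp_mul {v : ℕ → G} (h2 : ∀ i < 4, v i * v i = 1) (hc : ∀ i < 4, ∀ j < 4, v i * v j = v j * v i) (j k : ℕ) :
    bp v j * bp v k = bp v (j ^^^ k) := by
  have hcc : ∀ i < 4, ∀ i' < 4, ∀ a b : Bool,
      Commute (if a then v i else 1) (if b then v i' else 1) := fun i hi i' hi' a b => by
    cases a <;> cases b
    · exact Commute.refl _
    · exact Commute.one_left _
    · exact Commute.one_right _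
    · exact hc i hi i' hi'
  have hx : ∀ i < 4, (if j.testBit i then v i else 1) * (if k.testBit i then v i else 1) =
      if (j ^^^ k).testBit i then v i else 1 := fun i hi => by
    rw [Nat.testBit_xor]
    cases j.testBit i <;> cases k.testBit i <;> simp [h2 i hi]
  have c1 : ∀ a b c d : Bool, Commute ((if a then v 2 else 1) * (if b then v 3 else 1))
      ((if c then v 0 else 1) * (if d then v 1 else 1)) := fun a b c d =>
    ((hcc 2 (by norm_num) 0 (by norm_num) a c).mul_left (hcc 3 (by norm_num) 0 (by norm_num) b c)).mul_right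
      ((hcc 2 (by norm_num) 1 (by norm_num) a d).mul_left (hcc 3 (by norm_num) 1 (by norm_num) b d))
  unfold bp
  rw [(c1 _ _ _ _).mul_mul_mul_comm, (hcc 1 (by norm_num) 0 (by norm_num) _ _).mul_mul_mul_comm,
    (hcc 3 (by norm_num) 2 (by norm_num) _ _).mul_mul_mul_comm, hx 0 (by norm_num), hx 1 (by norm_num),
    hx 2 (by norm_num), hx 3 (by norm_num)]

theorem Coord.xy_mem {S : Setting z P} (C : Coord S) : C.R.x * C.R.y ∈ CP z P := mul_mem C.R.x_mem C.R.y_mem

theorem Coord.xy_ψ {S : Setting z P} (C : Coord S) : S.ψ (C.R.x * C.R.y) = wordπ [4, 5] := by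
  rw [S.ψ_mul _ C.R.x_mem _ C.R.y_mem, C.R.x_ψ, C.R.y_ψ, show [4, 5] = [4] ++ [5] from rfl, wordπ_append,
    wordπ_single, wordπ_single]

theorem su_perm {k : ℕ} (hk : k < 16) :
    wordπ [4, 5] * wordπ (kw k) * (wordπ [4, 5])⁻¹ = wordπ (kw (su k)) := by
  rw [show [4, 5] = [4] ++ [5] from rfl, wordπ_append, wordπ_single, wordπ_single, su,
    ← perm_sA (g := 4) (by simp) (sA_lt (g := 5) (by simp) hk), ← perm_sA (g := 5) (by simp) hk]
  group

theorem exists_sect {S : Setting z P} (C : Coord S) [Finite G] : Nonempty (Sect C) := by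
  set u := C.R.x * C.R.y with hu
  have hum : u ∈ CP z P := C.xy_mem
  have huz : u * z * u⁻¹ = z := by rw [S.commz hum, mul_inv_cancel_right]
  have hconj : ∀ {c : G}, c ∈ CP z P → c * c = 1 → ∀ {k : ℕ}, k < 16 → S.ψ c = wordπ (kw k) →
      u * c * u⁻¹ ∈ CP z P ∧ u * c * u⁻¹ * (u * c * u⁻¹) = 1 ∧ S.ψ (u * c * u⁻¹) = wordπ (kw (su k)) := by
    intro c hc hc2 k hk hψ
    exact ⟨mul_mem (mul_mem hum hc) (inv_mem hum),
      by rw [show u * c * u⁻¹ * (u * c * u⁻¹) = u * (c * c) * u⁻¹ by group, hc2, mul_one, mul_inv_cancel],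
      by rw [S.ψ_conj hum hc, hu, C.xy_ψ, hψ, su_perm hk]⟩
  have hcomm : ∀ {c d : G}, c ∈ CP z P → d ∈ CP z P → c * c = 1 → d * d = 1 → ∀ {j k : ℕ}, j < 16 → k < 16 →
      S.ψ c = wordπ (kw j) → S.ψ d = wordπ (kw k) → c * d = d * c := by
    intro c d hc hd hc2 hd2 j k hj hk hcψ hdψ
    exact S.inner_comm hc hd hc2 hd2 (by rw [hcψ, hdψ, wordπ_kw_mul hj hk, wordπ_kw_mul hk hj, Nat.xor_comm])
      (by rw [hcψ, hdψ, wordπ_kw_mul hj hk]; exact S.good_kw (Nat.xor_lt_two_pow (n := 4) hj hk))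
  -- a normalised lift
  have key : ∀ k < 16, ∃ c ∈ CP z P, c * c = 1 ∧ S.ψ c = wordπ (kw k) ∧
      c * (u * c * u⁻¹) * (u * (u * c * u⁻¹) * u⁻¹) = 1 := by
    intro k hk
    obtain ⟨c, hc, hψ, hc2⟩ := S.good_kw hk
    obtain ⟨d1, d2, d3⟩ := hconj hc hc2 hk hψ
    obtain ⟨e1, e2, e3⟩ := hconj d1 d2 (su_lt hk) d3
    set n := c * (u * c * u⁻¹) * (u * (u * c * u⁻¹) * u⁻¹) with hn
    have hnm : n ∈ CP z P := mul_mem (mul_mem hc d1) e1
    have hn2 : n * n = 1 := by
      have a := hcomm hc d1 hc2 d2 hk (su_lt hk) hψ d3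
      have b := hcomm hc e1 hc2 e2 hk (su_lt (su_lt hk)) hψ e3
      have d := hcomm d1 e1 d2 e2 (su_lt hk) (su_lt (su_lt hk)) d3 e3
      set c1 := u * c * u⁻¹
      set c2 := u * c1 * u⁻¹
      have hcm : Commute (c * c1) c2 := (show Commute c c2 from b).mul_left d
      rw [hn, hcm.symm.mul_mul_mul_comm, (show Commute c1 c from a.symm).mul_mul_mul_comm, hc2, d2, e2, mul_one,
        mul_one]
    have hnψ : S.ψ n = 1 := by
      rw [hn, S.ψ_mul _ (mul_mem hc d1) _ e1, S.ψ_mul _ hc _ d1, hψ, d3, e3, wordπ_kw_mul hk (su_lt hk),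
        wordπ_kw_mul (Nat.xor_lt_two_pow (n := 4) hk (su_lt hk)) (su_lt (su_lt hk))]
      have h := List.all_eq_true.1 sect_check.2.2.2 k (List.mem_range.2 hk)
      simp only [Bool.and_eq_true, beq_iff_eq] at h
      rw [h.1, wordπ_kw_zero]
    rcases S.lift_diff hnm (one_mem _) hn2 (one_mul 1) (by rw [hnψ, S.ψ_one]) with e | e
    · exact ⟨c, hc, hc2, hψ, e⟩
    rw [one_mul] at e
    refine ⟨c * z, mul_mem hc S.z_mem, ?_, by rw [S.ψ_mul _ hc _ S.z_mem, S.ψ_z, hψ, mul_one], ?_⟩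
    · rw [show c * z * (c * z) = c * (z * c) * z by group, ← S.commz hc,
        show c * (c * z) * z = (c * c) * (z * z) by group, hc2, S.zz, mul_one]
    have k1 : u * (c * z) * u⁻¹ = u * c * u⁻¹ * z := by
      rw [show u * (c * z) * u⁻¹ = u * c * u⁻¹ * (u * z * u⁻¹) by group, huz]
    have k2 : u * (u * c * u⁻¹ * z) * u⁻¹ = u * (u * c * u⁻¹) * u⁻¹ * z := by
      rw [show u * (u * c * u⁻¹ * z) * u⁻¹ = u * (u * c * u⁻¹) * u⁻¹ * (u * z * u⁻¹) by group, huz]
    rw [k1, k2]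
    have hz1 := S.commz d1
    calc c * z * (u * c * u⁻¹ * z) * (u * (u * c * u⁻¹) * u⁻¹ * z)
        = c * (z * (u * c * u⁻¹)) * z * (u * (u * c * u⁻¹) * u⁻¹) * z := by group
      _ = c * (u * c * u⁻¹) * (z * z) * (u * (u * c * u⁻¹) * u⁻¹) * z := by rw [← hz1]; group
      _ = n * z := by rw [S.zz, mul_one]
      _ = 1 := by rw [e, S.zz]
  obtain ⟨b0, m0, s0, ψ0, n0⟩ := key 1 (by norm_num)
  obtain ⟨b2, m2, s2, ψ2, n2⟩ := key 4 (by norm_num)
  obtain ⟨m1, s1, ψ1⟩ := hconj m0 s0 (k := 1) (by norm_num) ψ0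
  obtain ⟨m3, s3, ψ3⟩ := hconj m2 s2 (k := 4) (by norm_num) ψ2
  rw [show su 1 = 2 by decide +kernel] at ψ1
  rw [show su 4 = 8 by decide +kernel] at ψ3
  let v : ℕ → G := fun i => if i = 0 then b0 else if i = 1 then u * b0 * u⁻¹ else if i = 2 then b2 else u * b2 * u⁻¹
  have hv : ∀ i < 4, v i ∈ CP z P ∧ v i * v i = 1 ∧ S.ψ (v i) = wordπ (kw (2 ^ i)) := by
    intro i hi
    interval_cases i
    exacts [⟨m0, s0, ψ0⟩, ⟨m1, s1, ψ1⟩, ⟨m2, s2, ψ2⟩, ⟨m3, s3, ψ3⟩]
  have hp : ∀ i < 4, (2 : ℕ) ^ i < 16 := fun i hi => Nat.pow_lt_pow_right (by norm_num) (show i < 4 from hi)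
  have hc : ∀ i < 4, ∀ j < 4, v i * v j = v j * v i := fun i hi j hj =>
    hcomm (hv i hi).1 (hv j hj).1 (hv i hi).2.1 (hv j hj).2.1 (hp i hi) (hp j hj) (hv i hi).2.2 (hv j hj).2.2
  have hm := bp_mul (fun i hi => (hv i hi).2.1) hc
  have hbm : ∀ k, bp v k ∈ CP z P := fun k => by
    have h : ∀ i < 4, ∀ a : Bool, (if a then v i else 1) ∈ CP z P := fun i hi a => by
      cases a
      · exact one_mem _
      · exact (hv i hi).1
    exact mul_mem (mul_mem (h 0 (by norm_num) _) (h 1 (by norm_num) _))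
      (mul_mem (h 2 (by norm_num) _) (h 3 (by norm_num) _))
  have hb0 : bp v 0 = 1 := by simp [bp]
  have hb2 : ∀ i < 4, bp v (2 ^ i) = v i := fun i hi => by interval_cases i <;> simp [bp, Nat.testBit]
  have hψb : ∀ k < 2 ^ 4, S.ψ (bp v k) = wordπ (kw k) := by
    refine xor_induction (p := fun k => S.ψ (bp v k) = wordπ (kw k)) (by rw [hb0, S.ψ_one, wordπ_kw_zero]) 4
      fun i hi m hm' ih => ?_
    rw [← hm, S.ψ_mul _ (hbm _) _ (hbm _), hb2 i hi, (hv i hi).2.2, ih,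
      wordπ_kw_mul (hp i hi) (hm'.trans (hp i hi))]
  refine ⟨⟨bp v, fun k _ => hbm k, hψb, fun j _ k _ => hm j k, ?_⟩⟩
  show ∀ k < 2 ^ 4, u * bp v k * u⁻¹ = bp v (su k)
  have hsq : ∀ {c d : G}, c * c = 1 → d * d = 1 → c * d = d * c → (c * d)⁻¹ = c * d := fun {c d} h1 h2 h3 => by
    rw [mul_inv_rev, inv_eq_of_mul_eq_one_right h1, inv_eq_of_mul_eq_one_right h2, h3]
  have hgen : ∀ i < 4, u * v i * u⁻¹ = bp v (su (2 ^ i)) := by
    intro i hi
    interval_cases i
    · rw [show su (2 ^ 0) = 2 ^ 1 by decide +kernel, hb2 1 (by norm_num)]; rfl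
    · rw [show su (2 ^ 1) = 2 ^ 0 ^^^ 2 ^ 1 by decide +kernel, ← hm, hb2 0 (by norm_num), hb2 1 (by norm_num)]
      show u * (u * b0 * u⁻¹) * u⁻¹ = b0 * (u * b0 * u⁻¹)
      rw [← hsq s0 s1 (hc 0 (by norm_num) 1 (by norm_num))]
      exact (inv_eq_of_mul_eq_one_right n0).symm
    · rw [show su (2 ^ 2) = 2 ^ 3 by decide +kernel, hb2 3 (by norm_num)]; rfl
    · rw [show su (2 ^ 3) = 2 ^ 2 ^^^ 2 ^ 3 by decide +kernel, ← hm, hb2 2 (by norm_num), hb2 3 (by norm_num)]
      show u * (u * b2 * u⁻¹) * u⁻¹ = b2 * (u * b2 * u⁻¹)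
      rw [← hsq s2 s3 (hc 2 (by norm_num) 3 (by norm_num))]
      exact (inv_eq_of_mul_eq_one_right n2).symm
  refine xor_induction (p := fun k => u * bp v k * u⁻¹ = bp v (su k)) ?_ 4 fun i hi m _ ih => ?_
  · rw [show su 0 = 0 from rfl, hb0, mul_one, mul_inv_cancel]
  · rw [← hm, show u * (bp v (2 ^ i) * bp v m) * u⁻¹ = u * bp v (2 ^ i) * u⁻¹ * (u * bp v m * u⁻¹) by group, ih,
      hb2 i hi, hgen i hi, hm]
    rw [su, su, su, sA_xor, sA_xor]

namespace Sect

variable {S : Setting z P} {C : Coord S} (X : Sect C)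

theorem b_zero : X.b 0 = 1 := by
  have h := X.mul 0 (by norm_num) 0 (by norm_num)
  rw [Nat.xor_self] at h
  exact mul_eq_left.1 h

theorem sq {k : ℕ} (hk : k < 16) : X.b k * X.b k = 1 := by
  rw [X.mul k hk k hk, Nat.xor_self, X.b_zero]

theorem comm {j k : ℕ} (hj : j < 16) (hk : k < 16) : X.b j * X.b k = X.b k * X.b j := by
  rw [X.mul j hj k hk, X.mul k hk j hj, Nat.xor_comm]

theorem b_inj {j k : ℕ} (hj : j < 16) (hk : k < 16) (h : X.b j = X.b k ∨ X.b j = X.b k * z) : j = k := by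
  refine wordπ_kw_inj hj hk ?_
  rw [← X.ψ_b j hj, ← X.ψ_b k hk]
  rcases h with e | e <;> rw [e]
  rw [S.ψ_mul _ (X.mem k hk) _ S.z_mem, S.ψ_z, mul_one]

variable [Finite G]

/-- Conjugates of the lifts up to the central involution. -/
theorem conj_upto {g : G} {π : Equiv.Perm GolayPt} (hg : Coord.Norm (S := S) g π) {k j : ℕ} (hk : k < 16)
    (hj : j < 16) (h : π * wordπ (kw k) * π⁻¹ = wordπ (kw j)) :
    g * X.b k * g⁻¹ = X.b j ∨ g * X.b k * g⁻¹ = X.b j * z :=
  S.lift_diff (hg.mem _ (X.mem k hk)) (X.mem j hj)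
    (by rw [show g * X.b k * g⁻¹ * (g * X.b k * g⁻¹) = g * (X.b k * X.b k) * g⁻¹ by group, X.sq hk, mul_one,
      mul_inv_cancel]) (X.sq hj) (by rw [hg.ψ _ (X.mem k hk), X.ψ_b k hk, h, X.ψ_b j hj])

/-- Conjugation is exact when it carries the fixed-point-free element to one acting exactly. -/
theorem conj_exact_of {g v : G} {π : Equiv.Perm GolayPt} (hg : Coord.Norm (S := S) g π) (hv : v ∈ CP z P)
    (hvψ : π * wordπ [4, 5] * π⁻¹ = S.ψ v) (σ τ : ℕ → ℕ) (hσ : ∀ k < 16, σ k < 16)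
    (hπ : ∀ k < 16, π * wordπ (kw k) * π⁻¹ = wordπ (kw (σ k))) (hτ : ∀ k < 16, τ k < 16)
    (hτv : ∀ k < 16, v * X.b k * v⁻¹ = X.b (τ k)) (hfpf : ∀ k < 16, k ^^^ τ k ^^^ τ (τ k) = 0) :
    ∀ k < 16, g * X.b k * g⁻¹ = X.b (σ k) := by
  intro k hk
  refine (X.conj_upto hg hk (hσ k hk) (hπ k hk)).resolve_right fun e => S.ext.ne ?_
  set u := C.R.x * C.R.y
  have hgu := hg.mem u C.xy_mem
  -- the conjugate of the fixed-point-free element acts as the given one
  have hw : ∀ d ∈ CP z P, g * u * g⁻¹ * d * (g * u * g⁻¹)⁻¹ = v * d * v⁻¹ := fun d hd => by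
    have hm : v⁻¹ * (g * u * g⁻¹) ∈ CP z P := mul_mem (inv_mem hv) hgu
    have hψ : S.ψ (v⁻¹ * (g * u * g⁻¹)) = 1 := by
      rw [S.ψ_mul _ (inv_mem hv) _ hgu, S.ψ_inv hv, hg.ψ u C.xy_mem, C.xy_ψ, hvψ, inv_mul_cancel]
    have hc := S.ker_central hm hψ hd
    calc g * u * g⁻¹ * d * (g * u * g⁻¹)⁻¹ =
          v * ((v⁻¹ * (g * u * g⁻¹)) * d * (v⁻¹ * (g * u * g⁻¹))⁻¹) * v⁻¹ := by group
      _ = _ := by rw [hc, mul_inv_cancel_right]
  have hvz : v * z * v⁻¹ = z := by rw [S.commz hv, mul_inv_cancel_right]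
  have step : ∀ i < 16, ∀ j < 16, g * X.b i * g⁻¹ = X.b j * z → g * X.b (su i) * g⁻¹ = X.b (τ j) * z := by
    intro i hi j hj hij
    rw [← X.conj_u i hi, show g * (u * X.b i * u⁻¹) * g⁻¹ = g * u * g⁻¹ * (g * X.b i * g⁻¹) * (g * u * g⁻¹)⁻¹ by
      group, hij, hw _ (mul_mem (X.mem j hj) S.z_mem),
      show v * (X.b j * z) * v⁻¹ = v * X.b j * v⁻¹ * (v * z * v⁻¹) by group, hτv j hj, hvz]
  have e1 := step k hk _ (hσ k hk) e
  have e2 := step _ (su_lt hk) _ (hτ _ (hσ k hk)) e1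
  have hprod : X.b k * X.b (su k) * X.b (su (su k)) = 1 := by
    rw [X.mul k hk _ (su_lt hk), X.mul _ (Nat.xor_lt_two_pow (n := 4) hk (su_lt hk)) _ (su_lt (su_lt hk))]
    have h := List.all_eq_true.1 sect_check.2.2.2 k (List.mem_range.2 hk)
    simp only [Bool.and_eq_true, beq_iff_eq] at h
    rw [h.1, X.b_zero]
  have hj := hσ k hk
  set j := σ k
  have hprod' : X.b j * X.b (τ j) * X.b (τ (τ j)) = 1 := by
    rw [X.mul j hj _ (hτ j hj), X.mul _ (Nat.xor_lt_two_pow (n := 4) hj (hτ j hj)) _ (hτ _ (hτ j hj)), hfpf j hj,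
      X.b_zero]
  have h1 : g * (X.b k * X.b (su k) * X.b (su (su k))) * g⁻¹ = X.b j * z * (X.b (τ j) * z) * (X.b (τ (τ j)) * z) := by
    rw [← e, ← e1, ← e2]; group
  have hzj := S.commz (X.mem _ (hτ j hj))
  rw [hprod, mul_one, mul_inv_cancel, show X.b j * z * (X.b (τ j) * z) * (X.b (τ (τ j)) * z) =
    X.b j * (z * X.b (τ j)) * z * X.b (τ (τ j)) * z by group, ← hzj,
    show X.b j * (X.b (τ j) * z) * z * X.b (τ (τ j)) * z = X.b j * X.b (τ j) * (z * z) * X.b (τ (τ j)) * z by group,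
    S.zz, mul_one, hprod', one_mul] at h1
  exact h1.symm

end Sect

end Cfsg.Agent.Spor.JFour
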