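import Cfsg.Agent.Lib.Spor.JFourType.Sect

/-!
The action of the normalising elements on the preimage of the four-dimensional group, as five by five matrices.
-/

set_option autoImplicit false
set_option maxRecDepth 100000
set_option linter.style.haveILetI false

open Cfsg Cfsg.Agent.Spor.Golay
open Cfsg.Agent.Spor.Cos.J4Sub (app mm app_mm app_xor app_zero)

namespace Cfsg.Agent.Spor.JFour

variable {G : Type*} [Group G] {z : G} {P : Subgroup G}

/-- A power of the central involution. -/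
def zp (z : G) (e : Bool) : G := if e then z else 1

/-- A generator on the five-dimensional preimage. -/
def m5 (g χ : ℕ) : List ℕ :=
  1 :: (List.range 4).map fun j => (if χ.testBit j then 1 else 0) + 2 * sA g (2 ^ j)

/-- A word on the five-dimensional preimage. -/
def ev5 (χ : ℕ) : List ℕ → List ℕ
  | [] => [1, 2, 4, 8, 16]
  | g :: w => mm (m5 g (if g = 7 then χ else 0)) (ev5 χ w)

theorem chi_check : ((List.range 16).all fun χ =>
    (ev5 χ [4, 5, 6, 7, 5, 6] != ev5 χ [7, 5]) || χ == 0 || χ == 9) = true ∧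
    wordP [4, 5, 6, 7, 5, 6] = wordP [7, 5] ∧
    wordP [4, 4, 5] = wordP [4, 5, 4] ∧ wordP [5, 4, 5] = wordP [4, 5, 5] ∧
    wordP [6, 4, 5] = wordP ([4, 4, 5] ++ [6]) ∧ wordP [9, 4, 5] = wordP ([4, 5] ++ [9]) ∧
    ((List.range 16).all fun χ => [4, 5, 6, 7].all fun g =>
      (List.range 5).all fun j => decide (app (m5 g χ) (2 ^ j) < 32)) = true := by decide +kernel

theorem m5_lt {g χ : ℕ} (hg : g ∈ [4, 5, 6, 7, 9]) : ∀ v, app (m5 g χ) v < 32 := by
  intro v
  refine Cos.J4Sub.app_lt (n := 5) (fun c hc => ?_) v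
  simp only [m5, List.mem_cons, List.mem_map, List.mem_range] at hc
  rcases hc with rfl | ⟨j, hj, rfl⟩
  · norm_num
  · have := sA_lt (k := 2 ^ j) hg (Nat.pow_lt_pow_right (by norm_num) (show j < 4 from hj))
    split_ifs <;> omega

theorem ev5_lt {χ : ℕ} : ∀ {w : List ℕ}, (∀ g ∈ w, g ∈ [4, 5, 6, 7, 9]) → ∀ v, app (ev5 χ w) v < 32
  | [], _, v => Cos.J4Sub.app_lt (n := 5) (fun c hc => by simp [ev5] at hc; omega) v
  | g :: w, h, v => by
    rw [ev5, app_mm]
    exact m5_lt (h g (List.mem_cons_self ..)) _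

namespace Setting

variable (S : Setting z P)
include S

theorem zp_comm {c : G} (hc : c * z = z * c) (e : Bool) : c * zp z e = zp z e * c := by
  cases e
  · simp [zp]
  · exact hc

theorem zp_mem (e : Bool) : zp z e ∈ CP z P := by
  cases e
  · exact one_mem _
  · exact S.z_mem

theorem zp_mem_E (e : Bool) : zp z e ∈ twoCoreOfCentralizer z := by
  cases e
  · exact one_mem _
  · exact S.ext.mem

theorem zp_mul (a b : Bool) : zp z a * zp z b = zp z (xor a b) := by
  cases a <;> cases b <;> simp [zp, S.zz]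

theorem ψ_zp (e : Bool) : S.ψ (zp z e) = 1 := by
  cases e
  · exact S.ψ_one
  · exact S.ψ_z

end Setting

namespace Sect

variable {S : Setting z P} {C : Coord S} (X : Sect C)

/-- The element with given five bits. -/
def β (v : ℕ) : G := zp z (v.testBit 0) * X.b (v / 2)

theorem β_mem {v : ℕ} (hv : v < 32) : X.β v ∈ CP z P := mul_mem (S.zp_mem _) (X.mem _ (by omega))

theorem β_mul {v w : ℕ} (hv : v < 32) (hw : w < 32) : X.β v * X.β w = X.β (v ^^^ w) := by
  have h : (v ^^^ w) / 2 = v / 2 ^^^ w / 2 := by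
    apply Nat.eq_of_testBit_eq
    intro i
    simp [Nat.testBit_div_two, Nat.testBit_xor]
  rw [β, β, β, h, ← X.mul (v / 2) (by omega) (w / 2) (by omega), Nat.testBit_xor, ← S.zp_mul,
    show zp z (v.testBit 0) * X.b (v / 2) * (zp z (w.testBit 0) * X.b (w / 2)) =
      zp z (v.testBit 0) * (X.b (v / 2) * zp z (w.testBit 0)) * X.b (w / 2) by group,
    S.zp_comm (S.commz (X.mem _ (by omega)))]
  group

theorem β_zero : X.β 0 = 1 := by rw [β, show (0 : ℕ) / 2 = 0 from rfl, X.b_zero]; simp [zp]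

theorem β_one : X.β 1 = z := by rw [β, show (1 : ℕ) / 2 = 0 from rfl, X.b_zero]; simp [zp]

theorem β_inj {v w : ℕ} (hv : v < 32) (hw : w < 32) (h : X.β v = X.β w) : v = w := by
  have h2 : v / 2 = w / 2 := by
    refine wordπ_kw_inj (by omega) (by omega) ?_
    have := congrArg S.ψ h
    rwa [β, β, S.ψ_mul _ (S.zp_mem _) _ (X.mem _ (by omega)), S.ψ_mul _ (S.zp_mem _) _ (X.mem _ (by omega)),
      S.ψ_zp, S.ψ_zp, one_mul, one_mul, X.ψ_b _ (by omega), X.ψ_b _ (by omega)] at this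
  rw [β, β, h2] at h
  have h0 := mul_right_cancel h
  have h1 : v.testBit 0 = w.testBit 0 := by
    revert h0
    cases v.testBit 0 <;> cases w.testBit 0 <;> simp [zp, S.ext.ne, Ne.symm S.ext.ne]
  simp only [Nat.testBit_zero, decide_eq_decide] at h1
  omega

theorem β_two_pow {i : ℕ} (hi : i < 4) : X.β (2 ^ (i + 1)) = X.b (2 ^ i) := by
  interval_cases i <;> simp [β, zp]

theorem β_conj {g : G} (hgz : g * z = z * g) {γ χ : ℕ} (hγ : γ ∈ [4, 5, 6, 7, 9])
    (h : ∀ i < 4, g * X.b (2 ^ i) * g⁻¹ = X.b (sA γ (2 ^ i)) * zp z (χ.testBit i)) :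
    ∀ v < 32, g * X.β v * g⁻¹ = X.β (app (m5 γ χ) v) := by
  refine xor_induction (p := fun v => g * X.β v * g⁻¹ = X.β (app (m5 γ χ) v)) ?_ 5 fun i hi m hm ih => ?_
  · rw [app_zero, X.β_zero, mul_one, mul_inv_cancel]
  have hp : (2 : ℕ) ^ i < 32 := Nat.pow_lt_pow_right (by norm_num) (show i < 5 from hi)
  have hm' : m < 32 := hm.trans hp
  rw [app_xor, ← X.β_mul (m5_lt hγ _) (m5_lt hγ _), ← X.β_mul hp hm',
    show g * (X.β (2 ^ i) * X.β m) * g⁻¹ = g * X.β (2 ^ i) * g⁻¹ * (g * X.β m * g⁻¹) by group, ih]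
  congr 1
  have hlen : i < (m5 γ χ).length := by simp [m5]; omega
  rw [app_two_pow hlen, List.getD_eq_getElem _ _ hlen]
  rcases i with _ | j
  · simp [m5, X.β_one, hgz]
  · have hj : j < 4 := by omega
    rw [X.β_two_pow hj, h j hj]
    simp only [m5, List.getElem_cons_succ, List.getElem_map, List.getElem_range]
    have hs := sA_lt (k := 2 ^ j) hγ (Nat.pow_lt_pow_right (by norm_num) (show j < 4 from hj))
    rw [β, S.zp_comm (S.commz (X.mem _ hs))]
    cases χ.testBit j <;> simp [Nat.testBit_zero, Nat.add_mul_mod_self_left, Nat.add_mul_div_left]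

theorem x_conj [Finite G] : ∀ k < 16, C.R.x * X.b k * C.R.x⁻¹ = X.b (sA 4 k) := by
  have hn : Coord.Norm (S := S) C.R.x (permOf (pk 4)) := C.R.x_ψ ▸ C.norm_of_mem C.R.x_mem
  refine X.conj_exact_of hn C.xy_mem ?_ _ su (fun k hk => sA_lt (by simp) hk) (fun k hk => perm_sA (by simp) hk)
    (fun k hk => su_lt hk) X.conj_u fun k hk => ?_
  · rw [C.xy_ψ, mul_inv_eq_iff_eq_mul, ← wordπ_single 4, ← wordπ_append, ← wordπ_append]
    exact wordπ_congr chi_check.2.2.1
  · have h := List.all_eq_true.1 sect_check.2.2.2 k (List.mem_range.2 hk)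
    simp only [Bool.and_eq_true, beq_iff_eq] at h
    exact h.1

theorem y_conj [Finite G] : ∀ k < 16, C.R.y * X.b k * C.R.y⁻¹ = X.b (sA 5 k) := by
  have hn : Coord.Norm (S := S) C.R.y (permOf (pk 5)) := C.R.y_ψ ▸ C.norm_of_mem C.R.y_mem
  refine X.conj_exact_of hn C.xy_mem ?_ _ su (fun k hk => sA_lt (by simp) hk) (fun k hk => perm_sA (by simp) hk)
    (fun k hk => su_lt hk) X.conj_u fun k hk => ?_
  · rw [C.xy_ψ, mul_inv_eq_iff_eq_mul, ← wordπ_single 5, ← wordπ_append, ← wordπ_append]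
    exact wordπ_congr chi_check.2.2.2.1
  · have h := List.all_eq_true.1 sect_check.2.2.2 k (List.mem_range.2 hk)
    simp only [Bool.and_eq_true, beq_iff_eq] at h
    exact h.1

end Sect

namespace Full

variable {S : Setting z P} (F : Full S) (X : Sect F.toCoord) [Finite G]

theorem s_conj : ∀ k < 16, F.s * X.b k * F.s⁻¹ = X.b (sA 6 k) := by
  have hn : Coord.Norm (S := S) F.s (permOf (pk 6)) := F.s_ψ ▸ F.toCoord.norm_of_mem F.s_mem
  have hxxy : F.R.x * F.R.x * F.R.y ∈ CP z P := mul_mem (mul_mem F.R.x_mem F.R.x_mem) F.R.y_mem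
  refine X.conj_exact_of hn hxxy ?_ _ (fun k => sA 4 (sA 4 (sA 5 k))) (fun k hk => sA_lt (by simp) hk)
    (fun k hk => perm_sA (by simp) hk) (fun k hk => sA_lt (by simp) (sA_lt (by simp) (sA_lt (by simp) hk)))
    (fun k hk => ?_) fun k hk => ?_
  · rw [S.ψ_mul _ (mul_mem F.R.x_mem F.R.x_mem) _ F.R.y_mem, S.ψ_mul _ F.R.x_mem _ F.R.x_mem, F.R.x_ψ, F.R.y_ψ,
      mul_inv_eq_iff_eq_mul, ← wordπ_single 6, ← wordπ_single 4, ← wordπ_single 5, ← wordπ_append, ← wordπ_append,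
      ← wordπ_append, ← wordπ_append]
    exact wordπ_congr chi_check.2.2.2.2.1
  · rw [show F.R.x * F.R.x * F.R.y * X.b k * (F.R.x * F.R.x * F.R.y)⁻¹ =
      F.R.x * (F.R.x * (F.R.y * X.b k * F.R.y⁻¹) * F.R.x⁻¹) * F.R.x⁻¹ by group, X.y_conj k hk,
      X.x_conj _ (sA_lt (by simp) hk), X.x_conj _ (sA_lt (by simp) (sA_lt (by simp) hk))]
  · have h := List.all_eq_true.1 sect_check.2.2.2 k (List.mem_range.2 hk)
    simp only [Bool.and_eq_true, beq_iff_eq] at h
    exact h.2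

theorem o_conj : ∀ k < 16, F.o * X.b k * F.o⁻¹ = X.b (sA 9 k) := by
  refine X.conj_exact_of F.o_norm F.toCoord.xy_mem ?_ _ su (fun k hk => sA_lt (by simp) hk)
    (fun k hk => perm_sA (by simp) hk) (fun k hk => su_lt hk) X.conj_u fun k hk => ?_
  · rw [F.toCoord.xy_ψ, mul_inv_eq_iff_eq_mul, ← wordπ_single 9, ← wordπ_append, ← wordπ_append]
    exact wordπ_congr chi_check.2.2.2.2.2.1
  · have h := List.all_eq_true.1 sect_check.2.2.2 k (List.mem_range.2 hk)
    simp only [Bool.and_eq_true, beq_iff_eq] at h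
    exact h.1

theorem exists_chi : ∃ χ, (χ = 0 ∨ χ = 9) ∧ ∀ v < 32, F.w * X.β v * F.w⁻¹ = X.β (app (m5 7 χ) v) := by
  have hn : Coord.Norm (S := S) F.w (permOf (pk 7)) := F.w_ψ ▸ F.toCoord.norm_of_mem F.w_mem
  have hp : ∀ i < 4, (2 : ℕ) ^ i < 16 := fun i hi => Nat.pow_lt_pow_right (by norm_num) (show i < 4 from hi)
  have hbit : ∀ i : ℕ, ∃ e : Bool, i < 4 → F.w * X.b (2 ^ i) * F.w⁻¹ = X.b (sA 7 (2 ^ i)) * zp z e := fun i => by
    by_cases hi : i < 4
    · rcases X.conj_upto hn (hp i hi) (sA_lt (by simp) (hp i hi)) (perm_sA (by simp) (hp i hi)) with e | e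
      · exact ⟨false, fun _ => by rw [e]; simp [zp]⟩
      · exact ⟨true, fun _ => by rw [e]; simp [zp]⟩
    · exact ⟨false, fun h => absurd h hi⟩
  choose e he using hbit
  have hex : ∀ a b c d : Bool, ∃ χ < 16, χ.testBit 0 = a ∧ χ.testBit 1 = b ∧ χ.testBit 2 = c ∧ χ.testBit 3 = d := by
    decide +kernel
  obtain ⟨χ, hχ, h0, h1, h2, h3⟩ := hex (e 0) (e 1) (e 2) (e 3)
  have hw : ∀ v < 32, F.w * X.β v * F.w⁻¹ = X.β (app (m5 7 χ) v) :=
    X.β_conj (S.commz F.w_mem) (by simp) fun i hi => by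
      interval_cases i
      · rw [h0]; exact he 0 (by norm_num)
      · rw [h1]; exact he 1 (by norm_num)
      · rw [h2]; exact he 2 (by norm_num)
      · rw [h3]; exact he 3 (by norm_num)
  refine ⟨χ, ?_, hw⟩
  let gl : ℕ → G := fun k => if k = 4 then F.R.x else if k = 5 then F.R.y else if k = 6 then F.s else F.w
  have hgl : ∀ k ∈ [4, 5, 6, 7], gl k ∈ CP z P ∧ S.ψ (gl k) = permOf (pk k) ∧
      ∀ v < 32, gl k * X.β v * (gl k)⁻¹ = X.β (app (m5 k (if k = 7 then χ else 0)) v) := by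
    intro k hk
    simp only [List.mem_cons, List.not_mem_nil, or_false] at hk
    have z0 : ∀ i, (0 : ℕ).testBit i = false := fun i => Nat.zero_testBit i
    rcases hk with rfl | rfl | rfl | rfl
    · exact ⟨F.R.x_mem, F.R.x_ψ, X.β_conj (S.commz F.R.x_mem) (by simp) fun i hi => by
        rw [if_neg (by norm_num : ¬ (4 : ℕ) = 7), z0, zp, if_neg (by simp), mul_one]; exact X.x_conj _ (hp i hi)⟩
    · exact ⟨F.R.y_mem, F.R.y_ψ, X.β_conj (S.commz F.R.y_mem) (by simp) fun i hi => by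
        rw [if_neg (by norm_num : ¬ (5 : ℕ) = 7), z0, zp, if_neg (by simp), mul_one]; exact X.y_conj _ (hp i hi)⟩
    · exact ⟨F.s_mem, F.s_ψ, X.β_conj (S.commz F.s_mem) (by simp) fun i hi => by
        rw [if_neg (by norm_num : ¬ (6 : ℕ) = 7), z0, zp, if_neg (by simp), mul_one]; exact F.s_conj X _ (hp i hi)⟩
    · exact ⟨F.w_mem, F.w_ψ, hw⟩
  have word : ∀ w : List ℕ, (∀ k ∈ w, k ∈ [4, 5, 6, 7]) → (w.map gl).prod ∈ CP z P ∧
      S.ψ (w.map gl).prod = wordπ w ∧
      ∀ v < 32, (w.map gl).prod * X.β v * (w.map gl).prod⁻¹ = X.β (app (ev5 χ w) v) := by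
    intro w
    induction w with
    | nil =>
      intro _
      refine ⟨one_mem _, by rw [List.map_nil, List.prod_nil, S.ψ_one, wordπ_nil], fun v hv => ?_⟩
      rw [List.map_nil, List.prod_nil, one_mul, inv_one, mul_one, ev5,
        show [1, 2, 4, 8, 16] = Cos.J4Sub.idCols 5 0 from rfl, Cos.J4Sub.app_idCols 5 0 v hv, Nat.shiftLeft_zero]
    | cons k w ih =>
      intro hkw
      obtain ⟨m1, m2, m3⟩ := ih fun j hj => hkw j (List.mem_cons_of_mem _ hj)
      obtain ⟨k1, k2, k3⟩ := hgl k (hkw k (List.mem_cons_self ..))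
      rw [List.map_cons, List.prod_cons]
      refine ⟨mul_mem k1 m1, by rw [S.ψ_mul _ k1 _ m1, k2, m2, wordπ_cons], fun v hv => ?_⟩
      rw [ev5, app_mm, show gl k * (w.map gl).prod * X.β v * (gl k * (w.map gl).prod)⁻¹ =
        gl k * ((w.map gl).prod * X.β v * (w.map gl).prod⁻¹) * (gl k)⁻¹ by group, m3 v hv,
        k3 _ (ev5_lt (fun j hj => by
          have := hkw j (List.mem_cons_of_mem _ hj)
          simp only [List.mem_cons, List.not_mem_nil, or_false] at this ⊢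
          tauto) v)]
  obtain ⟨a1, a2, a3⟩ := word [4, 5, 6, 7, 5, 6] (by decide)
  obtain ⟨b1, b2, b3⟩ := word [7, 5] (by decide)
  set U := ([4, 5, 6, 7, 5, 6].map gl).prod
  set V := ([7, 5].map gl).prod
  have hk : V⁻¹ * U ∈ CP z P := mul_mem (inv_mem b1) a1
  have hψ : S.ψ (V⁻¹ * U) = 1 := by
    rw [S.ψ_mul _ (inv_mem b1) _ a1, S.ψ_inv b1, a2, b2, wordπ_congr chi_check.2.1, inv_mul_cancel]
  have hsame : ∀ v < 32, app (ev5 χ [4, 5, 6, 7, 5, 6]) v = app (ev5 χ [7, 5]) v := fun v hv => by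
    refine X.β_inj (ev5_lt (by decide) v) (ev5_lt (by decide) v) ?_
    rw [← a3 v hv, ← b3 v hv]
    have hc := S.ker_central hk hψ (X.β_mem hv)
    calc U * X.β v * U⁻¹ = V * ((V⁻¹ * U) * X.β v * (V⁻¹ * U)⁻¹) * V⁻¹ := by group
      _ = _ := by rw [hc, mul_inv_cancel_right]
  have heq : ev5 χ [4, 5, 6, 7, 5, 6] = ev5 χ [7, 5] := by
    have hl1 : (ev5 χ [4, 5, 6, 7, 5, 6]).length = 5 := by simp [ev5, mm]
    have hl2 : (ev5 χ [7, 5]).length = 5 := by simp [ev5, mm]
    refine List.ext_getElem (hl1.trans hl2.symm) fun i i1 i2 => ?_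
    have hi : i < 5 := hl1 ▸ i1
    have := hsame (2 ^ i) (Nat.pow_lt_pow_right (by norm_num) hi)
    rwa [app_two_pow i1, app_two_pow i2, List.getD_eq_getElem _ _ i1, List.getD_eq_getElem _ _ i2] at this
  have hh := List.all_eq_true.1 chi_check.1 χ (List.mem_range.2 hχ)
  simp only [heq, bne_self_eq_false, Bool.false_or, Bool.or_eq_true, beq_iff_eq] at hh
  exact hh

end Full

end Cfsg.Agent.Spor.JFour
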