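import Cfsg.Prelude.Def_JankoFourType
import Cfsg.Agent.Lib.Spor.ExtraspecialOut
import Cfsg.Agent.Lib.Spor.ExtraPair
import Cfsg.Agent.Lib.Grp.Cores
import Cfsg.Agent.S0379
import Cfsg.Agent.Lib.Spor.JFourType.Perms

/-!
The centraliser of an involution in a group of Janko-four type: its action on the extraspecial group modulo the
centre and the map of the centraliser of the three-group onto the Mathieu group on 22 points.
-/

set_option autoImplicit false
set_option linter.style.haveILetI false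

open Cfsg Cfsg.Agent.Spor.Golay

namespace Cfsg.Agent.Spor.JFour

/-- Binary vectors of length twelve. -/
abbrev V12 : Type := Fin 12 → ZMod 2

variable {G : Type*} [Group G] {z : G} {P : Subgroup G}

/-- The centraliser of the involution and the three-group. -/
abbrev CP (z : G) (P : Subgroup G) : Subgroup G :=
  Subgroup.centralizer ({z} : Set G) ⊓ Subgroup.centralizer (P : Set G)

/-- The data. -/
structure Setting (z : G) (P : Subgroup G) where
  /-- the generator of the three-group -/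
  p : G
  p_pow : p * p * p = 1
  p_ne : p ≠ 1
  hP : P = Subgroup.zpowers p
  pz : p * z = z * p
  ext : ExtraPair.Ext z (twoCoreOfCentralizer z)
  cardE : Nat.card (twoCoreOfCentralizer z) = 2 ^ 13
  fix : ∀ e ∈ twoCoreOfCentralizer z, p * e = e * p → e = 1 ∨ e = z
  /-- coordinates -/
  rep : G → V12
  rep_mul : ∀ x ∈ twoCoreOfCentralizer z, ∀ y ∈ twoCoreOfCentralizer z, rep (x * y) = rep x + rep y
  rep_zero : ∀ x ∈ twoCoreOfCentralizer z, rep x = 0 ↔ x = 1 ∨ x = z
  rep_surj : ∀ v, ∃ x ∈ twoCoreOfCentralizer z, rep x = v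
  /-- squares -/
  q : QuadraticForm (ZMod 2) V12
  q_nd : (QuadraticMap.polarBilin q).Nondegenerate
  q_sq : ∀ x ∈ twoCoreOfCentralizer z, x * x = ExtraOut.pw z (q (rep x))
  q_conj : ∀ x ∈ twoCoreOfCentralizer z, ∀ y ∈ twoCoreOfCentralizer z,
    x * y * x⁻¹ = y * ExtraOut.pw z (QuadraticMap.polar q (rep x) (rep y))
  /-- the action of the centraliser -/
  act : G → Module.End (ZMod 2) V12
  act_mul : ∀ g h, g * z = z * g → h * z = z * h → act (g * h) = act g * act h
  act_one : act 1 = 1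
  act_rep : ∀ g, g * z = z * g → ∀ x ∈ twoCoreOfCentralizer z, act g (rep x) = rep (g * x * g⁻¹)
  act_ker : ∀ g, g * z = z * g → (act g = 1 ↔ g ∈ twoCoreOfCentralizer z)
  act_quad : ∀ g, g * z = z * g → ∀ v, q (act g v) = q v
  /-- the map onto the simple group -/
  ψ : G → Equiv.Perm GolayPt
  ψ_mem : ∀ c ∈ CP z P, ψ c ∈ Cfsg.Spor.M22
  ψ_mul : ∀ c ∈ CP z P, ∀ d ∈ CP z P, ψ (c * d) = ψ c * ψ d
  ψ_surj : ∀ g ∈ Cfsg.Spor.M22, ∃ c ∈ CP z P, ψ c = g
  ψ_ker : ∀ c ∈ CP z P, ψ c = 1 → ∃ i j : ℕ, c = z ^ i * p ^ j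
  /-- an outer element -/
  o : G
  oz : o * z = z * o
  op : o * p * o⁻¹ = p * p
  ψ_o : ∀ c ∈ CP z P, ψ (o * c * o⁻¹) = permOf (pk 9) * ψ c * (permOf (pk 9))⁻¹
  der : p ∈ ⁅CP z P, CP z P⁆
  norm_cases : ∀ n, n * z = z * n → n * p * n⁻¹ ∈ P → n ∈ CP z P ∨ n * o ∈ CP z P
  frattini : ∀ h, h * z = z * h → ∃ e ∈ twoCoreOfCentralizer z, ∃ c ∈ CP z P, h = e * c ∨ h = e * c * o
  cardC : Nat.card (CP z P) = 6 * 443520

theorem mem_CP_iff {p : G} {c : G} :
    c ∈ CP z (Subgroup.zpowers p) ↔ c * z = z * c ∧ c * p = p * c := by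
  rw [CP, Subgroup.mem_inf, Subgroup.mem_centralizer_singleton_iff, Subgroup.mem_centralizer_iff]
  refine and_congr_right fun _ => ⟨fun h => (h p (Subgroup.mem_zpowers p)).symm, fun h x hx => ?_⟩
  obtain ⟨i, rfl⟩ := Subgroup.mem_zpowers_iff.1 hx
  exact ((show Commute c p from h).zpow_right i).eq.symm

theorem pow_three_cases {p : G} (h3 : p * p * p = 1) (j : ℕ) : p ^ j = 1 ∨ p ^ j = p ∨ p ^ j = p * p := by
  have h : p ^ 3 = 1 := by rw [pow_succ, pow_two]; exact h3
  rw [pow_eq_pow_mod j h]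
  have : j % 3 < 3 := Nat.mod_lt _ (by norm_num)
  interval_cases j % 3
  · exact Or.inl (pow_zero _)
  · exact Or.inr (Or.inl (pow_one _))
  · exact Or.inr (Or.inr (pow_two _))

/-- The group is simple. -/
theorem simple_M22 : IsSimpleGroup ↥Cfsg.Spor.M22 := by
  let e : ↥Cfsg.Spor.M22 ≃* ↥(MulAction.stabilizer Cfsg.M24 (none : Cfsg.GolayPt) ⊓
      MulAction.stabilizer Cfsg.M24 (some 0 : Cfsg.GolayPt)) :=
    { toFun := fun g => ⟨⟨g.1, g.2.1.1⟩, ⟨g.2.1.2, g.2.2⟩⟩
      invFun := fun g => ⟨g.1.1, ⟨⟨g.1.2, g.2.1⟩, g.2.2⟩⟩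
      left_inv := fun g => rfl
      right_inv := fun g => rfl
      map_mul' := fun g h => rfl }
  exact e.isSimpleGroup_congr.2 (Cfsg.Agent.S0379.result none (some 0) (by decide))

variable [Finite G]

theorem exists_setting (hJ : IsOfJankoFourTypeWith z P) : Nonempty (Setting z P) := by
  classical
  obtain ⟨hzo, hEs, hEc, hself, ⟨N, hEN, hNH, hHN, hNc, ⟨hNn, ⟨eN⟩⟩, hPN⟩, hPc, hfix, hne, hder⟩ := hJ
  haveI : Fact (Nat.Prime 3) := ⟨Nat.prime_three⟩
  have hz1 : z ≠ 1 := fun e => by rw [e, orderOf_one] at hzo; omega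
  have hzz : z * z = 1 := by rw [← pow_two, ← hzo, pow_orderOf_eq_one]
  haveI : (pCore 2 ↥(Subgroup.centralizer ({z} : Set G))).Normal := Grp.pCore_isNormal
  have hcz : ∀ {g : G}, g ∈ Subgroup.centralizer ({z} : Set G) ↔ g * z = z * g := fun {g} =>
    Subgroup.mem_centralizer_singleton_iff
  have hEH : ∀ e ∈ twoCoreOfCentralizer z, e * z = z * e := fun e he => hcz.1 (Subgroup.map_subtype_le _ he)
  have hnorm : ∀ c, c * z = z * c → ∀ x ∈ twoCoreOfCentralizer z, c * x * c⁻¹ ∈ twoCoreOfCentralizer z := by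
    rintro c hc x ⟨k, hk, rfl⟩
    exact ⟨⟨c, hcz.2 hc⟩ * k * ⟨c, hcz.2 hc⟩⁻¹, Subgroup.Normal.conj_mem inferInstance _ hk _, rfl⟩
  -- the three-group
  haveI : IsCyclic P := isCyclic_of_prime_card hPc
  obtain ⟨g0, hg0⟩ := IsCyclic.exists_generator (α := P)
  obtain ⟨p, hpP⟩ := g0
  have hP : P = Subgroup.zpowers p := le_antisymm (fun x hx => by
    obtain ⟨i, hi⟩ := Subgroup.mem_zpowers_iff.1 (hg0 ⟨x, hx⟩)
    exact Subgroup.mem_zpowers_iff.2 ⟨i, congrArg Subtype.val hi⟩) (Subgroup.zpowers_le.2 hpP)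
  subst hP
  have hp3 : orderOf p = 3 := by rw [← Nat.card_zpowers]; exact hPc
  have hppp : p * p * p = 1 := by rw [← pow_three', ← hp3, pow_orderOf_eq_one]
  have hp1 : p ≠ 1 := fun e => by rw [e, orderOf_one] at hp3; omega
  have hpz : p * z = z * p := hcz.1 (hNH (hPN hpP))
  have hzE : z ∈ twoCoreOfCentralizer z := by
    have : z ∈ twoCoreOfCentralizer z ⊓ Subgroup.centralizer (Subgroup.zpowers p : Set G) := hfix ▸ Subgroup.mem_zpowers z
    exact this.1
  have hfix' : ∀ e ∈ twoCoreOfCentralizer z, p * e = e * p → e = 1 ∨ e = z := fun e he hc => by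
    have hm : e ∈ twoCoreOfCentralizer z ⊓ Subgroup.centralizer (Subgroup.zpowers p : Set G) :=
      ⟨he, (mem_CP_iff.2 ⟨hEH e he, hc.symm⟩).2⟩
    rw [hfix] at hm
    obtain ⟨i, rfl⟩ := Subgroup.mem_zpowers_iff.1 hm
    rcases Int.even_or_odd' i with ⟨k, rfl | rfl⟩
    · left; rw [zpow_mul, zpow_two, hzz, one_zpow]
    · right; rw [zpow_add, zpow_mul, zpow_two, hzz, one_zpow, zpow_one, one_mul]
  -- the coordinates
  obtain ⟨ze, π, q, d⟩ := ExtraOut.exists_data (ι := Fin 12) hEs (by rw [hEc, Fintype.card_fin]; norm_num)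
  obtain ⟨hsqc, hcommc⟩ := Fus.extraspecial_two_facts hEs
  have hcases : ∀ x : twoCoreOfCentralizer z, (∀ y, y * x = x * y) → x = 1 ∨ x = ze := fun x hx => by
    refine (d.ker x).1 ?_
    by_contra h
    refine h (Multiplicative.toAdd.injective ?_)
    rw [toAdd_one]
    refine d.nd.1 _ fun v => ?_
    obtain ⟨y, hy⟩ := d.surj (Multiplicative.ofAdd v)
    have e := ExtraOut.conj_pw d x y
    rw [← hx y, mul_inv_cancel_right, hy, toAdd_ofAdd] at e
    rw [QuadraticMap.polarBilin_apply_apply]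
    exact ExtraOut.pw_inj d.ne (mul_left_cancel (e.symm.trans (by rw [ExtraOut.pw_zero, mul_one])))
  have hzE' : (ze : G) = z := by
    rcases hcases ⟨z, hzE⟩ (fun y => Subtype.ext (hEH _ y.2)) with e | e
    · exact absurd (congrArg Subtype.val e) hz1
    · exact (congrArg Subtype.val e).symm
  have hext : ExtraPair.Ext z (twoCoreOfCentralizer z) := by
    have hcen : ∀ x : twoCoreOfCentralizer z, x ∈ Subgroup.center _ → (x : G) = 1 ∨ (x : G) = z := fun x hx => by
      rcases hcases x (Subgroup.mem_center_iff.1 hx) with rfl | rfl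
      · exact Or.inl rfl
      · exact Or.inr hzE'
    refine ⟨hzE, hz1, hzz, hEH, fun x hx y hy => hcen _ (hcommc ⟨x, hx⟩ ⟨y, hy⟩), fun x hx => ?_,
      fun x hx hc => hcen ⟨x, hx⟩ (Subgroup.mem_center_iff.2 fun b => Subtype.ext (hc b b.2)), fun c hc => ?_, hnorm⟩
    · rw [← pow_two]
      exact hcen _ (hsqc ⟨x, hx⟩)
    · exact hself ⟨hcz.2 (hc z hzE).symm, Subgroup.mem_centralizer_iff.2 hc⟩
  have hpw : ∀ t : ZMod 2, ((ExtraOut.pw ze t : twoCoreOfCentralizer z) : G) = ExtraOut.pw z t := fun t => by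
    rcases ExtraOut.two_cases t with rfl | rfl
    · rw [ExtraOut.pw_zero, ExtraOut.pw_zero]; rfl
    · rw [ExtraOut.pw_one, ExtraOut.pw_one, hzE']
  let rep : G → V12 := fun x => if h : x ∈ twoCoreOfCentralizer z then (π ⟨x, h⟩).toAdd else 0
  have hrep : ∀ x (h : x ∈ twoCoreOfCentralizer z), rep x = (π ⟨x, h⟩).toAdd := fun x h => dif_pos h
  let aut : G → MulAut (twoCoreOfCentralizer z) := fun c => if hc : c * z = z * c then
      { toFun := fun x => ⟨c * x * c⁻¹, hnorm c hc _ x.2⟩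
        invFun := fun x => ⟨c⁻¹ * x * c, by
          have h' : c⁻¹ * z = z * c⁻¹ := ((show Commute c z from hc).inv_left).eq
          simpa using hnorm c⁻¹ h' _ x.2⟩
        left_inv := fun x => Subtype.ext (by simp [mul_assoc])
        right_inv := fun x => Subtype.ext (by simp [mul_assoc])
        map_mul' := fun x y => Subtype.ext (by simp [mul_assoc]) }
    else 1
  have haut : ∀ c, c * z = z * c → ∀ x, ((aut c x : twoCoreOfCentralizer z) : G) = c * x * c⁻¹ := fun c hc x => by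
    simp only [aut, dif_pos hc]; rfl
  have hact_rep : ∀ c, c * z = z * c → ∀ x ∈ twoCoreOfCentralizer z,
      ExtraOut.ind d (aut c) (rep x) = rep (c * x * c⁻¹) := fun c hc x hx => by
    rw [hrep x hx, ExtraOut.ind_apply, hrep _ (hnorm c hc x hx)]
    exact congrArg (fun u => (π u).toAdd) (Subtype.ext (haut c hc ⟨x, hx⟩))
  have hrep_eq : ∀ x ∈ twoCoreOfCentralizer z, ∀ y ∈ twoCoreOfCentralizer z, rep x = rep y → x = y ∨ x = y * z :=
    fun x hx y hy e => by
      rw [hrep x hx, hrep y hy, Equiv.apply_eq_iff_eq] at e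
      rcases ExtraOut.mem_ker_cases d e with e | e
      · exact Or.inl (congrArg Subtype.val e)
      · exact Or.inr (by rw [← hzE']; exact congrArg Subtype.val e)
  -- the quotient by N
  let φ : ↥(Subgroup.centralizer ({z} : Set G)) →* MulAut ↥Cfsg.Spor.M22 := eN.toMonoidHom.comp (QuotientGroup.mk' _)
  have hφker : ∀ h, φ h = 1 ↔ (h : G) ∈ N := fun h => by
    show eN (QuotientGroup.mk h) = 1 ↔ _
    rw [map_eq_one_iff eN eN.injective, QuotientGroup.eq_one_iff]
    rfl
  have hφsurj : Function.Surjective φ := eN.surjective.comp (QuotientGroup.mk'_surjective _)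
  -- N is the product
  have hN : ∀ n ∈ N, ∃ e ∈ twoCoreOfCentralizer z, ∃ j : ℕ, n = e * p ^ j := by
    intro n hn
    let f : twoCoreOfCentralizer z × Subgroup.zpowers p → N := fun u =>
      ⟨(u.1 : G) * u.2, mul_mem (hEN u.1.2) (hPN u.2.2)⟩
    have hinf : twoCoreOfCentralizer z ⊓ Subgroup.zpowers p = ⊥ := by
      refine Subgroup.inf_eq_bot_of_coprime ?_
      rw [hEc, hPc]; norm_num
    have hf : Function.Injective f := fun u v e => by
      have e' : (u.1 : G) * u.2 = v.1 * v.2 := congrArg Subtype.val e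
      have hm : ((v.1 : G))⁻¹ * u.1 ∈ twoCoreOfCentralizer z ⊓ Subgroup.zpowers p := by
        refine Subgroup.mem_inf.2 ⟨mul_mem (inv_mem v.1.2) u.1.2, ?_⟩
        rw [show ((v.1 : G))⁻¹ * u.1 = v.2 * (u.2 : G)⁻¹ by
          rw [inv_mul_eq_iff_eq_mul, ← mul_assoc, ← e', mul_inv_cancel_right]]
        exact mul_mem v.2.2 (inv_mem u.2.2)
      rw [hinf, Subgroup.mem_bot, inv_mul_eq_one] at hm
      exact Prod.ext (Subtype.ext hm.symm) (Subtype.ext (mul_left_cancel (hm ▸ e')))
    have hbij := (Function.Injective.bijective_of_nat_card_le hf (by rw [Nat.card_prod, hEc, hPc, hNc, hEc]; norm_num))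
    obtain ⟨u, hu⟩ := hbij.surjective ⟨n, hn⟩
    obtain ⟨j, hj⟩ := (isOfFinOrder_of_finite p).mem_powers_iff_mem_zpowers.2 u.2.2
    exact ⟨u.1, u.1.2, j, (congrArg Subtype.val hu).symm.trans (congrArg _ hj.symm)⟩
  have hNC : ∀ n ∈ N, n * p * n⁻¹ ∈ Subgroup.zpowers p → ∃ i j : ℕ, n = z ^ i * p ^ j := by
    intro n hn hnp
    obtain ⟨e, he, j, rfl⟩ := hN n hn
    have h1 : e * p * e⁻¹ ∈ Subgroup.zpowers p := by
      rwa [show e * p ^ j * p * (e * p ^ j)⁻¹ = e * p * e⁻¹ by group] at hnp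
    have h2 : e * p * e⁻¹ * p⁻¹ ∈ twoCoreOfCentralizer z := by
      rw [show e * p * e⁻¹ * p⁻¹ = e * (p * e⁻¹ * p⁻¹) by group]
      exact mul_mem he (hnorm p hpz _ (inv_mem he))
    have h3 : e * p * e⁻¹ * p⁻¹ = 1 := by
      rw [← Subgroup.mem_bot, ← Subgroup.inf_eq_bot_of_coprime
        (H := twoCoreOfCentralizer z) (K := Subgroup.zpowers p) (by rw [hEc, hPc]; norm_num)]
      exact Subgroup.mem_inf.2 ⟨h2, mul_mem h1 (inv_mem (Subgroup.mem_zpowers p))⟩
    rw [mul_inv_eq_one, mul_inv_eq_iff_eq_mul] at h3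
    rcases hfix' e he h3.symm with rfl | rfl
    · exact ⟨0, j, by rw [pow_zero]⟩
    · exact ⟨1, j, by rw [pow_one]⟩
  -- normaliser
  have hpq : ∀ n, n * p * n⁻¹ ∈ Subgroup.zpowers p → n * p * n⁻¹ = p ∨ n * p * n⁻¹ = p * p := fun n hn => by
    obtain ⟨j, hj⟩ := (isOfFinOrder_of_finite p).mem_powers_iff_mem_zpowers.2 hn
    have hj' : n * p * n⁻¹ = p ^ j := hj.symm
    rcases pow_three_cases hppp j with e | e | e <;> rw [e] at hj'
    · exact absurd (conj_eq_one_iff.1 hj') hp1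
    · exact Or.inl hj'
    · exact Or.inr hj' 
  obtain ⟨n1, hn1⟩ : ∃ n, n * z = z * n ∧ n * p * n⁻¹ = p * p := by
    by_contra hcon
    refine hne (le_antisymm (fun n hn => ?_) (inf_le_inf le_rfl
      (Subgroup.centralizer_le_normalizer _)))
    have h1 := hcz.1 hn.1
    have h2 : n * p * n⁻¹ ∈ Subgroup.zpowers p :=
      (Subgroup.mem_normalizer_iff.1 hn.2 p).1 (Subgroup.mem_zpowers p)
    rcases hpq n h2 with e | e
    · exact mem_CP_iff.2 ⟨h1, mul_inv_eq_iff_eq_mul.1 e⟩
    · exact absurd ⟨n, h1, e⟩ hcon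
  have hsplit : ∀ n m, n * z = z * n → m * z = z * m → n * p * n⁻¹ = p * p → m * p * m⁻¹ = p * p →
      n * m ∈ CP z (Subgroup.zpowers p) := fun n m hn hm en em => mem_CP_iff.2
    ⟨by rw [mul_assoc, hm, ← mul_assoc, hn, mul_assoc], by
      rw [← mul_inv_eq_iff_eq_mul]
      calc n * m * p * (n * m)⁻¹ = n * (m * p * m⁻¹) * n⁻¹ := by group
        _ = (n * p * n⁻¹) * (n * p * n⁻¹) := by rw [em]; group
        _ = p * (p * p * p) := by rw [en]; group
        _ = p := by rw [hppp, mul_one]⟩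
  let φC : ↥(CP z (Subgroup.zpowers p)) →* MulAut ↥Cfsg.Spor.M22 := φ.comp (Subgroup.inclusion inf_le_left)
  haveI hsimp : IsSimpleGroup ↥Cfsg.Spor.M22 := simple_M22
  have hcard22 : Nat.card ↥Cfsg.Spor.M22 = 443520 := Fus.Mathieu.card22
  haveI : Nontrivial ↥Cfsg.Spor.M22 := Finite.one_lt_card_iff_nontrivial.1 (by omega)
  have hconj_inj : Function.Injective (MulAut.conj : ↥Cfsg.Spor.M22 →* MulAut ↥Cfsg.Spor.M22) := by
    rw [← MonoidHom.ker_eq_bot_iff]
    refine ((MonoidHom.normal_ker _).eq_bot_or_eq_top).resolve_right fun htop => ?_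
    obtain ⟨g, hg, hgne⟩ := pk_outer_not_inner (one_mem Cfsg.Spor.M22)
    have hc : ∀ a b : ↥Cfsg.Spor.M22, a * b * a⁻¹ = b := fun a b => by
      have : MulAut.conj a = 1 := MonoidHom.mem_ker.1 (htop ▸ Subgroup.mem_top a)
      exact DFunLike.congr_fun this b
    letI : CommGroup ↥Cfsg.Spor.M22 :=
      { (inferInstance : Group ↥Cfsg.Spor.M22) with mul_comm := fun a b => mul_inv_eq_iff_eq_mul.1 (hc a b) }
    have hp : (Nat.card ↥Cfsg.Spor.M22).Prime := IsSimpleGroup.prime_card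
    rw [hcard22] at hp
    norm_num at hp
  let hmap : ∀ g ∈ Cfsg.Spor.M22, permOf (pk 9) * g * (permOf (pk 9))⁻¹ ∈ Cfsg.Spor.M22 := fun g hg => pk_outer_conj hg
  let σ : MulAut ↥Cfsg.Spor.M22 := Golay.Aut.conjAutOf _ (permOf (pk 9)) hmap
  have hσn : σ ∉ Inn ↥Cfsg.Spor.M22 := by
    rintro ⟨h, hh⟩
    obtain ⟨g, hg, hgne⟩ := pk_outer_not_inner h.2
    have := congrArg (fun a : MulAut _ => ((a ⟨g, hg⟩ : ↥Cfsg.Spor.M22) : Equiv.Perm GolayPt)) hh
    simp only [MulAut.conj_apply, Subgroup.coe_mul, Subgroup.coe_inv] at this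
    exact hgne this.symm
  -- lifting into the normaliser
  have hlift : ∀ a : MulAut ↥Cfsg.Spor.M22, ∃ n : ↥(Subgroup.centralizer ({z} : Set G)),
      φ n = a ∧ (n : G) * p * (n : G)⁻¹ ∈ Subgroup.zpowers p := by
    intro a
    obtain ⟨h, rfl⟩ := hφsurj a
    have hh := hcz.1 h.2
    have hP' : (h : G) * p * (h : G)⁻¹ ∈ N :=
      (Subgroup.mem_normalizer_iff.1 (hHN h.2) p).1 (hPN (Subgroup.mem_zpowers p))
    have h3N : (Nat.card N).factorization 3 = 1 := by
      rw [hNc, hEc, Nat.factorization_mul (by norm_num) (by norm_num), Finsupp.add_apply,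
        Nat.Prime.factorization_self Nat.prime_three,
        Nat.factorization_eq_zero_of_not_dvd (by norm_num)]
    have hP'c : Nat.card (Subgroup.zpowers ((h : G) * p * (h : G)⁻¹)) = 3 := by
      rw [Nat.card_zpowers, ← hp3]
      exact orderOf_injective (MulAut.conj (h : G)).toMonoidHom (MulEquiv.injective _) p
    let S1 : Sylow 3 N := Sylow.ofCard ((Subgroup.zpowers p).subgroupOf N) (by
      rw [Nat.card_congr (Subgroup.subgroupOfEquivOfLe hPN).toEquiv, hPc, h3N, pow_one])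
    let S2 : Sylow 3 N := Sylow.ofCard ((Subgroup.zpowers ((h : G) * p * (h : G)⁻¹)).subgroupOf N) (by
      rw [Nat.card_congr (Subgroup.subgroupOfEquivOfLe (Subgroup.zpowers_le.2 hP')).toEquiv, hP'c, h3N, pow_one])
    obtain ⟨n, hn⟩ := MulAction.exists_smul_eq N S2 S1
    refine ⟨⟨(n : G), hNH n.2⟩ * h, ?_, ?_⟩
    · rw [map_mul, (hφker _).2 n.2, one_mul]
    · have hmem : (⟨(h : G) * p * (h : G)⁻¹, hP'⟩ : N) ∈ (S2 : Subgroup N) := by
        rw [Sylow.coe_ofCard]; exact Subgroup.mem_zpowers _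
      have := Subgroup.smul_mem_pointwise_smul _ (MulAut.conj n) _ hmem
      change _ ∈ ((n • S2 : Sylow 3 N) : Subgroup N) at this
      rw [hn, Sylow.coe_ofCard, Subgroup.mem_subgroupOf] at this
      simpa [MulAut.smul_def, mul_assoc] using this
  obtain ⟨on, hon, hop0⟩ := hlift σ
  have hoz : (on : G) * z = z * (on : G) := hcz.1 on.2
  -- the image of the centraliser is the inner group
  have himg : φC.range = Inn ↥Cfsg.Spor.M22 := by
    have hcov : ∀ a, a ∈ φC.range ∨ a * φ ⟨n1, hcz.2 hn1.1⟩ ∈ φC.range := fun a => by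
      obtain ⟨n, rfl, hn⟩ := hlift a
      rcases hpq n hn with e | e
      · exact Or.inl ⟨⟨n, mem_CP_iff.2 ⟨hcz.1 n.2, mul_inv_eq_iff_eq_mul.1 e⟩⟩, rfl⟩
      · refine Or.inr ⟨⟨n * n1, hsplit _ _ (hcz.1 n.2) hn1.1 e hn1.2⟩, ?_⟩
        rw [← map_mul]; rfl
    have hn1n : φ ⟨n1, hcz.2 hn1.1⟩ ∉ φC.range := by
      rintro ⟨c, hc⟩
      have hcN : (c : G)⁻¹ * n1 ∈ N := by
        have : φ (⟨(c : G), c.2.1⟩⁻¹ * ⟨n1, hcz.2 hn1.1⟩) = 1 := by
          rw [map_mul, map_inv, ← hc]; exact inv_mul_cancel _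
        exact (hφker _).1 this
      have hcp := mem_CP_iff.1 c.2
      have e : (c : G)⁻¹ * n1 * p * ((c : G)⁻¹ * n1)⁻¹ = p * p := by
        calc (c : G)⁻¹ * n1 * p * ((c : G)⁻¹ * n1)⁻¹ = (c : G)⁻¹ * (n1 * p * n1⁻¹) * c := by group
          _ = (c : G)⁻¹ * ((p * p) * c) := by rw [hn1.2, mul_assoc]
          _ = p * p := by
            rw [mul_assoc p p, ← hcp.2, ← mul_assoc p, ← hcp.2, mul_assoc (c : G), inv_mul_cancel_left]
      obtain ⟨i, j, hij⟩ := hNC _ hcN (by rw [e]; exact mul_mem (Subgroup.mem_zpowers p) (Subgroup.mem_zpowers p))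
      rw [hij, show z ^ i * p ^ j * p * (z ^ i * p ^ j)⁻¹ = z ^ i * p * (z ^ i)⁻¹ by group,
        ((show Commute z p from hpz.symm).pow_left i).eq, mul_inv_cancel_right] at e
      exact hp1 (mul_left_cancel (a := p) (by rw [mul_one]; exact e.symm))
    have hidx : φC.range.index = 2 := by
      rw [Subgroup.index_eq_two_iff]
      refine ⟨φ ⟨n1, hcz.2 hn1.1⟩, fun a => ?_⟩
      rcases hcov a with ha | ha
      · exact Or.inr ⟨ha, fun h => hn1n (by simpa using mul_mem (inv_mem ha) h)⟩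
      · refine Or.inl ⟨ha, fun h => hn1n ?_⟩
        simpa using mul_mem (inv_mem h) ha
    haveI : φC.range.Normal := Subgroup.normal_of_index_eq_two hidx
    have hle : Inn ↥Cfsg.Spor.M22 ≤ φC.range := by
      rintro a ⟨g, rfl⟩
      rcases ((inferInstance : (φC.range.comap MulAut.conj).Normal).eq_bot_or_eq_top) with h | h
      · exfalso
        have h2 : (φC.range.comap (MulAut.conj : ↥Cfsg.Spor.M22 →* _)).index ≤ 2 := by
          rw [Subgroup.index_comap, ← hidx]
          exact Nat.le_of_dvd (by omega) (Subgroup.relIndex_dvd_index_of_normal _ _)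
        rw [h, Subgroup.index_bot, hcard22] at h2
        omega
      · exact (SetLike.ext_iff.1 h g).2 (Subgroup.mem_top g)
    refine (eq_of_le_of_ge hle ?_).symm
    have hI : (Inn ↥Cfsg.Spor.M22).index = 2 := S2062.result
    have h3 := Subgroup.relIndex_mul_index hle
    rw [hidx, hI] at h3
    rw [← Subgroup.relIndex_eq_one]
    omega
  have hop : (on : G) * p * (on : G)⁻¹ = p * p := (hpq _ hop0).resolve_left fun e => hσn (by
    rw [← hon, ← himg]
    exact ⟨⟨(on : G), mem_CP_iff.2 ⟨hoz, mul_inv_eq_iff_eq_mul.1 e⟩⟩, rfl⟩)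
  let ψ : G → Equiv.Perm GolayPt := fun c => if hc : c ∈ CP z (Subgroup.zpowers p) then
    ((Function.invFun (MulAut.conj : ↥Cfsg.Spor.M22 →* _) (φC ⟨c, hc⟩) : ↥Cfsg.Spor.M22) : Equiv.Perm GolayPt) else 1
  have hψ : ∀ c (hc : c ∈ CP z (Subgroup.zpowers p)), ∃ g : ↥Cfsg.Spor.M22,
      (MulAut.conj g = φC ⟨c, hc⟩) ∧ ψ c = g := fun c hc => by
    obtain ⟨g, hg⟩ := himg.le ⟨⟨c, hc⟩, rfl⟩
    refine ⟨_, hg, ?_⟩
    simp only [ψ, dif_pos hc]
    rw [← hg, Function.leftInverse_invFun hconj_inj]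
  refine ⟨{
    p := p
    p_pow := hppp
    p_ne := hp1
    hP := rfl
    pz := hpz
    ext := hext
    cardE := hEc
    fix := hfix'
    rep := rep
    rep_mul := fun x hx y hy => by
      rw [hrep x hx, hrep y hy, hrep _ (mul_mem hx hy), ← toAdd_mul, ← map_mul]; rfl
    rep_zero := fun x hx => by
      rw [hrep x hx, toAdd_eq_zero, d.ker]
      exact or_congr (Subtype.ext_iff.trans Iff.rfl) (Subtype.ext_iff.trans (by rw [hzE']))
    rep_surj := fun v => by
      obtain ⟨x, hx⟩ := d.surj (Multiplicative.ofAdd v)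
      exact ⟨x, x.2, by rw [hrep _ x.2, Subtype.coe_eta, hx, toAdd_ofAdd]⟩
    q := q
    q_nd := d.nd
    q_sq := fun x hx => by
      rw [hrep x hx, ← hpw]
      exact congrArg Subtype.val (d.sq ⟨x, hx⟩)
    q_conj := fun x hx y hy => by
      rw [hrep x hx, hrep y hy, ← hpw]
      exact congrArg Subtype.val (ExtraOut.conj_pw d ⟨x, hx⟩ ⟨y, hy⟩)
    act := fun c => ExtraOut.ind d (aut c)
    act_mul := fun g h hg hh => by
      have hgh : g * h * z = z * (g * h) := by rw [mul_assoc, hh, ← mul_assoc, hg, mul_assoc]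
      rw [show aut (g * h) = aut g * aut h from MulEquiv.ext fun x => Subtype.ext (by
        rw [haut _ hgh, MulAut.mul_apply, haut _ hg, haut _ hh]; group), ExtraOut.ind_mul]
      rfl
    act_one := by
      rw [show aut 1 = 1 from MulEquiv.ext fun x => Subtype.ext (by
        rw [haut 1 (by rw [one_mul, mul_one])]; simp), ExtraOut.ind_one]
      rfl
    act_rep := hact_rep
    act_ker := fun c hc => ⟨fun e => hext.mem_of_trivial fun x hx => by
        have := hact_rep c hc x hx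
        rw [e, Module.End.one_apply] at this
        exact hrep_eq _ (hnorm c hc x hx) x hx this.symm,
      fun hcE => ExtraOut.ind_ext d fun x => by
        show ExtraOut.ind d (aut c) _ = _
        rw [ExtraOut.ind_apply, show aut c x = (⟨c, hcE⟩ : twoCoreOfCentralizer z) * x * ⟨c, hcE⟩⁻¹ from
          Subtype.ext (haut c hc x), map_mul π, map_mul π, map_inv π, mul_comm (π ⟨c, hcE⟩), mul_inv_cancel_right]
        rfl⟩
    act_quad := fun c _ v => ExtraOut.ind_quad d _ v
    ψ := ψ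
    ψ_mem := fun c hc => by
      obtain ⟨g, -, hg⟩ := hψ c hc
      rw [hg]; exact g.2
    ψ_mul := fun c hc e he => by
      obtain ⟨g, hg, hg'⟩ := hψ c hc
      obtain ⟨h, hh, hh'⟩ := hψ e he
      obtain ⟨k, hk, hk'⟩ := hψ _ (mul_mem hc he)
      have : k = g * h := hconj_inj (by rw [map_mul, hg, hh, hk, ← map_mul]; rfl)
      rw [hg', hh', hk', this]; rfl
    ψ_surj := fun g hg => by
      obtain ⟨c, hc⟩ := himg.ge ⟨⟨g, hg⟩, rfl⟩
      obtain ⟨k, hk, hk'⟩ := hψ c c.2
      exact ⟨c, c.2, by rw [hk', hconj_inj (hk.trans hc)]⟩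
    ψ_ker := fun c hc e => by
      obtain ⟨g, hg, hg'⟩ := hψ c hc
      have hg1 : g = 1 := Subtype.ext (hg'.symm.trans e)
      rw [hg1, map_one] at hg
      refine hNC c ((hφker _).1 hg.symm) ?_
      rw [(mem_CP_iff.1 hc).2, mul_inv_cancel_right]
      exact Subgroup.mem_zpowers p
    o := on
    oz := hoz
    op := hop
    ψ_o := fun c hc => by
      have hc' := mem_CP_iff.1 hc
      have hinv : (on : G)⁻¹ * p * (on : G) = p * p := by
        have h := congrArg (fun x => (on : G)⁻¹ * (x * x) * (on : G)) hop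
        rw [show p * p * (p * p) = p * p * p * p by group, hppp, one_mul,
          show (on : G)⁻¹ * ((on : G) * p * (on : G)⁻¹ * ((on : G) * p * (on : G)⁻¹)) * (on : G) = p * p by group] at h
        exact h.symm
      have hm : (on : G) * c * (on : G)⁻¹ ∈ CP z (Subgroup.zpowers p) := by
        refine mem_CP_iff.2 ⟨?_, ?_⟩
        · have := ((show Commute (on : G) z from hoz).mul_left (show Commute c z from hc'.1)).mul_left
            (show Commute (on : G) z from hoz).inv_left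
          exact this.eq
        · rw [← mul_inv_eq_iff_eq_mul]
          calc (on : G) * c * (on : G)⁻¹ * p * ((on : G) * c * (on : G)⁻¹)⁻¹ =
                (on : G) * (c * ((on : G)⁻¹ * p * (on : G)) * c⁻¹) * (on : G)⁻¹ := by group
            _ = (on : G) * (p * p) * (on : G)⁻¹ := by
              rw [hinv, show c * (p * p) * c⁻¹ = (c * p * c⁻¹) * (c * p * c⁻¹) by group, hc'.2,
                mul_inv_cancel_right]
            _ = ((on : G) * p * (on : G)⁻¹) * ((on : G) * p * (on : G)⁻¹) := by group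
            _ = p * (p * p * p) := by rw [hop]; group
            _ = p := by rw [hppp, mul_one]
      obtain ⟨g, hg, hg'⟩ := hψ c hc
      obtain ⟨k, hk, hk'⟩ := hψ _ hm
      have hkey : (MulAut.conj k : MulAut ↥Cfsg.Spor.M22) = σ * MulAut.conj g * σ⁻¹ := by
        rw [hk, hg, ← hon]
        show φ (on * ⟨c, hc.1⟩ * on⁻¹) = φ on * φ ⟨c, hc.1⟩ * (φ on)⁻¹
        rw [map_mul, map_mul, map_inv]
      have hk2 : k = σ g := hconj_inj (hkey.trans (MulEquiv.ext fun x => by
        simp [MulAut.mul_apply, MulAut.conj_apply, map_mul, map_inv, MulAut.inv_def]))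
      rw [hg', hk', hk2]
      rfl
    der := hder (Subgroup.mem_zpowers p)
    norm_cases := fun n hn hnp => by
      rcases hpq n hnp with e | e
      · exact Or.inl (mem_CP_iff.2 ⟨hn, mul_inv_eq_iff_eq_mul.1 e⟩)
      · exact Or.inr (hsplit _ _ hn hoz e hop)
    frattini := fun h hh => by
      obtain ⟨n, hn, hnp⟩ := hlift (φ ⟨h, hcz.2 hh⟩)
      have hN' : h * (n : G)⁻¹ ∈ N := by
        have : φ (⟨h, hcz.2 hh⟩ * n⁻¹) = 1 := by rw [map_mul, map_inv, hn, mul_inv_cancel]
        exact (hφker _).1 this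
      obtain ⟨e, he, j, hej⟩ := hN _ hN'
      rw [mul_inv_eq_iff_eq_mul] at hej
      have hpj : p ^ j ∈ CP z (Subgroup.zpowers p) :=
        pow_mem (mem_CP_iff.2 ⟨hpz, rfl⟩) j
      rcases hpq n hnp with e' | e'
      · exact ⟨e, he, p ^ j * n, mul_mem hpj (mem_CP_iff.2 ⟨hcz.1 n.2, mul_inv_eq_iff_eq_mul.1 e'⟩),
          Or.inl (by rw [hej, mul_assoc])⟩
      · refine ⟨e, he, p ^ j * ((n : G) * (on : G)⁻¹), mul_mem hpj ?_, Or.inr (by rw [hej]; group)⟩
        have h2 := hsplit _ _ (hcz.1 n.2) hoz e' hop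
        have h3 : ((on : G) * (on : G))⁻¹ ∈ CP z (Subgroup.zpowers p) := inv_mem (hsplit _ _ hoz hoz hop hop)
        rw [show (n : G) * (on : G)⁻¹ = (n : G) * (on : G) * ((on : G) * (on : G))⁻¹ by group]
        exact mul_mem h2 h3
    cardC := by
      have hrange : Nat.card φC.range = 443520 := by
        rw [himg, ← hcard22]
        exact (Nat.card_congr (Equiv.ofInjective _ hconj_inj)).symm
      have hzp : orderOf (z * p) = 6 := by
        rw [(show Commute z p from hpz.symm).orderOf_mul_eq_mul_orderOf_of_coprime (by rw [hzo, hp3]; norm_num),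
          hzo, hp3]
      have hker : φC.ker = (Subgroup.zpowers (z * p)).subgroupOf (CP z (Subgroup.zpowers p)) := by
        have hzpN : z * p ∈ N := mul_mem (hEN hzE) (hPN (Subgroup.mem_zpowers p))
        ext ⟨c, hc⟩
        rw [MonoidHom.mem_ker, Subgroup.mem_subgroupOf]
        constructor
        · intro e
          obtain ⟨i, j, hij⟩ := hNC c ((hφker _).1 e) (by
            rw [(mem_CP_iff.1 hc).2, mul_inv_cancel_right]; exact Subgroup.mem_zpowers p)
          show c ∈ _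
          rw [hij]
          have hz' : z = (z * p) ^ 3 := by
            rw [(show Commute z p from hpz.symm).mul_pow, pow_succ, pow_two, hzz, one_mul, pow_succ, pow_two, hppp,
              mul_one]
          have hp' : p = (z * p) ^ 4 := by
            rw [(show Commute z p from hpz.symm).mul_pow, show z ^ 4 = (z * z) * (z * z) by
              rw [pow_succ, pow_succ, pow_succ, pow_one]; group, hzz, one_mul, one_mul, pow_succ, pow_succ, pow_two,
              hppp, one_mul]
          have hzm : z ∈ Subgroup.zpowers (z * p) := by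
            have := pow_mem (Subgroup.mem_zpowers (z * p)) 3
            rwa [← hz'] at this
          have hpm : p ∈ Subgroup.zpowers (z * p) := by
            have := pow_mem (Subgroup.mem_zpowers (z * p)) 4
            rwa [← hp'] at this
          exact mul_mem (pow_mem hzm i) (pow_mem hpm j)
        · intro hm
          exact (hφker _).2 ((Subgroup.zpowers_le.2 hzpN) hm)
      have h := Subgroup.card_eq_card_quotient_mul_card_subgroup φC.ker
      rw [Nat.card_congr (QuotientGroup.quotientKerEquivRange φC).toEquiv, hrange, hker,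
        Nat.card_congr (Subgroup.subgroupOfEquivOfLe (Subgroup.zpowers_le.2 (mem_CP_iff.2
          ⟨by rw [mul_assoc, hpz], by rw [mul_assoc, ← mul_assoc p z p, hpz, mul_assoc]⟩))).toEquiv,
        Nat.card_zpowers, hzp] at h
      rw [h] }⟩

end Cfsg.Agent.Spor.JFour
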