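import Cfsg.Agent.Lib.Spor.JFourType.SevenClass
import Cfsg.Agent.Lib.Spor.JFourType.Mathieu.Final

/-!
An element of order seven in the normaliser of the elementary abelian group of order 2¹¹ and its centraliser there.
-/

set_option autoImplicit false
set_option maxRecDepth 100000
set_option Elab.async false
set_option linter.style.haveILetI false

open Cfsg Cfsg.Agent.Spor.Golay
open Cfsg.Agent.Spor.Cos.J4Sub (app mm app_mm app_xor app_zero)

namespace Cfsg.Agent.Spor.JFour.Frame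

open Mathieu Seven

variable {G : Type*} [Group G] {z : G} {P : Subgroup G} {S : Setting z P} (Fr : Frame S) [Finite G]

/-- The facts. -/
structure SevenA where
  /-- the element of order seven -/
  n : G
  /-- the involution commuting with it -/
  u : G
  /-- the element permuting the three fixed vectors -/
  r : G
  n_pow : n ^ 7 = 1
  n_ne : n ≠ 1
  u_sq : u * u = 1
  u_comm : u * n = n * u
  u_z : IsConj z u
  r_comm : r * n = n * r
  n_t : ∀ v ∈ [43, 827, 784], n * Fr.Av v = Fr.Av v * n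
  u_t1 : u * Fr.Av 43 = Fr.Av 43 * u
  u_t2 : u * Fr.Av 827 * u⁻¹ = Fr.Av 784
  r_t : r * Fr.Av 43 * r⁻¹ = Fr.Av 827 ∧ r * Fr.Av 827 * r⁻¹ = Fr.Av 784 ∧ r * Fr.Av 784 * r⁻¹ = Fr.Av 43
  cent : ∀ g ∈ Subgroup.normalizer (Fr.A : Set G), g * n = n * g → g * Fr.Av 43 = Fr.Av 43 * g →
    ∃ k : ℕ, ∃ v ∈ [0, 43, 827, 784], g = Fr.Av v * n ^ k ∨ g = Fr.Av v * u * n ^ k

variable [IsSimpleGroup G]

theorem exists_sevenA (hG : ¬ IsMulCommutative G) : Nonempty Fr.SevenA := by
  classical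
  have D := Fr.duadic hG
  obtain ⟨f, K, hKN, hKA, -, hf, e, he⟩ := Fr.exists_M24 D
  have hker : ∀ x : ↥(Subgroup.normalizer (Fr.A : Set G)), f x = 1 → (x : G) ∈ Fr.A := fun x hx => by
    refine (Fr.actV_eq_one D x).1 (Equiv.ext fun w => ?_)
    obtain ⟨m, hm, rfl⟩ := exists_num w
    have hgen : ∀ a, a < 24 → a ≠ 0 → Fr.actV x (vb (cN 0 ^^^ cN a)) = vb (cN 0 ^^^ cN a) := by
      intro a ha hne
      have hne' : pt 0 ≠ pt a := fun e' => hne (by
        have := congrArg idx e'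
        rw [idx_pt (by norm_num), idx_pt ha] at this
        exact this.symm)
      have h1 := hf x (pt 0) (pt a) hne'
      rw [hx, OneMemClass.coe_one, Equiv.Perm.one_apply, Equiv.Perm.one_apply, ← duad_eq, idx_pt (by norm_num),
        idx_pt ha] at h1
      exact h1
    have hz : Fr.actV x (vb 0) = vb 0 :=
      Fr.actV_vb x (by norm_num) (by norm_num) (by rw [Fr.Av_zero, mul_one, mul_inv_cancel])
    rw [Equiv.Perm.one_apply]
    refine xor_induction (p := fun v => Fr.actV x (vb v) = vb v) hz 11 (fun i hi k _ ih => ?_) m hm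
    have h := List.all_eq_true.1 unit_check i (List.mem_range.2 hi)
    simp only [Bool.and_eq_true, List.all_eq_true, beq_iff_eq, bne_iff_ne, ne_eq, decide_eq_true_eq] at h
    have hfold : ∀ L : List ℕ, (∀ a ∈ L, a ≠ 0 ∧ a < 24) →
        Fr.actV x (vb (L.foldr (fun a s => cN 0 ^^^ cN a ^^^ s) 0)) =
          vb (L.foldr (fun a s => cN 0 ^^^ cN a ^^^ s) 0) := by
      intro L
      induction L with
      | nil => intro _; exact hz
      | cons a L ihL =>
        intro hL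
        obtain ⟨ha0, ha⟩ := hL a (List.mem_cons_self ..)
        rw [List.foldr_cons, vb_xor, Fr.actV_add, hgen a ha ha0, ihL fun b hb => hL b (List.mem_cons_of_mem _ hb)]
    have h1 := hfold _ fun a ha => h.1 a ha
    rw [h.2] at h1
    rw [vb_xor, Fr.actV_add, h1, ih]
  obtain ⟨h7M, h3M, h7lt, h3lt, c7u, c73, h77, h7ne, -, gu15, gu19, g715, g719⟩ := s7_checks
  obtain ⟨hfix7, f43, f827, f784, u43, u827, -, r43, r827, r784, hab, -, -, -⟩ := fixed_s7
  have hi7 : inM24 s7P = true := by have h := h7M; simp only [permOK, Bool.and_eq_true] at h; exact h.1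
  have hi3 : inM24 t3P = true := by have h := h3M; simp only [permOK, Bool.and_eq_true] at h; exact h.1
  have hiu : inM24 u1P = true := by have h := class_checks.1; simp only [permOK, Bool.and_eq_true] at h; exact h.1
  have hv : ∀ {Q : ℕ}, inM24 Q = true → valid Q = true := fun {Q} h => by
    simp only [inM24, Bool.and_eq_true] at h; exact h.1
  let σ7 : ↥Cfsg.M24 := ⟨permOf s7P, permOf_mem_M24 hi7⟩
  let σ3 : ↥Cfsg.M24 := ⟨permOf t3P, permOf_mem_M24 hi3⟩
  let σu : ↥Cfsg.M24 := ⟨permOf u1P, permOf_mem_M24 hiu⟩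
  have q7u : σ7 * σu = σu * σ7 := Subtype.ext (by
    show permOf s7P * permOf u1P = permOf u1P * permOf s7P
    rw [← permOf_comp (hv hi7) (hv hiu), c7u, permOf_comp (hv hiu) (hv hi7)])
  have q73 : σ7 * σ3 = σ3 * σ7 := Subtype.ext (by
    show permOf s7P * permOf t3P = permOf t3P * permOf s7P
    rw [← permOf_comp (hv hi7) (hv hi3), c73, permOf_comp (hv hi3) (hv hi7)])
  have q77 : σ7 ^ 7 = 1 := Subtype.ext (by
    show permOf s7P ^ 7 = 1
    have v2 := valid_comp (hv hi7) (hv hi7)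
    rw [← permOf_idP, ← h77, permOf_comp (valid_comp (valid_comp v2 v2) v2) (hv hi7), permOf_comp (valid_comp v2 v2) v2,
      permOf_comp v2 v2, permOf_comp (hv hi7) (hv hi7)]
    simp only [pow_succ, pow_zero, one_mul, mul_assoc])
  have quu : σu * σu = 1 := Subtype.ext (by
    show permOf u1P * permOf u1P = 1
    rw [← permOf_comp (hv hiu) (hv hiu), class_checks.2.2.1, permOf_idP])
  let L : ↥Cfsg.M24 → G := fun σ => ((e.symm σ : ↥K) : G)
  have Lmul : ∀ a b, L a * L b = L (a * b) := fun a b => by simp [L]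
  have LN : ∀ a, L a ∈ Subgroup.normalizer (Fr.A : Set G) := fun a => hKN (e.symm a).2
  have Lf : ∀ a, f ⟨L a, LN a⟩ = a := fun a => by
    have h := he (e.symm a) (LN a)
    rw [e.apply_symm_apply] at h
    exact h.symm
  simp only [List.all_eq_true, decide_eq_true_eq] at h7lt h3lt
  have act7 : Fr.Act (L σ7) s7M := Fr.act_of_toM24 hf ⟨_, LN σ7⟩ h7lt h7M (congrArg Subtype.val (Lf σ7))
  have act3 : Fr.Act (L σ3) t3M := Fr.act_of_toM24 hf ⟨_, LN σ3⟩ h3lt h3M (congrArg Subtype.val (Lf σ3))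
  obtain ⟨⟨a2, aA, -⟩, -⟩ := Fr.u_spec
  have actu : Fr.Act (L σu) u1M := Fr.act_of_toM24 hf ⟨_, LN σu⟩ (by decide +kernel) class_checks.1
    (congrArg Subtype.val (Lf σu))
  have L1 : L 1 = 1 := by simp [L]
  -- the involution over the translation
  obtain ⟨v, hv', hve⟩ : ∃ v < 2048, L σu = Fr.Av v * Fr.u1 := by
    have h := hker (⟨L σu, LN σu⟩ * ⟨Fr.u1, Fr.mem_normalizer_of_act aA⟩⁻¹) (by
      rw [map_mul, map_inv, Lf, mul_inv_eq_one]
      exact Subtype.ext (Fr.toM24_eq hf aA (Fr.mem_normalizer_of_act aA) class_checks.1).symm)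
    obtain ⟨v, hv', e'⟩ := h
    refine ⟨v, hv', ?_⟩
    rw [show Fr.Av v = L σu * Fr.u1⁻¹ from e', inv_mul_cancel_right]
  have Luu : L σu * L σu = 1 := by rw [Lmul, quu, L1]
  have hvfix : app u1M v = v := by
    have h : Fr.Av v * (Fr.u1 * Fr.Av v * Fr.u1⁻¹) = 1 := by
      rw [inv_eq_of_mul_eq_one_right a2, ← Luu, hve]; group
    rw [aA.eq v hv', Fr.Av_mul hv' (aA.lt v), ← Fr.Av_zero] at h
    exact (Nat.xor_eq_zero_iff.1 (Fr.Av_inj (Nat.xor_lt_two_pow (n := 11) hv' (aA.lt v)) (by norm_num) h)).symm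
  have hn_t : ∀ w ∈ [43, 827, 784], L σ7 * Fr.Av w = Fr.Av w * L σ7 := fun w hw => by
    refine mul_inv_eq_iff_eq_mul.1 ?_
    simp only [List.mem_cons, List.not_mem_nil, or_false] at hw
    rcases hw with rfl | rfl | rfl
    · rw [act7.eq 43 (by norm_num), f43]
    · rw [act7.eq 827 (by norm_num), f827]
    · rw [act7.eq 784 (by norm_num), f784]
  have hu_t1 : L σu * Fr.Av 43 = Fr.Av 43 * L σu :=
    mul_inv_eq_iff_eq_mul.1 (by rw [actu.eq 43 (by norm_num), u43])
  have hLn1 : L σ7 ≠ 1 := fun h => h7ne (by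
    have h1 : e.symm σ7 = e.symm 1 := Subtype.ext (by rw [map_one]; exact h)
    have h2 := congrArg Subtype.val (e.symm.injective h1)
    have hp : pack 24 (Golay.get s7P) = s7P := by decide +kernel
    rw [← hp, idP]
    refine Census.pack_ext 24 _ _ fun i hi => ?_
    have h3 := idx_permOf (hv hi7) (pt i)
    rw [show permOf s7P = 1 from h2, Equiv.Perm.one_apply, idx_pt hi] at h3
    exact h3.symm)
  refine ⟨⟨L σ7, L σu, L σ3, ?_, hLn1, Luu, by rw [Lmul, Lmul, q7u], hve ▸ Fr.isConj_of_commute hG act7 hv' hvfix ?_,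
    by rw [Lmul, Lmul, q73], hn_t, hu_t1, by rw [actu.eq 827 (by norm_num), u827],
    ⟨by rw [act3.eq 43 (by norm_num), r43], by rw [act3.eq 827 (by norm_num), r827],
      by rw [act3.eq 784 (by norm_num), r784]⟩, ?_⟩⟩
  · rw [show L σ7 ^ 7 = L (σ7 ^ 7) by simp [L], q77, L1]
  · rw [← hve, Lmul, Lmul, q7u]
  intro g hg hgn hgt
  have hσa : ∀ {x : G} (hx : x ∈ Subgroup.normalizer (Fr.A : Set G)), x * Fr.Av 43 = Fr.Av 43 * x →
      ((f ⟨x, hx⟩ : Equiv.Perm GolayPt) (pt 15) = pt 15 ∧ (f ⟨x, hx⟩ : Equiv.Perm GolayPt) (pt 19) = pt 19) ∨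
        ((f ⟨x, hx⟩ : Equiv.Perm GolayPt) (pt 15) = pt 19 ∧ (f ⟨x, hx⟩ : Equiv.Perm GolayPt) (pt 19) = pt 15) := by
    intro x hx hxt
    set σ := (f ⟨x, hx⟩ : Equiv.Perm GolayPt) with hσ
    have hne : pt 15 ≠ pt 19 := by decide
    have h1 := hf ⟨x, hx⟩ (pt 15) (pt 19) hne
    rw [← hσ, ← duad_eq, ← duad_eq, idx_pt (by norm_num), idx_pt (by norm_num), hab,
      Fr.actV_vb ⟨x, hx⟩ (v := 43) (w := 43) (by norm_num) (by norm_num)
        (by rw [show (x : G) * Fr.Av 43 = Fr.Av 43 * x from hxt, mul_inv_cancel_right])] at h1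
    have hne' : σ (pt 15) ≠ σ (pt 19) := fun h => hne (σ.injective h)
    have h2 : ({σ (pt 15), σ (pt 19)} : Finset GolayPt) = {pt 15, pt 19} :=
      cocode.pair_inj (Finset.card_pair hne') (Finset.card_pair hne) (by
        rw [Finset.sum_pair hne', Finset.sum_pair hne, ← duad_eq, ← duad_eq, idx_pt (by norm_num) (i := 15),
          idx_pt (by norm_num) (i := 19), hab]
        exact h1.symm)
    have a1 : σ (pt 15) = pt 15 ∨ σ (pt 15) = pt 19 := by
      have : σ (pt 15) ∈ ({pt 15, pt 19} : Finset GolayPt) := h2 ▸ by simp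
      simpa using this
    have b1 : σ (pt 19) = pt 15 ∨ σ (pt 19) = pt 19 := by
      have : σ (pt 19) ∈ ({pt 15, pt 19} : Finset GolayPt) := h2 ▸ by simp
      simpa using this
    rcases a1 with a1 | a1 <;> rcases b1 with b1 | b1
    · exact absurd (a1.trans b1.symm) hne'
    · exact Or.inl ⟨a1, b1⟩
    · exact Or.inr ⟨a1, b1⟩
    · exact absurd (a1.trans b1.symm) hne'
  have key : ∀ {x : G} (hx : x ∈ Subgroup.normalizer (Fr.A : Set G)), x * L σ7 = L σ7 * x →
      (f ⟨x, hx⟩ : Equiv.Perm GolayPt) (pt 15) = pt 15 → (f ⟨x, hx⟩ : Equiv.Perm GolayPt) (pt 19) = pt 19 →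
      ∃ k : ℕ, ∃ w ∈ [0, 43, 827, 784], x = Fr.Av w * L σ7 ^ k := by
    intro x hx hxn e15 e19
    have hint : (f ⟨x, hx⟩ : Equiv.Perm GolayPt) * permOf s7P = permOf s7P * f ⟨x, hx⟩ := by
      have h := congrArg (fun y => ((f y : ↥Cfsg.M24) : Equiv.Perm GolayPt))
        (show (⟨x, hx⟩ : ↥(Subgroup.normalizer (Fr.A : Set G))) * ⟨L σ7, LN σ7⟩ = ⟨L σ7, LN σ7⟩ * ⟨x, hx⟩ from
          Subtype.ext hxn)
      simp only [map_mul, Lf, Subgroup.coe_mul] at h
      exact h
    obtain ⟨-, k, hk⟩ := rigid rigid_s7.1 rigid_s7.2 (permOf_mem_M24 hi7) (f ⟨x, hx⟩).2 e15 e19 g715 g719 hint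
    refine ⟨k, ?_⟩
    have hm := hker (⟨x, hx⟩ * (⟨L σ7, LN σ7⟩ ^ k)⁻¹) (by
      rw [map_mul, map_inv, map_pow, Lf, mul_inv_eq_one]
      exact Subtype.ext hk)
    obtain ⟨w, hw, ew⟩ := hm
    have ew' : x = Fr.Av w * L σ7 ^ k := by
      rw [show Fr.Av w = x * (L σ7 ^ k)⁻¹ from ew, inv_mul_cancel_right]
    refine ⟨w, ?_, ew'⟩
    have hcw : app s7M w = w := by
      refine Fr.Av_inj (act7.lt w) hw ?_
      have hc : Commute (L σ7) (Fr.Av w) := by
        rw [show Fr.Av w = x * (L σ7 ^ k)⁻¹ from ew]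
        exact (show Commute (L σ7) x from hxn.symm).mul_right ((Commute.refl _).pow_right k).inv_right
      rw [← act7.eq w hw, hc.eq, mul_inv_cancel_right]
    have h := List.all_eq_true.1 hfix7 w (List.mem_range.2 hw)
    simpa [hcw] using h
  rcases hσa hg hgt with ⟨e15, e19⟩ | ⟨e15, e19⟩
  · obtain ⟨k, w, hw, e'⟩ := key hg hgn e15 e19
    exact ⟨k, w, hw, Or.inl e'⟩
  · have hgu : g * L σu ∈ Subgroup.normalizer (Fr.A : Set G) := mul_mem hg (LN σu)
    have hcn : g * L σu * L σ7 = L σ7 * (g * L σu) := by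
      rw [mul_assoc, Lmul, ← q7u, ← Lmul, ← mul_assoc, hgn, mul_assoc]
    have hfu : ∀ p : GolayPt, (f ⟨g * L σu, hgu⟩ : Equiv.Perm GolayPt) p =
        (f ⟨g, hg⟩ : Equiv.Perm GolayPt) (permOf u1P p) := fun p => by
      rw [show (⟨g * L σu, hgu⟩ : ↥(Subgroup.normalizer (Fr.A : Set G))) = ⟨g, hg⟩ * ⟨L σu, LN σu⟩ from rfl, map_mul, Lf,
        Subgroup.coe_mul, Equiv.Perm.mul_apply]
    have p15 : permOf u1P (pt 15) = pt 19 := Census.apply_rep hiu (by norm_num) gu15 (by norm_num)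
    have p19 : permOf u1P (pt 19) = pt 15 := Census.apply_rep hiu (by norm_num) gu19 (by norm_num)
    obtain ⟨k, w, hw, e'⟩ := key hgu hcn (by rw [hfu, p15, e19]) (by rw [hfu, p19, e15])
    refine ⟨k, w, hw, Or.inr ?_⟩
    have hcu : Commute (L σ7) (L σu) := by show _ * _ = _ * _; rw [Lmul, Lmul, q7u]
    calc g = g * L σu * L σu := by rw [mul_assoc, Luu, mul_one]
      _ = Fr.Av w * (L σ7 ^ k * L σu) := by rw [e']; group
      _ = _ := by rw [(hcu.pow_left k).eq, mul_assoc]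

end Cfsg.Agent.Spor.JFour.Frame
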