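import Cfsg.Agent.Lib.Spor.Golay.CensusParts
import Cfsg.Agent.Lib.Spor.Golay.CensusClasses

/-!
Elements of the Mathieu group of degree 24 intertwining two elements of order seven and fixing two of the fixed
points: rigidity from ten points and one octad.
-/

set_option autoImplicit false
set_option maxRecDepth 100000

namespace Cfsg.Agent.Spor.JFour.Seven

open Cfsg Cfsg.Agent.Spor.Golay
open scoped Pointwise

/-- Iterates of a packed permutation. -/
def it (P : ℕ) : ℕ → ℕ → ℕ
  | 0, x => x
  | k + 1, x => get P (it P k x)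

/-- The orbit of a position. -/
def orb (P x : ℕ) : List ℕ := (List.range 7).map fun i => it P i x

/-- The mask of the images of the known points in a test octad. -/
def imM (dom img : List ℕ) (m : ℕ) : ℕ := maskL (((dom.zip img).filter fun e => m.testBit e.1).map Prod.snd)

/-- The images of a position allowed by a test octad lie in an orbit. -/
def rigidOK (P Q : ℕ) (a b c x m : ℕ) : Bool :=
  decide (a < 24) && decide (b < 24) && decide (c < 24) && decide (x < 24) && valid P && valid Q &&
    (get P c == c) && !(get P x == x) && !(c == a) && !(c == b) &&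
    ((List.range 24).all fun y => !(get Q y == y) || ([a, b, c].contains y)) && octList.contains m &&
    ((List.range 24).all fun y => (get Q y == y) || (orb P x).contains y && (P == Q) ||
      !(octList.any fun o => o &&& imM ([a, b, c] ++ orb P x) ([a, b, c] ++ orb Q y) m ==
        imM ([a, b, c] ++ orb P x) ([a, b, c] ++ orb Q y) m))

theorem mem_orb {P x j : ℕ} : j ∈ orb P x ↔ ∃ i < 7, it P i x = j := by
  simp only [orb, List.mem_map, List.mem_range]

theorem mem_zip_orb {P Q x y : ℕ} {e : ℕ × ℕ} (a b c a' b' c' : ℕ)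
    (h : e ∈ ([a, b, c] ++ orb P x).zip ([a', b', c'] ++ orb Q y)) :
    e = (a, a') ∨ e = (b, b') ∨ e = (c, c') ∨ ∃ i, e = (it P i x, it Q i y) := by
  simp only [orb, List.cons_append, List.nil_append, List.zip_cons_cons, List.mem_cons, List.zip_map',
    List.mem_map, List.mem_range] at h
  rcases h with h | h | h | ⟨i, -, h⟩
  exacts [Or.inl h, Or.inr (Or.inl h), Or.inr (Or.inr (Or.inl h)), Or.inr (Or.inr (Or.inr ⟨i, h.symm⟩))]

theorem it_fix {P r : ℕ} (h : get P r = r) : ∀ k, it P k r = r
  | 0 => rfl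
  | k + 1 => by rw [it, it_fix h k, h]

theorem it_lt {P : ℕ} (hP : valid P = true) {x : ℕ} (hx : x < 24) : ∀ k, it P k x < 24
  | 0 => hx
  | k + 1 => by
    have h := it_lt hP hx k
    have := idx_permOf hP (pt (it P k x))
    rw [idx_pt h] at this
    rw [it, ← this]
    exact idx_lt _

theorem permOf_pt {P : ℕ} (hP : valid P = true) {x : ℕ} (hx : x < 24) : permOf P (pt x) = pt (get P x) := by
  have h := idx_permOf hP (pt x)
  rw [idx_pt hx] at h
  exact idx_injective (by rw [h, idx_pt (h ▸ idx_lt _)])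

theorem pow_pt {P : ℕ} (hP : valid P = true) {x : ℕ} (hx : x < 24) :
    ∀ k, (permOf P ^ k) (pt x) = pt (it P k x)
  | 0 => rfl
  | k + 1 => by rw [pow_succ', Equiv.Perm.mul_apply, pow_pt hP hx k, permOf_pt hP (it_lt hP hx k)]; rfl

theorem intertwine_pt {P Q : ℕ} (hP : valid P = true) (hQ : valid Q = true) {g : Equiv.Perm GolayPt}
    (h : g * permOf P = permOf Q * g) {x : ℕ} (hx : x < 24) (k : ℕ) :
    g (pt (it P k x)) = pt (it Q k (idx (g (pt x)))) := by
  rw [← pow_pt hP hx, ← pow_pt hQ (idx_lt _), pt_idx, ← Equiv.Perm.mul_apply, ← Equiv.Perm.mul_apply,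
    SemiconjBy.pow_right (show SemiconjBy g (permOf P) (permOf Q) from h) k]

/-- The rigidity: such an element is a power and the two elements agree. -/
theorem rigid {P Q a b c x m : ℕ} (h : rigidOK P Q a b c x m = true)
    (ht : trivOk [] ([a, b, c] ++ orb P x) = true) (hPM : permOf P ∈ Cfsg.M24) {g : Equiv.Perm GolayPt}
    (hg : g ∈ Cfsg.M24) (hga : g (pt a) = pt a) (hgb : g (pt b) = pt b) (hPa : get P a = a) (hPb : get P b = b)
    (hint : g * permOf P = permOf Q * g) : P = Q ∧ ∃ k : ℕ, g = permOf P ^ k := by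
  simp only [rigidOK, Bool.and_eq_true, decide_eq_true_eq, beq_iff_eq, Bool.not_eq_true', beq_eq_false_iff_ne,
    List.contains_iff_mem, List.all_eq_true, List.mem_range, Bool.or_eq_true] at h
  obtain ⟨⟨⟨⟨⟨⟨⟨⟨⟨⟨⟨⟨ha, hb⟩, hc⟩, hx⟩, hP⟩, hQ⟩, hPc⟩, hPx⟩, hca⟩, hcb⟩, hfix⟩, hm⟩, hall⟩ := h
  -- the third fixed point
  have hgc : g (pt c) = pt c := by
    have h1 : permOf Q (g (pt c)) = g (pt c) := by
      rw [← Equiv.Perm.mul_apply, ← hint, Equiv.Perm.mul_apply, permOf_pt hP hc, hPc]
    have h2 := congrArg idx h1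
    rw [idx_permOf hQ] at h2
    rcases hfix _ (idx_lt (g (pt c))) with e | e
    · exact absurd h2 (by simpa using e)
    simp only [List.mem_cons, List.not_mem_nil, or_false] at e
    rcases e with e | e | e <;> have e' := congrArg pt e <;> rw [pt_idx] at e'
    · exact absurd (g.injective (e'.trans hga.symm)) fun h => hca (by simpa [idx_pt hc, idx_pt ha] using congrArg idx h)
    · exact absurd (g.injective (e'.trans hgb.symm)) fun h => hcb (by simpa [idx_pt hc, idx_pt hb] using congrArg idx h)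
    · exact e'
  set y := idx (g (pt x)) with hy
  have hgx : ∀ i, g (pt (it P i x)) = pt (it Q i y) := intertwine_pt hP hQ hint hx
  -- the images of the known points
  have hknown : ∀ e ∈ ([a, b, c] ++ orb P x).zip ([a, b, c] ++ orb Q y), g (pt e.1) = pt e.2 := by
    intro e he
    rcases mem_zip_orb a b c a b c he with rfl | rfl | rfl | ⟨i, rfl⟩
    exacts [hga, hgb, hgc, hgx i]
  rcases hall y (idx_lt _) with (e | ⟨hmem, hPQ⟩) | e
  · exfalso
    refine hPx ?_
    have h1 : g (permOf P (pt x)) = g (pt x) := by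
      rw [← Equiv.Perm.mul_apply, hint, Equiv.Perm.mul_apply]
      refine idx_injective ?_
      rw [idx_permOf hQ, ← hy, e]
    have := congrArg idx (g.injective h1)
    rwa [idx_permOf hP, idx_pt hx] at this
  · subst hPQ
    refine ⟨rfl, ?_⟩
    obtain ⟨k, -, hk⟩ := mem_orb.1 hmem
    refine ⟨k, ?_⟩
    have h1 : (permOf P ^ k)⁻¹ * g = 1 := by
      refine Census.eq_one_of_small (mul_mem (inv_mem (pow_mem hPM k)) hg) ht fun j hj => ?_
      rw [Equiv.Perm.mul_apply, Equiv.Perm.inv_eq_iff_eq]
      rw [List.mem_append, mem_orb] at hj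
      simp only [List.mem_cons, List.not_mem_nil, or_false] at hj
      have hfixpow : ∀ r < 24, get P r = r → (permOf P ^ k) (pt r) = pt r := fun r hr e =>
        (pow_pt hP hr k).trans (congrArg pt (it_fix e k))
      rcases hj with (rfl | rfl | rfl) | ⟨i, -, rfl⟩
      · rw [hga, hfixpow _ ha hPa]
      · rw [hgb, hfixpow _ hb hPb]
      · rw [hgc, hfixpow _ hc hPc]
      · rw [hgx i, ← pow_pt hP hx i, ← Equiv.Perm.mul_apply (permOf P ^ k), ← pow_add, add_comm, pow_add,
          Equiv.Perm.mul_apply, pow_pt hP hx k, hk]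
        exact (pow_pt hP (idx_lt _) i).symm
    exact (inv_mul_eq_one.1 h1).symm
  · exfalso
    simp only [List.any_eq_false, beq_iff_eq] at e
    have hoct : pts m ∈ octads := mem_octads.2 ⟨m, hm, rfl⟩
    have himg : g • pts m ∈ octads := smul_octad hg hoct
    obtain ⟨o, ho, heq⟩ := mem_octads.1 himg
    refine e o ho (Nat.eq_of_testBit_eq fun j => ?_)
    rw [Nat.testBit_and]
    cases hj : (imM ([a, b, c] ++ orb P x) ([a, b, c] ++ orb Q y) m).testBit j
    · simp
    · rw [imM, testBit_maskL, List.mem_map] at hj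
      obtain ⟨⟨d, j'⟩, hd, rfl⟩ := hj
      rw [List.mem_filter] at hd
      have hg1 := hknown _ hd.1
      have hdlt : d < 24 ∧ j' < 24 := by
        rcases mem_zip_orb a b c a b c hd.1 with e1 | e1 | e1 | ⟨i, e1⟩ <;> obtain ⟨rfl, rfl⟩ := Prod.mk.inj e1
        exacts [⟨ha, ha⟩, ⟨hb, hb⟩, ⟨hc, hc⟩, ⟨it_lt hP hx i, it_lt hQ (idx_lt _) i⟩]
      have : g (pt d) ∈ g • pts m := Finset.smul_mem_smul_finset (by rw [mem_pts, idx_pt hdlt.1]; exact hd.2)
      rw [heq, hg1, mem_pts, idx_pt hdlt.2] at this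
      simp [this]

end Cfsg.Agent.Spor.JFour.Seven
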