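import Cfsg.Agent.Lib.Spor.JFourType.TwoGroupSucc

/-!
The subgroups of the Sylow two-group of 256 matrices: elementary abelian subgroups with their fixed vectors,
commutators in the subgroups of index at most two, and the class of the inner involutions.
-/

set_option autoImplicit false
set_option maxRecDepth 100000
set_option Elab.async false

namespace Cfsg.Agent.Spor.JFour

/-- The elements of the subgroup with given generators. -/
def elemsT : List ℕ → List ℕ
  | [] => [0]
  | a :: g => elemsT g ++ (elemsT g).map (bm a)

/-- The set of a list as a number. -/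
def maskOf : List ℕ → ℕ
  | [] => 0
  | a :: l => 2 ^ a ||| maskOf l

theorem testBit_maskOf : ∀ (l : List ℕ) (a : ℕ), (maskOf l).testBit a = true ↔ a ∈ l
  | [], a => by simp [maskOf]
  | b :: l, a => by
    rw [maskOf, Nat.testBit_or, Bool.or_eq_true, testBit_maskOf l a, Nat.testBit_two_pow, decide_eq_true_eq,
      List.mem_cons, eq_comm]

theorem lvl_masks : ((List.range 6).all fun k => (lvl k).all fun U =>
    (maskOf (elemsT U.1) == U.2) && decide ((elemsT U.1).length == 2 ^ k) && U.1.all fun a => decide (a < 256)) =
      true := by decide +kernel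

/-- One step between the levels. -/
def stepOK (k : ℕ) : Bool :=
  ((lvl k).zip (succL k)).all fun p => tbInvs.all fun a =>
    p.1.2.testBit a || !(p.1.1.all fun b => bm a b == bm b a) || p.2.any fun q => (q.1 == a) &&
      decide (q.2 < (lvl (k + 1)).length) && ((lvl (k + 1)).getD q.2 ([], 0)).2 == maskOf (elemsT (a :: p.1.1))

theorem succ_length : ((List.range 5).all fun k => (succL k).length == (lvl k).length) = true := by decide +kernel

set_option maxHeartbeats 4000000 in
theorem stepOK_0 : stepOK 0 = true := by decide +kernel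

set_option maxHeartbeats 4000000 in
theorem stepOK_1 : stepOK 1 = true := by decide +kernel

set_option maxHeartbeats 4000000 in
theorem stepOK_2 : stepOK 2 = true := by decide +kernel

set_option maxHeartbeats 4000000 in
theorem stepOK_3 : stepOK 3 = true := by decide +kernel

set_option maxHeartbeats 4000000 in
theorem stepOK_4 : stepOK 4 = true := by decide +kernel

theorem stepOK_all : ∀ k < 5, stepOK k = true := by
  intro k hk
  interval_cases k
  exacts [stepOK_0, stepOK_1, stepOK_2, stepOK_3, stepOK_4]

theorem lvl_step {k : ℕ} (hk : k < 5) {U : List ℕ × ℕ} (hU : U ∈ lvl k) {a : ℕ} (ha : a ∈ tbInvs)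
    (hb : U.2.testBit a = false) (hc : (U.1.all fun b => bm a b == bm b a) = true) :
    ∃ V ∈ lvl (k + 1), V.2 = maskOf (elemsT (a :: U.1)) := by
  obtain ⟨i, hi, rfl⟩ := List.getElem_of_mem hU
  have hl : (succL k).length = (lvl k).length := beq_iff_eq.1 (List.all_eq_true.1 succ_length k (List.mem_range.2 hk))
  have hmem : ((lvl k)[i], (succL k)[i]'(hl ▸ hi)) ∈ (lvl k).zip (succL k) :=
    List.mem_iff_getElem.2 ⟨i, by simp [hl, hi], by simp⟩
  have h := List.all_eq_true.1 (List.all_eq_true.1 (stepOK_all k hk) _ hmem) a ha
  simp only [hb, hc, Bool.not_true, Bool.false_or, List.any_eq_true, Bool.and_eq_true, beq_iff_eq,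
    decide_eq_true_eq] at h
  obtain ⟨q, -, ⟨-, hq⟩, e⟩ := h
  exact ⟨_, List.getD_eq_getElem _ ([], 0) hq ▸ List.getElem_mem hq, e⟩

end Cfsg.Agent.Spor.JFour
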